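import Cfsg.Agent.Lib.KnownC.FieldDescent

set_option autoImplicit false

/-!
All nondegenerate Hermitian forms over a finite field are congruent to the standard one.
-/

namespace CfsgLib.KnownC

open Matrix

variable {n : ℕ} {F : Type*} [Field F] [Finite F]

/-- `uᵀ g σ(v)`. -/
def sesqPair (g : Matrix (Fin n) (Fin n) F) (σ : F ≃+* F) (u v : Fin n → F) : F :=
  u ⬝ᵥ g *ᵥ fun i => σ (v i)

theorem exists_mul_apply_eq (σ : F ≃+* F) (hσ : orderOf σ = 2) {a : F} (ha : a ≠ 0) (h : σ a = a) :
    ∃ c : F, c ≠ 0 ∧ c * σ c = a := by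
  obtain ⟨u, hu⟩ : Units.mk0 a ha ∈ (unitNorm σ).range := by
    rw [unitNorm_range]; exact (mem_unitTwist_ker σ _).2 h
  refine ⟨u, u.ne_zero, ?_⟩
  have := congrArg Units.val hu
  rw [unitNorm_apply, hσ, Finset.prod_range_succ, Finset.prod_range_one, Units.val_mul] at this
  simpa using this

/-- A Hermitian invertible matrix is `h σ(h)ᵀ`. -/
theorem exists_congr_one (σ : F ≃+* F) (hσ : orderOf σ = 2) (g : GL (Fin n) F)
    (hherm : (g.1.map σ)ᵀ = g.1) :
    ∃ h : GL (Fin n) F, g.1 = h.1 * (h.1.map σ)ᵀ := by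
  classical
  have hσσ : ∀ a, σ (σ a) = a := fun a => by
    have := pow_orderOf_eq_one σ
    rw [hσ, sq] at this
    exact RingEquiv.congr_fun this a
  let B := sesqPair g.1 σ
  have hBsmulL : ∀ (c : F) u v, B (c • u) v = c * B u v := fun c u v => smul_dotProduct c u _
  have hBsmulR : ∀ (c : F) u v, B u (c • v) = σ c * B u v := fun c u v => by
    show u ⬝ᵥ g.1 *ᵥ _ = σ c * (u ⬝ᵥ _)
    rw [show (fun i => σ ((c • v) i)) = σ c • fun i => σ (v i) from funext fun i => map_mul σ c _,
      mulVec_smul, dotProduct_smul, smul_eq_mul]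
  have hBaddL : ∀ u u' v, B (u + u') v = B u v + B u' v := fun u u' v => add_dotProduct _ _ _
  have hBaddR : ∀ u v v', B u (v + v') = B u v + B u v' := fun u v v' => by
    show u ⬝ᵥ g.1 *ᵥ _ = u ⬝ᵥ _ + u ⬝ᵥ _
    rw [← dotProduct_add, ← mulVec_add]
    exact congrArg _ (congrArg _ (funext fun i => map_add σ _ _))
  have hBsumL : ∀ (m : ℕ) (c : Fin m → F) (b : Fin m → Fin n → F) v,
      B (∑ i, c i • b i) v = ∑ i, c i * B (b i) v := fun m c b v => by
    show (∑ i, c i • b i) ⬝ᵥ _ = _
    rw [sum_dotProduct]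
    exact Finset.sum_congr rfl fun i _ => smul_dotProduct (c i) (b i) _
  have hBconj : ∀ u v, σ (B u v) = B v u := fun u v => by
    show σ (u ⬝ᵥ g.1 *ᵥ fun i => σ (v i)) = v ⬝ᵥ g.1 *ᵥ fun i => σ (u i)
    simp only [dotProduct, mulVec, map_sum, map_mul, hσσ, Finset.mul_sum]
    rw [Finset.sum_comm]
    refine Finset.sum_congr rfl fun i _ => Finset.sum_congr rfl fun j _ => ?_
    conv_rhs => rw [← hherm, transpose_apply, Matrix.map_apply]
    ring
  have hsep : ∀ v, (∀ u, B u v = 0) → v = 0 := fun v hv => by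
    have h0 : g.1 *ᵥ (fun i => σ (v i)) = 0 := funext fun i => by
      have := hv (Pi.single i 1)
      exact (single_one_dotProduct i _).symm.trans this
    have h1 := Matrix.mulVec_injective_of_isUnit g.isUnit (h0.trans (mulVec_zero _).symm)
    exact funext fun i => σ.injective ((congrFun h1 i).trans (map_zero σ).symm)
  have hne : ∃ c : F, σ c ≠ c := by
    by_contra h
    simp only [not_exists, not_not] at h
    rw [show σ = 1 from RingEquiv.ext h, orderOf_one] at hσ
    omega
  have key : ∀ m, m ≤ n → ∃ b : Fin m → Fin n → F, ∀ i j, B (b i) (b j) = if i = j then 1 else 0 := by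
    intro m
    induction m with
    | zero => exact fun _ => ⟨Fin.elim0, fun i => i.elim0⟩
    | succ m ih =>
      intro hm
      obtain ⟨b, hb⟩ := ih (by omega)
      let W : (Fin n → F) → Prop := fun w => ∀ i, B w (b i) = 0
      have hnz : ∃ w, W w ∧ w ≠ 0 := by
        let L : (Fin n → F) →ₗ[F] (Fin m → F) :=
          { toFun := fun w i => B w (b i)
            map_add' := fun u v => funext fun i => hBaddL u v _
            map_smul' := fun c u => funext fun i => hBsmulL c u _ }
        have hker : LinearMap.ker L ≠ ⊥ :=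
          LinearMap.ker_ne_bot_of_finrank_lt (by simp; omega)
        obtain ⟨w, hw, hw0⟩ := Submodule.exists_mem_ne_zero_of_ne_bot hker
        exact ⟨w, fun i => congrFun (LinearMap.mem_ker.1 hw) i, hw0⟩
      have hdef : ∃ w, W w ∧ B w w ≠ 0 := by
        by_contra hcon
        simp only [not_exists, not_and, not_not] at hcon
        obtain ⟨w, hw, hw0⟩ := hnz
        refine hw0 (hsep w fun u => ?_)
        have hzero : ∀ x, W x → B x w = 0 := fun x hx => by
          have h0 : ∀ c : F, c * B x w + σ c * B w x = 0 := fun c => by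
            have hW : W (c • x + w) := fun i => by rw [hBaddL, hBsmulL, hx i, hw i]; ring
            have := hcon _ hW
            rw [hBaddL, hBaddR, hBaddR, hBsmulL, hBsmulL, hBsmulR, hBsmulR, hcon x hx,
              hcon w hw] at this
            linear_combination this
          obtain ⟨c, hc⟩ := hne
          have h1 := h0 1
          rw [map_one] at h1
          have h2 : (c - σ c) * B x w = 0 := by linear_combination (h0 c) - σ c * h1
          exact (mul_eq_zero.1 h2).resolve_left (sub_ne_zero.2 (Ne.symm hc))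
        have hproj : W (u - ∑ i, B u (b i) • b i) := fun j => by
          have : B ((u - ∑ i, B u (b i) • b i) + ∑ i, B u (b i) • b i) (b j) = B u (b j) := by
            rw [sub_add_cancel]
          rw [hBaddL, hBsumL] at this
          simpa [hb] using this
        have hsum : B (∑ i, B u (b i) • b i) w = 0 := by
          rw [hBsumL]
          refine Finset.sum_eq_zero fun i _ => ?_
          rw [← hBconj w (b i), hw i, map_zero, mul_zero]
        have h3 := hzero _ hproj
        have h4 : B ((u - ∑ i, B u (b i) • b i) + ∑ i, B u (b i) • b i) w = B u w := by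
          rw [sub_add_cancel]
        rw [hBaddL, h3, hsum, add_zero] at h4
        exact h4.symm
      obtain ⟨w, hw, hww⟩ := hdef
      obtain ⟨c, hc0, hc⟩ := exists_mul_apply_eq σ hσ hww (hBconj w w)
      have hnew : B (c⁻¹ • w) (c⁻¹ • w) = 1 := by
        rw [hBsmulL, hBsmulR, map_inv₀, ← hc]
        field_simp [hc0, (map_ne_zero σ).2 hc0]
      refine ⟨Fin.snoc b (c⁻¹ • w), fun i j => ?_⟩
      induction i using Fin.lastCases with
      | last =>
        induction j using Fin.lastCases with
        | last => simp [hnew]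
        | cast j =>
          rw [Fin.snoc_last, Fin.snoc_castSucc, hBsmulL, hw j, mul_zero,
            if_neg (Fin.castSucc_lt_last j).ne']
      | cast i =>
        induction j using Fin.lastCases with
        | last =>
          rw [Fin.snoc_last, Fin.snoc_castSucc, hBsmulR, ← hBconj w (b i), hw i, map_zero, mul_zero,
            if_neg (Fin.castSucc_lt_last i).ne]
        | cast j => simp [hb]
  obtain ⟨b, hb⟩ := key n le_rfl
  let P : Matrix (Fin n) (Fin n) F := Matrix.of fun i j => b j i
  have hP : Pᵀ * g.1 * P.map σ = 1 := by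
    refine Matrix.ext fun i j => ?_
    rw [Matrix.one_apply, ← hb i j, mul_assoc]
    rfl
  have hPdet : IsUnit (Pᵀ).det := IsUnit.of_mul_eq_one _ (by
    rw [← det_mul, ← mul_assoc, hP, det_one] : (Pᵀ).det * (g.1 * P.map σ).det = 1)
  let Q : GL (Fin n) F := ((Matrix.isUnit_iff_isUnit_det _).2 hPdet).unit
  refine ⟨Q⁻¹, ?_⟩
  have hQ : Q.1 = Pᵀ := rfl
  have h2 : g.1 * P.map σ = (Q⁻¹).1 := by
    rw [mul_assoc, ← hQ] at hP
    calc g.1 * P.map σ = (Q⁻¹).1 * Q.1 * (g.1 * P.map σ) := by rw [Units.inv_mul, one_mul]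
      _ = _ := by rw [mul_assoc, hP, mul_one]
  have hQσ : ((Q⁻¹).1.map σ)ᵀ * (Q.1.map σ)ᵀ = 1 := by
    rw [← transpose_mul, ← Matrix.map_mul, Units.mul_inv, Matrix.map_one _ (map_zero σ) (map_one σ),
      transpose_one]
  have hQP : (Q.1.map σ)ᵀ = P.map σ := rfl
  rw [hQP] at hQσ
  conv_rhs => arg 1; rw [← h2]
  rw [mul_assoc, _root_.mul_eq_one_comm.1 hQσ, mul_one]

end CfsgLib.KnownC
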