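import Cfsg.Agent.Lib.KnownC.AutPSLField
import Cfsg.Prelude.Def_LieClassical

set_option autoImplicit false

/-!
The general unitary group as the fixed points of the graph-field involution.
-/

namespace CfsgLib.KnownC

open Matrix

variable {n : ℕ} {F : Type*} [Field F]

/-- The involutory automorphism of `F_{p^f}` is the `p^{f/2}`-power map. -/
theorem apply_of_orderOf_two [Fintype F] {p f : ℕ} [Fact p.Prime] (hF : Fintype.card F = p ^ f)
    (σ : F ≃+* F) (hσ : orderOf σ = 2) : 2 ∣ f ∧ ∀ x, σ x = x ^ p ^ (f / 2) := by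
  obtain ⟨φ, hφ, hord, hgen⟩ := exists_ringAut_generator hF
  haveI : Finite (F ≃+* F) :=
    Finite.of_injective (fun s : F ≃+* F => (s : F → F)) DFunLike.coe_injective
  obtain ⟨k, rfl⟩ := mem_powers_iff_mem_zpowers.2 (hgen σ)
  dsimp only at hσ ⊢
  have h2 : 2 ∣ f := by
    rw [← hord, ← hσ]
    exact orderOf_dvd_of_mem_zpowers (Subgroup.pow_mem _ (Subgroup.mem_zpowers φ) k)
  obtain ⟨m, rfl⟩ := h2
  refine ⟨dvd_mul_right 2 m, fun x => ?_⟩
  rw [Nat.mul_div_cancel_left m (by norm_num)]
  have h3 : 2 * m ∣ 2 * k := by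
    rw [← hord, orderOf_dvd_iff_pow_eq_one, mul_comm, pow_mul, ← hσ, pow_orderOf_eq_one]
  obtain ⟨j, rfl⟩ := Nat.dvd_of_mul_dvd_mul_left (by norm_num : 0 < 2) h3
  have hsq : (φ ^ m) ^ 2 = 1 := by rw [← pow_mul, mul_comm, ← hord, pow_orderOf_eq_one]
  have hpow : φ ^ (m * j) = φ ^ m := by
    rw [pow_mul, pow_eq_pow_mod j hsq]
    rcases Nat.mod_two_eq_zero_or_one j with hj | hj
    · exfalso
      rw [pow_mul, pow_eq_pow_mod j hsq, hj, pow_zero, orderOf_one] at hσ
      omega
    · rw [hj, pow_one]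
  rw [hpow]
  clear hσ hpow hsq h3 hord hF
  induction m with
  | zero => simp
  | succ m ih =>
    rw [pow_succ', RingAut.mul_apply, ih, hφ, ← pow_mul, ← pow_succ]

/-- Membership in `GU` in terms of `h σ(h)ᵀ`. -/
theorem mem_GU_iff {q : ℕ} (σ : F ≃+* F) (hσ : ∀ x, σ x = x ^ q) (hσσ : ∀ x, σ (σ x) = x)
    (h : GL (Fin n) F) : h ∈ Cfsg.GU n F q ↔ hermSq σ h = 1 := by
  have hh : ∀ x y : Fin n → F, Cfsg.hermForm n F q x y = x ⬝ᵥ fun i => σ (y i) := fun x y => by
    simp [Cfsg.hermForm, dotProduct, hσ]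
  have hmap : ∀ v : Fin n → F, (fun i => σ ((h.1 *ᵥ v) i)) = h.1.map σ *ᵥ fun i => σ (v i) :=
    fun v => funext fun i => RingHom.map_mulVec (σ : F →+* F) h.1 v i
  have key : ∀ u v, Cfsg.hermForm n F q (h.1 *ᵥ u) (h.1 *ᵥ v) =
      u ⬝ᵥ (h.1ᵀ * h.1.map σ) *ᵥ fun i => σ (v i) := fun u v => by
    rw [hh, hmap, ← vecMul_transpose, ← dotProduct_mulVec, mulVec_mulVec]
  have step : h.1ᵀ * h.1.map σ = 1 ↔ hermSq σ h = 1 := by
    have e1 : hermSq σ h = ((h.1.map σ) * h.1ᵀ).map σ := by
      rw [Matrix.map_mul, hermSq, transpose_map, Matrix.map_map]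
      congr 1
      exact Matrix.ext fun i j => (hσσ _).symm
    rw [mul_eq_one_comm, e1]
    constructor
    · intro e; rw [e, Matrix.map_one _ (map_zero σ) (map_one σ)]
    · intro e
      refine Matrix.map_injective σ.injective ?_
      dsimp only
      rw [Matrix.map_one _ (map_zero σ) (map_one σ)]
      exact e
  rw [← step]
  constructor
  · intro e
    refine Matrix.ext fun i j => ?_
    have := e (Pi.single i 1) (Pi.single j 1)
    simp only [Units.coeHom_apply] at this
    rw [key, hh, single_one_dotProduct, single_one_dotProduct] at this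
    have hs : (fun k => σ ((Pi.single j 1 : Fin n → F) k)) = Pi.single j 1 := funext fun k => by
      by_cases hk : k = j <;> simp [hk]
    rw [hs, mulVec_single_one] at this
    rw [Matrix.one_apply, ← Pi.single_apply j (1 : F) i]
    exact this.trans (congrFun hs i)
  · intro e u v
    simp only [Units.coeHom_apply]
    rw [key, e, one_mulVec, hh]

theorem unitNorm_two (σ : F ≃+* F) (hσ : orderOf σ = 2) (u : Fˣ) :
    (unitNorm σ u : F) = (u : F) * σ u := by
  rw [unitNorm_apply, hσ, Finset.prod_range_succ, Finset.prod_range_one]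
  simp

/-- The determinants of unitary matrices are the elements of norm one. -/
theorem det_GU [Finite F] [NeZero n] {q : ℕ} (σ : F ≃+* F) (hσ : ∀ x, σ x = x ^ q)
    (ho : orderOf σ = 2) :
    (Cfsg.GU n F q).map Matrix.GeneralLinearGroup.det = (unitNorm σ).ker := by
  have hσσ : ∀ x, σ (σ x) = x := fun x => by
    have := pow_orderOf_eq_one σ
    rw [ho, sq] at this
    exact RingEquiv.congr_fun this x
  ext u
  constructor
  · rintro ⟨h, hh, rfl⟩
    refine MonoidHom.mem_ker.2 (Units.ext ?_)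
    rw [unitNorm_two σ ho]
    have := congrArg Matrix.det ((mem_GU_iff σ hσ hσσ h).1 hh)
    rw [hermSq, det_mul, det_transpose, det_one] at this
    rw [Units.val_one, ← this]
    congr 1
    exact RingHom.map_det (σ : F →+* F) h.1
  · intro hu
    refine ⟨firstDiag u, (mem_GU_iff σ hσ hσσ _).2 ?_, det_firstDiag u⟩
    have hu' : (u : F) * σ u = 1 := by
      rw [← unitNorm_two σ ho, MonoidHom.mem_ker.1 hu, Units.val_one]
    show Matrix.diagonal (fun i : Fin n => if i = 0 then (u : F) else 1) *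
      ((Matrix.diagonal fun i : Fin n => if i = 0 then (u : F) else 1).map σ)ᵀ = 1
    rw [diagonal_map (map_zero σ), diagonal_transpose, diagonal_mul_diagonal, ← diagonal_one]
    congr 1
    funext i
    by_cases hi : i = 0 <;> simp [hi, hu']

/-- A subgroup of `GL` modulo its scalars is its image in `Inndiag`. -/
theorem projQuot_equiv_map (hn : 2 ≤ n) (U : Subgroup (GL (Fin n) F)) :
    Nonempty (↥(U.map (inndiagHom (n := n) (F := F))) ≃* Cfsg.projQuot U) := by
  let ψ : U →* ↥(U.map (inndiagHom (n := n) (F := F))) :=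
    (inndiagHom.comp U.subtype).codRestrict _ fun u => Subgroup.mem_map_of_mem _ u.2
  have hsurj : Function.Surjective ψ := by
    rintro ⟨_, u, hu, rfl⟩
    exact ⟨⟨u, hu⟩, rfl⟩
  have hker : ψ.ker = (Cfsg.Geo.scalars (Fin n) F).subgroupOf U := by
    ext u
    rw [MonoidHom.mem_ker, Subgroup.mem_subgroupOf, Subtype.ext_iff]
    show semiAut u.1 (RingEquiv.refl F) = 1 ↔ _
    rw [semiAut_eq_one_iff hn, GeneralLinearGroup.center_eq_range_scalar]
    exact ⟨fun e => e.2, fun e => ⟨rfl, e⟩⟩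
  exact ⟨((QuotientGroup.quotientMulEquivOfEq hker.symm).trans
    (QuotientGroup.quotientKerEquivOfSurjective ψ hsurj)).symm⟩

/-- `PGL_n` of the fixed field as a centraliser. -/
theorem pgl_equiv_map (hn : 2 ≤ n) {F₀ : Type*} [Field F₀] (ι : F₀ →+* F) :
    Nonempty (↥(((GeneralLinearGroup.map (n := Fin n) ι).range).map (inndiagHom (n := n) (F := F))) ≃*
      Matrix.ProjGenLinGroup (Fin n) F₀) := by
  let ψ : GL (Fin n) F₀ →* ↥(((GeneralLinearGroup.map (n := Fin n) ι).range).map
      (inndiagHom (n := n) (F := F))) :=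
    (inndiagHom.comp (GeneralLinearGroup.map ι)).codRestrict _ fun u =>
      Subgroup.mem_map_of_mem _ ⟨u, rfl⟩
  have hsurj : Function.Surjective ψ := by
    rintro ⟨_, _, ⟨u, rfl⟩, rfl⟩
    exact ⟨u, rfl⟩
  have hker : ψ.ker = Subgroup.center (GL (Fin n) F₀) := by
    ext u
    rw [MonoidHom.mem_ker, Subtype.ext_iff]
    show semiAut (GeneralLinearGroup.map ι u) (RingEquiv.refl F) = 1 ↔ _
    rw [semiAut_eq_one_iff hn, and_iff_right rfl]
    refine ⟨fun e => Subgroup.mem_center_iff.2 fun z => ?_, fun e => GeneralLinearGroup.map_center_le ι e⟩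
    exact Units.ext (Matrix.map_injective ι.injective (by
      have := congrArg Units.val (Subgroup.mem_center_iff.1 e (GeneralLinearGroup.map ι z))
      rw [← map_mul, ← map_mul] at this
      exact this))
  exact ⟨((QuotientGroup.quotientMulEquivOfEq hker.symm).trans
    (QuotientGroup.quotientKerEquivOfSurjective ψ hsurj)).symm⟩

end CfsgLib.KnownC
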