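import Mathlib
import Cfsg.Prelude.Def_LieTypeDatum

set_option autoImplicit false

/-!
The standard automorphisms of `PSL_n(F)` as explicit automorphisms: semilinear and inverse-transpose.
-/

namespace CfsgLib.KnownC

open Matrix Cfsg

/-- An automorphism induces an automorphism of the central quotient. -/
def centerQuotAut (G : Type*) [Group G] : MulAut G →* MulAut (G ⧸ Subgroup.center G) where
  toFun φ := QuotientGroup.congr (Subgroup.center G) (Subgroup.center G) φ
    (Subgroup.characteristic_iff_map_eq.1 inferInstance φ)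
  map_one' := MulEquiv.ext fun x => by
    obtain ⟨g, rfl⟩ := QuotientGroup.mk_surjective x
    rfl
  map_mul' φ ψ := MulEquiv.ext fun x => by
    obtain ⟨g, rfl⟩ := QuotientGroup.mk_surjective x
    rfl

theorem centerQuotAut_mk {G : Type*} [Group G] (φ : MulAut G) (g : G) :
    centerQuotAut G φ (QuotientGroup.mk g) = QuotientGroup.mk (φ g) :=
  rfl

theorem centerQuotAut_conj {G : Type*} [Group G] (g : G) :
    centerQuotAut G (MulAut.conj g) = MulAut.conj (QuotientGroup.mk g) :=
  MulEquiv.ext fun x => by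
    obtain ⟨h, rfl⟩ := QuotientGroup.mk_surjective x
    rfl

variable {n : ℕ} {F : Type*} [Field F]

theorem det_unit_conj (g : GL (Fin n) F) (A : Matrix (Fin n) (Fin n) F) :
    (g.1 * A * (g⁻¹).1).det = A.det := by
  rw [det_mul, det_mul, mul_right_comm, ← det_mul, Units.mul_inv, det_one, one_mul]

/-- Conjugation by an invertible matrix, on `SL_n`, as an endomorphism. -/
def slConjFun (g : GL (Fin n) F) (s : SpecialLinearGroup (Fin n) F) : SpecialLinearGroup (Fin n) F :=
  ⟨g.1 * s.1 * (g⁻¹).1, (det_unit_conj g s.1).trans s.2⟩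

theorem slConjFun_mul (g h : GL (Fin n) F) (s : SpecialLinearGroup (Fin n) F) :
    slConjFun (g * h) s = slConjFun g (slConjFun h s) := by
  apply Subtype.ext
  show (g * h).1 * s.1 * ((g * h)⁻¹).1 = g.1 * (h.1 * s.1 * (h⁻¹).1) * (g⁻¹).1
  rw [_root_.mul_inv_rev, Units.val_mul, Units.val_mul]
  simp only [mul_assoc]

theorem slConjFun_one (s : SpecialLinearGroup (Fin n) F) : slConjFun 1 s = s := by
  apply Subtype.ext
  show (1 : GL (Fin n) F).1 * s.1 * ((1 : GL (Fin n) F)⁻¹).1 = s.1
  rw [inv_one, Units.val_one, one_mul, mul_one]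

/-- Conjugation by an invertible matrix, on `SL_n`. -/
def slConj : GL (Fin n) F →* MulAut (SpecialLinearGroup (Fin n) F) where
  toFun g :=
    { toFun := slConjFun g
      invFun := slConjFun g⁻¹
      left_inv := fun s => by rw [← slConjFun_mul, inv_mul_cancel, slConjFun_one]
      right_inv := fun s => by rw [← slConjFun_mul, mul_inv_cancel, slConjFun_one]
      map_mul' := fun s t => by
        apply Subtype.ext
        show g.1 * (s.1 * t.1) * (g⁻¹).1 = g.1 * s.1 * (g⁻¹).1 * (g.1 * t.1 * (g⁻¹).1)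
        simp only [mul_assoc]
        rw [← mul_assoc (g⁻¹).1 g.1, Units.inv_mul, one_mul] }
  map_one' := MulEquiv.ext slConjFun_one
  map_mul' g h := MulEquiv.ext (slConjFun_mul g h)

/-- A field automorphism applied to every entry, on `SL_n`. -/
def slField : (F ≃+* F) →* MulAut (SpecialLinearGroup (Fin n) F) where
  toFun σ :=
    { toFun := SpecialLinearGroup.map (σ : F →+* F)
      invFun := SpecialLinearGroup.map (σ.symm : F →+* F)
      left_inv := fun s => Subtype.ext (Matrix.ext fun i j => σ.symm_apply_apply _)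
      right_inv := fun s => Subtype.ext (Matrix.ext fun i j => σ.apply_symm_apply _)
      map_mul' := map_mul _ }
  map_one' := MulEquiv.ext fun _ => Subtype.ext (Matrix.ext fun _ _ => rfl)
  map_mul' _ _ := MulEquiv.ext fun _ => Subtype.ext (Matrix.ext fun _ _ => rfl)

theorem slConj_coe (g : GL (Fin n) F) (s : SpecialLinearGroup (Fin n) F) :
    (slConj g s : Matrix (Fin n) (Fin n) F) = g.1 * s.1 * (g⁻¹).1 :=
  rfl

theorem slField_coe (σ : F ≃+* F) (s : SpecialLinearGroup (Fin n) F) :
    (slField σ s : Matrix (Fin n) (Fin n) F) = s.1.map σ :=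
  rfl

theorem slInvTrans_aux (s : SpecialLinearGroup (Fin n) F) :
    (SpecialLinearGroup.transpose (SpecialLinearGroup.transpose s⁻¹)⁻¹) = s := by
  have h : (SpecialLinearGroup.transpose s⁻¹)⁻¹ = SpecialLinearGroup.transpose s := by
    refine inv_eq_of_mul_eq_one_right (Subtype.ext ?_)
    show (s⁻¹).1ᵀ * s.1ᵀ = 1
    rw [← transpose_mul, show s.1 * (s⁻¹).1 = (s * s⁻¹).1 from rfl, mul_inv_cancel]
    exact transpose_one
  rw [h]
  exact Subtype.ext (transpose_transpose _)

/-- The inverse-transpose automorphism of `SL_n`. -/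
def slInvTrans : MulAut (SpecialLinearGroup (Fin n) F) where
  toFun s := SpecialLinearGroup.transpose s⁻¹
  invFun s := SpecialLinearGroup.transpose s⁻¹
  left_inv := slInvTrans_aux
  right_inv := slInvTrans_aux
  map_mul' s t := Subtype.ext (by
    show ((s * t)⁻¹).1ᵀ = (s⁻¹).1ᵀ * (t⁻¹).1ᵀ
    rw [_root_.mul_inv_rev, ← transpose_mul]
    rfl)

theorem slInvTrans_coe (s : SpecialLinearGroup (Fin n) F) :
    (slInvTrans s : Matrix (Fin n) (Fin n) F) = (s⁻¹).1.transpose :=
  rfl

/-- The inverse transpose of an invertible matrix. -/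
def glInvTrans (g : GL (Fin n) F) : GL (Fin n) F where
  val := (g⁻¹).1.transpose
  inv := g.1.transpose
  val_inv := by rw [← transpose_mul, Units.mul_inv, transpose_one]
  inv_val := by rw [← transpose_mul, Units.inv_mul, transpose_one]

/-- The automorphism of `PSL_n(F)` induced by `v ↦ g σ(v)`. -/
def semiAut (g : GL (Fin n) F) (σ : F ≃+* F) : MulAut (ProjectiveSpecialLinearGroup (Fin n) F) :=
  centerQuotAut _ (slConj g * slField σ)

/-- The inverse-transpose automorphism of `PSL_n(F)`. -/
def itAut : MulAut (ProjectiveSpecialLinearGroup (Fin n) F) :=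
  centerQuotAut _ slInvTrans

theorem semiAut_mk (g : GL (Fin n) F) (σ : F ≃+* F) (s : SpecialLinearGroup (Fin n) F) :
    semiAut g σ (QuotientGroup.mk s) = QuotientGroup.mk (slConj g (slField σ s)) :=
  rfl

theorem semiAut_one : semiAut (1 : GL (Fin n) F) (RingEquiv.refl F) = 1 := by
  rw [semiAut, map_one, show slField (RingEquiv.refl F) = 1 from map_one slField, one_mul, map_one]

theorem slField_mul_slConj (σ : F ≃+* F) (g : GL (Fin n) F) :
    slField σ * slConj g = slConj (GeneralLinearGroup.map (σ : F →+* F) g) * slField σ := by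
  refine MulEquiv.ext fun s => Subtype.ext ?_
  show (g.1 * s.1 * (g⁻¹).1).map (σ : F →+* F) =
    (GeneralLinearGroup.map (σ : F →+* F) g).1 * s.1.map (σ : F →+* F) *
      ((GeneralLinearGroup.map (σ : F →+* F) g)⁻¹).1
  rw [Matrix.map_mul, Matrix.map_mul, ← map_inv]
  rfl

theorem semiAut_mul (g h : GL (Fin n) F) (σ τ : F ≃+* F) :
    semiAut g σ * semiAut h τ = semiAut (g * GeneralLinearGroup.map (σ : F →+* F) h) (σ * τ) := by
  rw [semiAut, semiAut, semiAut, ← map_mul, mul_assoc (slConj g), ← mul_assoc (slField σ),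
    slField_mul_slConj, map_mul slConj, map_mul slField]
  simp only [mul_assoc]

theorem slInvTrans_mul_self : (slInvTrans : MulAut (SpecialLinearGroup (Fin n) F)) * slInvTrans = 1 :=
  MulEquiv.ext slInvTrans_aux

theorem itAut_mul_self : (itAut : MulAut (ProjectiveSpecialLinearGroup (Fin n) F)) * itAut = 1 := by
  rw [itAut, ← map_mul, slInvTrans_mul_self, map_one]

theorem itAut_inv : (itAut : MulAut (ProjectiveSpecialLinearGroup (Fin n) F))⁻¹ = itAut :=
  inv_eq_of_mul_eq_one_left itAut_mul_self

theorem slInvTrans_mul_slConj (g : GL (Fin n) F) :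
    slInvTrans * slConj g = slConj (glInvTrans g) * slInvTrans := by
  refine MulEquiv.ext fun s => Subtype.ext ?_
  show ((slConj g s)⁻¹).1.transpose = (g⁻¹).1.transpose * (s⁻¹).1.transpose * g.1.transpose
  rw [← map_inv, slConj_coe, transpose_mul, transpose_mul, mul_assoc]

theorem slInvTrans_mul_slField (σ : F ≃+* F) :
    slInvTrans * slField σ = slField σ * (slInvTrans : MulAut (SpecialLinearGroup (Fin n) F)) := by
  refine MulEquiv.ext fun s => Subtype.ext ?_
  show ((slField σ s)⁻¹).1.transpose = ((s⁻¹).1.transpose).map σ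
  rw [← map_inv, slField_coe, transpose_map]

theorem itAut_mul_semiAut (g : GL (Fin n) F) (σ : F ≃+* F) :
    itAut * semiAut g σ = semiAut (glInvTrans g) σ * itAut := by
  rw [semiAut, semiAut, itAut, ← map_mul, ← map_mul, ← mul_assoc, slInvTrans_mul_slConj, mul_assoc,
    slInvTrans_mul_slField, ← mul_assoc]

theorem slConj_toGL (s : SpecialLinearGroup (Fin n) F) :
    slConj (SpecialLinearGroup.toGL s) = MulAut.conj s :=
  MulEquiv.ext fun t => Subtype.ext (by rw [slConj_coe, ← map_inv]; rfl)

theorem conj_eq_semiAut (s : SpecialLinearGroup (Fin n) F) :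
    MulAut.conj (QuotientGroup.mk s : ProjectiveSpecialLinearGroup (Fin n) F) =
      semiAut (SpecialLinearGroup.toGL s) (RingEquiv.refl F) := by
  rw [semiAut, show slField (RingEquiv.refl F) = 1 from map_one slField, mul_one, slConj_toGL,
    centerQuotAut_conj]

theorem isInducedBySemilinearPSL_iff (g : GL (Fin n) F) (σ : F ≃+* F)
    (β : ProjectiveSpecialLinearGroup (Fin n) F ≃* ProjectiveSpecialLinearGroup (Fin n) F) :
    IsInducedBySemilinearPSL g σ β ↔ β = semiAut g σ := by
  constructor
  · intro h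
    refine MulEquiv.ext fun x => ?_
    obtain ⟨s, rfl⟩ := QuotientGroup.mk_surjective x
    exact h s _ rfl
  · rintro rfl s s' hs'
    rw [semiAut_mk]
    exact congrArg _ (Subtype.ext hs'.symm)

theorem isStdFieldAutPSL_iff (σ : F ≃+* F)
    (β : ProjectiveSpecialLinearGroup (Fin n) F ≃* ProjectiveSpecialLinearGroup (Fin n) F) :
    IsStdFieldAutPSL σ β ↔ β = semiAut 1 σ := by
  rw [← isInducedBySemilinearPSL_iff]
  simp [IsStdFieldAutPSL, IsInducedBySemilinearPSL]

theorem isInnerDiagonalAutPSL_iff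
    (β : ProjectiveSpecialLinearGroup (Fin n) F ≃* ProjectiveSpecialLinearGroup (Fin n) F) :
    IsInnerDiagonalAutPSL β ↔ ∃ g, β = semiAut g (RingEquiv.refl F) := by
  refine exists_congr fun g => ?_
  rw [← isInducedBySemilinearPSL_iff]
  simp [IsInducedBySemilinearPSL]

theorem isInverseTransposeAutPSL_iff
    (β : ProjectiveSpecialLinearGroup (Fin n) F ≃* ProjectiveSpecialLinearGroup (Fin n) F) :
    IsInverseTransposeAutPSL β ↔ β = itAut := by
  constructor
  · intro h
    refine MulEquiv.ext fun x => ?_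
    obtain ⟨s, rfl⟩ := QuotientGroup.mk_surjective x
    exact h s _ rfl
  · rintro rfl s s' hs'
    exact congrArg _ (Subtype.ext hs'.symm)

/-- The inner-diagonal automorphisms form the image of `GL_n`. -/
noncomputable def inndiagHom : GL (Fin n) F →* MulAut (ProjectiveSpecialLinearGroup (Fin n) F) where
  toFun g := semiAut g (RingEquiv.refl F)
  map_one' := semiAut_one
  map_mul' g h := by
    rw [semiAut_mul]
    congr 1

theorem inndiagPSL_eq_range : inndiagPSL n F = (inndiagHom (n := n) (F := F)).range := by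
  rw [inndiagPSL, autSubgroupOf]
  refine le_antisymm ((Subgroup.closure_le _).2 ?_) ?_
  · intro β hβ
    obtain ⟨g, hg⟩ := (isInnerDiagonalAutPSL_iff β).1 hβ
    exact ⟨g, hg.symm⟩
  · rintro _ ⟨g, rfl⟩
    exact Subgroup.subset_closure ((isInnerDiagonalAutPSL_iff _).2 ⟨g, rfl⟩)

theorem mem_inndiagPSL_iff (β : MulAut (ProjectiveSpecialLinearGroup (Fin n) F)) :
    β ∈ inndiagPSL n F ↔ ∃ g, β = semiAut g (RingEquiv.refl F) := by
  rw [inndiagPSL_eq_range]
  exact ⟨fun ⟨g, hg⟩ => ⟨g, hg.symm⟩, fun ⟨g, hg⟩ => ⟨g, hg.symm⟩⟩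

end CfsgLib.KnownC
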