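import Mathlib
import Cfsg.Agent.Lib.Classical.UnitarySimple

set_option autoImplicit false
set_option linter.unusedSectionVars false
set_option linter.style.haveILetI false

/-!
Sylow subgroups of the unitary transvection group in the defining characteristic: their centres are the
transvection groups, and the radicals of the point stabilisers are permuted by the automorphisms of the
central quotient.
-/

namespace CfsgLib.KnownC

open CfsgLib.Geom CfsgLib.Classical

variable {F V : Type*} [Field F] [AddCommGroup V] [Module F V] [FiniteDimensional F V] {σ : F →+* F}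
variable {B : V →ₛₗ[σ] V →ₗ[F] F}

/-- The standing hypotheses on a unitary space. -/
structure UCtx (B : V →ₛₗ[σ] V →ₗ[F] F) : Prop where
  herm : IsHermSpace B
  three : 3 ≤ Module.finrank F V
  small : 4 ≤ Module.finrank F V ∨ ∃ μ : F, σ μ = μ ∧ μ ≠ 0 ∧ μ ≠ 1

/-- The group generated by the unitary transvections. -/
abbrev UG (K : UCtx B) : Type _ := ↥(utGroup K.herm)

/-- Its central quotient. -/
abbrev UQ (K : UCtx B) : Type _ := UG K ⧸ Subgroup.center (UG K)

variable (K : UCtx B)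

/-- The quotient map. -/
abbrev toUQ : UG K →* UQ K := QuotientGroup.mk' _

/-- An Eichler transformation in the transvection group. -/
noncomputable def eichU (x w : V) (c : F) : UG K :=
  ⟨eich K.herm x w c, eich_mem K.herm K.three K.small x w c⟩

include K

theorem ug_ext {g h : UG K} (e : ∀ v, g.1.1 v = h.1.1 v) : g = h := Subtype.ext (herm_ext e)

theorem eichU_apply {x w : V} {c : F} (h : EichOK B x w c) (z : V) :
    (eichU K x w c).1.1 z = z + B x z • w + (c * B x z - B w z) • x :=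
  eich_apply K.herm h z

theorem eichU_transv_apply {x : V} (hx : B x x = 0) {c : F} (hc : c + σ c = 0) (z : V) :
    (eichU K x 0 c).1.1 z = z + (c * B x z) • x :=
  transv_apply K.herm hx hc z

theorem eichU_mul {x w w' : V} {c c' : F} (h : EichOK B x w c) (h' : EichOK B x w' c') :
    eichU K x w c * eichU K x w' c' = eichU K x (w + w') (c + c' - B w w') :=
  Subtype.ext (eich_mul K.herm h h')

theorem eichU_conj (g : UG K) (x w : V) (c : F) :
    g * eichU K x w c * g⁻¹ = eichU K (g.1.1 x) (g.1.1 w) c :=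
  Subtype.ext (eich_conj K.herm g.1 x w c)

theorem eichU_transv_conj (g : UG K) (x : V) (c : F) :
    g * eichU K x 0 c * g⁻¹ = eichU K (g.1.1 x) 0 c := by
  rw [eichU_conj, map_zero]

theorem eichU_fix {e w : V} {c : F} (h : EichOK B e w c) : (eichU K e w c).1.1 e = e := by
  rw [eichU_apply K h, h.1, K.herm.eq_zero_comm h.2.1]; simp

theorem scalar_of_toUQ_eq_one {k : UG K} (hk : toUQ K k = 1) : ∃ a : F, ∀ v, k.1.1 v = a • v :=
  (mem_center_utGroup_iff K.herm K.three k).1 ((QuotientGroup.eq_one_iff k).1 hk)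

theorem toUQ_eq_one_of_scalar {k : UG K} {a : F} (h : ∀ v, k.1.1 v = a • v) : toUQ K k = 1 :=
  (QuotientGroup.eq_one_iff k).2 ((mem_center_utGroup_iff K.herm K.three k).2 ⟨a, h⟩)

theorem eq_one_of_toUQ_of_fix {k : UG K} (hk : toUQ K k = 1) {x : V} (hx : x ≠ 0)
    (hkx : k.1.1 x = x) : k = 1 := by
  obtain ⟨a, ha⟩ := scalar_of_toUQ_eq_one K hk
  have h1 : (a - 1) • x = 0 := by rw [sub_smul, one_smul, ← ha, hkx, sub_self]
  have ha1 : a = 1 := sub_eq_zero.1 ((smul_eq_zero.1 h1).resolve_right hx)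
  exact ug_ext K fun v => by rw [ha, ha1, one_smul]; rfl

theorem toUQ_inj_of_fix {g h : UG K} (he : toUQ K g = toUQ K h) {x : V} (hx : x ≠ 0)
    (hg : g.1.1 x = x) (hh : h.1.1 x = x) : g = h := by
  refine (inv_mul_eq_one.1 (eq_one_of_toUQ_of_fix K
    (show toUQ K (h⁻¹ * g) = 1 by rw [map_mul, map_inv, he, inv_mul_cancel]) hx ?_)).symm
  show h.1.1.symm (g.1.1 x) = x
  rw [hg]
  exact h.1.1.symm_apply_eq.2 hh.symm

/-- A vector orthogonal to two given ones, non-zero. -/
theorem exists_perp_two (u v : V) : ∃ x, x ≠ 0 ∧ B u x = 0 ∧ B v x = 0 := by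
  obtain ⟨x, hx, h⟩ := IsHermSpace.exists_perp_ne_zero (B := B) ![u, v]
    (by have := K.three; omega)
  exact ⟨x, hx, h 0, h 1⟩

theorem line_of_transv_eq {x y : V} (hx : B x x = 0) (hy : B y y = 0) {c d : F} (hc : c + σ c = 0)
    (hd : d + σ d = 0) (hc0 : c ≠ 0) (hx0 : x ≠ 0)
    (he : toUQ K (eichU K x 0 c) = toUQ K (eichU K y 0 d)) : ∃ a : F, x = a • y := by
  obtain ⟨z, hz0, hzx, hzy⟩ := exists_perp_two K x y
  have h := toUQ_inj_of_fix K he hz0 (by rw [eichU_transv_apply K hx hc, hzx]; simp)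
    (by rw [eichU_transv_apply K hy hd, hzy]; simp)
  obtain ⟨p, hp⟩ := K.herm.exists_partner hx0
  have h1 := congrArg (fun g : UG K => g.1.1 p) h
  simp only [eichU_transv_apply K hx hc, eichU_transv_apply K hy hd, hp, mul_one, add_right_inj] at h1
  exact ⟨c⁻¹ * (d * B y p), by rw [mul_smul, ← h1, inv_smul_smul₀ hc0]⟩

/-- The perpendicular of the perpendicular of an isotropic vector. -/
theorem eq_smul_of_perp {e f u : V} (hef : B e f = 1) (hu : ∀ w, B e w = 0 → B u w = 0) :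
    ∃ a : F, u = a • e := by
  refine ⟨σ (B u f), sub_eq_zero.1 (K.herm.sep _ fun v => ?_)⟩
  have h := hu (v - B e v • f) (by rw [map_sub, map_smul, hef, smul_eq_mul, mul_one, sub_self])
  rw [map_sub, map_smul, smul_eq_mul] at h
  simp only [map_sub, map_smulₛₗ, LinearMap.sub_apply, LinearMap.smul_apply, smul_eq_mul, K.herm.invol]
  linear_combination h

/-- In dimension at least four the isotropic vectors of `⟨e, f⟩^⊥` span it, in the form: none of its non-zero
vectors is orthogonal to all of them. -/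
theorem exists_isotropic_nonorth {e f m : V} (hee : B e e = 0) (hff : B f f = 0) (hef : B e f = 1)
    (h4 : 3 < Module.finrank F V) (hem : B e m = 0) (hfm : B f m = 0) (hm0 : m ≠ 0) :
    ∃ x, B e x = 0 ∧ B f x = 0 ∧ B x x = 0 ∧ B x m ≠ 0 := by
  have H := K.herm
  have proj : ∀ v, v ≠ 0 → B e v = 0 → B f v = 0 → ∃ r, B e r = 0 ∧ B f r = 0 ∧ B v r = 1 := by
    intro v hv hev hfv
    obtain ⟨z, hz⟩ := H.exists_partner hv
    obtain ⟨h1, h2⟩ := H.proj_perp hee hff hef z
    exact ⟨_, h1, h2, by simp [map_sub, map_smul, hz, H.eq_zero_comm hev, H.eq_zero_comm hfv]⟩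
  by_cases hmm : B m m = 0
  · obtain ⟨r, her, hfr, hmr⟩ := proj m hm0 hem hfm
    have hrm := H.eq_one_comm hmr
    obtain ⟨t, ht⟩ := H.exists_trace (a := -B r r) (by rw [map_neg, H.self_fixed])
    refine ⟨r + t • m, by simp [her, hem], by simp [hfr, hfm], ?_, ?_⟩
    · simp only [map_add, map_smulₛₗ, LinearMap.add_apply, LinearMap.smul_apply, smul_eq_mul,
        RingHom.id_apply, hmm, hmr, hrm]
      linear_combination ht
    · simp [map_smulₛₗ, hmm, hrm]
  obtain ⟨v, hv0, hv⟩ := IsHermSpace.exists_perp_ne_zero (B := B) ![e, f, m] h4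
  have hev : B e v = 0 := hv 0
  have hfv : B f v = 0 := hv 1
  have hmv : B m v = 0 := hv 2
  obtain ⟨u, heu, hfu, hmu, huu⟩ : ∃ u, B e u = 0 ∧ B f u = 0 ∧ B m u = 0 ∧ B u u ≠ 0 := by
    by_cases hvv : B v v = 0
    swap
    · exact ⟨v, hev, hfv, hmv, hvv⟩
    obtain ⟨r₀, her₀, hfr₀, hvr₀⟩ := proj v hv0 hev hfv
    obtain ⟨r, hr⟩ : ∃ r, r = r₀ - (B m r₀ / B m m) • m := ⟨_, rfl⟩
    have her : B e r = 0 := by simp [hr, her₀, hem]
    have hfr : B f r = 0 := by simp [hr, hfr₀, hfm]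
    have hmr : B m r = 0 := by rw [hr]; simp [map_sub, map_smul, div_mul_cancel₀ _ hmm]
    have hvr : B v r = 1 := by rw [hr]; simp [map_sub, map_smul, hvr₀, H.eq_zero_comm hmv]
    by_cases hrr : B r r = 0
    swap
    · exact ⟨r, her, hfr, hmr, hrr⟩
    obtain ⟨t, ht⟩ := H.exists_trace (map_one σ)
    refine ⟨r + t • v, by simp [her, hev], by simp [hfr, hfv], by simp [hmr, hmv], ?_⟩
    simp only [map_add, map_smulₛₗ, LinearMap.add_apply, LinearMap.smul_apply, smul_eq_mul,
      RingHom.id_apply, hrr, hvv, hvr, H.eq_one_comm hvr]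
    intro h
    exact one_ne_zero (show (1 : F) = 0 by linear_combination h - ht)
  obtain ⟨l, hl⟩ := H.norm_surj (-B m m / B u u)
    (by rw [map_div₀, map_neg, H.self_fixed, H.self_fixed])
  refine ⟨m + l • u, by simp [hem, heu], by simp [hfm, hfu], ?_, ?_⟩
  · simp only [map_add, map_smulₛₗ, LinearMap.add_apply, LinearMap.smul_apply, smul_eq_mul,
      RingHom.id_apply, hmu, H.eq_zero_comm hmu]
    rw [eq_div_iff huu] at hl
    linear_combination hl
  · simp [map_smulₛₗ, H.eq_zero_comm hmu, hmm]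

/-- The elements acting trivially on the graded pieces `⟨e⟩`, `e^⊥/⟨e⟩`. -/
def utRad (e : V) : Subgroup (UG K) where
  carrier := {g | g.1.1 e = e ∧ ∀ w, B e w = 0 → ∃ a : F, g.1.1 w = w + a • e}
  one_mem' := ⟨rfl, fun w _ => ⟨0, by simp⟩⟩
  mul_mem' := by
    rintro g h ⟨hg, hg'⟩ ⟨hh, hh'⟩
    refine ⟨by rw [ut_mul_apply, hh, hg], fun w hw => ?_⟩
    obtain ⟨a, ha⟩ := hh' w hw
    obtain ⟨b, hb⟩ := hg' w hw
    exact ⟨b + a, by rw [ut_mul_apply, ha, map_add, map_smul, hg, hb, add_smul, add_assoc]⟩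
  inv_mem' := by
    rintro g ⟨hg, hg'⟩
    refine ⟨g.1.1.symm_apply_eq.2 hg.symm, fun w hw => ?_⟩
    obtain ⟨a, ha⟩ := hg' w hw
    refine ⟨-a, g.1.1.symm_apply_eq.2 ?_⟩
    rw [map_add, map_smul, hg, ha, add_assoc, ← add_smul, add_neg_cancel, zero_smul, add_zero]

theorem eichU_mem_utRad {e w : V} {c : F} (h : EichOK B e w c) : eichU K e w c ∈ utRad K e :=
  ⟨eichU_fix K h, fun v hv => ⟨-B w v, by rw [eichU_apply K h, hv]; simp⟩⟩

theorem isPGroup_utRad {p : ℕ} [Fact p.Prime] [CharP F p] {e : V} (he : e ≠ 0) :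
    IsPGroup p (utRad K e) := by
  rintro ⟨g, hge, hg⟩
  refine ⟨2, Subtype.ext (ug_ext K fun x => ?_)⟩
  let T : Module.End F V := (g.1.1 : V →ₗ[F] V) - 1
  have hT : ∀ y, T y = g.1.1 y - y := fun y => rfl
  have hperp : ∀ y, B e (T y) = 0 := fun y => by
    rw [hT, map_sub, sub_eq_zero]
    conv_lhs => rw [← hge, g.1.2]
  have hT3 : T ^ 3 = 0 := LinearMap.ext fun y => by
    obtain ⟨a, ha⟩ := hg (T y) (hperp y)
    show T (T (T y)) = 0
    rw [hT (T y), ha, add_sub_cancel_left, map_smul, hT e, hge, sub_self, smul_zero]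
  haveI : Nontrivial V := ⟨e, 0, he⟩
  haveI : CharP (Module.End F V) p := charP_of_injective_algebraMap' F p
  have hg' : (g.1.1 : V →ₗ[F] V) = T + 1 := by simp [T]
  have hpow : (g.1.1 : V →ₗ[F] V) ^ p ^ 2 = 1 := by
    rw [hg', add_pow_char_pow_of_commute _ _ (Commute.one_right T), one_pow,
      pow_eq_zero_of_le (by nlinarith [(Fact.out : p.Prime).two_le]) hT3, zero_add]
  have hcoe : ∀ k : ℕ, ((g ^ k).1.1 : V →ₗ[F] V) = (g.1.1 : V →ₗ[F] V) ^ k := by
    intro k
    induction k with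
    | zero => rfl
    | succ k ih => rw [pow_succ, pow_succ, ← ih]; rfl
  have := LinearMap.congr_fun ((hcoe (p ^ 2)).trans hpow) x
  simpa using this

/-- A `p`-group acting on a non-zero subspace fixes a non-zero vector of it. -/
theorem exists_fixed_of_act [Finite F] {p : ℕ} [Fact p.Prime] [CharP F p] {Γ : Type*} [Group Γ]
    (hΓ : IsPGroup p Γ) (W : Submodule F V) (hW : W ≠ ⊥) (ρ : Γ → V → V)
    (hmem : ∀ g, ∀ w ∈ W, ρ g w ∈ W) (h1 : ∀ w ∈ W, ρ 1 w = w)
    (hmul : ∀ g h, ∀ w ∈ W, ρ (g * h) w = ρ g (ρ h w)) (h0 : ∀ g, ρ g 0 = 0) :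
    ∃ w ∈ W, w ≠ 0 ∧ ∀ g, ρ g w = w := by
  haveI : Finite V := Module.finite_of_finite F
  haveI := Fintype.ofFinite F
  letI : MulAction Γ W :=
    { smul := fun g w => ⟨ρ g w, hmem g w w.2⟩
      one_smul := fun w => Subtype.ext (h1 w w.2)
      mul_smul := fun g h w => Subtype.ext (hmul g h w w.2) }
  haveI : Nontrivial W := Submodule.nontrivial_iff_ne_bot.2 hW
  have hdvd : p ∣ Nat.card W := by
    obtain ⟨k, -, hk⟩ := FiniteField.card F p
    rw [Module.natCard_eq_pow_finrank (K := F), Nat.card_eq_fintype_card, hk, ← pow_mul]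
    exact dvd_pow_self p (Nat.mul_ne_zero k.pos.ne' Module.finrank_pos.ne')
  obtain ⟨b, hb, hb0⟩ := hΓ.exists_fixed_point_of_prime_dvd_card_of_fixed_point W hdvd
    (a := 0) (fun g => Subtype.ext (h0 g))
  exact ⟨b, b.2, fun h => hb0 (Subtype.ext h.symm), fun g => congrArg Subtype.val (hb g)⟩

/-- A `p`-subgroup fixes a non-zero isotropic vector. -/
theorem exists_fixed_isotropic [Finite F] {p : ℕ} [Fact p.Prime] [CharP F p] (P : Subgroup (UG K))
    (hP : IsPGroup p P) : ∃ e, e ≠ 0 ∧ B e e = 0 ∧ ∀ g ∈ P, g.1.1 e = e := by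
  have H := K.herm
  have htop : (⊤ : Submodule F V) ≠ ⊥ := fun h => by
    have := congrArg (fun S : Submodule F V => Module.finrank F S) h
    simp only [finrank_top, finrank_bot] at this
    have := K.three
    omega
  obtain ⟨u, -, hu0, hu⟩ := exists_fixed_of_act K hP ⊤ htop (fun g v => g.1.1.1 v)
    (fun _ _ _ => trivial) (fun _ _ => rfl) (fun _ _ _ _ => rfl) (fun g => map_zero g.1.1.1)
  have hufix : ∀ g ∈ P, g.1.1 u = u := fun g hg => hu ⟨g, hg⟩
  by_cases huu : B u u = 0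
  · exact ⟨u, hu0, huu, hufix⟩
  obtain ⟨v₀, hv0, hv₀⟩ := IsHermSpace.exists_perp_ne_zero (B := B) ![u] (by have := K.three; omega)
  have hW : LinearMap.ker (B u) ≠ ⊥ := fun h => hv0 (by
    have : v₀ ∈ LinearMap.ker (B u) := hv₀ 0
    rwa [h, Submodule.mem_bot] at this)
  obtain ⟨v, hv, hvne, hvfix⟩ := exists_fixed_of_act K hP (LinearMap.ker (B u)) hW
    (fun g v => g.1.1.1 v) (fun g w hw => by
      show B u (g.1.1.1 w) = 0
      rw [← hufix _ g.2, g.1.1.2]
      exact hw)
    (fun _ _ => rfl) (fun _ _ _ _ => rfl) (fun g => map_zero g.1.1.1)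
  have hv' : B u v = 0 := hv
  by_cases hvv : B v v = 0
  · exact ⟨v, hvne, hvv, fun g hg => hvfix ⟨g, hg⟩⟩
  obtain ⟨l, hl⟩ := H.norm_surj (-B v v / B u u)
    (by rw [map_div₀, map_neg, H.self_fixed, H.self_fixed])
  refine ⟨l • u + v, fun h => ?_, ?_, fun g hg => ?_⟩
  · have h1 := congrArg (B v) h
    simp [H.eq_zero_comm hv'] at h1
    exact hvv h1
  · simp only [map_add, map_smulₛₗ, LinearMap.add_apply, LinearMap.smul_apply, smul_eq_mul,
      RingHom.id_apply, hv', H.eq_zero_comm hv']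
    rw [eq_div_iff huu] at hl
    linear_combination hl
  · rw [map_add, map_smul, hufix g hg]
    exact congrArg _ (hvfix ⟨g, hg⟩)

theorem finite_ug [Finite F] : Finite (UG K) := by
  haveI : Finite V := Module.finite_of_finite F
  haveI : Finite (V ≃ₗ[F] V) :=
    Finite.of_injective (fun e : V ≃ₗ[F] V => (e : V → V)) DFunLike.coe_injective
  infer_instance

theorem exists_sylow_fix [Finite F] {p : ℕ} [Fact p.Prime] [CharP F p] {e : V} (he : e ≠ 0)
    (hee : B e e = 0) : ∃ P : Sylow p (UG K), ∀ g ∈ P, g.1.1 e = e := by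
  obtain ⟨e₀, he₀, he₀e, hfix⟩ := exists_fixed_isotropic K _ (default : Sylow p (UG K)).2
  obtain ⟨h, hh, hhe⟩ := ut_transitive K.herm K.three K.small he₀e hee he₀ he
  refine ⟨(⟨h, hh⟩ : UG K) • (default : Sylow p (UG K)), fun g hg => ?_⟩
  obtain ⟨x, hx, rfl⟩ := hg
  show h.1 (x.1.1 (h.1.symm e)) = e
  rw [show h.1.symm e = e₀ from h.1.symm_apply_eq.2 hhe.symm, hfix x hx, hhe]

theorem utRad_le_sylow [Finite F] {p : ℕ} [Fact p.Prime] [CharP F p] {e : V} (he : e ≠ 0)
    (P : Sylow p (UG K)) (hP : ∀ g ∈ P, g.1.1 e = e) : utRad K e ≤ P := by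
  have hn : (P : Subgroup (UG K)) ≤ Subgroup.normalizer (utRad K e) := by
    intro g hg
    have key : ∀ k : UG K, k.1.1 e = e → ∀ x ∈ utRad K e, k * x * k⁻¹ ∈ utRad K e := by
      rintro k hk x ⟨hxe, hx⟩
      have hki : k.1.1.symm e = e := k.1.1.symm_apply_eq.2 hk.symm
      refine ⟨?_, fun w hw => ?_⟩
      · show k.1.1 (x.1.1 (k.1.1.symm e)) = e
        rw [hki, hxe, hk]
      obtain ⟨a, ha⟩ := hx (k.1.1.symm w)
        (by rw [← k.1.2, k.1.1.apply_symm_apply, hk, hw])
      refine ⟨a, ?_⟩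
      show k.1.1 (x.1.1 (k.1.1.symm w)) = _
      rw [ha, map_add, map_smul, hk, k.1.1.apply_symm_apply]
    rw [Subgroup.mem_normalizer_iff]
    refine fun x => ⟨key g (hP g hg) x, fun hx => ?_⟩
    have := key g⁻¹ (g.1.1.symm_apply_eq.2 (hP g hg).symm) _ hx
    simpa [mul_assoc] using this
  haveI := finite_ug K
  have hmax := P.is_maximal' (IsPGroup.to_sup_of_normal_right' P.2 (isPGroup_utRad K he) hn)
    le_sup_left
  exact hmax ▸ le_sup_right

/-- The centre of a Sylow subgroup consists of transvections. -/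
theorem central_eq_transv [Finite F] {p : ℕ} [Fact p.Prime] [CharP F p] {e : V} (he : e ≠ 0)
    (hee : B e e = 0) (P : Sylow p (UG K)) (hP : ∀ g ∈ P, g.1.1 e = e) {z : UG K} (hz : z ∈ P)
    (hzc : ∀ g ∈ P, g * z = z * g) : ∃ c, c + σ c = 0 ∧ z = eichU K e 0 c := by
  have H := K.herm
  obtain ⟨f, hef, hff⟩ := H.exists_hyperbolic he hee
  have hze := hP z hz
  have hzi : ∀ u v, B (z.1.1 u) (z.1.1 v) = B u v := z.1.2
  have key : ∀ w, B e w = 0 → z.1.1 w = w + (B (z.1.1 w) f - B w f) • e ∧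
      σ (B (z.1.1 w) f - B w f) = B (z.1.1 w) f - B w f := by
    intro w hw
    obtain ⟨c, hc⟩ := exists_ok H hee hw
    have hc' : EichOK B e (z.1.1 w) c := by
      refine ⟨hee, ?_, ?_⟩
      · conv_lhs => rw [← hze]
        rw [hzi, hw]
      · rw [hzi]; exact hc.2.2
    have hcomm := hzc _ (utRad_le_sylow K he P hP (eichU_mem_utRad K hc))
    have heq : eichU K e (z.1.1 w) c = eichU K e w c := by
      conv_lhs => rw [← hze]
      rw [← eichU_conj, ← hcomm, mul_inv_cancel_right]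
    have h1 := congrArg (fun g : UG K => g.1.1 f) heq
    simp only [eichU_apply K hc, eichU_apply K hc', hef, one_smul, mul_one] at h1
    have h2 : z.1.1 w = w + (B (z.1.1 w) f - B w f) • e := by linear_combination (norm := module) h1
    refine ⟨h2, ?_⟩
    have h3 := congrArg (fun v => B v f) h2
    simp only [map_add, map_smulₛₗ, LinearMap.add_apply, LinearMap.smul_apply, smul_eq_mul, hef,
      mul_one] at h3
    linear_combination -h3
  have hfix : ∀ w, B e w = 0 → z.1.1 w = w := by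
    intro w hw
    obtain ⟨a, ha⟩ : ∃ a, a = B (z.1.1 w) f - B w f := ⟨_, rfl⟩
    obtain ⟨r, hr⟩ := H.exists_moved
    obtain ⟨h1, h2⟩ := key w hw
    obtain ⟨-, h3⟩ := key (σ r • w) (by rw [map_smul, hw, smul_zero])
    rw [← ha] at h1 h2
    simp only [map_smul, map_smulₛₗ, LinearMap.smul_apply, smul_eq_mul, H.invol, ← mul_sub, ← ha,
      map_mul, h2] at h3
    have : (σ r - r) * a = 0 := by linear_combination h3
    rw [h1, (mul_eq_zero.1 this).resolve_left (sub_ne_zero.2 hr), zero_smul, add_zero]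
  obtain ⟨u, hu⟩ : ∃ u, u = z.1.1 f - f := ⟨_, rfl⟩
  obtain ⟨c, hc⟩ := eq_smul_of_perp K hef (u := u) fun w hw => H.eq_zero_comm (by
    rw [hu, map_sub]
    conv_lhs => arg 1; rw [← hfix w hw]
    rw [hzi, sub_self])
  have hzf : z.1.1 f = f + c • e := by rw [← hc, hu]; abel
  have hcc : c + σ c = 0 := by
    have h1 := hzi f f
    rw [hzf] at h1
    simp only [map_add, map_smulₛₗ, LinearMap.add_apply, LinearMap.smul_apply, smul_eq_mul,
      RingHom.id_apply, hff, hef, hee, H.eq_one_comm hef] at h1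
    linear_combination h1
  refine ⟨c, hcc, ug_ext K fun v => ?_⟩
  rw [eichU_transv_apply K hee hcc]
  have h1 := hfix (v - B e v • f) (by rw [map_sub, map_smul, hef, smul_eq_mul, mul_one, sub_self])
  rw [map_sub, map_smul, hzf] at h1
  linear_combination (norm := module) h1

/-- An element lying in every Sylow subgroup that fixes `e` lies in the radical of the stabiliser. -/
theorem mem_utRad_of_mem_sylows [Finite F] {p : ℕ} [Fact p.Prime] [CharP F p] {e : V} (he : e ≠ 0)
    (hee : B e e = 0) {g : UG K} (hg : ∀ P : Sylow p (UG K), (∀ x ∈ P, x.1.1 e = e) → g ∈ P) :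
    g ∈ utRad K e := by
  have H := K.herm
  obtain ⟨f, hef, hff⟩ := H.exists_hyperbolic he hee
  have hfe := H.eq_one_comm hef
  -- the intersection of these Sylow subgroups
  let N : Subgroup (UG K) :=
    ⨅ P : {P : Sylow p (UG K) // ∀ x ∈ P, x.1.1 e = e}, (P.1 : Subgroup (UG K))
  have hgN : g ∈ N := Subgroup.mem_iInf.2 fun P => hg P.1 P.2
  obtain ⟨P₀, hP₀⟩ := exists_sylow_fix K (p := p) he hee
  have hNfix : ∀ k ∈ N, k.1.1 e = e := fun k hk => hP₀ k (Subgroup.mem_iInf.1 hk ⟨P₀, hP₀⟩)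
  have hNp : IsPGroup p N := P₀.2.to_le fun k hk => Subgroup.mem_iInf.1 hk ⟨P₀, hP₀⟩
  have hnorm : ∀ h : UG K, h.1.1 e = e → ∀ k ∈ N, h⁻¹ * k * h ∈ N := by
    intro h hh k hk
    refine Subgroup.mem_iInf.2 fun P => ?_
    have hx := Subgroup.mem_iInf.1 hk ⟨h • P.1, fun x hx => by
      obtain ⟨y, hy, rfl⟩ := hx
      show h.1.1 (y.1.1 (h.1.1.symm e)) = e
      rw [show h.1.1.symm e = e from h.1.1.symm_apply_eq.2 hh.symm, P.2 y hy, hh]⟩
    obtain ⟨y, hy, hyk⟩ := hx
    rw [← hyk]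
    show h⁻¹ * (h * y * h⁻¹) * h ∈ P.1
    rw [show h⁻¹ * (h * y * h⁻¹) * h = y by group]
    exact hy
  -- the vectors fixed modulo the line of `e`
  let M : V → Prop := fun v => ∀ k ∈ N, ∃ a : F, k.1.1 v = v + a • e
  have Madd : ∀ {u v}, M u → M v → M (u + v) := fun {u v} hu hv k hk => by
    obtain ⟨a, ha⟩ := hu k hk
    obtain ⟨b, hb⟩ := hv k hk
    exact ⟨a + b, by rw [map_add, ha, hb]; module⟩
  have Msmul : ∀ (r : F) {u}, M u → M (r • u) := fun r {u} hu k hk => by
    obtain ⟨a, ha⟩ := hu k hk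
    exact ⟨r * a, by rw [map_smul, ha, smul_add, smul_smul]⟩
  have Me : M e := fun k hk => ⟨0, by rw [hNfix k hk, zero_smul, add_zero]⟩
  have Mconj : ∀ h : UG K, h.1.1 e = e → ∀ {u}, M u → M (h.1.1 u) := fun h hh {u} hu k hk => by
    obtain ⟨a, ha⟩ := hu _ (hnorm h hh k hk)
    refine ⟨a, ?_⟩
    have h1 : h.1.1.symm (k.1.1 (h.1.1 u)) = u + a • e := ha
    rw [LinearEquiv.symm_apply_eq, map_add, map_smul, hh] at h1
    exact h1
  let W : Submodule F V := LinearMap.ker (B e) ⊓ LinearMap.ker (B f)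
  have hWmem : ∀ w, w ∈ W ↔ B e w = 0 ∧ B f w = 0 := fun w => Iff.rfl
  suffices hall : ∀ w ∈ W, M w by
    refine ⟨hNfix g hgN, fun v hv => ?_⟩
    have hw : v - B f v • e ∈ W := (hWmem _).2
      ⟨by rw [map_sub, map_smul, hv, hee, smul_zero, sub_zero],
       by rw [map_sub, map_smul, hfe, smul_eq_mul, mul_one, sub_self]⟩
    have := Madd (hall _ hw) (Msmul (B f v) Me)
    rw [sub_add_cancel] at this
    exact this g hgN
  obtain ⟨v₀, hv₀0, hv₀e, hv₀f⟩ := exists_perp_two K e f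
  have hWne : W ≠ ⊥ := fun h => hv₀0 (by
    have : v₀ ∈ W := ⟨hv₀e, hv₀f⟩
    rwa [h, Submodule.mem_bot] at this)
  have hproj : ∀ (k : UG K), k ∈ N → ∀ w ∈ W,
      k.1.1 w - B f (k.1.1 w) • e ∈ W := fun k hk w hw => (hWmem _).2 ⟨by
      rw [map_sub, map_smul, hee, smul_zero, sub_zero]
      conv_lhs => rw [← hNfix k hk]
      rw [k.1.2, hw.1],
    by rw [map_sub, map_smul, hfe, smul_eq_mul, mul_one, sub_self]⟩
  obtain ⟨m, hmW, hm0, hm⟩ := exists_fixed_of_act K hNp W hWne
    (fun k w => k.1.1.1 w - B f (k.1.1.1 w) • e) (fun k => hproj k.1 k.2)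
    (fun w hw => by
      show w - B f w • e = w
      rw [hw.2, zero_smul, sub_zero])
    (fun k k' w _ => by
      show k.1.1.1 (k'.1.1.1 w) - B f (k.1.1.1 (k'.1.1.1 w)) • e = _
      simp only [map_sub, map_smul, hNfix k.1 k.2, hfe, smul_eq_mul, mul_one]
      module)
    (fun k => by simp)
  have Mm : M m := fun k hk => ⟨B f (k.1.1 m), by
    have := hm ⟨k, hk⟩
    linear_combination (norm := module) this⟩
  rcases K.three.lt_or_eq with h4 | h3
  swap
  · intro w hw
    obtain ⟨a, rfl⟩ : ∃ a : F, w = a • m := by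
      have hli : LinearIndependent F ![e, f] := (LinearIndependent.pair_iff' he).2 fun a ha => by
        have := congrArg (B e) ha
        simp [hee, hef] at this
      have hd : Disjoint (Submodule.span F (Set.range ![e, f])) W := by
        rw [Submodule.disjoint_def]
        intro v hv hvW
        obtain ⟨c, rfl⟩ := Submodule.mem_span_range_iff_exists_fun F |>.1 hv
        rw [Fin.sum_univ_two] at hvW ⊢
        have h1 := hvW.1
        have h2 := hvW.2
        simp [hee, hff, hef, hfe] at h1 h2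
        simp [h1, h2]
      have hd' := Submodule.finrank_add_finrank_le_of_disjoint hd
      rw [finrank_span_eq_card hli, Fintype.card_fin, ← h3] at hd'
      have hsm : W = Submodule.span F {m} := (Submodule.eq_of_le_of_finrank_le
        ((Submodule.span_singleton_le_iff_mem m W).2 hmW) (by rw [finrank_span_singleton hm0]; omega)).symm
      rw [hsm] at hw
      obtain ⟨a, ha⟩ := Submodule.mem_span_singleton.1 hw
      exact ⟨a, ha.symm⟩
    exact Msmul a Mm
  -- an isotropic vector of `W` not orthogonal to `m`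
  obtain ⟨x, hxe, hxf, hxx, hxm⟩ : ∃ x, B e x = 0 ∧ B f x = 0 ∧ B x x = 0 ∧ B x m ≠ 0 :=
    exists_isotropic_nonorth K hee hff hef h4 hmW.1 hmW.2 hm0
  obtain ⟨τ, hτ0, hτ⟩ := H.exists_trace_zero
  have hfixe : ∀ {y}, B y y = 0 → B e y = 0 → (eichU K y 0 τ).1.1 e = e := fun {y} hy hey => by
    rw [eichU_transv_apply K hy hτ, H.eq_zero_comm hey]; simp
  have Mout : ∀ {y u}, B y y = 0 → B e y = 0 → B y u ≠ 0 → M u → M y := fun {y u} hy hey hne hu => by
    have h1 := Mconj _ (hfixe hy hey) hu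
    rw [eichU_transv_apply K hy hτ] at h1
    have h2 := Msmul (τ * B y u)⁻¹ (Madd h1 (Msmul (-1) hu))
    rwa [neg_one_smul, add_neg_cancel_comm, inv_smul_smul₀ (mul_ne_zero hτ0 hne)] at h2
  have Mx : M x := Mout hxx hxe hxm Mm
  have hnon : ∀ w ∈ W, B x w ≠ 0 → M w := fun w hw hne => by
    have hne' : B w x ≠ 0 := fun h => hne (H.eq_zero_comm h)
    obtain ⟨t, ht⟩ := H.exists_trace (a := -B w w) (by rw [map_neg, H.self_fixed])
    have hy : B (w + (t / B w x) • x) (w + (t / B w x) • x) = 0 := by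
      simp only [map_add, map_smulₛₗ, LinearMap.add_apply, LinearMap.smul_apply, smul_eq_mul,
        RingHom.id_apply, hxx, map_div₀, H.conj]
      field_simp
      linear_combination (B x w * B w x) * ht
    have h1 := Mout (u := x) hy (by rw [map_add, map_smul, hw.1, hxe, smul_zero, add_zero])
      (by simpa [map_smulₛₗ, hxx] using hne') Mx
    have h2 := Madd h1 (Msmul (-(t / B w x)) Mx)
    rwa [neg_smul, add_neg_cancel_right] at h2
  intro w hw
  by_cases hne : B x w = 0
  · have h1 := hnon (w + m) (Submodule.add_mem W hw hmW) (by rw [map_add, hne, zero_add]; exact hxm)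
    have h2 := Madd h1 (Msmul (-1) Mm)
    rwa [neg_one_smul, add_neg_cancel_right] at h2
  · exact hnon w hw hne

end CfsgLib.KnownC
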