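import Mathlib
import Cfsg.Agent.Lib.KnownC.AutPSURad

set_option autoImplicit false
set_option linter.unusedSectionVars false
set_option linter.style.haveILetI false

/-!
Automorphisms of the central quotient of the unitary transvection group permute the transvection groups
and the radicals of the point stabilisers.
-/

namespace CfsgLib.KnownC

open CfsgLib.Geom CfsgLib.Classical

variable {F V : Type*} [Field F] [AddCommGroup V] [Module F V] [FiniteDimensional F V] {σ : F →+* F}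
variable {B : V →ₛₗ[σ] V →ₗ[F] F} (K : UCtx B)

/-- The image of a transvection. -/
scoped notation:max "trQ" K:max x:max c:max => toUQ K (eichU K x 0 c)

/-- `β` sends the transvection group at `x` into the one at `y`. -/
def Sends (β : MulAut (UQ K)) (x y : V) : Prop :=
  x ≠ 0 ∧ y ≠ 0 ∧ B x x = 0 ∧ B y y = 0 ∧
    ∀ c, c + σ c = 0 → ∃ d, d + σ d = 0 ∧ β (trQ K x c) = trQ K y d

include K

theorem toUQ_surjective : Function.Surjective (toUQ K) := QuotientGroup.mk'_surjective _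

theorem trQ_zero (x : V) : trQ K x 0 = 1 := by
  show toUQ K _ = 1
  rw [show eichU K x 0 0 = 1 from Subtype.ext (eich_zero K.herm x), map_one]

theorem trQ_ne_one {x : V} (hx : B x x = 0) (hx0 : x ≠ 0) {c : F} (hc : c + σ c = 0) (hc0 : c ≠ 0) :
    trQ K x c ≠ 1 := by
  intro h
  obtain ⟨a, ha⟩ := line_of_transv_eq K hx (show B (0 : V) 0 = 0 by simp) hc
    (show (0 : F) + σ 0 = 0 by simp) hc0 hx0 (h.trans (trQ_zero K 0).symm)
  exact hx0 (by rw [ha, smul_zero])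

theorem trQ_commute_iff {x y : V} (hx : B x x = 0) (hy : B y y = 0) {c d : F} (hc : c + σ c = 0)
    (hd : d + σ d = 0) (hc0 : c ≠ 0) (hd0 : d ≠ 0) :
    Commute (trQ K x c) (trQ K y d) ↔ B x y = 0 := by
  constructor
  · intro h
    by_contra hxy
    obtain ⟨z, hz0, hzx, hzy⟩ := exists_perp_two K x y
    have hfx : ∀ {v e}, B v v = 0 → e + σ e = 0 → B v z = 0 → (eichU K v 0 e).1.1 z = z :=
      fun {v e} hv he hvz => by rw [eichU_transv_apply K hv he, hvz]; simp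
    have hcomm : eichU K x 0 c * eichU K y 0 d = eichU K y 0 d * eichU K x 0 c := by
      refine toUQ_inj_of_fix K ?_ hz0 ?_ ?_
      · rw [map_mul, map_mul]; exact h.eq
      · rw [ut_mul_apply, hfx hy hd hzy, hfx hx hc hzx]
      · rw [ut_mul_apply, hfx hx hc hzx, hfx hy hd hzy]
    have h2 : eichU K ((eichU K x 0 c).1.1 y) 0 d = eichU K y 0 d := by
      rw [← eichU_transv_conj, hcomm, mul_inv_cancel_right]
    obtain ⟨a, ha⟩ := line_of_transv_eq K
      (show B ((eichU K x 0 c).1.1 y) ((eichU K x 0 c).1.1 y) = 0 by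
        rw [(eichU K x 0 c).1.2]; exact hy) hy hd hd hd0
      (fun h0 => hxy (by rw [(eichU K x 0 c).1.1.injective (h0.trans (map_zero _).symm), map_zero]))
      (congrArg (toUQ K) h2)
    rw [eichU_transv_apply K hx hc] at ha
    have h1 := congrArg (B y) ha
    simp only [map_add, map_smul, hy, smul_eq_mul, mul_zero, zero_add] at h1
    exact (mul_eq_zero.1 h1).elim (fun h' => hxy ((mul_eq_zero.1 h').resolve_left hc0))
      (fun h' => hxy (K.herm.eq_zero_comm h'))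
  · intro h
    refine Commute.map (ug_ext K fun v => ?_) _
    simp only [ut_mul_apply, eichU_transv_apply K hx hc, eichU_transv_apply K hy hd, map_add, map_smul, h,
      K.herm.eq_zero_comm h, smul_eq_mul]
    module

/-- An automorphism sends transvection groups into transvection groups. -/
theorem exists_sends [Finite F] (β : MulAut (UQ K)) {x : V} (hx0 : x ≠ 0) (hx : B x x = 0) :
    ∃ y, Sends K β x y := by
  obtain ⟨p, hp⟩ := CharP.exists F
  haveI : Fact p.Prime :=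
    ⟨(CharP.char_is_prime_or_zero F p).resolve_right (CharP.char_ne_zero_of_finite F p)⟩
  haveI := finite_ug K
  obtain ⟨P, hP⟩ := exists_sylow_fix K (p := p) hx0 hx
  obtain ⟨Q, hQ⟩ := Sylow.mapSurjective_surjective (toUQ_surjective K) p
    ((P.mapSurjective (toUQ_surjective K)).mapSurjective (f := β.toMonoidHom) β.surjective)
  have hQ' : (Q : Subgroup _).map (toUQ K) = ((P : Subgroup _).map (toUQ K)).map β.toMonoidHom :=
    congrArg Sylow.toSubgroup hQ
  obtain ⟨y, hy0, hy, hQy⟩ := exists_fixed_isotropic K _ Q.2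
  refine ⟨y, hx0, hy0, hx, hy, fun c hc => ?_⟩
  have htP := utRad_le_sylow K hx0 P hP (eichU_mem_utRad K (transv_ok K.herm hx hc))
  obtain ⟨z, hz, hzx⟩ : β (trQ K x c) ∈ (Q : Subgroup _).map (toUQ K) := by
    rw [hQ']; exact ⟨_, ⟨_, htP, rfl⟩, rfl⟩
  have hzc : ∀ g ∈ Q, g * z = z * g := by
    intro g hg
    obtain ⟨_, ⟨g₀, hg₀, rfl⟩, he⟩ : toUQ K g ∈ ((P : Subgroup _).map (toUQ K)).map β.toMonoidHom := by
      rw [← hQ']; exact ⟨g, hg, rfl⟩
    have hcm : g₀ * eichU K x 0 c = eichU K x 0 c * g₀ := by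
      rw [← mul_inv_eq_iff_eq_mul, eichU_transv_conj, hP g₀ hg₀]
    refine toUQ_inj_of_fix K ?_ hy0 (hQy _ (mul_mem hg hz)) (hQy _ (mul_mem hz hg))
    rw [map_mul, map_mul, hzx, ← he, MulEquiv.coe_toMonoidHom, ← map_mul β, ← map_mul β,
      ← map_mul (toUQ K), ← map_mul (toUQ K), hcm]
  obtain ⟨d, hd, hzd⟩ := central_eq_transv K hy0 hy Q hQy hz hzc
  exact ⟨d, hd, by rw [← hzx, hzd]⟩

/-- An automorphism sends radicals of point stabilisers into such radicals. -/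
theorem exists_rad_image [Finite F] {β : MulAut (UQ K)} {x y : V} (h : Sends K β x y) {g : UG K}
    (hg : g ∈ utRad K x) : ∃ g' ∈ utRad K y, β (toUQ K g) = toUQ K g' := by
  obtain ⟨hx0, hy0, hx, hy, hd⟩ := h
  obtain ⟨p, hp⟩ := CharP.exists F
  haveI : Fact p.Prime :=
    ⟨(CharP.char_is_prime_or_zero F p).resolve_right (CharP.char_ne_zero_of_finite F p)⟩
  haveI := finite_ug K
  obtain ⟨τ, hτ0, hτ⟩ := K.herm.exists_trace_zero
  obtain ⟨d, hd', hxy⟩ := hd τ hτ
  have key : ∀ R : Sylow p (UG K), (∀ k ∈ R, k.1.1 y = y) → ∃ g' ∈ R, β (toUQ K g) = toUQ K g' := by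
    intro R hR
    obtain ⟨P, hP⟩ := Sylow.mapSurjective_surjective (toUQ_surjective K) p
      ((R.mapSurjective (toUQ_surjective K)).mapSurjective (f := β.symm.toMonoidHom) β.symm.surjective)
    have hP' : (P : Subgroup _).map (toUQ K) = ((R : Subgroup _).map (toUQ K)).map β.symm.toMonoidHom :=
      congrArg Sylow.toSubgroup hP
    obtain ⟨w, hw0, hw, hPw⟩ := exists_fixed_isotropic K _ P.2
    have htR := utRad_le_sylow K hy0 R hR (eichU_mem_utRad K (transv_ok K.herm hy hd'))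
    obtain ⟨z, hz, hzx⟩ : trQ K x τ ∈ (P : Subgroup _).map (toUQ K) := by
      rw [hP']
      exact ⟨_, ⟨_, htR, rfl⟩, by rw [MulEquiv.coe_toMonoidHom, ← hxy, MulEquiv.symm_apply_apply]⟩
    have hzc : ∀ k ∈ P, k * z = z * k := by
      intro k hk
      obtain ⟨_, ⟨k₀, hk₀, rfl⟩, he⟩ :
          toUQ K k ∈ ((R : Subgroup _).map (toUQ K)).map β.symm.toMonoidHom := by
        rw [← hP']; exact ⟨k, hk, rfl⟩
      have hcm : k₀ * eichU K y 0 d = eichU K y 0 d * k₀ := by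
        rw [← mul_inv_eq_iff_eq_mul, eichU_transv_conj, hR k₀ hk₀]
      refine toUQ_inj_of_fix K ?_ hw0 (hPw _ (mul_mem hk hz)) (hPw _ (mul_mem hz hk))
      have hz' : toUQ K z = β.symm (trQ K y d) := by rw [hzx, ← hxy, MulEquiv.symm_apply_apply]
      rw [map_mul, map_mul, hz', ← he, MulEquiv.coe_toMonoidHom, ← map_mul β.symm, ← map_mul β.symm,
        ← map_mul (toUQ K), ← map_mul (toUQ K), hcm]
    obtain ⟨e, he, hze⟩ := central_eq_transv K hw0 hw P hPw hz hzc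
    obtain ⟨a, ha⟩ := line_of_transv_eq K hx hw hτ he hτ0 hx0 (by rw [← hze]; exact hzx.symm)
    have hPx : ∀ k ∈ P, k.1.1 x = x := fun k hk => by rw [ha, map_smul, hPw k hk]
    have : toUQ K g ∈ ((R : Subgroup _).map (toUQ K)).map β.symm.toMonoidHom := by
      rw [← hP']; exact ⟨g, utRad_le_sylow K hx0 P hPx hg, rfl⟩
    obtain ⟨_, ⟨g', hg', rfl⟩, hgg⟩ := this
    exact ⟨g', hg', by rw [← hgg, MulEquiv.coe_toMonoidHom, MulEquiv.apply_symm_apply]⟩
  obtain ⟨R₀, hR₀⟩ := exists_sylow_fix K (p := p) hy0 hy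
  obtain ⟨g₀, hg₀, he₀⟩ := key R₀ hR₀
  refine ⟨g₀, mem_utRad_of_mem_sylows K (p := p) hy0 hy fun R hR => ?_, he₀⟩
  obtain ⟨g', hg', he'⟩ := key R hR
  rwa [toUQ_inj_of_fix K (he₀.symm.trans he') hy0 (hR₀ _ hg₀) (hR _ hg')]

theorem Sends.comp {β γ : MulAut (UQ K)} {x y z : V} (h : Sends K β x y) (h' : Sends K γ y z) :
    Sends K (γ * β) x z :=
  ⟨h.1, h'.2.1, h.2.2.1, h'.2.2.2.1, fun c hc => by
    obtain ⟨d, hd, he⟩ := h.2.2.2.2 c hc
    obtain ⟨e, he', hf⟩ := h'.2.2.2.2 d hd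
    exact ⟨e, he', by rw [MulAut.mul_apply, he, hf]⟩⟩

theorem Sends.line {β : MulAut (UQ K)} {x y y' : V} (h : Sends K β x y) (h' : Sends K β x y') :
    ∃ a : F, a ≠ 0 ∧ y = a • y' := by
  obtain ⟨τ, hτ0, hτ⟩ := K.herm.exists_trace_zero
  obtain ⟨d, hd, he⟩ := h.2.2.2.2 τ hτ
  obtain ⟨d', hd', he'⟩ := h'.2.2.2.2 τ hτ
  have hd0 : d ≠ 0 := by
    rintro rfl
    rw [trQ_zero, MulEquiv.map_eq_one_iff] at he
    exact trQ_ne_one K h.2.2.1 h.1 hτ hτ0 he
  obtain ⟨a, ha⟩ := line_of_transv_eq K h.2.2.2.1 h'.2.2.2.1 hd hd' hd0 h.2.1 (he.symm.trans he')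
  exact ⟨a, fun ha0 => h.2.1 (by rw [ha, ha0, zero_smul]), ha⟩

theorem sends_one {x : V} (hx0 : x ≠ 0) (hx : B x x = 0) : Sends K 1 x x :=
  ⟨hx0, hx0, hx, hx, fun c hc => ⟨c, hc, rfl⟩⟩

theorem sends_conj (g : UG K) {x : V} (hx0 : x ≠ 0) (hx : B x x = 0) :
    Sends K (MulAut.conj (toUQ K g)) x (g.1.1 x) :=
  ⟨hx0, fun h => hx0 (g.1.1.injective (h.trans (map_zero _).symm)), hx,
    by rw [g.1.2]; exact hx, fun c hc => ⟨c, hc, by
      rw [MulAut.conj_apply, ← map_inv, ← map_mul, ← map_mul, eichU_transv_conj]⟩⟩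

theorem Sends.smul_left {β : MulAut (UQ K)} {x y : V} (h : Sends K β x y) {a : F} (ha : a ≠ 0) :
    Sends K β (a • x) y := by
  refine ⟨smul_ne_zero ha h.1, h.2.1, by simp [map_smulₛₗ, h.2.2.1], h.2.2.2.1, fun c hc => ?_⟩
  have hc' : σ a * a * c + σ (σ a * a * c) = 0 := by
    simp only [map_mul, K.herm.invol]; linear_combination (σ a * a) * hc
  obtain ⟨d, hd, he⟩ := h.2.2.2.2 _ hc'
  refine ⟨d, hd, ?_⟩
  rw [← he, show eichU K (a • x) 0 c = eichU K x 0 (σ a * a * c) from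
    Subtype.ext ((eich_smul K.herm ha h.2.2.1).trans (by rw [smul_zero]; rfl))]

theorem Sends.smul_right {β : MulAut (UQ K)} {x y : V} (h : Sends K β x y) {a : F} (ha : a ≠ 0) :
    Sends K β x (a • y) := by
  refine ⟨h.1, smul_ne_zero ha h.2.1, h.2.2.1, by simp [map_smulₛₗ, h.2.2.2.1], fun c hc => ?_⟩
  obtain ⟨d, hd, he⟩ := h.2.2.2.2 c hc
  have hs : σ a ≠ 0 := fun h' => ha (σ.injective (h'.trans (map_zero σ).symm))
  refine ⟨d / (σ a * a), ?_, ?_⟩
  · simp only [map_div₀, map_mul, K.herm.invol]; field_simp; linear_combination hd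
  rw [he, show eichU K (a • y) 0 (d / (σ a * a)) = eichU K y 0 d from Subtype.ext
    ((eich_smul K.herm ha h.2.2.2.1).trans
      (by rw [smul_zero, mul_div_cancel₀ _ (mul_ne_zero hs ha)]; rfl))]

theorem Sends.symm [Finite F] {β : MulAut (UQ K)} {x y : V} (h : Sends K β x y) :
    Sends K β⁻¹ y x := by
  obtain ⟨z, hz⟩ := exists_sends K β⁻¹ h.2.1 h.2.2.2.1
  have h1 := Sends.comp K h hz
  rw [inv_mul_cancel] at h1
  obtain ⟨a, ha, hxa⟩ := Sends.line K (sends_one K h.1 h.2.2.1) h1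
  rw [hxa]
  exact Sends.smul_right K hz ha

/-- The point map is equivariant. -/
theorem Sends.equivariant {β : MulAut (UQ K)} {x y : V} (h : Sends K β x y) {g g' : UG K}
    (hg : β (toUQ K g) = toUQ K g') : Sends K β (g.1.1 x) (g'.1.1 y) := by
  refine ⟨fun h0 => h.1 (g.1.1.injective (h0.trans (map_zero _).symm)),
    fun h0 => h.2.1 (g'.1.1.injective (h0.trans (map_zero _).symm)),
    by rw [g.1.2]; exact h.2.2.1, by rw [g'.1.2]; exact h.2.2.2.1, fun c hc => ?_⟩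
  obtain ⟨d, hd, he⟩ := h.2.2.2.2 c hc
  refine ⟨d, hd, ?_⟩
  rw [← eichU_transv_conj, ← eichU_transv_conj, map_mul, map_mul, map_inv, map_mul, map_mul, map_mul,
    map_mul, map_inv, map_inv, hg, he]

theorem Sends.perp_iff {β : MulAut (UQ K)} {x y x' y' : V} (h : Sends K β x x') (h' : Sends K β y y') :
    B x y = 0 ↔ B x' y' = 0 := by
  obtain ⟨τ, hτ0, hτ⟩ := K.herm.exists_trace_zero
  obtain ⟨d, hd, he⟩ := h.2.2.2.2 τ hτ
  obtain ⟨d', hd', he'⟩ := h'.2.2.2.2 τ hτ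
  have hne : ∀ {z z' : V} {e : F}, Sends K β z z' → β (trQ K z τ) = trQ K z' e → e ≠ 0 := by
    intro z z' e hs he h0
    rw [h0, trQ_zero, MulEquiv.map_eq_one_iff] at he
    exact trQ_ne_one K hs.2.2.1 hs.1 hτ hτ0 he
  rw [← trQ_commute_iff K h.2.2.1 h'.2.2.1 hτ hτ hτ0 hτ0,
    ← trQ_commute_iff K h.2.2.2.1 h'.2.2.2.1 hd hd' (hne h he) (hne h' he'), ← he, ← he']
  exact ⟨fun hc => hc.map β.toMonoidHom, fun hc => by simpa using hc.map β.symm.toMonoidHom⟩

end CfsgLib.KnownC
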