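import Mathlib
import Cfsg.Agent.Lib.KnownC.AutPSUPoints

set_option autoImplicit false
set_option linter.unusedSectionVars false
set_option linter.style.haveILetI false

/-!
An automorphism of the unitary group fixing two non-orthogonal isotropic points acts semilinearly on the
radical of a point stabiliser modulo its centre.
-/

namespace CfsgLib.KnownC

open CfsgLib.Geom CfsgLib.Classical

variable {F V : Type*} [Field F] [AddCommGroup V] [Module F V] [FiniteDimensional F V] {σ : F →+* F}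
variable {B : V →ₛₗ[σ] V →ₗ[F] F} (K : UCtx B)

/-- `β` fixes the points of a hyperbolic pair. -/
structure UFix (β : MulAut (UQ K)) (e f : V) : Prop where
  hee : B e e = 0
  hff : B f f = 0
  hef : B e f = 1
  he : Sends K β e e
  hf : Sends K β f f

variable (B) in
/-- The vectors orthogonal to both members of a pair. -/
def perp2 (e f : V) : Submodule F V := LinearMap.ker (B e) ⊓ LinearMap.ker (B f)

include K

theorem mem_perp2 {e f w : V} : w ∈ perp2 B e f ↔ B e w = 0 ∧ B f w = 0 := Iff.rfl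

theorem perp2_proj {e f : V} (hee : B e e = 0) (hff : B f f = 0) (hef : B e f = 1) (v : V) :
    v - B f v • e - B e v • f ∈ perp2 B e f :=
  (mem_perp2 K).2 (K.herm.proj_perp hee hff hef v)

theorem eq_zero_of_perp2 {e f u : V} (hee : B e e = 0) (hff : B f f = 0) (hef : B e f = 1)
    (hu : u ∈ perp2 B e f) (h : ∀ w ∈ perp2 B e f, B u w = 0) : u = 0 :=
  K.herm.sep u fun v => by
    have h1 := h _ (perp2_proj K hee hff hef v)
    simpa [map_sub, map_smul, K.herm.eq_zero_comm hu.1, K.herm.eq_zero_comm hu.2] using h1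

theorem exists_perp2_partner {e f u : V} (hee : B e e = 0) (hff : B f f = 0) (hef : B e f = 1)
    (hu : u ∈ perp2 B e f) (hu0 : u ≠ 0) : ∃ z ∈ perp2 B e f, B u z = 1 := by
  obtain ⟨z, hz⟩ := K.herm.exists_partner hu0
  exact ⟨_, perp2_proj K hee hff hef z, by
    simp [map_sub, map_smul, hz, K.herm.eq_zero_comm hu.1, K.herm.eq_zero_comm hu.2]⟩

theorem eich_mul_transv {e w : V} {c d : F} (h : EichOK B e w c) (hd : d + σ d = 0) :
    eichU K e w c * eichU K e 0 d = eichU K e w (c + d) := by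
  rw [eichU_mul K h (transv_ok K.herm h.1 hd), add_zero, map_zero, sub_zero]

theorem eichOK_sub {e w : V} {c c' : F} (h : EichOK B e w c) (h' : EichOK B e w c') :
    c' - c + σ (c' - c) = 0 := by
  rw [map_sub]; linear_combination h'.2.2 - h.2.2

theorem eich_inj {e f w w' : V} {c c' : F} (hef : B e f = 1) (he : e ≠ 0) (hw : w ∈ perp2 B e f)
    (hw' : w' ∈ perp2 B e f) (h : EichOK B e w c) (h' : EichOK B e w' c')
    (heq : toUQ K (eichU K e w c) = toUQ K (eichU K e w' c')) : w = w' ∧ c = c' := by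
  have h1 := congrArg (fun g : UG K => g.1.1 f)
    (toUQ_inj_of_fix K heq he (eichU_fix K h) (eichU_fix K h'))
  simp only [eichU_apply K h, eichU_apply K h', hef, one_smul, mul_one, K.herm.eq_zero_comm hw.2,
    K.herm.eq_zero_comm hw'.2, sub_zero] at h1
  have h2 := congrArg (B f) h1
  simp only [map_add, map_smul, show B f w = 0 from hw.2, show B f w' = 0 from hw'.2,
    K.herm.eq_one_comm hef, smul_eq_mul, mul_one, add_zero, add_right_inj] at h2
  subst h2
  exact ⟨by simpa using h1, rfl⟩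

theorem exists_eich_of_rad {e f : V} (hee : B e e = 0) (hff : B f f = 0) (hef : B e f = 1) {g : UG K}
    (hg : g ∈ utRad K e) : ∃ w c, w ∈ perp2 B e f ∧ EichOK B e w c ∧ g = eichU K e w c := by
  obtain ⟨hge, hg'⟩ := hg
  have hfe := K.herm.eq_one_comm hef
  have hef' : B e (g.1.1 f) = 1 := by
    conv_lhs => rw [← hge]
    rw [g.1.2, hef]
  have hff' : B (g.1.1 f) (g.1.1 f) = 0 := by rw [g.1.2]; exact hff
  obtain ⟨c, hc⟩ : ∃ c, c = B f (g.1.1 f) := ⟨_, rfl⟩
  obtain ⟨w, hw⟩ : ∃ w, w = g.1.1 f - c • e - f := ⟨_, rfl⟩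
  have hwW : w ∈ perp2 B e f := by
    constructor
    · show B e w = 0
      simp [hw, hef', hee, hef]
    · show B f w = 0
      simp [hw, ← hc, hfe, hff]
  have hok : EichOK B e w c := by
    refine ⟨hee, hwW.1, ?_⟩
    have h1 : g.1.1 f = f + w + c • e := by rw [hw]; abel
    rw [h1] at hff'
    simp only [map_add, map_smulₛₗ, LinearMap.add_apply, LinearMap.smul_apply, smul_eq_mul,
      RingHom.id_apply, hee, hff, hef, hfe, show B e w = 0 from hwW.1, show B f w = 0 from hwW.2,
      K.herm.eq_zero_comm hwW.1, K.herm.eq_zero_comm hwW.2] at hff'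
    linear_combination hff'
  have hEf : (eichU K e w c).1.1 f = g.1.1 f := by
    rw [eichU_apply K hok, hef, K.herm.eq_zero_comm hwW.2, hw]; module
  refine ⟨w, c, hwW, hok, ug_ext K fun v => ?_⟩
  obtain ⟨u, hu⟩ : ∃ u, u = v - B f v • e - B e v • f := ⟨_, rfl⟩
  have huW : u ∈ perp2 B e f := hu ▸ perp2_proj K hee hff hef v
  obtain ⟨a, ha⟩ := hg' u huW.1
  have hau : B (g.1.1 f) (g.1.1 u) = 0 := by rw [g.1.2]; exact huW.2
  have hEu : g.1.1 u = (eichU K e w c).1.1 u := by
    rw [eichU_apply K hok, show B e u = 0 from huW.1, ha]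
    have h1 : g.1.1 f = f + w + c • e := by rw [hw]; abel
    rw [h1, ha] at hau
    simp only [map_add, map_smulₛₗ, LinearMap.add_apply, LinearMap.smul_apply, smul_eq_mul,
      RingHom.id_apply, hee, hfe, show B e u = 0 from huW.1, show B f u = 0 from huW.2, show B e w = 0 from hwW.1,
      K.herm.eq_zero_comm hwW.1] at hau
    rw [zero_smul, add_zero, show a = c * 0 - B w u by linear_combination hau]
  have hv : v = u + B f v • e + B e v • f := by rw [hu]; abel
  rw [hv, map_add, map_add, map_add, map_add, map_smul, map_smul, map_smul, map_smul, hEu, hge, hEf,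
    eichU_fix K hok]

/-- The action on the radical modulo its centre. -/
theorem exists_theta_psu [Finite F] {β : MulAut (UQ K)} {e f : V} (h : UFix K β e f) :
    ∃ θ : V → V, (∀ w ∈ perp2 B e f, θ w ∈ perp2 B e f ∧ ∀ c, EichOK B e w c →
        ∃ c', EichOK B e (θ w) c' ∧ β (toUQ K (eichU K e w c)) = toUQ K (eichU K e (θ w) c')) ∧
      (∀ u ∈ perp2 B e f, ∀ w ∈ perp2 B e f, θ (u + w) = θ u + θ w) ∧
      Set.BijOn θ (perp2 B e f : Set V) (perp2 B e f : Set V) := by
  classical
  have he0 : e ≠ 0 := h.he.1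
  have key : ∀ w ∈ perp2 B e f, ∃ w', w' ∈ perp2 B e f ∧ ∀ c, EichOK B e w c →
      ∃ c', EichOK B e w' c' ∧ β (toUQ K (eichU K e w c)) = toUQ K (eichU K e w' c') := by
    intro w hw
    obtain ⟨c₀, hc₀⟩ := exists_ok K.herm h.hee hw.1
    obtain ⟨g', hg', hg⟩ := exists_rad_image K h.he (eichU_mem_utRad K hc₀)
    obtain ⟨w', c₀', hw', hok', rfl⟩ := exists_eich_of_rad K h.hee h.hff h.hef hg'
    refine ⟨w', hw', fun c hc => ?_⟩
    obtain ⟨d, hd, hde⟩ := h.he.2.2.2.2 _ (eichOK_sub K hc₀ hc)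
    refine ⟨c₀' + d, ⟨h.hee, hw'.1, ?_⟩, ?_⟩
    · rw [map_add]; linear_combination hok'.2.2 + hd
    rw [← eich_mul_transv K hok' hd, show c = c₀ + (c - c₀) by ring,
      ← eich_mul_transv K hc₀ (eichOK_sub K hc₀ hc), map_mul, map_mul, map_mul, hg, hde]
  choose T hTW hT using key
  let θ : V → V := fun w => if hw : w ∈ perp2 B e f then T w hw else 0
  have hθ : ∀ w (hw : w ∈ perp2 B e f), θ w = T w hw := fun w hw => dif_pos hw
  have hθ' : ∀ w ∈ perp2 B e f, θ w ∈ perp2 B e f ∧ ∀ c, EichOK B e w c →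
      ∃ c', EichOK B e (θ w) c' ∧ β (toUQ K (eichU K e w c)) = toUQ K (eichU K e (θ w) c') :=
    fun w hw => by rw [hθ w hw]; exact ⟨hTW w hw, hT w hw⟩
  have hadd : ∀ u ∈ perp2 B e f, ∀ w ∈ perp2 B e f, θ (u + w) = θ u + θ w := by
    intro u hu w hw
    obtain ⟨c, hc⟩ := exists_ok K.herm h.hee hu.1
    obtain ⟨d, hd⟩ := exists_ok K.herm h.hee hw.1
    obtain ⟨c', hc', hce⟩ := (hθ' u hu).2 c hc
    obtain ⟨d', hd', hde⟩ := (hθ' w hw).2 d hd
    obtain ⟨s, hs, hse⟩ := (hθ' (u + w) (add_mem hu hw)).2 _ (hc.add K.herm hd)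
    refine (eich_inj K h.hef he0 (hθ' _ (add_mem hu hw)).1 (add_mem (hθ' u hu).1 (hθ' w hw).1) hs
      (hc'.add K.herm hd') ?_).1
    rw [← hse, ← eichU_mul K hc hd, ← eichU_mul K hc' hd', map_mul, map_mul, map_mul, hce, hde]
  refine ⟨θ, hθ', hadd, fun w hw => (hθ' w hw).1, ?_, ?_⟩
  all_goals
    haveI : Finite V := Module.finite_of_finite F
    have hzero : ∀ w ∈ perp2 B e f, θ w = 0 → w = 0 := by
      intro w hw hw0
      obtain ⟨c, hc⟩ := exists_ok K.herm h.hee hw.1
      obtain ⟨c', hc', hce⟩ := (hθ' w hw).2 c hc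
      rw [hw0] at hc' hce
      have hct : c' + σ c' = 0 := by simpa using hc'.2.2
      obtain ⟨d, hd, hde⟩ := (Sends.symm K h.he).2.2.2.2 c' hct
      rw [← hce] at hde
      have : toUQ K (eichU K e w c) = toUQ K (eichU K e 0 d) := by
        rw [← hde, MulAut.inv_apply_self]
      exact (eich_inj K h.hef he0 hw (zero_mem _) hc (transv_ok K.herm h.hee hd) this).1
    have hinj : Set.InjOn θ (perp2 B e f : Set V) := by
      intro u hu w hw huw
      have h0 := hzero (u - w) (sub_mem hu hw) (by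
        have h1 := hadd (u - w) (sub_mem hu hw) w hw
        rw [sub_add_cancel, huw] at h1
        exact add_eq_right.1 h1.symm)
      exact sub_eq_zero.1 h0
  · exact hinj
  · exact ((Set.toFinite _).surjOn_iff_bijOn_of_mapsTo (fun w hw => (hθ' w hw).1)).2
      (((Set.toFinite _).injOn_iff_bijOn_of_mapsTo (fun w hw => (hθ' w hw).1)).1 hinj)

/-- The effect of elements permuting the two points. -/
theorem theta_conj [Finite F] {β : MulAut (UQ K)} {e f : V} (h : UFix K β e f) {θ : V → V}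
    (hθ : ∀ w ∈ perp2 B e f, θ w ∈ perp2 B e f ∧ ∀ c, EichOK B e w c →
        ∃ c', EichOK B e (θ w) c' ∧ β (toUQ K (eichU K e w c)) = toUQ K (eichU K e (θ w) c'))
    (g : UG K) {l : F} (hl : l ≠ 0) (hge : g.1.1 e = l • e) (hgf : g.1.1 f = (σ l)⁻¹ • f) :
    ∃ (g' : UG K) (l' : F), l' ≠ 0 ∧ g'.1.1 e = l' • e ∧ g'.1.1 f = (σ l')⁻¹ • f ∧
      (∀ w ∈ perp2 B e f, σ l • g.1.1 w ∈ perp2 B e f ∧ σ l' • g'.1.1 (θ w) ∈ perp2 B e f ∧
        θ (σ l • g.1.1 w) = σ l' • g'.1.1 (θ w) ∧
        ∀ c c', EichOK B e w c → EichOK B e (θ w) c' →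
          β (toUQ K (eichU K e w c)) = toUQ K (eichU K e (θ w) c') →
          β (toUQ K (eichU K e (σ l • g.1.1 w) (σ l * l * c))) =
            toUQ K (eichU K e (σ l' • g'.1.1 (θ w)) (σ l' * l' * c'))) ∧
      ∀ c d, c + σ c = 0 → d + σ d = 0 → β (trQ K e c) = trQ K e d →
        β (trQ K e (σ l * l * c)) = trQ K e (σ l' * l' * d) := by
  have hs0 : σ l ≠ 0 := fun h' => hl (σ.injective (h'.trans (map_zero σ).symm))
  obtain ⟨g', hg'⟩ := toUQ_surjective K (β (toUQ K g))
  obtain ⟨a, ha, he'⟩ := Sends.line K (Sends.equivariant K h.he hg'.symm)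
    (by rw [hge]; exact Sends.smul_left K h.he hl)
  obtain ⟨b, hb, hf'⟩ := Sends.line K (Sends.equivariant K h.hf hg'.symm)
    (by rw [hgf]; exact Sends.smul_left K h.hf (inv_ne_zero hs0))
  have hsa : σ a ≠ 0 := fun h' => ha (σ.injective (h'.trans (map_zero σ).symm))
  have hab : b = (σ a)⁻¹ := by
    have h1 := g'.1.2 e f
    rw [he', hf', h.hef] at h1
    simp only [map_smulₛₗ, LinearMap.smul_apply, smul_eq_mul, RingHom.id_apply, h.hef, mul_one] at h1
    exact eq_inv_of_mul_eq_one_left (by linear_combination h1)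
  have hW : ∀ (k : UG K) (t : F), k.1.1 e = t • e → k.1.1 f = (σ t)⁻¹ • f → t ≠ 0 →
      ∀ w ∈ perp2 B e f, σ t • k.1.1 w ∈ perp2 B e f := by
    intro k t hk1 hk2 ht w hw
    have hst : σ t ≠ 0 := fun h' => ht (σ.injective (h'.trans (map_zero σ).symm))
    have h1 := k.1.2 e w
    have h2 := k.1.2 f w
    rw [hk1] at h1
    rw [hk2] at h2
    simp only [map_smulₛₗ, LinearMap.smul_apply, smul_eq_mul, show B e w = 0 from hw.1,
      show B f w = 0 from hw.2, map_inv₀, K.herm.invol, mul_eq_zero, inv_eq_zero, hst, ht, false_or] at h1 h2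
    exact Submodule.smul_mem _ _ ⟨h1, h2⟩
  have hconj : ∀ (k : UG K) (t : F), k.1.1 e = t • e → t ≠ 0 → ∀ w c,
      toUQ K k * toUQ K (eichU K e w c) * (toUQ K k)⁻¹ =
        toUQ K (eichU K e (σ t • k.1.1 w) (σ t * t * c)) := by
    intro k t hk ht w c
    rw [← map_inv, ← map_mul, ← map_mul, eichU_conj, hk]
    exact congrArg _ (Subtype.ext (eich_smul K.herm ht h.hee))
  have hok : ∀ (k : UG K) (t : F), k.1.1 e = t • e → k.1.1 f = (σ t)⁻¹ • f → t ≠ 0 →
      ∀ w c, w ∈ perp2 B e f → EichOK B e w c → EichOK B e (σ t • k.1.1 w) (σ t * t * c) := by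
    intro k t hk1 hk2 ht w c hw hc
    refine ⟨h.hee, (hW k t hk1 hk2 ht w hw).1, ?_⟩
    simp only [map_mul, map_smulₛₗ, LinearMap.smul_apply, smul_eq_mul, RingHom.id_apply, K.herm.invol,
      show ∀ x y, B (k.1.1 x) (k.1.1 y) = B x y from k.1.2]
    linear_combination (σ t * t) * hc.2.2
  refine ⟨g', a, ha, he', by rw [hf', hab], fun w hw => ?_, fun c d hc hd hcd => ?_⟩
  · have hWl := hW g l hge hgf hl w hw
    have hWl' := hW g' a he' (by rw [hf', hab]) ha _ (hθ w hw).1
    have htrans : ∀ c c', EichOK B e w c → EichOK B e (θ w) c' →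
        β (toUQ K (eichU K e w c)) = toUQ K (eichU K e (θ w) c') →
        β (toUQ K (eichU K e (σ l • g.1.1 w) (σ l * l * c))) =
          toUQ K (eichU K e (σ a • g'.1.1 (θ w)) (σ a * a * c')) := by
      intro c c' _ _ hcc
      rw [← hconj g l hge hl, map_mul, map_mul, map_inv, hcc, ← hg', hconj g' a he' ha]
    refine ⟨hWl, hWl', ?_, htrans⟩
    obtain ⟨c, hc⟩ := exists_ok K.herm h.hee hw.1
    obtain ⟨c', hc', hcc⟩ := (hθ w hw).2 c hc
    obtain ⟨d, hd, hdd⟩ := (hθ _ hWl).2 _ (hok g l hge hgf hl w c hw hc)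
    exact (eich_inj K h.hef h.he.1 (hθ _ hWl).1 hWl' hd
      (hok g' a he' (by rw [hf', hab]) ha _ c' (hθ w hw).1 hc')
      (hdd.symm.trans (htrans c c' hc hc' hcc))).1
  · have h1 := hconj g l hge hl 0 c
    have h2 := hconj g' a he' ha 0 d
    rw [map_zero, smul_zero] at h1 h2
    rw [← h1, map_mul, map_mul, map_inv, hcd, ← hg', h2]

/-- The determinant of an element of the transvection group is one. -/
theorem det_ug (g : UG K) : LinearEquiv.det g.1.1 = 1 := by
  suffices ∀ t ∈ utGroup K.herm, LinearEquiv.det t.1 = 1 from this _ g.2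
  intro t ht
  unfold utGroup at ht
  induction ht using Subgroup.closure_induction with
  | mem t ht =>
    obtain ⟨⟨x, c⟩, rfl⟩ := ht
    by_cases hok : EichOK B x 0 c
    · have hfv : (c • B x) x = 0 := by simp [hok.1]
      rw [show (eich K.herm x 0 c).1 = LinearEquiv.transvection hfv from LinearEquiv.ext fun v => by
        rw [transv_apply K.herm hok.1 (by simpa using hok.2.2)]
        simp [LinearMap.transvection.apply, LinearEquiv.transvection.apply]]
      exact LinearEquiv.transvection.det_eq_one hfv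
    · show LinearEquiv.det (eich K.herm x 0 c).1 = 1
      rw [eich_of_not K.herm hok]
      exact map_one _
  | one => exact map_one _
  | mul a b _ _ iha ihb => rw [Subgroup.coe_mul, map_mul, iha, ihb, one_mul]
  | inv a _ iha => rw [Subgroup.coe_inv, map_inv, iha, inv_one]

/-- In dimension three the torus elements and their action. -/
theorem exists_torus_three (h3 : Module.finrank F V = 3) {e f : V} (hee : B e e = 0) (hff : B f f = 0)
    (hef : B e f = 1) {l : F} (hl : l ≠ 0) :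
    ∃ g : UG K, g.1.1 e = l • e ∧ g.1.1 f = (σ l)⁻¹ • f ∧
      ∀ w ∈ perp2 B e f, g.1.1 w = (σ l / l) • w := by
  have H := K.herm
  have hfe := H.eq_one_comm hef
  have hs0 : σ l ≠ 0 := fun h' => hl (σ.injective (h'.trans (map_zero σ).symm))
  have he0 : e ≠ 0 := fun h => by simp [h] at hef
  have hle : B (l • e) (l • e) = 0 := by simp [map_smulₛₗ, hee]
  obtain ⟨g₀, hg₀, hg₀e⟩ := ut_transitive H K.three K.small hee hle he0 (smul_ne_zero hl he0)
  obtain ⟨g₁, hg₁, hg₁e, hg₁f⟩ := ut_move H K.three K.small hle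
    (u := g₀.1 f) (v := (σ l)⁻¹ • f) (by rw [← hg₀e, g₀.2, hef])
    (by simp [map_smulₛₗ, hef, inv_mul_cancel₀ hs0, mul_inv_cancel₀ hs0])
    (by rw [g₀.2, hff]; simp [map_smulₛₗ, hff])
  let g : UG K := ⟨g₁ * g₀, mul_mem hg₁ hg₀⟩
  have hge : g.1.1 e = l • e := by
    show g₁.1 (g₀.1 e) = _
    rw [hg₀e, hg₁e]
  have hgf : g.1.1 f = (σ l)⁻¹ • f := hg₁f
  refine ⟨g, hge, hgf, fun w hw => ?_⟩
  by_cases hw0 : w = 0
  · simp [hw0]
  have hwe := H.eq_zero_comm hw.1
  have hwf := H.eq_zero_comm hw.2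
  have hli : LinearIndependent F ![e, f, w] := by
    rw [Fintype.linearIndependent_iff]
    intro c hc
    rw [Fin.sum_univ_three] at hc
    have h1 := congrArg (B e) hc
    have h2 := congrArg (B f) hc
    simp [hee, hff, hef, hfe, show B e w = 0 from hw.1, show B f w = 0 from hw.2] at h1 h2
    have h3 : c 2 = 0 := by
      simp [h1, h2] at hc
      exact hc.resolve_right hw0
    intro i
    fin_cases i <;> assumption
  let b := basisOfLinearIndependentOfCardEqFinrank hli (by simp [h3])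
  have hb : (⇑b : Fin 3 → V) = ![e, f, w] := coe_basisOfLinearIndependentOfCardEqFinrank hli _
  obtain ⟨a, ha⟩ : ∃ a : F, g.1.1 w = a • w := by
    have hwW : B e (g.1.1 w) = 0 ∧ B f (g.1.1 w) = 0 := by
      have h1 := g.1.2 e w
      have h2 := g.1.2 f w
      rw [hge] at h1
      rw [hgf] at h2
      simp only [map_smulₛₗ, LinearMap.smul_apply, smul_eq_mul, show B e w = 0 from hw.1,
        show B f w = 0 from hw.2, map_inv₀, H.invol, mul_eq_zero, inv_eq_zero, hs0, hl, false_or] at h1 h2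
      exact ⟨h1, h2⟩
    have h1 := b.sum_repr (g.1.1 w)
    rw [Fin.sum_univ_three, hb] at h1
    simp only [Matrix.cons_val_zero, Matrix.cons_val_one, Matrix.cons_val] at h1
    have h2 := congrArg (B e) h1
    have h4 := congrArg (B f) h1
    simp [hee, hff, hef, hfe, show B e w = 0 from hw.1, show B f w = 0 from hw.2, hwW.1, hwW.2] at h2 h4
    rw [h2, h4, zero_smul, zero_smul, zero_add, zero_add] at h1
    exact ⟨_, h1.symm⟩
  have hdet : LinearMap.det (g.1.1 : V →ₗ[F] V) = 1 := by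
    rw [← LinearEquiv.coe_det, det_ug, Units.val_one]
  rw [← LinearMap.det_toMatrix b] at hdet
  have hdiag : LinearMap.toMatrix b b (g.1.1 : V →ₗ[F] V) = Matrix.diagonal ![l, (σ l)⁻¹, a] := by
    refine Matrix.ext fun i j => ?_
    rw [LinearMap.toMatrix_apply, LinearEquiv.coe_coe]
    have hbj : g.1.1 (b j) = ![l, (σ l)⁻¹, a] j • b j := by
      fin_cases j <;> simp [hb, hge, hgf, ha]
    rw [hbj, map_smul, b.repr_self, Finsupp.smul_apply, smul_eq_mul, Finsupp.single_apply,
      Matrix.diagonal_apply]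
    by_cases hij : j = i
    · subst hij; simp
    · simp [hij, Ne.symm hij]
  rw [hdiag, Matrix.det_diagonal, Fin.prod_univ_three] at hdet
  simp at hdet
  rw [ha]
  congr 1
  field_simp at hdet ⊢
  linear_combination hdet

/-- The standard torus element on two orthogonal hyperbolic pairs. -/
theorem exists_torus_four {e f u v : V} (hee : B e e = 0) (hff : B f f = 0) (hef : B e f = 1)
    (hu : u ∈ perp2 B e f) (hv : v ∈ perp2 B e f) (huu : B u u = 0) (hvv : B v v = 0) (huv : B u v = 1)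
    {l : F} (hl : l ≠ 0) :
    ∃ g : UG K, g.1.1 e = l • e ∧ g.1.1 f = (σ l)⁻¹ • f ∧ g.1.1 v = σ l • v := by
  have H := K.herm
  have heu : B e u = 0 := hu.1
  have hfu : B f u = 0 := hu.2
  have hev : B e v = 0 := hv.1
  have hfv : B f v = 0 := hv.2
  have hue := H.eq_zero_comm heu
  have huf := H.eq_zero_comm hfu
  have hve := H.eq_zero_comm hev
  have hvf := H.eq_zero_comm hfv
  have hfe := H.eq_one_comm hef
  have hvu := H.eq_one_comm huv
  have hU : ∀ t : F, EichOK B e (-(σ t) • v) 0 := fun t => ⟨hee, by simp [hev], by simp [map_smulₛₗ, hvv]⟩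
  have hL : ∀ t : F, EichOK B u (-(σ t) • f) 0 := fun t => ⟨huu, by simp [huf], by simp [map_smulₛₗ, hff]⟩
  let W : F → UG K := fun t =>
    eichU K e (-(σ t) • v) 0 * eichU K u (-(σ (-t⁻¹)) • f) 0 * eichU K e (-(σ t) • v) 0
  have hW : ∀ t : F, t ≠ 0 → (W t).1.1 e = (-t⁻¹) • u ∧ (W t).1.1 u = t • e ∧
      (W t).1.1 f = -(σ t) • v ∧ (W t).1.1 v = (σ t)⁻¹ • f := by
    intro t ht
    have hst : σ t ≠ 0 := fun h' => ht (σ.injective (h'.trans (map_zero σ).symm))
    refine ⟨?_, ?_, ?_, ?_⟩ <;>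
    · simp only [W, ut_mul_apply, eichU_apply K (hU t), eichU_apply K (hL (-t⁻¹))]
      simp only [map_add, map_smul,
        map_smulₛₗ, LinearMap.smul_apply, smul_eq_mul, RingHom.id_apply, map_neg, map_inv₀, H.invol,
        hee, hff, hef, hfe, huu, hvv, huv, hvu, heu, hfu, hev, hfv, hue, huf, hve, hvf]
      match_scalars <;> field_simp <;> ring
  obtain ⟨a1, a2, a3, a4⟩ := hW l hl
  obtain ⟨b1, b2, b3, b4⟩ := hW (-1) (by simp)
  refine ⟨W l * W (-1), ?_, ?_, ?_⟩
  · rw [ut_mul_apply, b1, map_smul, a2, smul_smul]; simp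
  · rw [ut_mul_apply, b3, map_smul, a4, smul_smul]; simp
  · rw [ut_mul_apply, b4, map_smul, a3, smul_smul]; simp

/-- An additive map commuting with the actions of the torus and of the unitary group of `⟨e, f⟩^⊥` is a
scalar. -/
theorem commutant_scalar [Finite F] {e f : V} (hee : B e e = 0) (hff : B f f = 0) (hef : B e f = 1)
    (gen3 : Module.finrank F V = 3 → ∀ S : Subring F, (∀ l : F, l ≠ 0 → σ l * (σ l / l) ∈ S) → S = ⊤)
    (φ : V → V) (hmem : ∀ w ∈ perp2 B e f, φ w ∈ perp2 B e f)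
    (hadd : ∀ u ∈ perp2 B e f, ∀ w ∈ perp2 B e f, φ (u + w) = φ u + φ w)
    (hcomm : ∀ (g : UG K) (l : F), l ≠ 0 → g.1.1 e = l • e → g.1.1 f = (σ l)⁻¹ • f →
      ∀ w ∈ perp2 B e f, φ (σ l • g.1.1 w) = σ l • g.1.1 (φ w)) :
    ∃ a : F, ∀ w ∈ perp2 B e f, φ w = a • w := by
  have H := K.herm
  set W := perp2 B e f
  have h0 : φ 0 = 0 := by
    have h1 := hadd 0 (zero_mem W) 0 (zero_mem W)
    rw [add_zero] at h1
    exact add_eq_right.1 h1.symm
  have hsub : ∀ u ∈ W, ∀ w ∈ W, φ (u - w) = φ u - φ w := fun u hu w hw => by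
    rw [eq_sub_iff_add_eq, ← hadd _ (sub_mem hu hw) w hw, sub_add_cancel]
  -- the scalars commuting with `φ` on a subspace form a ring
  have hring : ∀ (L : Submodule F V), L ≤ W → ∃ S : Subring F,
      ∀ b, b ∈ S ↔ ∀ x ∈ L, φ (b • x) = b • φ x := by
    intro L hL
    refine ⟨
      { carrier := {b | ∀ x ∈ L, φ (b • x) = b • φ x}
        mul_mem' := fun {a b} ha hb x hx => by
          rw [mul_smul, ha _ (L.smul_mem b hx), hb x hx, smul_smul]
        one_mem' := fun x _ => by rw [one_smul, one_smul]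
        add_mem' := fun {a b} ha hb x hx => by
          rw [add_smul, hadd _ (hL (L.smul_mem a hx)) _ (hL (L.smul_mem b hx)), ha x hx, hb x hx, add_smul]
        zero_mem' := fun x _ => by rw [zero_smul, zero_smul, h0]
        neg_mem' := fun {a} ha x hx => by
          rw [neg_smul, ← zero_sub, hsub _ (zero_mem W) _ (hL (L.smul_mem a hx)), h0, ha x hx, zero_sub,
            neg_smul] }, fun b => Iff.rfl⟩
  rcases K.three.lt_or_eq with h4 | h3
  swap
  · obtain ⟨S, hS⟩ := hring W le_rfl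
    have htop : S = ⊤ := gen3 h3.symm S fun l hl => (hS _).2 fun w hw => by
      obtain ⟨g, h1, h2, hg⟩ := exists_torus_three K h3.symm hee hff hef hl
      have h := hcomm g l hl h1 h2 w hw
      rwa [hg w hw, hg _ (hmem w hw), smul_smul, smul_smul] at h
    have hlin : ∀ (b : F), ∀ x ∈ W, φ (b • x) = b • φ x := fun b => (hS b).1 (htop ▸ Subring.mem_top b)
    obtain ⟨m, hm0, hme, hmf⟩ := exists_perp_two K e f
    have hmW : m ∈ W := ⟨hme, hmf⟩
    have hspan : ∀ w ∈ W, ∃ a : F, w = a • m := by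
      intro w hw
      by_contra hne
      simp only [not_exists] at hne
      have hli : LinearIndependent F ![m, w] :=
        (LinearIndependent.pair_iff' hm0).2 fun a ha => hne a ha.symm
      have hli2 : LinearIndependent F ![e, f] := (LinearIndependent.pair_iff'
        (fun h => by simp [h] at hef)).2 fun a ha => by
          have := congrArg (B e) ha
          simp [hee, hef] at this
      have hd : Disjoint (Submodule.span F (Set.range ![e, f])) W := by
        rw [Submodule.disjoint_def]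
        intro v hv hvW
        obtain ⟨c, rfl⟩ := Submodule.mem_span_range_iff_exists_fun F |>.1 hv
        rw [Fin.sum_univ_two] at hvW ⊢
        have h1 := hvW.1
        have h2 := hvW.2
        simp [hee, hff, hef, H.eq_one_comm hef] at h1 h2
        simp [h1, h2]
      have hd' := Submodule.finrank_add_finrank_le_of_disjoint hd
      rw [finrank_span_eq_card hli2, Fintype.card_fin, ← h3] at hd'
      have hle : Submodule.span F (Set.range ![m, w]) ≤ W := by
        rw [Submodule.span_le]; rintro _ ⟨i, rfl⟩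
        fin_cases i
        exacts [hmW, hw]
      have := Submodule.finrank_mono hle
      rw [finrank_span_eq_card hli, Fintype.card_fin] at this
      omega
    obtain ⟨a, ha⟩ := hspan _ (hmem m hmW)
    refine ⟨a, fun w hw => ?_⟩
    obtain ⟨b, rfl⟩ := hspan w hw
    rw [hlin b m hmW, ha, smul_comm]
  obtain ⟨τ, hτ0, hτ⟩ := H.exists_trace_zero
  obtain ⟨m, hm0, hme, hmf⟩ := exists_perp_two K e f
  obtain ⟨x, hxe, hxf, hxx, hxm⟩ := exists_isotropic_nonorth K hee hff hef h4 hme hmf hm0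
  have hx0 : x ≠ 0 := fun h => hxm (by rw [h, map_zero]; rfl)
  have hxW : x ∈ W := ⟨hxe, hxf⟩
  have hfixef : ∀ v ∈ W, B v v = 0 → (eichU K v 0 τ).1.1 e = (1 : F) • e ∧
      (eichU K v 0 τ).1.1 f = (σ 1)⁻¹ • f := fun v hv hvv => by
    constructor <;>
      simp [eichU_transv_apply K hvv hτ, H.eq_zero_comm hv.1, H.eq_zero_comm hv.2]
  have htv : ∀ v ∈ W, B v v = 0 → ∀ z ∈ W, φ (z + (τ * B v z) • v) = φ z + (τ * B v (φ z)) • v := by
    intro v hv hvv z hz
    have h := hcomm (eichU K v 0 τ) 1 one_ne_zero (hfixef v hv hvv).1 (hfixef v hv hvv).2 z hz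
    simpa [eichU_transv_apply K hvv hτ] using h
  -- isotropic lines are preserved
  have hline : ∀ v ∈ W, B v v = 0 → v ≠ 0 → ∀ a : F, ∃ b : F, φ (a • v) = b • v := by
    intro v hv hvv hv0 a
    obtain ⟨z, hz, hvz⟩ := exists_perp2_partner K hee hff hef hv hv0
    have h := htv v hv hvv ((a / τ) • z) (W.smul_mem _ hz)
    rw [map_smul, hvz, smul_eq_mul, mul_one, mul_div_cancel₀ _ hτ0,
      hadd _ (W.smul_mem _ hz) _ (W.smul_mem _ hv), add_right_inj] at h
    exact ⟨_, h⟩
  have hiso : ∀ u v, u ∈ W → v ∈ W → B u u = 0 → B v v = 0 → B u v = 1 →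
      ∀ a : F, φ (a • v) = a • φ v := by
    intro u v hu hv huu hvv huv a
    have hv0 : v ≠ 0 := fun h => by simp [h] at huv
    obtain ⟨S, hS⟩ := hring (Submodule.span F {v})
      ((Submodule.span_singleton_le_iff_mem v W).2 hv)
    have hsq : ∀ s : F, s * s ∈ S := fun s => by
      by_cases hs : s = 0
      · simp [hs]
      refine (hS _).2 fun y hy => ?_
      obtain ⟨t, rfl⟩ := Submodule.mem_span_singleton.1 hy
      have hl : σ s ≠ 0 := fun h' => hs (σ.injective (h'.trans (map_zero σ).symm))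
      obtain ⟨g, g1, g2, g3⟩ := exists_torus_four K hee hff hef hu hv huu hvv huv (l := σ s) hl
      have h := hcomm g _ hl g1 g2 _ (W.smul_mem t hv)
      obtain ⟨b, hb⟩ := hline v hv hvv hv0 t
      rw [hb, map_smul, map_smul, g3, H.invol, smul_smul, smul_smul, smul_smul, smul_smul] at h
      rw [hb, smul_smul, smul_smul]
      convert h using 2 <;> ring
    have hall : ∀ b : F, b ∈ S := by
      intro b
      by_cases h2 : (2 : F) = 0
      · haveI : CharP F 2 := CharP.charP_iff_prime_eq_zero Nat.prime_two |>.2 (by exact_mod_cast h2)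
        obtain ⟨r, rfl⟩ := FiniteField.isSquare_of_char_two (ringChar.eq_iff.2 (inferInstance : CharP F 2)) b
        exact hsq r
      · have : b = (b + 1) / 2 * ((b + 1) / 2) - (b - 1) / 2 * ((b - 1) / 2) := by field_simp; ring
        rw [this]; exact sub_mem (hsq _) (hsq _)
    exact (hS a).1 (hall a) v (Submodule.mem_span_singleton_self v)
  -- the scalar of `x`
  obtain ⟨z, hz, hxz⟩ := exists_perp2_partner K hee hff hef hxW hx0
  obtain ⟨u, hu, huu, hxu⟩ : ∃ u ∈ W, B u u = 0 ∧ B x u = 1 := by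
    obtain ⟨t, ht⟩ := H.exists_trace (a := -B z z) (by rw [map_neg, H.self_fixed])
    refine ⟨z + t • x, add_mem hz (W.smul_mem _ hxW), ?_, by simp [hxz, hxx]⟩
    simp only [map_add, map_smulₛₗ, LinearMap.add_apply, LinearMap.smul_apply, smul_eq_mul,
      RingHom.id_apply, hxx, hxz, H.eq_one_comm hxz]
    linear_combination ht
  obtain ⟨k, hk⟩ := hline x hxW hxx hx0 1
  rw [one_smul] at hk
  have hxlin : ∀ a : F, φ (a • x) = a • (k • x) := fun a => by
    rw [hiso u x hu hxW huu hxx (H.eq_one_comm hxu) a, hk]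
  have hpair : ∀ y ∈ W, B y y = 0 → B x y = 1 → φ y = k • y ∧ ∀ a : F, φ (a • y) = a • (k • y) := by
    intro y hy hyy hxy
    have hy0 : y ≠ 0 := fun h => by simp [h] at hxy
    obtain ⟨k', hk'⟩ := hline y hy hyy hy0 1
    rw [one_smul] at hk'
    have h := htv x hxW hxx y hy
    rw [hxy, mul_one, hadd _ hy _ (W.smul_mem _ hxW), hxlin, hk', map_smul, hxy, smul_eq_mul, mul_one,
      add_right_inj, smul_smul] at h
    have hkk : k' = k := (mul_left_cancel₀ hτ0 (smul_left_injective F hx0 h)).symm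
    subst hkk
    exact ⟨hk', fun a => by rw [hiso x y hxW hy hxx hyy hxy a, hk']⟩
  have hnon : ∀ w ∈ W, B x w ≠ 0 → φ w = k • w := by
    intro w hw hne
    obtain ⟨c, hc⟩ : ∃ c, c = B x w := ⟨_, rfl⟩
    obtain ⟨y, hy⟩ : ∃ y, y = c⁻¹ • w := ⟨_, rfl⟩
    have hc0 : c ≠ 0 := hc ▸ hne
    have hxy : B x y = 1 := by rw [hy, map_smul, ← hc, smul_eq_mul, inv_mul_cancel₀ hc0]
    have hyW : y ∈ W := hy ▸ W.smul_mem _ hw
    obtain ⟨t, ht⟩ := H.exists_trace (a := -B y y) (by rw [map_neg, H.self_fixed])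
    have h1 : B (y + t • x) (y + t • x) = 0 := by
      simp only [map_add, map_smulₛₗ, LinearMap.add_apply, LinearMap.smul_apply, smul_eq_mul,
        RingHom.id_apply, hxx, hxy, H.eq_one_comm hxy]
      linear_combination ht
    have h2 := (hpair _ (add_mem hyW (W.smul_mem _ hxW)) h1 (by simp [hxy, hxx])).2 c
    rw [smul_add, hadd _ (W.smul_mem _ hyW) _ (W.smul_mem _ (W.smul_mem _ hxW)), smul_smul c t, hxlin,
      hy, smul_inv_smul₀ hc0] at h2
    rw [smul_comm c k, smul_add, smul_inv_smul₀ hc0] at h2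
    linear_combination (norm := module) h2
  refine ⟨k, fun w hw => ?_⟩
  by_cases hne : B x w = 0
  · have h1 := hnon (w + u) (add_mem hw hu) (by rw [map_add, hne, hxu, zero_add]; exact one_ne_zero)
    rw [hadd w hw u hu, (hpair u hu huu hxu).1, smul_add] at h1
    exact add_right_cancel h1
  · exact hnon w hw hne

/-- The map on the radical is semilinear. -/
theorem theta_semilinear [Finite F] {β : MulAut (UQ K)} {e f : V} (h : UFix K β e f)
    (gen3 : Module.finrank F V = 3 → ∀ S : Subring F, (∀ l : F, l ≠ 0 → σ l * (σ l / l) ∈ S) → S = ⊤)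
    {θ : V → V} (hθ : ∀ w ∈ perp2 B e f, θ w ∈ perp2 B e f ∧ ∀ c, EichOK B e w c →
        ∃ c', EichOK B e (θ w) c' ∧ β (toUQ K (eichU K e w c)) = toUQ K (eichU K e (θ w) c'))
    (hadd : ∀ u ∈ perp2 B e f, ∀ w ∈ perp2 B e f, θ (u + w) = θ u + θ w)
    (hbij : Set.BijOn θ (perp2 B e f : Set V) (perp2 B e f : Set V)) :
    ∃ ρ : F ≃+* F, ∀ (a : F), ∀ w ∈ perp2 B e f, θ (a • w) = ρ a • θ w := by
  classical
  have key : ∀ a : F, ∃ s : F, ∀ w ∈ perp2 B e f, θ (s • w) = a • θ w := by
    intro a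
    let φ : V → V := fun w => Function.invFunOn θ (perp2 B e f : Set V) (a • θ w)
    have hspec : ∀ w ∈ perp2 B e f, φ w ∈ perp2 B e f ∧ θ (φ w) = a • θ w := fun w hw => by
      have hin : ∃ z ∈ (perp2 B e f : Set V), θ z = a • θ w :=
        hbij.surjOn (Submodule.smul_mem _ a (hθ w hw).1)
      exact ⟨Function.invFunOn_mem hin, Function.invFunOn_eq hin⟩
    obtain ⟨s, hs⟩ := commutant_scalar K h.hee h.hff h.hef gen3 φ (fun w hw => (hspec w hw).1)
      (fun u hu w hw => hbij.injOn (hspec _ (add_mem hu hw)).1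
        (add_mem (hspec u hu).1 (hspec w hw).1) (by
          rw [(hspec _ (add_mem hu hw)).2, hadd _ (hspec u hu).1 _ (hspec w hw).1, (hspec u hu).2,
            (hspec w hw).2, hadd u hu w hw, smul_add]))
      (fun g l hl hge hgf w hw => by
        obtain ⟨g', l', -, -, -, hg', -⟩ := theta_conj K h hθ g hl hge hgf
        obtain ⟨m1, -, e1, -⟩ := hg' w hw
        obtain ⟨m2, -, e2, -⟩ := hg' _ (hspec w hw).1
        refine hbij.injOn (hspec _ m1).1 m2 ?_
        rw [(hspec _ m1).2, e2, (hspec w hw).2, e1, map_smul]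
        rw [smul_comm])
    exact ⟨s, fun w hw => by rw [← hs w hw, (hspec w hw).2]⟩
  choose s hs using key
  obtain ⟨m, hm0, hme, hmf⟩ := exists_perp_two K e f
  have hmW : m ∈ perp2 B e f := ⟨hme, hmf⟩
  have hθ0 : θ 0 = 0 := by
    have h1 := hadd 0 (zero_mem _) 0 (zero_mem _)
    rw [add_zero] at h1
    exact add_eq_right.1 h1.symm
  have hθm : θ m ≠ 0 := fun h0 => hm0 (hbij.injOn hmW (zero_mem _) (h0.trans hθ0.symm))
  have huniq : ∀ a b : F, θ (a • m) = b • θ m → a = s b := fun a b hab =>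
    smul_left_injective F hm0 (hbij.injOn (Submodule.smul_mem _ a hmW) (Submodule.smul_mem _ _ hmW)
      (by rw [hab, hs b m hmW]))
  have hinj : Function.Injective s := fun a b hab =>
    smul_left_injective F hθm (by
      show a • θ m = b • θ m
      rw [← hs a m hmW, hab, hs b m hmW])
  let ψ : F →+* F :=
    { toFun := s
      map_one' := (huniq 1 1 (by rw [one_smul, one_smul])).symm
      map_zero' := (huniq 0 0 (by rw [zero_smul, zero_smul, hθ0])).symm
      map_mul' := fun a b => (huniq _ _ (by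
        rw [mul_smul, hs a _ (Submodule.smul_mem _ _ hmW), hs b m hmW, smul_smul])).symm
      map_add' := fun a b => (huniq _ _ (by
        rw [add_smul, hadd _ (Submodule.smul_mem _ _ hmW) _ (Submodule.smul_mem _ _ hmW), hs a m hmW,
          hs b m hmW, add_smul])).symm }
  let Ψ := RingEquiv.ofBijective ψ ⟨hinj, Finite.injective_iff_surjective.1 hinj⟩
  refine ⟨Ψ.symm, fun a w hw => ?_⟩
  rw [← hs (Ψ.symm a) w hw]
  congr 2
  exact (Ψ.apply_symm_apply a).symm

end CfsgLib.KnownC
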