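import Mathlib
import Cfsg.Agent.Lib.KnownC.AutPSUTheta

set_option autoImplicit false
set_option linter.unusedSectionVars false
set_option linter.style.haveILetI false

/-!
The point map of an automorphism of the unitary group is a semisimilitude.
-/

namespace CfsgLib.KnownC

open CfsgLib.Geom CfsgLib.Classical

variable {F V : Type*} [Field F] [AddCommGroup V] [Module F V] [FiniteDimensional F V] {σ : F →+* F}
variable {B : V →ₛₗ[σ] V →ₗ[F] F} (K : UCtx B)

/-- The arithmetic facts on the field used by the classification of the automorphisms. -/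
structure UArith (F : Type*) [Field F] (σ : F →+* F) (dim : ℕ) : Prop where
  comm : ∀ (ρ : F ≃+* F) (a : F), ρ (σ a) = σ (ρ a)
  gen3 : dim = 3 → ∀ S : Subring F, (∀ l : F, l ≠ 0 → σ l * (σ l / l) ∈ S) → S = ⊤
  norm3 : dim = 3 → ∃ l : F, σ l * l = 1 ∧ σ l * (σ l / l) ≠ 1

include K

theorem trQ_inj {e : V} (hee : B e e = 0) (he : e ≠ 0) {c d : F} (hc : c + σ c = 0) (hd : d + σ d = 0)
    (h : trQ K e c = trQ K e d) : c = d := by
  obtain ⟨f, hef, hff⟩ := K.herm.exists_hyperbolic he hee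
  exact (eich_inj K hef he (zero_mem (perp2 B e f)) (zero_mem _) (transv_ok K.herm hee hc)
    (transv_ok K.herm hee hd) h).2

/-- An automorphism fixing every point is trivial. -/
theorem eq_one_of_sends_self [Finite F] (β : MulAut (UQ K))
    (h : ∀ x, x ≠ 0 → B x x = 0 → Sends K β x x) : β = 1 := by
  refine MulEquiv.ext fun s => ?_
  obtain ⟨g, rfl⟩ := toUQ_surjective K s
  obtain ⟨g', hg'⟩ := toUQ_surjective K (β (toUQ K g))
  rw [MulAut.one_apply, ← hg']
  have hpar : ∀ x, B x x = 0 → x ≠ 0 → ∃ a : F, ((g⁻¹ * g' : UG K) : formIsoms B).1 x = a • x := by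
    intro x hxx hx0
    have h1 := Sends.equivariant K (h x hx0 hxx) hg'.symm
    have h2 := h (g.1.1 x) h1.1 h1.2.2.1
    obtain ⟨a, -, ha⟩ := Sends.line K h1 h2
    refine ⟨a, ?_⟩
    show g.1.1.symm (g'.1.1 x) = a • x
    rw [ha, map_smul, LinearEquiv.symm_apply_apply]
  obtain ⟨a, ha⟩ := exists_scalar_of_fix_isotropic K.herm K.three _ hpar
  have := toUQ_eq_one_of_scalar K (k := g⁻¹ * g') ha
  rw [map_mul, map_inv, inv_mul_eq_one] at this
  exact this.symm

/-- The commutator relation carried by an automorphism fixing two points. -/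
theorem theta_commutator [Finite F] {β : MulAut (UQ K)} {e f : V} (h : UFix K β e f) {θ : V → V}
    (hθ : ∀ w ∈ perp2 B e f, θ w ∈ perp2 B e f ∧ ∀ c, EichOK B e w c →
        ∃ c', EichOK B e (θ w) c' ∧ β (toUQ K (eichU K e w c)) = toUQ K (eichU K e (θ w) c'))
    {u w : V} (hu : u ∈ perp2 B e f) (hw : w ∈ perp2 B e f) :
    β (trQ K e (B w u - B u w)) = trQ K e (B (θ w) (θ u) - B (θ u) (θ w)) := by
  obtain ⟨c, hc⟩ := exists_ok K.herm h.hee hu.1
  obtain ⟨d, hd⟩ := exists_ok K.herm h.hee hw.1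
  obtain ⟨c', hc', hce⟩ := (hθ u hu).2 c hc
  obtain ⟨d', hd', hde⟩ := (hθ w hw).2 d hd
  have key : ∀ {x y : V} {a b : F}, EichOK B e x a → EichOK B e y b →
      toUQ K (eichU K e x a) * toUQ K (eichU K e y b) =
        toUQ K (eichU K e y b) * toUQ K (eichU K e x a) * trQ K e (B y x - B x y) := by
    intro x y a b hx hy
    have hd : B y x - B x y + σ (B y x - B x y) = 0 := by rw [map_sub, K.herm.conj, K.herm.conj]; ring
    rw [← map_mul, ← map_mul, ← map_mul, eichU_mul K hx hy, eichU_mul K hy hx,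
      eich_mul_transv K (hy.add K.herm hx) hd]
    congr 2 <;> abel
  have h1 := congrArg β (key hc hd)
  rw [map_mul, map_mul, map_mul, hce, hde, key hc' hd'] at h1
  exact (mul_left_cancel h1).symm

/-- The map on the radical is a semisimilitude, with the multiplier acting on the centre. -/
theorem theta_similitude [Finite F] (A : UArith F σ (Module.finrank F V)) {β : MulAut (UQ K)} {e f : V}
    (h : UFix K β e f) {θ : V → V}
    (hθ : ∀ w ∈ perp2 B e f, θ w ∈ perp2 B e f ∧ ∀ c, EichOK B e w c →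
        ∃ c', EichOK B e (θ w) c' ∧ β (toUQ K (eichU K e w c)) = toUQ K (eichU K e (θ w) c'))
    (hadd : ∀ u ∈ perp2 B e f, ∀ w ∈ perp2 B e f, θ (u + w) = θ u + θ w)
    (hbij : Set.BijOn θ (perp2 B e f : Set V) (perp2 B e f : Set V))
    (ρ : F ≃+* F) (hρ : ∀ (a : F), ∀ w ∈ perp2 B e f, θ (a • w) = ρ a • θ w) :
    ∃ k : F, k ≠ 0 ∧ σ k = k ∧
      (∀ u ∈ perp2 B e f, ∀ w ∈ perp2 B e f, B (θ u) (θ w) = k * ρ (B u w)) ∧
      ∀ c, c + σ c = 0 → β (trQ K e c) = trQ K e (k * ρ c) := by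
  have H := K.herm
  set W := perp2 B e f
  obtain ⟨r, hr⟩ := H.exists_moved
  have hskew : ∀ x y : V, B y x - B x y + σ (B y x - B x y) = 0 := fun x y => by
    rw [map_sub, H.conj, H.conj]; ring
  have hreal : ∀ u ∈ W, ∀ w ∈ W, B w u = B u w → B (θ w) (θ u) = B (θ u) (θ w) := by
    intro u hu w hw huw
    have h1 := theta_commutator K h hθ hu hw
    rw [huw, sub_self, show eichU K e 0 0 = 1 from Subtype.ext (eich_zero K.herm e), map_one,
      map_one, ← trQ_zero K e] at h1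
    exact sub_eq_zero.1 (trQ_inj K h.hee h.he.1 (by simp) (hskew _ _) h1).symm
  have hperp : ∀ u ∈ W, ∀ w ∈ W, B u w = 0 → B (θ u) (θ w) = 0 := by
    intro u hu w hw huw
    have h1 := hreal u hu w hw (by rw [huw, H.eq_zero_comm huw])
    have h2 := hreal u hu (ρ.symm r • w) (W.smul_mem _ hw) (by
      simp [map_smulₛₗ, huw, H.eq_zero_comm huw])
    simp only [hρ _ w hw, RingEquiv.apply_symm_apply, map_smulₛₗ, LinearMap.smul_apply, smul_eq_mul,
      RingHom.id_apply] at h2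
    rw [h1] at h2
    exact (mul_eq_zero.1 (show (σ r - r) * B (θ u) (θ w) = 0 by linear_combination h2)).resolve_left
      (sub_ne_zero.2 hr)
  obtain ⟨u₀, hu₀0, hu₀e, hu₀f⟩ := exists_perp_two K e f
  have hu₀ : u₀ ∈ W := ⟨hu₀e, hu₀f⟩
  obtain ⟨z₀, hz₀, huz⟩ := exists_perp2_partner K h.hee h.hff h.hef hu₀ hu₀0
  obtain ⟨k, hk⟩ : ∃ k, k = B (θ u₀) (θ z₀) := ⟨_, rfl⟩
  have hsk : σ k = k := by
    rw [hk, H.conj]
    exact hreal u₀ hu₀ z₀ hz₀ (by rw [huz, H.eq_one_comm huz])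
  have hθ0 : θ 0 = 0 := by
    have h1 := hadd 0 (zero_mem W) 0 (zero_mem W)
    rw [add_zero] at h1
    exact add_eq_right.1 h1.symm
  have hsub : ∀ u ∈ W, ∀ w ∈ W, θ (u - w) = θ u - θ w := fun u hu w hw => by
    rw [eq_sub_iff_add_eq, ← hadd _ (sub_mem hu hw) w hw, sub_add_cancel]
  have gen : ∀ u ∈ W, B u z₀ ≠ 0 → ∀ w ∈ W, B (θ u) (θ w) = k * ρ (B u w) := by
    intro u hu hne w hw
    have hrow := hperp u hu (B u z₀ • w - B u w • z₀) (sub_mem (W.smul_mem _ hw) (W.smul_mem _ hz₀)) (by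
      rw [map_sub, map_smul, map_smul, smul_eq_mul, smul_eq_mul]; ring)
    rw [hsub _ (W.smul_mem _ hw) _ (W.smul_mem _ hz₀), hρ _ w hw, hρ _ z₀ hz₀, map_sub, map_smul,
      map_smul, smul_eq_mul, smul_eq_mul] at hrow
    have hcol := hperp (u - σ (B u z₀) • u₀) (sub_mem hu (W.smul_mem _ hu₀)) z₀ hz₀ (by
      simp [map_smulₛₗ, H.invol, huz])
    rw [hsub u hu _ (W.smul_mem _ hu₀), hρ _ u₀ hu₀, map_sub, LinearMap.sub_apply, map_smulₛₗ,
      LinearMap.smul_apply, smul_eq_mul, ← hk, A.comm, H.invol, sub_eq_zero] at hcol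
    rw [hcol] at hrow
    have hne' : ρ (B u z₀) ≠ 0 := (map_ne_zero ρ).2 hne
    refine mul_left_cancel₀ hne' ?_
    linear_combination hrow
  have hB : ∀ u ∈ W, ∀ w ∈ W, B (θ u) (θ w) = k * ρ (B u w) := by
    intro u hu w hw
    by_cases hne : B u z₀ = 0
    · have h1 := gen (u + u₀) (add_mem hu hu₀) (by simp [hne, huz]) w hw
      have h2 := gen u₀ hu₀ (by simp [huz]) w hw
      rw [hadd u hu u₀ hu₀] at h1
      simp only [map_add, LinearMap.add_apply] at h1
      linear_combination h1 - h2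
    · exact gen u hu hne w hw
  refine ⟨k, fun hk0 => hu₀0 (hbij.injOn hu₀ (zero_mem W) ?_), hsk, hB, fun c hc => ?_⟩
  · rw [hθ0]
    refine eq_zero_of_perp2 K h.hee h.hff h.hef (hθ u₀ hu₀).1 fun z hz => ?_
    obtain ⟨z', hz', rfl⟩ := hbij.surjOn hz
    rw [hB u₀ hu₀ z' hz', hk0, zero_mul]
  · obtain ⟨t, ht⟩ := H.exists_trace (map_one σ)
    have hst : σ t = 1 - t := by linear_combination ht
    have hsc : σ c = -c := by linear_combination hc
    have h1 := theta_commutator K h hθ hu₀ (W.smul_mem (-(c * t)) hz₀)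
    have e1 : B (-(c * t) • z₀) u₀ - B u₀ (-(c * t) • z₀) = c := by
      simp only [map_smulₛₗ, LinearMap.smul_apply, smul_eq_mul, RingHom.id_apply, huz, H.eq_one_comm huz,
        map_neg, map_mul, hsc, hst]
      ring
    have e2 : B (θ (-(c * t) • z₀)) (θ u₀) - B (θ u₀) (θ (-(c * t) • z₀)) = k * ρ c := by
      rw [hB _ (W.smul_mem _ hz₀) u₀ hu₀, hB u₀ hu₀ _ (W.smul_mem _ hz₀), ← mul_sub, ← map_sub, e1]
    rw [e1, e2] at h1
    exact h1

/-- The scalars attached to the elements of the radical. -/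
theorem theta_scalar [Finite F] (A : UArith F σ (Module.finrank F V)) {β : MulAut (UQ K)} {e f : V}
    (h : UFix K β e f) {θ : V → V}
    (hθ : ∀ w ∈ perp2 B e f, θ w ∈ perp2 B e f ∧ ∀ c, EichOK B e w c →
        ∃ c', EichOK B e (θ w) c' ∧ β (toUQ K (eichU K e w c)) = toUQ K (eichU K e (θ w) c'))
    (hadd : ∀ u ∈ perp2 B e f, ∀ w ∈ perp2 B e f, θ (u + w) = θ u + θ w)
    (ρ : F ≃+* F) (hρ : ∀ (a : F), ∀ w ∈ perp2 B e f, θ (a • w) = ρ a • θ w)
    {k : F} (hsk : σ k = k) (hk0 : k ≠ 0)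
    (hB : ∀ u ∈ perp2 B e f, ∀ w ∈ perp2 B e f, B (θ u) (θ w) = k * ρ (B u w))
    (hX : ∀ c, c + σ c = 0 → β (trQ K e c) = trQ K e (k * ρ c)) :
    ∀ w ∈ perp2 B e f, ∀ c, EichOK B e w c →
      β (toUQ K (eichU K e w c)) = toUQ K (eichU K e (θ w) (k * ρ c)) := by
  classical
  have H := K.herm
  set W := perp2 B e f
  have hT : ∀ c : F, c + σ c = 0 → k * ρ c + σ (k * ρ c) = 0 := fun c hc => by
    rw [map_mul, hsk, ← A.comm, ← mul_add, ← map_add, hc, map_zero, mul_zero]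
  have hdef : ∀ w : V, ∃ d : F, w ∈ W → ∀ c, EichOK B e w c → EichOK B e (θ w) (k * ρ c + d) ∧
      β (toUQ K (eichU K e w c)) = toUQ K (eichU K e (θ w) (k * ρ c + d)) := by
    intro w
    by_cases hw : w ∈ W
    swap
    · exact ⟨0, fun hw' => absurd hw' hw⟩
    obtain ⟨c₀, hc₀⟩ := exists_ok H h.hee hw.1
    obtain ⟨c₀', hc₀', he₀⟩ := (hθ w hw).2 c₀ hc₀
    refine ⟨c₀' - k * ρ c₀, fun _ c hc => ?_⟩
    have hd := eichOK_sub K hc₀ hc
    have e1 : k * ρ c + (c₀' - k * ρ c₀) = c₀' + k * ρ (c - c₀) := by rw [map_sub]; ring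
    rw [e1]
    refine ⟨⟨h.hee, (hθ w hw).1.1, ?_⟩, ?_⟩
    · rw [map_add]; linear_combination hc₀'.2.2 + hT _ hd
    · rw [← eich_mul_transv K hc₀' (hT _ hd), show c = c₀ + (c - c₀) by ring,
        ← eich_mul_transv K hc₀ hd, map_mul, map_mul, map_mul, he₀, hX _ hd]
      simp
  choose d hd using hdef
  have dadd : ∀ u ∈ W, ∀ w ∈ W, d (u + w) = d u + d w := by
    intro u hu w hw
    obtain ⟨a, ha⟩ := exists_ok H h.hee hu.1
    obtain ⟨b, hb⟩ := exists_ok H h.hee hw.1
    obtain ⟨a1, a2⟩ := hd u hu a ha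
    obtain ⟨b1, b2⟩ := hd w hw b hb
    obtain ⟨s1, s2⟩ := hd _ (add_mem hu hw) _ (ha.add H hb)
    have h1 := congrArg β (congrArg (toUQ K) (eichU_mul K ha hb))
    rw [map_mul, map_mul, a2, b2, s2, ← map_mul, eichU_mul K a1 b1] at h1
    have h2 := (eich_inj K h.hef h.he.1 (add_mem (hθ u hu).1 (hθ w hw).1) (hθ _ (add_mem hu hw)).1
      (a1.add H b1) s1 h1).2
    rw [hB u hu w hw, map_sub, map_add] at h2
    linear_combination -h2
  suffices hzero : ∀ w ∈ W, d w = 0 by
    intro w hw c hc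
    obtain ⟨-, h2⟩ := hd w hw c hc
    rwa [hzero w hw, add_zero] at h2
  rcases K.three.lt_or_eq with h4 | h3
  · have hiso : ∀ x ∈ W, B x x = 0 → d x = 0 := by
      intro x hx hxx
      have hok : EichOK B e x 0 := ⟨h.hee, hx.1, by simp [hxx]⟩
      obtain ⟨h1, h2⟩ := hd x hx 0 hok
      have hxf := H.eq_zero_comm hx.2
      have hxf' := H.eq_zero_comm (hθ x hx).1.2
      have hs := Sends.equivariant K h.hf h2
      rw [eichU_apply K hok, eichU_apply K h1, h.hef, hxf, hxf'] at hs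
      simp only [one_smul, mul_one, sub_zero, map_zero, mul_zero, zero_add, zero_smul, add_zero] at hs
      have h5 := (Sends.perp_iff K hs h.hf).1 (by simp [h.hff, H.eq_zero_comm hx.2])
      simp [map_smulₛₗ, h.hff, h.hef, hxf'] at h5
      exact h5
    obtain ⟨m, hm0, hme, hmf⟩ := exists_perp_two K e f
    obtain ⟨x, hxe, hxf, hxx, hxm⟩ := exists_isotropic_nonorth K h.hee h.hff h.hef h4 hme hmf hm0
    have hx : x ∈ W := ⟨hxe, hxf⟩
    have hne : ∀ w ∈ W, B x w ≠ 0 → d w = 0 := by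
      intro w hw hne
      have hne' : B w x ≠ 0 := fun h' => hne (H.eq_zero_comm h')
      obtain ⟨t, ht⟩ := H.exists_trace (a := -B w w) (by rw [map_neg, H.self_fixed])
      have h1 : B (w + (t / B w x) • x) (w + (t / B w x) • x) = 0 := by
        simp only [map_add, map_smulₛₗ, LinearMap.add_apply, LinearMap.smul_apply, smul_eq_mul,
          RingHom.id_apply, hxx, map_div₀, H.conj]
        field_simp
        linear_combination (B x w * B w x) * ht
      have h2 := hiso _ (add_mem hw (W.smul_mem _ hx)) h1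
      rwa [dadd w hw _ (W.smul_mem _ hx), hiso _ (W.smul_mem _ hx) (by simp [map_smulₛₗ, hxx]),
        add_zero] at h2
    intro w hw
    by_cases hw0 : B x w = 0
    · have h1 := hne (w + m) (add_mem hw ⟨hme, hmf⟩) (by rw [map_add, hw0, zero_add]; exact hxm)
      rwa [dadd w hw m ⟨hme, hmf⟩, hne m ⟨hme, hmf⟩ hxm, add_zero] at h1
    · exact hne w hw hw0
  · obtain ⟨l, hl1, hl⟩ := A.norm3 h3.symm
    have hl0 : l ≠ 0 := fun h0 => by simp [h0] at hl1
    obtain ⟨g, hge, hgf, hgw⟩ := exists_torus_three K h3.symm h.hee h.hff h.hef hl0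
    obtain ⟨g', l', -, -, -, hg', hgX⟩ := theta_conj K h hθ g hl0 hge hgf
    obtain ⟨τ, hτ0, hτ⟩ := H.exists_trace_zero
    have hN : σ l' * l' = 1 := by
      have h1 := hgX τ _ hτ (hT τ hτ) (hX τ hτ)
      rw [hl1, one_mul, hX τ hτ] at h1
      have hT' : σ l' * l' * (k * ρ τ) + σ (σ l' * l' * (k * ρ τ)) = 0 := by
        rw [map_mul, map_mul, H.invol]
        linear_combination (σ l' * l') * hT τ hτ
      have h2 := trQ_inj K h.hee h.he.1 (hT τ hτ) hT' h1
      exact mul_right_cancel₀ (mul_ne_zero hk0 ((map_ne_zero ρ).2 hτ0)) (by rw [one_mul]; exact h2.symm)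
    intro w hw
    obtain ⟨m, hm⟩ : ∃ m, m = σ l * (σ l / l) := ⟨_, rfl⟩
    rw [← hm] at hl
    obtain ⟨u, hu⟩ : ∃ u, u = (m - 1)⁻¹ • w := ⟨_, rfl⟩
    have huW : u ∈ W := hu ▸ W.smul_mem _ hw
    have hmu : σ l • g.1.1 u = u + w := by
      rw [hgw u huW, smul_smul, ← hm]
      have : w = (m - 1) • u := by rw [hu, smul_inv_smul₀ (sub_ne_zero.2 hl)]
      rw [this]; module
    obtain ⟨hm1, hm2, hm3, hm4⟩ := hg' u huW
    obtain ⟨c, hc⟩ := exists_ok H h.hee huW.1
    obtain ⟨c1, c2⟩ := hd u huW c hc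
    have hc' : EichOK B e (σ l • g.1.1 u) c := by
      refine ⟨h.hee, hm1.1, ?_⟩
      simp only [map_smulₛₗ, LinearMap.smul_apply, smul_eq_mul, RingHom.id_apply, H.invol,
        show ∀ x y, B (g.1.1 x) (g.1.1 y) = B x y from g.1.2]
      linear_combination hc.2.2 + B u u * hl1
    obtain ⟨s1, s2⟩ := hd _ hm1 c hc'
    have h5 := hm4 c _ hc c1 c2
    rw [hl1, hN, one_mul, one_mul, s2] at h5
    have hc1' : EichOK B e (σ l' • g'.1.1 (θ u)) (k * ρ c + d u) := by
      refine ⟨h.hee, hm2.1, ?_⟩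
      simp only [map_smulₛₗ, LinearMap.smul_apply, smul_eq_mul, RingHom.id_apply, H.invol,
        show ∀ x y, B (g'.1.1 x) (g'.1.1 y) = B x y from g'.1.2]
      linear_combination c1.2.2 + B (θ u) (θ u) * hN
    have h6 := (eich_inj K h.hef h.he.1 (hθ _ hm1).1 hm2 s1 hc1' h5).2
    rw [hmu, dadd u huW w hw] at h6
    linear_combination h6

/-- The point map of an automorphism fixing the points of a hyperbolic pair. -/
theorem exists_semisimilitude_of_fix [Finite F] (A : UArith F σ (Module.finrank F V))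
    {β : MulAut (UQ K)} {e f : V} (h : UFix K β e f) :
    ∃ (g : V ≃+ V) (ρ : F ≃+* F) (k : F), k ≠ 0 ∧ σ k = k ∧ (∀ (a : F) v, g (a • v) = ρ a • g v) ∧
      (∀ u v, B (g u) (g v) = k * ρ (B u v)) ∧ ∀ x, x ≠ 0 → B x x = 0 → Sends K β x (g x) := by
  have H := K.herm
  obtain ⟨θ, hθ, hadd, hbij⟩ := exists_theta_psu K h
  obtain ⟨ρ, hρ⟩ := theta_semilinear K h A.gen3 hθ hadd hbij
  obtain ⟨k, hk0, hsk, hB, hX⟩ := theta_similitude K A h hθ hadd hbij ρ hρ
  have hS := theta_scalar K A h hθ hadd ρ hρ hsk hk0 hB hX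
  set W := perp2 B e f
  have hee := h.hee
  have hff := h.hff
  have hef := h.hef
  have hfe := H.eq_one_comm hef
  let P : V → V := fun v => v - B f v • e - B e v • f
  have hP : ∀ v, P v ∈ W := perp2_proj K hee hff hef
  let G : V → V := fun v => ρ (B f v) • k • e + ρ (B e v) • f + θ (P v)
  have hdec : ∀ v, v = B f v • e + B e v • f + P v := fun v => by simp only [P]; abel
  have hGadd : ∀ u v, G (u + v) = G u + G v := fun u v => by
    have : P (u + v) = P u + P v := by simp only [P, map_add, add_smul]; abel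
    simp only [G, this, hadd _ (hP u) _ (hP v), map_add, add_smul]
    abel
  have hGsmul : ∀ (a : F) v, G (a • v) = ρ a • G v := fun a v => by
    have : P (a • v) = a • P v := by simp only [P, map_smul, smul_eq_mul, smul_sub, smul_smul]
    simp only [G, this, hρ _ _ (hP v), map_smul, smul_eq_mul, map_mul, smul_add, smul_smul, mul_assoc]
  have hmem : ∀ v, B e (θ (P v)) = 0 ∧ B f (θ (P v)) = 0 := fun v => (hθ _ (hP v)).1
  have hGB : ∀ u v, B (G u) (G v) = k * ρ (B u v) := by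
    intro u v
    conv_rhs => rw [hdec u, hdec v]
    simp only [G, map_add, map_smulₛₗ, LinearMap.add_apply, LinearMap.smul_apply, smul_eq_mul,
      RingHom.id_apply, hee, hff, hef, hfe, hsk, (hmem v).1, (hmem v).2,
      H.eq_zero_comm (hmem u).1, H.eq_zero_comm (hmem u).2, hB _ (hP u) _ (hP v),
      show B e (P v) = 0 from (hP v).1, show B f (P v) = 0 from (hP v).2,
      H.eq_zero_comm (show B e (P u) = 0 from (hP u).1), H.eq_zero_comm (show B f (P u) = 0 from (hP u).2),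
      A.comm, map_mul, map_zero, map_one, mul_zero, zero_add, add_zero, mul_one]
    ring
  have hGinj : Function.Injective G := fun u v huv => sub_eq_zero.1 (H.sep _ fun z => by
    have h1 : k * ρ (B u z) = k * ρ (B v z) := by rw [← hGB, ← hGB, huv]
    rw [map_sub, LinearMap.sub_apply, ρ.injective (mul_left_cancel₀ hk0 h1), sub_self])
  haveI : Finite V := Module.finite_of_finite F
  let g : V ≃+ V := AddEquiv.ofBijective (AddMonoidHom.mk' G hGadd)
    ⟨hGinj, Finite.injective_iff_surjective.1 hGinj⟩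
  have hg : ∀ v, g v = G v := fun v => rfl
  refine ⟨g, ρ, k, hk0, hsk, fun a v => hGsmul a v, fun u v => hGB u v, fun x hx0 hxx => ?_⟩
  rw [hg]
  -- points not orthogonal to `e`
  have hout : ∀ (p : V) (c : F), p ∈ W → EichOK B e p c →
      Sends K β (f + p + c • e) (f + θ p + (k * ρ c) • e) := by
    intro p c hp hok
    have hok' : EichOK B e (θ p) (k * ρ c) := by
      refine ⟨hee, (hθ p hp).1.1, ?_⟩
      rw [map_mul, hsk, hB p hp p hp, ← A.comm, ← mul_add, ← mul_add, ← map_add, ← map_add, hok.2.2,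
        map_zero, mul_zero]
    have := Sends.equivariant K h.hf (hS p hp c hok)
    rwa [eichU_apply K hok, eichU_apply K hok', hef, H.eq_zero_comm hp.2,
      H.eq_zero_comm (hθ p hp).1.2, one_smul, one_smul, mul_one, mul_one, sub_zero, sub_zero] at this
  obtain ⟨b, hb⟩ : ∃ b, b = B e x := ⟨_, rfl⟩
  obtain ⟨a, ha⟩ : ∃ a, a = B f x := ⟨_, rfl⟩
  obtain ⟨p, hp⟩ : ∃ p, p = P x := ⟨_, rfl⟩
  have hpW : p ∈ W := hp ▸ hP x
  have hx : x = a • e + b • f + p := by rw [ha, hb, hp]; exact hdec x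
  have hGx : G x = ρ a • k • e + ρ b • f + θ p := by rw [ha, hb, hp]
  have hpe := H.eq_zero_comm hpW.1
  have hpf := H.eq_zero_comm hpW.2
  have hxx' : σ a * b + σ b * a + B p p = 0 := by
    rw [hx] at hxx
    simp only [map_add, map_smulₛₗ, LinearMap.add_apply, LinearMap.smul_apply, smul_eq_mul,
      RingHom.id_apply, hee, hff, hef, hfe, hpe, hpf, show B e p = 0 from hpW.1,
      show B f p = 0 from hpW.2] at hxx
    linear_combination hxx
  by_cases hb0 : b = 0
  swap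
  · have hsb : σ b ≠ 0 := fun h' => hb0 (σ.injective (h'.trans (map_zero σ).symm))
    have hok : EichOK B e (b⁻¹ • p) (a / b) := by
      refine ⟨hee, by rw [map_smul, show B e p = 0 from hpW.1, smul_zero], ?_⟩
      simp only [map_div₀, map_smulₛₗ, LinearMap.smul_apply, smul_eq_mul, RingHom.id_apply, map_inv₀]
      field_simp
      linear_combination hxx'
    have h1 := Sends.smul_right K (Sends.smul_left K (hout _ _ (W.smul_mem _ hpW) hok) hb0)
      ((map_ne_zero ρ).2 hb0)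
    rw [hρ _ p hpW, smul_add, smul_add, smul_add, smul_add, smul_smul, smul_smul, smul_smul, smul_smul,
      mul_inv_cancel₀ hb0, one_smul, mul_div_cancel₀ _ hb0, map_inv₀,
      mul_inv_cancel₀ ((map_ne_zero ρ).2 hb0), one_smul] at h1
    rw [hGx, hx]
    convert h1 using 1
    · abel
    · rw [show ρ b * (k * ρ (a / b)) = ρ a * k by
        rw [map_div₀, mul_left_comm, mul_div_cancel₀ _ ((map_ne_zero ρ).2 hb0), mul_comm], mul_smul]
      abel
  subst hb0
  rw [zero_smul, add_zero] at hx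
  rw [map_zero, zero_smul, add_zero] at hGx
  by_cases hp0 : p = 0
  · subst hp0
    rw [add_zero] at hx
    have hθ0 : θ 0 = 0 := by
      have h1 := hadd 0 (zero_mem W) 0 (zero_mem W)
      rw [add_zero] at h1
      exact add_eq_right.1 h1.symm
    rw [hθ0, add_zero] at hGx
    have ha0 : a ≠ 0 := fun h0 => hx0 (by rw [hx, h0, zero_smul])
    rw [hGx, hx, smul_smul]
    exact Sends.smul_right K (Sends.smul_left K h.he ha0) (mul_ne_zero ((map_ne_zero ρ).2 ha0) hk0)
  -- points orthogonal to `e`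
  obtain ⟨y, hy⟩ := exists_sends K β hx0 hxx
  have hey : B e y = 0 := H.eq_zero_comm ((Sends.perp_iff K hy h.he).1 (by
    simp [hx, map_smulₛₗ, hee, hpe]))
  obtain ⟨a', ha'⟩ : ∃ a', a' = B f y := ⟨_, rfl⟩
  obtain ⟨p', hp'⟩ : ∃ p', p' = P y := ⟨_, rfl⟩
  have hp'W : p' ∈ W := hp' ▸ hP y
  have hyd : y = a' • e + p' := by
    rw [ha', hp']
    conv_lhs => rw [hdec y, hey, zero_smul, add_zero]
  have hiff : ∀ z ∈ W, k * ρ (σ a + B p z) = 0 → σ a' + B p' (θ z) = 0 := by
    intro z hz h0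
    obtain ⟨c, hc⟩ := exists_ok H hee hz.1
    have h1 : σ a + B p z = 0 := (map_eq_zero ρ).1 ((mul_eq_zero.1 h0).resolve_left hk0)
    have h2 := (Sends.perp_iff K hy (hout z c hz hc)).1 (by
      simp only [hx, map_add, map_smulₛₗ, LinearMap.add_apply, LinearMap.smul_apply, smul_eq_mul,
        RingHom.id_apply, hee, hef, hpe, hpf, show B e z = 0 from hz.1]
      linear_combination h1)
    simp only [hyd, map_add, map_smulₛₗ, LinearMap.add_apply, LinearMap.smul_apply, smul_eq_mul,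
      RingHom.id_apply, hee, hef, H.eq_zero_comm hp'W.1, H.eq_zero_comm hp'W.2,
      show B e (θ z) = 0 from (hθ z hz).1.1] at h2
    linear_combination h2
  obtain ⟨z₀, hz₀, hpz⟩ := exists_perp2_partner K hee hff hef hpW hp0
  obtain ⟨r, hr⟩ : ∃ r, r = B p' (θ z₀) := ⟨_, rfl⟩
  have key : ∀ z ∈ W, σ a' + B p' (θ z) = r * ρ (σ a + B p z) := by
    intro z hz
    have h1 := hiff (z + (-(σ a + B p z)) • z₀) (add_mem hz (W.smul_mem _ hz₀)) (by
      rw [(B p).map_add, (B p).map_smul, hpz, smul_eq_mul, mul_one]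
      simp)
    rw [hadd z hz _ (W.smul_mem _ hz₀), hρ _ z₀ hz₀, map_add, map_smul, smul_eq_mul, ← hr,
      map_neg] at h1
    linear_combination h1
  have hθ0 : θ 0 = 0 := by
    have h1 := hadd 0 (zero_mem W) 0 (zero_mem W)
    rw [add_zero] at h1
    exact add_eq_right.1 h1.symm
  have hka := key 0 (zero_mem W)
  rw [hθ0, map_zero, add_zero, map_zero, add_zero] at hka
  have hpp : p' = σ (r * k⁻¹) • θ p := sub_eq_zero.1
    (eq_zero_of_perp2 K hee hff hef (sub_mem hp'W (W.smul_mem _ (hθ p hpW).1)) fun z hz => by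
      obtain ⟨z', hz', rfl⟩ := hbij.surjOn hz
      have h1 := key z' hz'
      rw [map_add] at h1
      simp only [map_sub, map_smulₛₗ, LinearMap.sub_apply, LinearMap.smul_apply, smul_eq_mul, H.invol,
        hB p hpW z' hz']
      field_simp
      linear_combination h1 - hka)
  have hskr : σ (r * k⁻¹) ≠ 0 := by
    intro h0
    have hr0 : r = 0 := by
      have h1 : r * k⁻¹ = 0 := σ.injective (h0.trans (map_zero σ).symm)
      exact (mul_eq_zero.1 h1).resolve_right (inv_ne_zero hk0)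
    rw [hr0, zero_mul] at hka
    exact hy.2.1 (by rw [hyd, hpp, h0, σ.injective (hka.trans (map_zero σ).symm)]; simp)
  have hya : y = σ (r * k⁻¹) • G x := by
    rw [hGx, hyd, hpp, smul_add, smul_smul, smul_smul]
    congr 2
    have h1 := congrArg σ hka
    rw [H.invol, map_mul, A.comm, H.invol] at h1
    rw [h1, map_mul, map_inv₀, hsk]
    field_simp
  have h1 := Sends.smul_right K hy (inv_ne_zero hskr)
  rwa [hya, inv_smul_smul₀ hskr] at h1

/-- The point map of an automorphism of the unitary group is a semisimilitude. -/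
theorem exists_semisimilitude [Finite F] (A : UArith F σ (Module.finrank F V)) (β : MulAut (UQ K)) :
    ∃ (g : V ≃+ V) (ρ : F ≃+* F) (k : F), k ≠ 0 ∧ σ k = k ∧ (∀ (a : F) v, g (a • v) = ρ a • g v) ∧
      (∀ u v, B (g u) (g v) = k * ρ (B u v)) ∧ ∀ x, x ≠ 0 → B x x = 0 → Sends K β x (g x) := by
  have H := K.herm
  obtain ⟨e, he0, hee⟩ := H.exists_isotropic K.three
  obtain ⟨f, hef, hff⟩ := H.exists_hyperbolic he0 hee
  have hf0 : f ≠ 0 := fun h0 => by simp [h0] at hef
  obtain ⟨e₁, he₁⟩ := exists_sends K β he0 hee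
  obtain ⟨f₁, hf₁⟩ := exists_sends K β hf0 hff
  have hne : B e₁ f₁ ≠ 0 := fun h0 => one_ne_zero (hef.symm.trans ((Sends.perp_iff K he₁ hf₁).2 h0))
  obtain ⟨s₁, hs₁, hs₁e⟩ := ut_transitive H K.three K.small he₁.2.2.2.1 hee he₁.2.1 he0
  obtain ⟨c, hc⟩ : ∃ c, c = B e (s₁.1 f₁) := ⟨_, rfl⟩
  have hc0 : c ≠ 0 := by rw [hc, ← hs₁e, s₁.2]; exact hne
  obtain ⟨s₂, hs₂, hs₂e, hs₂f⟩ := ut_move H K.three K.small hee (u := c⁻¹ • s₁.1 f₁) (v := f)
    (by rw [map_smul, ← hc, smul_eq_mul, inv_mul_cancel₀ hc0]) hef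
    (by simp [map_smulₛₗ, (s₁.2 f₁ f₁).trans hf₁.2.2.2.1, hff])
  let s : UG K := ⟨s₂ * s₁, mul_mem hs₂ hs₁⟩
  have hse : s.1.1 e₁ = e := by
    show s₂.1 (s₁.1 e₁) = e
    rw [hs₁e, hs₂e]
  have hsf : s.1.1 f₁ = c • f := by
    show s₂.1 (s₁.1 f₁) = c • f
    rw [← hs₂f, map_smul, smul_inv_smul₀ hc0]
  have hfix : UFix K (MulAut.conj (toUQ K s) * β) e f := by
    refine ⟨hee, hff, hef, ?_, ?_⟩
    · have h1 := Sends.comp K he₁ (sends_conj K s he₁.2.1 he₁.2.2.2.1)
      rwa [hse] at h1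
    · have h1 := Sends.comp K hf₁ (sends_conj K s hf₁.2.1 hf₁.2.2.2.1)
      rw [hsf] at h1
      have h2 := Sends.smul_right K h1 (inv_ne_zero hc0)
      rwa [inv_smul_smul₀ hc0] at h2
  obtain ⟨g, ρ, k, hk0, hsk, hgs, hgB, hg⟩ := exists_semisimilitude_of_fix K A hfix
  refine ⟨g.trans s.1.1.symm.toAddEquiv, ρ, k, hk0, hsk,
    fun a v => by simp [hgs], fun u v => ?_, fun x hx0 hxx => ?_⟩
  · show B (s.1.1.symm (g u)) (s.1.1.symm (g v)) = _
    rw [← hgB, ← s.1.2, LinearEquiv.apply_symm_apply, LinearEquiv.apply_symm_apply]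
  · have h1 := hg x hx0 hxx
    have h2 := Sends.comp K h1 (sends_conj K s⁻¹ h1.2.1 h1.2.2.2.1)
    rw [map_inv, map_inv, inv_mul_cancel_left] at h2
    exact h2

end CfsgLib.KnownC
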