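import Mathlib
import Cfsg.Prelude.Def_LieTypeDatum
import Cfsg.Agent.Lib.KnownC.AutPSLBasic
import Cfsg.Agent.Lib.KnownC.AutPSUMain
import Cfsg.Agent.Lib.Classical.UnitaryGen
import Cfsg.Agent.Lib.Geom.GUEquiv

set_option autoImplicit false
set_option linter.unusedSectionVars false
set_option linter.style.haveILetI false

/-!
The semilinear automorphisms of `PSU_n(q)`, and the fact that every automorphism is one of them.
-/

namespace CfsgLib.KnownC

open Matrix CfsgLib.Classical CfsgLib.Geom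

variable {n q : ℕ} {F : Type*} [Field F]

theorem hermForm_map (ρ : F ≃+* F) (u v : Fin n → F) :
    Cfsg.hermForm n F q (fun i => ρ (u i)) (fun i => ρ (v i)) = ρ (Cfsg.hermForm n F q u v) := by
  simp [Cfsg.hermForm, map_sum]

theorem map_mulVec_fin (ρ : F ≃+* F) (A : Matrix (Fin n) (Fin n) F) (v : Fin n → F) :
    A.map ρ *ᵥ (fun i => ρ (v i)) = fun i => ρ ((A *ᵥ v) i) :=
  funext fun i => (RingHom.map_mulVec (ρ : F →+* F) A v i).symm

theorem slConj_mem_su {g : GL (Fin n) F} (hg : g ∈ Cfsg.GU n F q)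
    {s : SpecialLinearGroup (Fin n) F} (hs : s ∈ Cfsg.SU n F q) : slConj g s ∈ Cfsg.SU n F q := by
  intro u v
  have h1 := (show g⁻¹ ∈ Cfsg.GU n F q from inv_mem hg) u v
  show Cfsg.hermForm n F q ((g.1 * s.1 * (g⁻¹).1) *ᵥ u) ((g.1 * s.1 * (g⁻¹).1) *ᵥ v) = _
  rw [← mulVec_mulVec, ← mulVec_mulVec, ← mulVec_mulVec, ← mulVec_mulVec]
  exact ((hg _ _).trans (hs _ _)).trans h1

theorem map_form_preserving (ρ : F ≃+* F) {A : Matrix (Fin n) (Fin n) F}
    (hA : ∀ u v, Cfsg.hermForm n F q (A *ᵥ u) (A *ᵥ v) = Cfsg.hermForm n F q u v) (u v : Fin n → F) :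
    Cfsg.hermForm n F q (A.map ρ *ᵥ u) (A.map ρ *ᵥ v) = Cfsg.hermForm n F q u v := by
  obtain ⟨u, rfl⟩ : ∃ u' : Fin n → F, u = fun i => ρ (u' i) :=
    ⟨fun i => ρ.symm (u i), funext fun i => (ρ.apply_symm_apply _).symm⟩
  obtain ⟨v, rfl⟩ : ∃ v' : Fin n → F, v = fun i => ρ (v' i) :=
    ⟨fun i => ρ.symm (v i), funext fun i => (ρ.apply_symm_apply _).symm⟩
  rw [map_mulVec_fin, map_mulVec_fin, hermForm_map, hermForm_map, hA]

/-- Conjugation by a unitary matrix, on `SU_n`. -/
def suConj : Cfsg.GU n F q →* MulAut (Cfsg.SU n F q) where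
  toFun g :=
    { toFun := fun s => ⟨slConj g.1 s.1, slConj_mem_su g.2 s.2⟩
      invFun := fun s => ⟨slConj (g⁻¹).1 s.1, slConj_mem_su (g⁻¹).2 s.2⟩
      left_inv := fun s => Subtype.ext (by
        show slConj (g⁻¹).1 (slConj g.1 s.1) = s.1
        rw [← MulAut.mul_apply, ← map_mul, ← Subgroup.coe_mul, inv_mul_cancel, Subgroup.coe_one,
          map_one, MulAut.one_apply])
      right_inv := fun s => Subtype.ext (by
        show slConj g.1 (slConj (g⁻¹).1 s.1) = s.1
        rw [← MulAut.mul_apply, ← map_mul, ← Subgroup.coe_mul, mul_inv_cancel, Subgroup.coe_one,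
          map_one, MulAut.one_apply])
      map_mul' := fun s t => Subtype.ext (map_mul (slConj g.1) s.1 t.1) }
  map_one' := MulEquiv.ext fun s => Subtype.ext (slConjFun_one s.1)
  map_mul' g h := MulEquiv.ext fun s => Subtype.ext (slConjFun_mul g.1 h.1 s.1)

/-- A field automorphism applied to every entry, on `SU_n`. -/
def suField : (F ≃+* F) →* MulAut (Cfsg.SU n F q) where
  toFun ρ :=
    { toFun := fun s => ⟨slField ρ s.1, map_form_preserving ρ s.2⟩
      invFun := fun s => ⟨slField ρ.symm s.1, map_form_preserving ρ.symm s.2⟩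
      left_inv := fun s => Subtype.ext (Subtype.ext (Matrix.ext fun i j => ρ.symm_apply_apply _))
      right_inv := fun s => Subtype.ext (Subtype.ext (Matrix.ext fun i j => ρ.apply_symm_apply _))
      map_mul' := fun s t => Subtype.ext (map_mul (slField ρ) s.1 t.1) }
  map_one' := MulEquiv.ext fun _ => Subtype.ext (Subtype.ext (Matrix.ext fun _ _ => rfl))
  map_mul' _ _ := MulEquiv.ext fun _ => Subtype.ext (Subtype.ext (Matrix.ext fun _ _ => rfl))

/-- A field automorphism applied to every entry, on `GU_n`. -/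
def guMap (ρ : F ≃+* F) : Cfsg.GU n F q →* Cfsg.GU n F q where
  toFun g := ⟨GeneralLinearGroup.map (ρ : F →+* F) g.1, map_form_preserving ρ g.2⟩
  map_one' := Subtype.ext (map_one _)
  map_mul' g h := Subtype.ext (map_mul _ g.1 h.1)

/-- The automorphism of `PSU_n` induced by `v ↦ g ρ(v)`. -/
def psuSemiAut (g : Cfsg.GU n F q) (ρ : F ≃+* F) : MulAut (Cfsg.PSU n F q) :=
  centerQuotAut _ (suConj g * suField ρ)

theorem suField_mul_suConj (ρ : F ≃+* F) (g : Cfsg.GU n F q) :
    suField ρ * suConj g = suConj (guMap ρ g) * suField ρ := by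
  refine MulEquiv.ext fun s => Subtype.ext (Subtype.ext ?_)
  show (g.1.1 * s.1.1 * (g.1⁻¹).1).map (ρ : F →+* F) =
    (GeneralLinearGroup.map (ρ : F →+* F) g.1).1 * s.1.1.map (ρ : F →+* F) *
      ((GeneralLinearGroup.map (ρ : F →+* F) g.1)⁻¹).1
  rw [Matrix.map_mul, Matrix.map_mul, ← map_inv]
  rfl

theorem psuSemiAut_mul (g h : Cfsg.GU n F q) (ρ τ : F ≃+* F) :
    psuSemiAut g ρ * psuSemiAut h τ = psuSemiAut (g * guMap ρ h) (ρ * τ) := by
  rw [psuSemiAut, psuSemiAut, psuSemiAut, ← map_mul, mul_assoc (suConj g), ← mul_assoc (suField ρ),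
    suField_mul_suConj, map_mul suConj, map_mul suField]
  simp only [mul_assoc]

theorem psuSemiAut_one : psuSemiAut (1 : Cfsg.GU n F q) (RingEquiv.refl F) = 1 := by
  rw [psuSemiAut, map_one, show suField (RingEquiv.refl F) = 1 from map_one suField, one_mul, map_one]

theorem psuSemiAut_inv (g : Cfsg.GU n F q) (ρ : F ≃+* F) :
    (psuSemiAut g ρ)⁻¹ = psuSemiAut (guMap ρ.symm g⁻¹) ρ.symm := by
  refine inv_eq_of_mul_eq_one_right ?_
  rw [psuSemiAut_mul, ← psuSemiAut_one]
  congr 1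
  · refine Subtype.ext (Units.ext ?_)
    show g.1.1 * ((g.1⁻¹).1.map ρ.symm).map ρ = 1
    rw [Matrix.map_map, show (ρ ∘ ρ.symm : F → F) = id from funext ρ.apply_symm_apply, Matrix.map_id,
      Units.mul_inv]
  · exact RingEquiv.ext ρ.apply_symm_apply

theorem psuSemiAut_mk (g : Cfsg.GU n F q) (ρ : F ≃+* F) (s : Cfsg.SU n F q) :
    psuSemiAut g ρ (QuotientGroup.mk s) = QuotientGroup.mk (suConj g (suField ρ s)) :=
  rfl

theorem isInducedBySemilinearPSU_iff {g : GL (Fin n) F} (hg : g ∈ Cfsg.GU n F q)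
    (ρ : F ≃+* F) (β : Cfsg.PSU n F q ≃* Cfsg.PSU n F q) :
    Cfsg.IsInducedBySemilinearPSU g ρ β ↔ β = psuSemiAut ⟨g, hg⟩ ρ := by
  constructor
  · intro h
    refine MulEquiv.ext fun x => ?_
    obtain ⟨s, rfl⟩ := QuotientGroup.mk_surjective x
    exact h s _ rfl
  · rintro rfl s s' hs'
    rw [psuSemiAut_mk]
    exact congrArg _ (Subtype.ext (Subtype.ext hs'.symm))

theorem isFieldAutPSUOf_iff (ρ : F ≃+* F) (β : Cfsg.PSU n F q ≃* Cfsg.PSU n F q) :
    Cfsg.IsFieldAutPSUOf ρ β ↔ β = psuSemiAut 1 ρ := by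
  have h := isInducedBySemilinearPSU_iff (one_mem (Cfsg.GU n F q)) ρ β
  rw [show (⟨1, one_mem _⟩ : Cfsg.GU n F q) = 1 from rfl] at h
  rw [← h]
  simp [Cfsg.IsFieldAutPSUOf, Cfsg.IsInducedBySemilinearPSU]

theorem isInnerDiagonalAutPSU_iff (β : Cfsg.PSU n F q ≃* Cfsg.PSU n F q) :
    Cfsg.IsInnerDiagonalAutPSU β ↔ ∃ g, β = psuSemiAut g (RingEquiv.refl F) := by
  constructor
  · rintro ⟨g, hg, h⟩
    exact ⟨⟨g, hg⟩, (isInducedBySemilinearPSU_iff hg _ _).1 h⟩
  · rintro ⟨⟨g, hg⟩, h⟩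
    exact ⟨g, hg, (isInducedBySemilinearPSU_iff hg _ _).2 h⟩

/-- The inner-diagonal automorphisms form the image of `GU_n`. -/
def psuInndiagHom : Cfsg.GU n F q →* MulAut (Cfsg.PSU n F q) where
  toFun g := psuSemiAut g (RingEquiv.refl F)
  map_one' := psuSemiAut_one
  map_mul' g h := by
    rw [psuSemiAut_mul]
    congr 1

theorem psuInndiagHom_apply (g : Cfsg.GU n F q) :
    psuInndiagHom g = psuSemiAut g (RingEquiv.refl F) := rfl

theorem inndiagPSU_eq_range : Cfsg.inndiagPSU n F q = (psuInndiagHom (n := n) (F := F) (q := q)).range := by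
  rw [Cfsg.inndiagPSU, Cfsg.autSubgroupOf]
  refine le_antisymm ((Subgroup.closure_le _).2 ?_) ?_
  · intro β hβ
    obtain ⟨g, hg⟩ := (isInnerDiagonalAutPSU_iff β).1 hβ
    exact ⟨g, hg.symm⟩
  · rintro _ ⟨g, rfl⟩
    exact Subgroup.subset_closure ((isInnerDiagonalAutPSU_iff _).2 ⟨g, rfl⟩)

variable [Fintype F]

/-- The context of `PSU_n(q)`. -/
theorem psuCtx (hF : Fintype.card F = q ^ 2) (hn : 3 ≤ n) (h32 : ¬ (n = 3 ∧ q = 2)) :
    UCtx (hermB hF n) :=
  ⟨isHermSpace_hermB hF n, by simpa using hn, herm_h32 hF hn h32⟩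

theorem qFrob_comm (hF : Fintype.card F = q ^ 2) (ρ : F ≃+* F) (a : F) :
    ρ (qFrob hF a) = qFrob hF (ρ a) := by
  rw [qFrob_apply, qFrob_apply, map_pow]

theorem hermB_map (hF : Fintype.card F = q ^ 2) (ρ : F ≃+* F) (u v : Fin n → F) :
    hermB hF n (fun i => ρ (u i)) (fun i => ρ (v i)) = ρ (hermB hF n u v) := by
  rw [hermB_apply, hermB_apply, hermForm_map]

theorem hermB_gu (hF : Fintype.card F = q ^ 2) (g : Cfsg.GU n F q) (u v : Fin n → F) :
    hermB hF n (g.1.1 *ᵥ u) (g.1.1 *ᵥ v) = hermB hF n u v := by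
  rw [hermB_apply, hermB_apply]
  exact g.2 v u

/-- The arithmetic facts for the field of `q²` elements. -/
theorem psuArith (hF : Fintype.card F = q ^ 2) (hn : 3 ≤ n) (h32 : ¬ (n = 3 ∧ q = 2)) :
    UArith F (qFrob hF) (Module.finrank F (Fin n → F)) := by
  have hq := two_le_of_card_sq hF
  haveI : Finite Fˣ := inferInstance
  have hq3 : Module.finrank F (Fin n → F) = 3 → 3 ≤ q := fun h => by
    rw [Module.finrank_fintype_fun_eq_card, Fintype.card_fin] at h
    rcases Nat.lt_or_ge q 3 with h' | h'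
    · exact absurd ⟨h, by omega⟩ h32
    · exact h'
  have hcard : Nat.card Fˣ = (q - 1) * (q + 1) := units_card_sq hF
  have hsq : (q - 1) * (q + 1) + 1 = q ^ 2 := by
    obtain ⟨k, rfl⟩ : ∃ k, q = k + 1 := ⟨q - 1, by omega⟩
    simp only [Nat.add_sub_cancel]; ring
  have hone : ∀ u : Fˣ, u ^ ((q - 1) * (q + 1)) = 1 := fun u => by rw [← hcard, pow_card_eq_one']
  have h3card : Nat.card (powMonoidHom 3 : Fˣ →* Fˣ).ker ≤ 3 := by
    rw [IsCyclic.card_powMonoidHom_ker]
    exact Nat.gcd_le_right _ (by norm_num)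
  refine ⟨fun ρ a => qFrob_comm hF ρ a, fun h S hS => ?_, fun h => ?_⟩
  · have hq' := hq3 h
    let M : Fˣ →* Fˣ :=
      MonoidHom.mk' (fun u => Units.map (qFrob hF).toMonoidHom u ^ 2 / u) fun a b => by
        simp only [map_mul, mul_pow, mul_div_mul_comm]
    have hM : ∀ u : Fˣ, (M u : F) ∈ S := fun u => by
      have := hS (u : F) u.ne_zero
      convert this using 1
      simp [M, Units.val_div_eq_div_val, sq, mul_div_assoc]
    have hker : M.ker ≤ (powMonoidHom 3 : Fˣ →* Fˣ).ker := by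
      intro u hu
      have h1 : u ^ (2 * q) = u := by
        have h2 : Units.map (qFrob hF).toMonoidHom u ^ 2 / u = 1 := MonoidHom.mem_ker.1 hu
        rw [div_eq_one] at h2
        rw [mul_comm, pow_mul]
        convert h2 using 2
        exact Units.ext (by simp [qFrob_apply])
      refine MonoidHom.mem_ker.2 ?_
      show u ^ 3 = 1
      have h2 : u ^ (2 * q - 1) = 1 := by
        refine mul_right_cancel (b := u) ?_
        rw [← pow_succ, one_mul, show 2 * q - 1 + 1 = 2 * q by omega, h1]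
      have h3 : u ^ ((2 * q - 1) * (2 * q + 1)) = 1 := by rw [pow_mul, h2, one_pow]
      rw [show (2 * q - 1) * (2 * q + 1) = 4 * ((q - 1) * (q + 1)) + 3 by
        obtain ⟨k, rfl⟩ : ∃ k, q = k + 1 := ⟨q - 1, by omega⟩
        simp only [Nat.add_sub_cancel, show 2 * (k + 1) - 1 = 2 * k + 1 by omega]
        ring, pow_add, mul_comm 4, pow_mul, hone, one_pow, one_mul] at h3
      exact h3
    have hinv : ∀ x ∈ S, x⁻¹ ∈ S := by
      intro x hx
      by_cases hx0 : x = 0
      · rw [hx0, _root_.inv_zero]; exact S.zero_mem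
      have h4 : 2 ≤ Fintype.card F := Fintype.one_lt_card
      have : x⁻¹ = x ^ (Fintype.card F - 2) := by
        refine (eq_inv_of_mul_eq_one_left ?_).symm
        rw [← pow_succ, show Fintype.card F - 2 + 1 = Fintype.card F - 1 by omega,
          FiniteField.pow_card_sub_one_eq_one x hx0]
      rw [this]; exact pow_mem hx _
    let K : Subfield F := { S with inv_mem' := hinv }
    rw [eq_top_iff]
    intro x _
    by_contra hx
    letI : Fintype K := Fintype.ofFinite K
    have hdim : Fintype.card F = Fintype.card K ^ Module.finrank K F := Module.card_eq_pow_finrank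
    have hd1 : 1 < Module.finrank K F := by
      by_contra hle
      have hpos : 0 < Module.finrank K F := Module.finrank_pos
      rw [show Module.finrank K F = 1 by omega, pow_one] at hdim
      obtain ⟨y, hy⟩ := ((Fintype.bijective_iff_injective_and_card K.subtype).2
        ⟨Subtype.val_injective, hdim.symm⟩).2 x
      exact hx (hy ▸ y.2)
    have hKq : Fintype.card K ≤ q := by
      by_contra hlt
      have h1 : Fintype.card K ^ 2 ≤ Fintype.card K ^ Module.finrank K F :=
        Nat.pow_le_pow_right Fintype.card_pos hd1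
      rw [← hdim, hF] at h1
      exact absurd h1 (not_le.2 (Nat.pow_lt_pow_left (by omega) two_ne_zero))
    have hKu : Nat.card Kˣ + 1 ≤ q := by
      rw [Nat.card_units, Nat.card_eq_fintype_card]
      have := Fintype.card_pos (α := K)
      omega
    have hrange : Nat.card M.range ≤ Nat.card Kˣ := by
      refine Nat.card_le_card_of_injective (fun u : M.range => Units.mk0 (⟨(u.1 : F), ?_⟩ : K) ?_)
        fun a b hab => ?_
      · obtain ⟨v, hv⟩ := u.2
        rw [← hv]; exact hM v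
      · exact fun h0 => u.1.ne_zero (congrArg Subtype.val h0)
      · exact Subtype.ext (Units.ext (congrArg (fun y : Kˣ => ((y : K) : F)) hab))
    have hkc := Subgroup.card_le_of_le hker
    have hmul := M.ker.card_mul_index
    rw [Subgroup.index_ker, hcard] at hmul
    have h5 : (q - 1) * (q + 1) ≤ 3 * (q - 1) := by
      rw [← hmul]
      exact Nat.mul_le_mul (hkc.trans h3card) (by omega)
    have h6 : (q - 1) * 4 ≤ (q - 1) * (q + 1) := Nat.mul_le_mul_left _ (by omega)
    omega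
  · have hq' := hq3 h
    have hNcard : Nat.card (powMonoidHom (q + 1) : Fˣ →* Fˣ).ker = q + 1 := by
      rw [IsCyclic.card_powMonoidHom_ker, hcard, mul_comm, Nat.gcd_mul_right_left]
    obtain ⟨u, hu, hu3⟩ : ∃ u : Fˣ, u ^ (q + 1) = 1 ∧ u ^ 3 ≠ 1 := by
      by_contra hcon
      simp only [not_exists, not_and, not_not] at hcon
      have := Subgroup.card_le_of_le (H := (powMonoidHom (q + 1) : Fˣ →* Fˣ).ker)
        (K := (powMonoidHom 3 : Fˣ →* Fˣ).ker) fun u hu => hcon u hu
      omega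
    have hN : qFrob hF (u : F) * u = 1 := by
      rw [qFrob_apply, ← pow_succ, ← Units.val_pow_eq_pow_val, hu, Units.val_one]
    refine ⟨u, hN, fun hm => hu3 (Units.ext ?_)⟩
    rw [Units.val_pow_eq_pow_val, Units.val_one]
    have hs : qFrob hF (u : F) = (u : F)⁻¹ := eq_inv_of_mul_eq_one_left hN
    rw [hs] at hm
    field_simp at hm
    linear_combination -hm

/-- `PSU_n(q)` and the quotient of the transvection group. -/
noncomputable def psuQ (hF : Fintype.card F = q ^ 2) (hn : 3 ≤ n) (h32 : ¬ (n = 3 ∧ q = 2)) :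
    Cfsg.PSU n F q ≃* UQ (psuCtx hF hn h32) :=
  QuotientGroup.congr _ _ (suEquiv hF hn h32) (by
    ext x
    simp only [Subgroup.mem_map, Subgroup.mem_center_iff]
    constructor
    · rintro ⟨y, hy, rfl⟩ g
      obtain ⟨g, rfl⟩ := (suEquiv hF hn h32).surjective g
      exact (map_mul (suEquiv hF hn h32) g y).symm.trans
        ((congrArg _ (hy g)).trans (map_mul (suEquiv hF hn h32) y g))
    · intro hx
      obtain ⟨y, rfl⟩ := (suEquiv hF hn h32).surjective x
      exact ⟨y, fun g => (suEquiv hF hn h32).injective (by rw [map_mul, map_mul, hx]), rfl⟩)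

theorem psuQ_mk (hF : Fintype.card F = q ^ 2) (hn : 3 ≤ n) (h32 : ¬ (n = 3 ∧ q = 2))
    (s : Cfsg.SU n F q) :
    psuQ hF hn h32 (QuotientGroup.mk s) = toUQ (psuCtx hF hn h32) (suEquiv hF hn h32 s) :=
  rfl

/-- Transport of automorphisms. -/
noncomputable def psuTransport (hF : Fintype.card F = q ^ 2) (hn : 3 ≤ n) (h32 : ¬ (n = 3 ∧ q = 2)) :
    MulAut (Cfsg.PSU n F q) ≃* MulAut (UQ (psuCtx hF hn h32)) :=
  MulAut.congr (psuQ hF hn h32)

/-- The point map of a semilinear automorphism. -/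
theorem psuSemiAut_sends (hF : Fintype.card F = q ^ 2) (hn : 3 ≤ n) (h32 : ¬ (n = 3 ∧ q = 2))
    (g : Cfsg.GU n F q) (ρ : F ≃+* F) {x : Fin n → F} (hx0 : x ≠ 0) (hx : hermB hF n x x = 0) :
    Sends (psuCtx hF hn h32) (psuTransport hF hn h32 (psuSemiAut g ρ)) x
      (g.1.1 *ᵥ fun i => ρ (x i)) := by
  have hyy : hermB hF n (g.1.1 *ᵥ fun i => ρ (x i)) (g.1.1 *ᵥ fun i => ρ (x i)) = 0 := by
    rw [hermB_gu, hermB_map, hx, map_zero]
  refine ⟨hx0, fun h0 => hx0 ?_, hx, hyy, fun c hc => ?_⟩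
  · have h1 := congrArg ((g.1⁻¹).1 *ᵥ ·) h0
    simp only [mulVec_mulVec, Units.inv_mul, one_mulVec, mulVec_zero] at h1
    funext i
    exact ρ.injective ((congrFun h1 i).trans (map_zero ρ).symm)
  have hd : ρ c + qFrob hF (ρ c) = 0 := by rw [← qFrob_comm, ← map_add, hc, map_zero]
  refine ⟨ρ c, hd, ?_⟩
  obtain ⟨A, hA⟩ := (suEquiv hF hn h32).surjective (eichU (psuCtx hF hn h32) x 0 c)
  show psuQ hF hn h32 (psuSemiAut g ρ ((psuQ hF hn h32).symm (toUQ _ (eichU _ x 0 c)))) = _
  rw [← hA, ← psuQ_mk hF hn h32, MulEquiv.symm_apply_apply, psuSemiAut_mk, psuQ_mk]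
  refine congrArg (toUQ _) (ug_ext _ fun z => ?_)
  have hAz : ∀ z, A.1.1 *ᵥ z = z + (c * hermB hF n x z) • x := fun z => by
    have h1 := congrArg (fun k : UG (psuCtx hF hn h32) => k.1.1 z) hA
    simp only [eichU_transv_apply (psuCtx hF hn h32) hx hc] at h1
    exact h1
  obtain ⟨w, rfl⟩ : ∃ w : Fin n → F, z = g.1.1 *ᵥ fun i => ρ (w i) := by
    refine ⟨fun i => ρ.symm (((g.1⁻¹).1 *ᵥ z) i), ?_⟩
    simp only [RingEquiv.apply_symm_apply]
    rw [mulVec_mulVec, Units.mul_inv, one_mulVec]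
  rw [eichU_transv_apply (psuCtx hF hn h32) hyy hd, suEquiv_coe, suHom_apply]
  show (g.1.1 * A.1.1.map ρ * (g.1⁻¹).1) *ᵥ _ = _
  rw [← mulVec_mulVec, mulVec_mulVec _ (g.1⁻¹).1, Units.inv_mul, one_mulVec, ← mulVec_mulVec,
    map_mulVec_fin, hAz, hermB_gu, hermB_map, ← mulVec_smul, ← mulVec_add]
  refine congrArg _ (funext fun i => ?_)
  simp

/-- A semilinear map fixing every isotropic point is linear. -/
theorem semilinear_fix_points {V : Type*} [AddCommGroup V] [Module F V] [FiniteDimensional F V]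
    {σ : F →+* F} {B : V →ₛₗ[σ] V →ₗ[F] F} (K : UCtx B) (G : V → V) (ρ : F ≃+* F)
    (hadd : ∀ u v, G (u + v) = G u + G v) (hsmul : ∀ (a : F) v, G (a • v) = ρ a • G v)
    (hinj : Function.Injective G)
    (hfix : ∀ x, B x x = 0 → x ≠ 0 → ∃ a : F, G x = a • x) : ρ = RingEquiv.refl F := by
  have H := K.herm
  obtain ⟨e, he0, hee⟩ := H.exists_isotropic K.three
  obtain ⟨f, hef, hff⟩ := H.exists_hyperbolic he0 hee
  have hfe := H.eq_one_comm hef
  have hf0 : f ≠ 0 := fun h => by simp [h] at hef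
  have h0 : G 0 = 0 := by
    have h1 := hadd 0 0
    rw [add_zero] at h1
    exact add_eq_right.1 h1.symm
  obtain ⟨a, ha⟩ := hfix e hee he0
  obtain ⟨b, hb⟩ := hfix f hff hf0
  have hb0 : b ≠ 0 := fun h' => hf0 (hinj (by rw [hb, h', zero_smul, h0]))
  obtain ⟨τ, hτ0, hτ⟩ := H.exists_trace_zero
  have hzτ : B (τ • e + f) (τ • e + f) = 0 := by
    simp only [map_add, map_smulₛₗ, LinearMap.add_apply, LinearMap.smul_apply, smul_eq_mul,
      RingHom.id_apply, hee, hff, hef, hfe]
    linear_combination hτ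
  obtain ⟨d, hd⟩ := hfix _ hzτ (fun h' => by simpa [hee, hef] using congrArg (B e) h')
  rw [hadd, hsmul, ha, hb] at hd
  have hd1 : b = d := by simpa [hee, hef] using congrArg (B e) hd
  have hd2 : ρ τ * a = d * τ := by simpa [hff, hfe] using congrArg (B f) hd
  rw [← hd1] at hd2
  have key : ∀ x : F, x + σ x ≠ 0 → ρ x = x := by
    intro x hx
    obtain ⟨w, hew, hfw, hww⟩ := H.exists_perp_value K.three hee hff hef
      (a := -(x + σ x)) (by rw [map_neg, map_add, H.invol]; ring)
    have hwe := H.eq_zero_comm hew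
    have hwf := H.eq_zero_comm hfw
    have hww0 : B w w ≠ 0 := by rw [hww]; exact neg_ne_zero.2 hx
    have hz : B (x • e + f + w) (x • e + f + w) = 0 := by
      simp only [map_add, map_smulₛₗ, LinearMap.add_apply, LinearMap.smul_apply, smul_eq_mul,
        RingHom.id_apply, hee, hff, hef, hfe, hew, hfw, hwe, hwf, hww]
      ring
    have hz' : B ((x + τ) • e + f + w) ((x + τ) • e + f + w) = 0 := by
      simp only [map_add, map_smulₛₗ, LinearMap.add_apply, LinearMap.smul_apply, smul_eq_mul,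
        RingHom.id_apply, hee, hff, hef, hfe, hew, hfw, hwe, hwf, hww]
      linear_combination hτ
    have hz'' : B (e + x • f + w) (e + x • f + w) = 0 := by
      simp only [map_add, map_smulₛₗ, LinearMap.add_apply, LinearMap.smul_apply, smul_eq_mul,
        RingHom.id_apply, hee, hff, hef, hfe, hew, hfw, hwe, hwf, hww]
      ring
    obtain ⟨c, hc⟩ := hfix _ hz (fun h' => by simpa [hee, hef, hew] using congrArg (B e) h')
    obtain ⟨c', hc'⟩ := hfix _ hz' (fun h' => by simpa [hee, hef, hew] using congrArg (B e) h')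
    obtain ⟨c'', hc''⟩ := hfix _ hz''
      (fun h' => by simpa [hff, hfe, hfw] using congrArg (B f) h')
    rw [hadd, hadd, hsmul, ha, hb] at hc
    have hGw : G w = c • (x • e + f + w) - ρ x • a • e - b • f := by rw [← hc]; abel
    rw [hadd, hadd, hsmul, ha, hb, map_add, hGw] at hc'
    rw [hadd, hadd, hsmul, ha, hb, hGw] at hc''
    have e1 : c' = c := by
      have := congrArg (B e) hc'
      simp [hee, hef, hew] at this
      linear_combination -this
    have e2 : ρ τ * a = c * τ := by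
      have := congrArg (B f) hc'
      simp [hff, hfe, hfw, e1] at this
      linear_combination this
    have e3 : c = b := mul_right_cancel₀ hτ0 (e2.symm.trans hd2)
    have e4 : c'' = c := by
      have := congrArg (B w) hc''
      simp [hwe, hwf] at this
      exact this.resolve_right hww0 |>.symm
    have e5 : ρ x * b = b * x := by
      have := congrArg (B e) hc''
      simp [hee, hef, hew, e4, e3] at this
      linear_combination this
    exact mul_right_cancel₀ hb0 (e5.trans (mul_comm _ _))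
  obtain ⟨r, hr⟩ := H.exists_trace (map_one σ)
  refine RingEquiv.ext fun x => ?_
  by_cases hx : x + σ x = 0
  · have h1 := key (x + r) (by
      rw [map_add, show x + r + (σ x + σ r) = (x + σ x) + (r + σ r) by ring, hx, hr, zero_add]
      exact one_ne_zero)
    rw [map_add, key r (by rw [hr]; exact one_ne_zero)] at h1
    exact add_right_cancel h1
  · exact key x hx

/-- A linear map of the unitary space fixing every isotropic point is a scalar. -/
theorem psu_scalar_of_fix (hF : Fintype.card F = q ^ 2) (hn : 3 ≤ n) (g : Cfsg.GU n F q)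
    (h : ∀ x : Fin n → F, hermB hF n x x = 0 → x ≠ 0 → ∃ a : F, g.1.1 *ᵥ x = a • x) :
    ∃ c : Fˣ, g.1.1 = (c : F) • 1 := by
  obtain ⟨a, ha⟩ := exists_scalar_of_fix_isotropic (isHermSpace_hermB hF n) (by simpa using hn)
    (guEquiv hF n g) (fun x hx hx0 => by
      obtain ⟨a, ha⟩ := h x hx hx0
      exact ⟨a, (guEquiv_apply hF g x).trans ha⟩)
  have ha' : g.1.1 = a • 1 := Matrix.ext_iff_mulVec.2 fun v => by
    rw [smul_mulVec, one_mulVec]
    exact ha v
  have ha0 : a ≠ 0 := fun h0 => by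
    haveI : Nonempty (Fin n) := ⟨⟨0, by omega⟩⟩
    exact g.1.isUnit.ne_zero (by rw [ha', h0, zero_smul])
  exact ⟨Units.mk0 a ha0, ha'⟩

theorem suConj_scalar (g : Cfsg.GU n F q) (c : Fˣ) (hg : g.1.1 = (c : F) • 1) : suConj g = 1 := by
  refine MulEquiv.ext fun s => Subtype.ext (Subtype.ext ?_)
  show g.1.1 * s.1.1 * (g.1⁻¹).1 = s.1.1
  rw [show g.1.1 * s.1.1 = s.1.1 * g.1.1 by rw [hg, smul_mul, one_mul, mul_smul_comm, mul_one],
    mul_assoc, Units.mul_inv, mul_one]

theorem psuSemiAut_eq_one_iff (hF : Fintype.card F = q ^ 2) (hn : 3 ≤ n) (h32 : ¬ (n = 3 ∧ q = 2))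
    (g : Cfsg.GU n F q) (ρ : F ≃+* F) :
    psuSemiAut g ρ = 1 ↔ ρ = RingEquiv.refl F ∧ ∃ c : Fˣ, g.1.1 = (c : F) • 1 := by
  constructor
  · intro h
    have hpt : ∀ x : Fin n → F, hermB hF n x x = 0 → x ≠ 0 →
        ∃ a : F, g.1.1 *ᵥ (fun i => ρ (x i)) = a • x := by
      intro x hx hx0
      have h1 := psuSemiAut_sends hF hn h32 g ρ hx0 hx
      rw [h, map_one] at h1
      obtain ⟨a, -, ha⟩ := Sends.line (psuCtx hF hn h32) h1 (sends_one (psuCtx hF hn h32) hx0 hx)
      exact ⟨a, ha⟩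
    have hρ : ρ = RingEquiv.refl F := semilinear_fix_points (psuCtx hF hn h32)
      (fun x => g.1.1 *ᵥ fun i => ρ (x i)) ρ
      (fun u v => by rw [← mulVec_add]; exact congrArg _ (funext fun i => map_add ρ _ _))
      (fun a v => by rw [← mulVec_smul]; exact congrArg _ (funext fun i => map_mul ρ _ _))
      (fun u v huv => by
        have h1 := congrArg ((g.1⁻¹).1 *ᵥ ·) huv
        simp only [mulVec_mulVec, Units.inv_mul, one_mulVec] at h1
        exact funext fun i => ρ.injective (congrFun h1 i))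
      hpt
    subst hρ
    exact ⟨rfl, psu_scalar_of_fix hF hn g hpt⟩
  · rintro ⟨rfl, c, hc⟩
    rw [psuSemiAut, suConj_scalar g c hc, one_mul, show suField (RingEquiv.refl F) = 1 from
      map_one suField, map_one]

/-- Every automorphism of `PSU_n(q)` is semilinear. -/
theorem exists_psuSemiAut (hF : Fintype.card F = q ^ 2) (hn : 3 ≤ n) (h32 : ¬ (n = 3 ∧ q = 2))
    (β : MulAut (Cfsg.PSU n F q)) : ∃ g ρ, β = psuSemiAut g ρ := by
  let K := psuCtx hF hn h32
  have H := K.herm
  obtain ⟨G, ρ, k, hk0, hsk, hGs, hGB, hG⟩ :=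
    exists_semisimilitude K (psuArith hF hn h32) (psuTransport hF hn h32 β)
  obtain ⟨l, hl⟩ := H.norm_surj k⁻¹ (by rw [map_inv₀, hsk])
  have hl0 : l ≠ 0 := fun h0 => by
    simp [h0] at hl
    exact hk0 hl.symm
  let ι : (Fin n → F) → (Fin n → F) := fun v i => ρ.symm (v i)
  let L : (Fin n → F) →ₗ[F] (Fin n → F) :=
    { toFun := fun v => l • G (ι v)
      map_add' := fun u v => by
        rw [show ι (u + v) = ι u + ι v from funext fun i => map_add ρ.symm _ _, map_add, smul_add]
      map_smul' := fun a v => by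
        rw [show ι (a • v) = ρ.symm a • ι v from funext fun i => map_mul ρ.symm _ _, hGs,
          RingEquiv.apply_symm_apply, smul_comm]
        rfl }
  have hL : ∀ u v, hermB hF n (L u) (L v) = hermB hF n u v := fun u v => by
    show hermB hF n (l • G (ι u)) (l • G (ι v)) = _
    simp only [map_smulₛₗ, LinearMap.smul_apply, smul_eq_mul, RingHom.id_apply, hGB]
    rw [show l * (qFrob hF l * (k * ρ (hermB hF n (ι u) (ι v)))) =
      (qFrob hF l * l * k) * ρ (hermB hF n (ι u) (ι v)) by ring, hl, inv_mul_cancel₀ hk0, one_mul,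
      ← hermB_map]
    simp [ι]
  have hLinj : Function.Injective L := fun u v huv => sub_eq_zero.1 (H.sep _ fun z => by
    rw [map_sub, LinearMap.sub_apply, ← hL u z, ← hL v z, huv, sub_self])
  let Le : (Fin n → F) ≃ₗ[F] (Fin n → F) :=
    LinearEquiv.ofBijective L ⟨hLinj, Finite.injective_iff_surjective.1 hLinj⟩
  obtain ⟨g, hg⟩ := (guEquiv hF n).surjective ⟨Le, hL⟩
  have hgx : ∀ x : Fin n → F, (g.1.1 *ᵥ fun i => ρ (x i)) = l • G x := fun x => by
    rw [← guEquiv_apply hF, hg]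
    show l • G (ι fun i => ρ (x i)) = l • G x
    simp [ι]
  refine ⟨g, ρ, (psuTransport hF hn h32).injective ?_⟩
  refine inv_mul_eq_one.1 (eq_one_of_sends_self K
    ((psuTransport hF hn h32 β)⁻¹ * psuTransport hF hn h32 (psuSemiAut g ρ)) fun x hx0 hx => ?_)
  have h1 := psuSemiAut_sends hF hn h32 g ρ hx0 hx
  rw [hgx] at h1
  exact Sends.comp K h1 (Sends.symm K (Sends.smul_right K (hG x hx0 hx) hl0))

end CfsgLib.KnownC
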