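import Cfsg.Agent.Lib.KnownC.FieldDescent

set_option autoImplicit false

/-!
Fixed fields of automorphisms of a finite field; subgroups of the unit group.
-/

namespace CfsgLib.KnownC

theorem index_sup_of_isCyclic {G : Type*} [CommGroup G] [IsCyclic G] [Finite G] (A B : Subgroup G) :
    (A ⊔ B).index = Nat.gcd A.index B.index := by
  have hle : ∀ (C : Subgroup G) (d : ℕ), d ∣ C.index → C ≤ (powMonoidHom d : G →* G).range := by
    intro C d hd x hx
    obtain ⟨g, hg⟩ := IsCyclic.exists_generator (α := G)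
    obtain ⟨k, rfl⟩ := mem_powers_iff_mem_zpowers.2 (hg x)
    have h1 : (g ^ k) ^ Nat.card C = 1 := by
      have h := pow_card_eq_one' (G := C) (x := ⟨g ^ k, hx⟩)
      exact congrArg Subtype.val h
    have h2 : Nat.card G ∣ k * Nat.card C := by
      rw [← orderOf_eq_card_of_forall_mem_zpowers hg, orderOf_dvd_iff_pow_eq_one, pow_mul]
      exact h1
    rw [← C.card_mul_index, mul_comm k] at h2
    obtain ⟨e, he⟩ := hd.trans (Nat.dvd_of_mul_dvd_mul_left Nat.card_pos h2)
    exact ⟨g ^ e, by rw [powMonoidHom_apply, ← pow_mul, mul_comm, ← he]⟩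
  refine Nat.dvd_antisymm (Nat.dvd_gcd (Subgroup.index_dvd_of_le le_sup_left)
    (Subgroup.index_dvd_of_le le_sup_right)) ?_
  have h := Subgroup.index_dvd_of_le (sup_le (hle A _ (Nat.gcd_dvd_left A.index B.index))
    (hle B _ (Nat.gcd_dvd_right A.index B.index)))
  rwa [IsCyclic.index_powMonoidHom_range, Nat.gcd_eq_right] at h
  exact (Nat.gcd_dvd_left _ _).trans A.index_dvd_card

variable {F : Type*} [Field F] [Fintype F]

/-- A subfield of the right size is the fixed field. -/
theorem exists_fixed_embedding (σ : F ≃+* F) {p f : ℕ} [Fact p.Prime]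
    (hF : Fintype.card F = p ^ f) :
    orderOf σ ∣ f ∧
      (Nat.card {x : F // σ x = x} = p ^ (f / orderOf σ)) ∧
      ∀ (F₀ : Type*) [Field F₀] [Fintype F₀], Fintype.card F₀ = p ^ (f / orderOf σ) →
        ∃ ι : F₀ →+* F, ∀ x, σ x = x ↔ ∃ a, ι a = x := by
  classical
  haveI : Finite (F ≃+* F) :=
    Finite.of_injective (fun s : F ≃+* F => (s : F → F)) DFunLike.coe_injective
  let G := Subgroup.zpowers σ
  haveI : Finite G := inferInstance
  letI : Fintype G := Fintype.ofFinite G
  haveI : FaithfulSMul G F := ⟨fun h => Subtype.ext (RingEquiv.ext h)⟩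
  let K := FixedPoints.subfield G F
  letI : Fintype K := Fintype.ofFinite K
  have hcardG : Fintype.card G = orderOf σ := by rw [← Nat.card_eq_fintype_card, Nat.card_zpowers]
  have hdim : Fintype.card F = Fintype.card K ^ orderOf σ := by
    rw [← hcardG, ← FixedPoints.finrank_eq_card G F]
    exact Module.card_eq_pow_finrank
  have hmem : ∀ x : F, x ∈ K ↔ σ x = x := fun x => by
    refine ⟨fun h => h ⟨σ, Subgroup.mem_zpowers σ⟩, fun h => ?_⟩
    rintro ⟨τ, hτ⟩
    exact (Subgroup.zpowers_le (H := MulAction.stabilizer (F ≃+* F) x)).2 h hτ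
  have hpos : 0 < orderOf σ := orderOf_pos σ
  obtain ⟨m, -, hm⟩ := (Nat.dvd_prime_pow (Fact.out : p.Prime)).1
    (show Fintype.card K ∣ p ^ f by rw [← hF, hdim]; exact dvd_pow_self _ hpos.ne')
  have hf : f = m * orderOf σ := by
    rw [hF, hm, ← pow_mul] at hdim
    exact Nat.pow_right_injective (Fact.out : p.Prime).two_le hdim
  have hKcard : Fintype.card K = p ^ (f / orderOf σ) := by
    rw [hm, hf, Nat.mul_div_cancel _ hpos]
  refine ⟨⟨m, by rw [hf, mul_comm]⟩, ?_, fun F₀ _ _ h0 => ?_⟩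
  · rw [← hKcard, ← Nat.card_eq_fintype_card]
    exact Nat.card_congr (Equiv.subtypeEquivRight fun x => (hmem x).symm)
  · let e : F₀ ≃+* K := FiniteField.ringEquivOfCardEq (h0.trans hKcard.symm)
    refine ⟨K.subtype.comp (e : F₀ →+* K), fun x => ?_⟩
    rw [← hmem]
    exact ⟨fun h => ⟨e.symm ⟨x, h⟩, congrArg Subtype.val (e.apply_symm_apply ⟨x, h⟩)⟩,
      fun ⟨a, ha⟩ => ha ▸ (e a).2⟩

theorem card_fixed_units (σ : F ≃+* F) {p f : ℕ} [Fact p.Prime] (hF : Fintype.card F = p ^ f) :
    Nat.card (unitTwist σ).ker = p ^ (f / orderOf σ) - 1 := by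
  classical
  obtain ⟨-, hc, -⟩ := exists_fixed_embedding.{_, 0} σ hF
  let e : (unitTwist σ).ker ≃ {x : {x : F // σ x = x} // x.1 ≠ 0} :=
    { toFun := fun u => ⟨⟨(u.1 : F), (mem_unitTwist_ker σ u.1).1 u.2⟩, u.1.ne_zero⟩
      invFun := fun x => ⟨Units.mk0 x.1.1 x.2, (mem_unitTwist_ker σ _).2 x.1.2⟩
      left_inv := fun u => Subtype.ext (Units.ext rfl)
      right_inv := fun x => rfl }
  have h : Nat.card {x : {x : F // σ x = x} // x.1 ≠ 0} + 1 = Nat.card {x : F // σ x = x} := by
    rw [← Finite.card_option]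
    refine Nat.card_congr ((Equiv.optionCongr (Equiv.subtypeEquivRight fun x => ?_)).trans
      (Equiv.optionSubtypeNe (⟨0, map_zero σ⟩ : {x : F // σ x = x})))
    simp [Subtype.ext_iff]
  rw [Nat.card_congr e, ← hc]
  omega

end CfsgLib.KnownC
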