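import Mathlib
import Cfsg.Prelude.Def_LieTypeDatum

set_option autoImplicit false

/-!
Splitting of a class under a normal subgroup, and transport along conjugation.
-/

namespace CfsgLib.KnownC

variable {X : Type*} [Group X]

/-- The number of classes into which a class splits is an index. -/
theorem splitClassCount_eq (H K : Subgroup X) [K.Normal] (hKH : K ≤ H) (x : X) :
    Cfsg.splitClassCount H K x = (K ⊔ H ⊓ Subgroup.centralizer {x}).relIndex H := by
  set L := K ⊔ H ⊓ Subgroup.centralizer {x} with hL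
  let π : H → Quot (fun y z : {y : X // Cfsg.IsConjUnder H x y} => Cfsg.IsConjUnder K y.1 z.1) :=
    fun h => Quot.mk _ ⟨h.1 * x * h.1⁻¹, h.1, h.2, rfl⟩
  have hequiv : Equivalence (fun y z : {y : X // Cfsg.IsConjUnder H x y} =>
      Cfsg.IsConjUnder K y.1 z.1) := by
    refine ⟨fun y => ⟨1, one_mem K, by simp⟩, ?_, ?_⟩
    · rintro y z ⟨k, hk, hz⟩
      exact ⟨k⁻¹, inv_mem hk, by rw [hz]; group⟩
    · rintro y z w ⟨k, hk, hz⟩ ⟨k', hk', hw⟩
      exact ⟨k' * k, mul_mem hk' hk, by rw [hw, hz]; group⟩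
  have hπ : ∀ a b : H, π a = π b ↔ a⁻¹ * b ∈ L.subgroupOf H := by
    intro a b
    rw [Subgroup.mem_subgroupOf]
    constructor
    · intro h
      obtain ⟨k, hk, hkk⟩ := hequiv.quot_mk_eq_iff _ _ |>.1 h
      dsimp only at hkk
      have hc : a.1⁻¹ * k⁻¹ * b.1 ∈ H ⊓ Subgroup.centralizer {x} := by
        refine Subgroup.mem_inf.2 ⟨mul_mem (mul_mem (inv_mem a.2) (inv_mem (hKH hk))) b.2,
          Subgroup.mem_centralizer_singleton_iff.2 ?_⟩
        calc a.1⁻¹ * k⁻¹ * b.1 * x = a.1⁻¹ * k⁻¹ * (b.1 * x * b.1⁻¹) * b.1 := by group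
          _ = _ := by rw [hkk]; group
      rw [show ((a⁻¹ * b : H) : X) = (a.1⁻¹ * k * a.1) * (a.1⁻¹ * k⁻¹ * b.1) by
        push_cast; group]
      refine mul_mem (Subgroup.mem_sup_left ?_) (Subgroup.mem_sup_right hc)
      simpa using Subgroup.Normal.conj_mem (H := K) inferInstance k hk a.1⁻¹
    · intro h
      rw [hL, ← SetLike.mem_coe, Subgroup.normal_mul] at h
      obtain ⟨k, hk, c, hc, hkc⟩ := h
      refine Quot.sound ⟨a.1 * k * a.1⁻¹, Subgroup.Normal.conj_mem inferInstance k hk a.1, ?_⟩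
      have hb : b.1 = a.1 * k * c := by
        push_cast at hkc
        rw [mul_assoc, hkc, mul_inv_cancel_left]
      have hcx : c * x * c⁻¹ = x := by
        rw [Subgroup.mem_centralizer_singleton_iff.1 hc.2, mul_inv_cancel_right]
      calc b.1 * x * b.1⁻¹ = a.1 * k * (c * x * c⁻¹) * k⁻¹ * a.1⁻¹ := by rw [hb]; group
        _ = _ := by rw [hcx]; group
  let e : H ⧸ L.subgroupOf H → Quot (fun y z : {y : X // Cfsg.IsConjUnder H x y} =>
      Cfsg.IsConjUnder K y.1 z.1) :=
    Quotient.lift π fun a b h => (hπ a b).2 (QuotientGroup.leftRel_apply.1 h)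
  have he : Function.Bijective e := by
    constructor
    · intro a b
      obtain ⟨a, rfl⟩ := QuotientGroup.mk_surjective a
      obtain ⟨b, rfl⟩ := QuotientGroup.mk_surjective b
      exact fun h => QuotientGroup.eq.2 ((hπ a b).1 h)
    · intro y
      obtain ⟨⟨y, h, hh, rfl⟩, rfl⟩ := Quot.exists_rep y
      exact ⟨QuotientGroup.mk ⟨h, hh⟩, rfl⟩
  exact (Nat.card_eq_of_bijective e he).symm

variable (H : Subgroup X) [H.Normal]

theorem isConjUnder_conj_iff (α x y : X) :
    Cfsg.IsConjUnder H (α * x * α⁻¹) (α * y * α⁻¹) ↔ Cfsg.IsConjUnder H x y := by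
  constructor
  · rintro ⟨h, hh, he⟩
    refine ⟨α⁻¹ * h * α, by simpa using Subgroup.Normal.conj_mem (H := H) inferInstance h hh α⁻¹, ?_⟩
    calc y = α⁻¹ * (α * y * α⁻¹) * α := by group
      _ = _ := by rw [he]; group
  · rintro ⟨h, hh, rfl⟩
    exact ⟨α * h * α⁻¹, Subgroup.Normal.conj_mem inferInstance h hh α, by group⟩

theorem map_conj_inf_centralizer (α x : X) :
    (H ⊓ Subgroup.centralizer {x}).map (MulAut.conj α).toMonoidHom =
      H ⊓ Subgroup.centralizer {α * x * α⁻¹} := by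
  ext z
  constructor
  · rintro ⟨w, ⟨hw, hwx⟩, rfl⟩
    refine ⟨Subgroup.Normal.conj_mem inferInstance w hw α, Subgroup.mem_centralizer_singleton_iff.2 ?_⟩
    have hwx' := Subgroup.mem_centralizer_singleton_iff.1 hwx
    show α * w * α⁻¹ * (α * x * α⁻¹) = α * x * α⁻¹ * (α * w * α⁻¹)
    calc α * w * α⁻¹ * (α * x * α⁻¹) = α * (w * x) * α⁻¹ := by group
      _ = _ := by rw [hwx']; group
  · rintro ⟨hz, hzx⟩
    refine ⟨α⁻¹ * z * α, ⟨by simpa using Subgroup.Normal.conj_mem (H := H) inferInstance z hz α⁻¹,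
      Subgroup.mem_centralizer_singleton_iff.2 ?_⟩, by simp [MulAut.conj_apply]; group⟩
    have hzx' := Subgroup.mem_centralizer_singleton_iff.1 hzx
    calc α⁻¹ * z * α * x = α⁻¹ * (z * (α * x * α⁻¹)) * α := by group
      _ = _ := by rw [hzx']; group

theorem centralizer_conj_equiv (α x : X) :
    Nonempty (↥(H ⊓ Subgroup.centralizer {x}) ≃* ↥(H ⊓ Subgroup.centralizer {α * x * α⁻¹})) :=
  ⟨((H ⊓ Subgroup.centralizer {x}).equivMapOfInjective _ (MulAut.conj α).injective).trans
    (MulEquiv.subgroupCongr (map_conj_inf_centralizer H α x))⟩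

theorem splitClassCount_conj (K : Subgroup X) [K.Normal] (hKH : K ≤ H) (α x : X) :
    Cfsg.splitClassCount H K (α * x * α⁻¹) = Cfsg.splitClassCount H K x := by
  have hn : ∀ (S : Subgroup X) [S.Normal], S.map (MulAut.conj α).toMonoidHom = S := fun S _ => by
    ext z
    constructor
    · rintro ⟨w, hw, rfl⟩
      exact Subgroup.Normal.conj_mem inferInstance w hw α
    · intro hz
      exact ⟨α⁻¹ * z * α, by simpa using Subgroup.Normal.conj_mem (H := S) inferInstance z hz α⁻¹,
        by simp [MulAut.conj_apply]; group⟩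
  rw [splitClassCount_eq H K hKH, splitClassCount_eq H K hKH, ← map_conj_inf_centralizer H α x]
  conv_lhs =>
    arg 1
    arg 1
    rw [← hn K]
  rw [← Subgroup.map_sup]
  conv_lhs => arg 2; rw [← hn H]
  exact Subgroup.relIndex_map_map_of_injective _ _ (MulAut.conj α).injective

end CfsgLib.KnownC
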