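import Mathlib
import Cfsg.Agent.Lib.KnownC.AutPSUBasic
import Cfsg.Agent.Lib.KnownC.AutPSLUnitary
import Cfsg.Agent.Lib.KnownC.HermCongr
import Cfsg.Agent.Lib.KnownC.FieldUnits
import Cfsg.Agent.Lib.KnownC.SplitClass

set_option autoImplicit false
set_option linter.unusedSectionVars false
set_option linter.style.haveILetI false

/-!
Field automorphisms of `PSU_n(q)`: conjugacy and centralisers in `Inndiag`.
-/

namespace CfsgLib.KnownC

open Matrix CfsgLib.Classical CfsgLib.Geom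

variable {n q : ℕ} {F : Type*} [Field F] [Fintype F]

/-- The involution `x ↦ x^q` as an automorphism of the field. -/
noncomputable def frobQ (hF : Fintype.card F = q ^ 2) : F ≃+* F :=
  RingEquiv.ofBijective (qFrob hF)
    ⟨(qFrob hF).injective, Finite.injective_iff_surjective.1 (qFrob hF).injective⟩

theorem frobQ_apply (hF : Fintype.card F = q ^ 2) (x : F) : frobQ hF x = x ^ q :=
  qFrob_apply hF x

theorem frobQ_frobQ (hF : Fintype.card F = q ^ 2) (x : F) : frobQ hF (frobQ hF x) = x :=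
  qFrob_qFrob hF x

theorem orderOf_frobQ (hF : Fintype.card F = q ^ 2) : orderOf (frobQ hF) = 2 :=
  orderOf_eq_prime (by rw [sq]; exact RingEquiv.ext (frobQ_frobQ hF)) fun h =>
    qFrob_ne_id hF (RingHom.ext fun x => RingEquiv.congr_fun h x)

theorem frobQ_comm (hF : Fintype.card F = q ^ 2) (ρ : F ≃+* F) (a : F) :
    ρ (frobQ hF a) = frobQ hF (ρ a) :=
  qFrob_comm hF ρ a

theorem mem_GU_iff_frobQ (hF : Fintype.card F = q ^ 2) (h : GL (Fin n) F) :
    h ∈ Cfsg.GU n F q ↔ (h.1.map (frobQ hF))ᵀ * h.1 = 1 := by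
  rw [mem_GU_iff (frobQ hF) (frobQ_apply hF) (frobQ_frobQ hF), hermSq, mul_eq_one_comm]

theorem psuSemiAut_eq_mul (g : Cfsg.GU n F q) (ρ : F ≃+* F) :
    psuSemiAut g ρ = psuInndiagHom g * psuSemiAut 1 ρ := by
  rw [psuInndiagHom_apply, psuSemiAut_mul, map_one, mul_one]
  rfl

theorem psuSemiAut_one_mul_inndiag (ρ : F ≃+* F) (h : Cfsg.GU n F q) :
    psuSemiAut 1 ρ * psuInndiagHom h = psuInndiagHom (guMap ρ h) * psuSemiAut 1 ρ := by
  rw [← psuSemiAut_eq_mul, psuInndiagHom_apply, psuSemiAut_mul, one_mul]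
  rfl

/-- `g ρ(g) ⋯ ρ^{k-1}(g)` inside `GU`. -/
def guNorm (ρ : F ≃+* F) (g : Cfsg.GU n F q) : ℕ → Cfsg.GU n F q
  | 0 => 1
  | k + 1 => g * guMap ρ (guNorm ρ g k)

theorem guNorm_val (ρ : F ≃+* F) (g : Cfsg.GU n F q) (k : ℕ) :
    (guNorm ρ g k).1 = normProd ρ g.1 k := by
  induction k with
  | zero => rfl
  | succ k ih =>
    rw [normProd_succ, ← ih]
    rfl

theorem psuSemiAut_pow (g : Cfsg.GU n F q) (ρ : F ≃+* F) (k : ℕ) :
    psuSemiAut g ρ ^ k = psuSemiAut (guNorm ρ g k) (ρ ^ k) := by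
  induction k with
  | zero => rw [pow_zero, pow_zero]; exact psuSemiAut_one.symm
  | succ k ih => rw [pow_succ', ih, psuSemiAut_mul, pow_succ' ρ]; rfl

theorem psuSemiAut_one_pow (ρ : F ≃+* F) (k : ℕ) :
    psuSemiAut (1 : Cfsg.GU n F q) ρ ^ k = psuSemiAut 1 (ρ ^ k) := by
  induction k with
  | zero => rw [pow_zero, pow_zero]; exact psuSemiAut_one.symm
  | succ k ih => rw [pow_succ', ih, psuSemiAut_mul, map_one, mul_one, pow_succ']

theorem orderOf_psuSemiAut_one (hF : Fintype.card F = q ^ 2) (hn : 3 ≤ n) (h32 : ¬ (n = 3 ∧ q = 2))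
    (ρ : F ≃+* F) : orderOf (psuSemiAut (1 : Cfsg.GU n F q) ρ) = orderOf ρ := by
  refine orderOf_eq_orderOf_iff.2 fun k => ?_
  rw [psuSemiAut_one_pow, psuSemiAut_eq_one_iff hF hn h32]
  exact ⟨fun h => h.1, fun h => ⟨h, 1, by simp⟩⟩

theorem psuInndiagHom_eq_iff (hF : Fintype.card F = q ^ 2) (hn : 3 ≤ n) (h32 : ¬ (n = 3 ∧ q = 2))
    (g h : Cfsg.GU n F q) :
    psuInndiagHom g = psuInndiagHom h ↔ ∃ c : Fˣ, g.1.1 = (c : F) • h.1.1 := by
  rw [← inv_mul_eq_one, ← map_inv, ← map_mul, psuInndiagHom_apply, psuSemiAut_eq_one_iff hF hn h32,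
    and_iff_right rfl]
  show (∃ c : Fˣ, (g.1⁻¹).1 * h.1.1 = (c : F) • 1) ↔ _
  constructor
  · rintro ⟨c, hc⟩
    refine ⟨c⁻¹, ?_⟩
    have := congrArg (g.1.1 * ·) hc
    simp only [← mul_assoc, Units.mul_inv, one_mul, mul_smul_comm, mul_one] at this
    rw [this, smul_smul, Units.inv_mul, one_smul]
  · rintro ⟨c, hc⟩
    refine ⟨c⁻¹, ?_⟩
    have h1 : h.1.1 = ((c⁻¹ : Fˣ) : F) • g.1.1 := by rw [hc, smul_smul, Units.inv_mul, one_smul]
    rw [h1, mul_smul_comm, Units.inv_mul]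

/-- `Inndiag(PSU)` is normal. -/
theorem inndiagPSU_normal (hF : Fintype.card F = q ^ 2) (hn : 3 ≤ n) (h32 : ¬ (n = 3 ∧ q = 2)) :
    (Cfsg.inndiagPSU n F q).Normal := by
  refine ⟨fun x hx α => ?_⟩
  rw [inndiagPSU_eq_range] at hx ⊢
  obtain ⟨k, rfl⟩ := hx
  obtain ⟨g, ρ, rfl⟩ := exists_psuSemiAut hF hn h32 α
  refine ⟨g * guMap ρ k * g⁻¹, ?_⟩
  rw [eq_mul_inv_iff_mul_eq, psuSemiAut_eq_mul g ρ, mul_assoc (psuInndiagHom g),
    psuSemiAut_one_mul_inndiag, ← mul_assoc, ← map_mul, ← mul_assoc, ← map_mul, inv_mul_cancel_right]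

/-- Hilbert 90 relative to a commuting involution, for odd order. -/
theorem exists_twist_fixed (σ τ : F ≃+* F) (hττ : ∀ x, τ (τ x) = x) (hcomm : ∀ x, σ (τ x) = τ (σ x))
    (ν : Fˣ) (hτν : τ (ν : F) = ν) (hν : unitNorm σ ν = 1) (hodd : Odd (orderOf σ)) :
    ∃ w : Fˣ, τ (w : F) = w ∧ ν = unitTwist σ w := by
  obtain ⟨k, hk⟩ := hodd
  let A := (unitTwist τ).ker
  let S : Subgroup Fˣ := A.map (unitTwist σ)
  have hA : ∀ i, Units.map ((σ ^ i : F ≃+* F) : F →+* F).toMonoidHom ν ∈ A := by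
    intro i
    rw [mem_unitTwist_ker]
    show τ ((σ ^ i) (ν : F)) = (σ ^ i) (ν : F)
    induction i with
    | zero => exact hτν
    | succ i ih => rw [pow_succ', RingAut.mul_apply, ← hcomm, ih]
  have hdiv : ∀ i, ν / Units.map ((σ ^ i : F ≃+* F) : F →+* F).toMonoidHom ν ∈ S := by
    intro i
    induction i with
    | zero =>
      rw [show Units.map ((σ ^ 0 : F ≃+* F) : F →+* F).toMonoidHom ν = ν from Units.ext rfl, div_self']
      exact one_mem S
    | succ i ih =>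
      have e : ν / Units.map ((σ ^ (i + 1) : F ≃+* F) : F →+* F).toMonoidHom ν =
          ν / Units.map ((σ ^ i : F ≃+* F) : F →+* F).toMonoidHom ν *
            unitTwist σ (Units.map ((σ ^ i : F ≃+* F) : F →+* F).toMonoidHom ν) := by
        have e2 : Units.map ((σ ^ (i + 1) : F ≃+* F) : F →+* F).toMonoidHom ν =
            Units.map (σ : F →+* F).toMonoidHom
              (Units.map ((σ ^ i : F ≃+* F) : F →+* F).toMonoidHom ν) :=
          Units.ext (by rw [pow_succ']; rfl)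
        rw [e2, unitTwist, MonoidHom.div_apply, MonoidHom.id_apply, div_mul_div_cancel]
      rw [e]
      exact mul_mem ih ⟨_, hA i, rfl⟩
  have hpow : ν ^ orderOf σ ∈ S := by
    have e : ν ^ orderOf σ = ∏ i ∈ Finset.range (orderOf σ),
        ν / Units.map ((σ ^ i : F ≃+* F) : F →+* F).toMonoidHom ν := by
      rw [Finset.prod_div_distrib, Finset.prod_const, Finset.card_range, ← unitNorm_apply, hν, div_one]
    rw [e]
    exact Subgroup.prod_mem _ fun i _ => hdiv i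
  have hsq : ν ^ 2 ∈ S := by
    obtain ⟨u, hu⟩ : ν ∈ (unitTwist σ).range := by rw [← unitNorm_ker]; exact MonoidHom.mem_ker.2 hν
    refine ⟨u * Units.map (τ : F →+* F).toMonoidHom u, (mem_unitTwist_ker _ _).2 ?_, Units.ext ?_⟩
    · show τ ((u : F) * τ u) = (u : F) * τ u
      rw [map_mul, hττ, mul_comm]
    · have h1 : (u : F) / σ (u : F) = ν := by rw [← coe_unitTwist, hu]
      rw [coe_unitTwist, Units.val_pow_eq_pow_val, Units.val_mul]
      show (u : F) * τ u / σ ((u : F) * τ u) = (ν : F) ^ 2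
      rw [map_mul, hcomm, mul_div_mul_comm, ← map_div₀, h1, hτν, sq]
  have hνS : ν ∈ S := by
    have e : ν = ν ^ orderOf σ * ((ν ^ 2) ^ k)⁻¹ := by
      rw [hk, ← pow_mul, pow_succ', mul_inv_cancel_right]
    rw [e]
    exact mul_mem hpow (inv_mem (pow_mem hsq k))
  obtain ⟨w, hw, hwν⟩ := hνS
  exact ⟨w, (mem_unitTwist_ker _ _).1 hw, hwν.symm⟩

theorem frobQ_embedding {q₀ r : ℕ} {F₀ : Type*} [Field F₀] [Fintype F₀]
    (hF : Fintype.card F = q ^ 2) (hF₀ : Fintype.card F₀ = q₀ ^ 2) (hq : q = q₀ ^ r) (hr : Odd r)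
    (ι : F₀ →+* F) (x : F₀) : frobQ hF (ι x) = ι (frobQ hF₀ x) := by
  obtain ⟨k, rfl⟩ := hr
  rw [frobQ_apply, frobQ_apply, ← map_pow, hq, pow_succ, pow_mul, pow_mul, ← hF₀,
    FiniteField.pow_card_pow]

theorem map_map_frobQ {q₀ r : ℕ} {F₀ : Type*} [Field F₀] [Fintype F₀]
    (hF : Fintype.card F = q ^ 2) (hF₀ : Fintype.card F₀ = q₀ ^ 2) (hq : q = q₀ ^ r) (hr : Odd r)
    (ι : F₀ →+* F) (M : Matrix (Fin n) (Fin n) F₀) :
    (M.map ι).map (frobQ hF) = (M.map (frobQ hF₀)).map ι :=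
  Matrix.ext fun i j => frobQ_embedding hF hF₀ hq hr ι (M i j)

/-- Elements of order `orderOf σ` in the coset of a field automorphism are conjugate to it. -/
theorem exists_conj_fieldPSU (hF : Fintype.card F = q ^ 2) (hn : 3 ≤ n) (h32 : ¬ (n = 3 ∧ q = 2))
    {q₀ r : ℕ} {F₀ : Type*} [Field F₀] [Fintype F₀] (hF₀ : Fintype.card F₀ = q₀ ^ 2)
    (hq : q = q₀ ^ r) (σ : F ≃+* F) (hr : orderOf σ = r) (hodd : Odd r) (ι : F₀ →+* F)
    (hι : ∀ x, σ x = x ↔ ∃ a, ι a = x) (g : Cfsg.GU n F q) (hg : psuSemiAut g σ ^ r = 1) :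
    ∃ k : Cfsg.GU n F q,
      psuSemiAut g σ = psuInndiagHom k * psuSemiAut 1 σ * (psuInndiagHom k)⁻¹ := by
  subst hr
  rw [psuSemiAut_pow, psuSemiAut_eq_one_iff hF hn h32] at hg
  obtain ⟨-, d, hd⟩ := hg
  rw [guNorm_val] at hd
  obtain ⟨h, c, hc⟩ := exists_descent_scalar (by omega) σ g.1 (by
    rw [Subgroup.mem_center_iff]
    intro z
    refine Units.ext ?_
    show z.1 * (normProd σ g.1 (orderOf σ)).1 = (normProd σ g.1 (orderOf σ)).1 * z.1
    rw [hd, smul_mul, one_mul, mul_smul_comm, mul_one])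
  set τ := frobQ hF
  let gi : GL (Fin n) F := g.1⁻¹
  have hgi : gi ∈ Cfsg.GU n F q := inv_mem g.2
  have hσh : h.1.map σ = (c : F) • (gi.1 * h.1) := by
    have h1 : GeneralLinearGroup.map (σ : F →+* F) h =
        gi * (GeneralLinearGroup.scalar (Fin n) c * h) := by rw [← hc, inv_mul_cancel_left]
    have h2 := congrArg Units.val h1
    rw [Units.val_mul, scalar_mul_val, mul_smul_comm] at h2
    exact h2
  let P : Matrix (Fin n) (Fin n) F := (h.1.map τ)ᵀ * h.1
  let ν : Fˣ := Units.map (τ : F →+* F).toMonoidHom c * c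
  have hP : P.map σ = (ν : F) • P := by
    have e1 : (h.1.map τ).map σ = τ (c : F) • (gi.1.map τ * h.1.map τ) := by
      rw [Matrix.map_map, show (σ ∘ τ : F → F) = τ ∘ σ from funext (frobQ_comm hF σ), ← Matrix.map_map,
        hσh, Matrix.map_smul' _ _ _ (map_mul τ), Matrix.map_mul]
    show ((h.1.map τ)ᵀ * h.1).map σ = (τ (c : F) * (c : F)) • ((h.1.map τ)ᵀ * h.1)
    rw [Matrix.map_mul, transpose_map, e1, hσh, transpose_smul, transpose_mul,
      smul_mul_smul_comm, mul_assoc, ← mul_assoc (gi.1.map τ)ᵀ,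
      (mem_GU_iff_frobQ hF gi).1 hgi, one_mul]
  have hτν : τ (ν : F) = ν := by
    show τ (τ (c : F) * (c : F)) = τ (c : F) * (c : F)
    rw [map_mul, frobQ_frobQ, mul_comm]
  obtain ⟨i₀, j₀, hP0⟩ : ∃ i j, P i j ≠ 0 := by
    by_contra hcon
    simp only [not_exists, not_not] at hcon
    haveI : Nonempty (Fin n) := ⟨⟨0, by omega⟩⟩
    have hz : P = 0 := Matrix.ext hcon
    have h1 : IsUnit P := by
      refine (IsUnit.mul ?_ h.isUnit)
      rw [Matrix.isUnit_iff_isUnit_det, det_transpose, ← Matrix.isUnit_iff_isUnit_det]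
      exact (GeneralLinearGroup.map (τ : F →+* F) h).isUnit
    exact h1.ne_zero hz
  have hνN : unitNorm σ ν = 1 := by
    have hk : ∀ k : ℕ, (σ ^ k) (P i₀ j₀) =
        ((∏ i ∈ Finset.range k, Units.map ((σ ^ i : F ≃+* F) : F →+* F).toMonoidHom ν : Fˣ) : F) *
          P i₀ j₀ := by
      intro k
      induction k with
      | zero => simp
      | succ k ih =>
        rw [pow_succ, RingAut.mul_apply, Finset.prod_range_succ, Units.val_mul]
        have h1 : σ (P i₀ j₀) = (ν : F) * P i₀ j₀ := congrArg (fun M : Matrix _ _ F => M i₀ j₀) hP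
        rw [h1, map_mul, ih]
        show (σ ^ k) (ν : F) * _ = _ * (σ ^ k) (ν : F) * _
        ring
    have h1 := hk (orderOf σ)
    rw [pow_orderOf_eq_one, ← unitNorm_apply] at h1
    refine Units.ext (mul_right_cancel₀ hP0 ?_)
    rw [Units.val_one, one_mul]
    exact h1.symm
  obtain ⟨w, hw, hνw⟩ := exists_twist_fixed σ τ (frobQ_frobQ hF) (frobQ_comm hF σ) ν hτν hνN hodd
  obtain ⟨e, he0, he⟩ := exists_mul_apply_eq τ (orderOf_frobQ hF) w.ne_zero hw
  have hσw : σ (w : F) ≠ 0 := (map_ne_zero σ).2 w.ne_zero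
  have hP' : ((w : F) • P).map σ = (w : F) • P := by
    rw [Matrix.map_smul' _ _ _ (map_mul σ), hP, smul_smul, hνw, coe_unitTwist, mul_div_cancel₀ _ hσw]
  choose M hM using fun i j => (hι _).1 (congrArg (fun N : Matrix _ _ F => N i j) hP')
  have hMmap : (Matrix.of M).map ι = (w : F) • P := Matrix.ext hM
  have hMdet : (Matrix.of M).det ≠ 0 := fun h0 => by
    have h1 := congrArg ι h0
    rw [RingHom.map_det, map_zero] at h1
    change ((Matrix.of M).map ι).det = 0 at h1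
    rw [hMmap, det_smul, det_mul, det_transpose] at h1
    have hh : (h.1.map τ).det ≠ 0 :=
      ((Matrix.isUnit_iff_isUnit_det _).1 (GeneralLinearGroup.map (τ : F →+* F) h).isUnit).ne_zero
    exact mul_ne_zero (pow_ne_zero _ w.ne_zero)
      (mul_ne_zero hh ((Matrix.isUnit_iff_isUnit_det _).1 h.isUnit).ne_zero) h1
  have hherm : ((Matrix.of M).map (frobQ hF₀))ᵀ = Matrix.of M := by
    refine Matrix.map_injective ι.injective ?_
    dsimp only
    rw [transpose_map, ← map_map_frobQ hF hF₀ hq hodd ι, hMmap, Matrix.map_smul' _ _ _ (map_mul τ),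
      transpose_smul, hw, Matrix.map_mul, transpose_mul, transpose_map, transpose_transpose,
      Matrix.map_map, show (τ ∘ τ : F → F) = id from funext (frobQ_frobQ hF), Matrix.map_id]
  obtain ⟨A, hA⟩ := exists_congr_one (frobQ hF₀) (orderOf_frobQ hF₀)
    (GeneralLinearGroup.mkOfDetNeZero _ hMdet) hherm
  let A' : GL (Fin n) F := GeneralLinearGroup.map ι A
  have hA' : (w : F) • P = A'.1 * (A'.1.map τ)ᵀ := by
    rw [← hMmap, show Matrix.of M = A.1 * (A.1.map (frobQ hF₀))ᵀ from hA, Matrix.map_mul,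
      transpose_map, ← map_map_frobQ hF hF₀ hq hodd ι]
    rfl
  let X : GL (Fin n) F :=
    { val := ((A'⁻¹).1.map τ)ᵀ
      inv := (A'.1.map τ)ᵀ
      val_inv := by
        rw [← transpose_mul, ← Matrix.map_mul, Units.mul_inv, Matrix.map_one _ (map_zero τ) (map_one τ),
          transpose_one]
      inv_val := by
        rw [← transpose_mul, ← Matrix.map_mul, Units.inv_mul, Matrix.map_one _ (map_zero τ) (map_one τ),
          transpose_one] }
  let k : GL (Fin n) F := GeneralLinearGroup.scalar (Fin n) (Units.mk0 e he0) * h * X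
  have hkval : k.1 = e • (h.1 * X.1) := by
    show ((GeneralLinearGroup.scalar (Fin n) (Units.mk0 e he0) * h).1) * X.1 = _
    rw [scalar_mul_val, Units.val_mk0, smul_mul]
  have hXσ : X.1.map σ = X.1 := by
    show (((A'⁻¹).1.map τ)ᵀ).map σ = ((A'⁻¹).1.map τ)ᵀ
    rw [transpose_map, Matrix.map_map]
    refine congrArg Matrix.transpose (Matrix.ext fun i j => ?_)
    show σ (τ ((A'⁻¹).1 i j)) = τ ((A'⁻¹).1 i j)
    rw [frobQ_comm hF σ]
    congr 1
    rw [show A'⁻¹ = GeneralLinearGroup.map ι A⁻¹ from (map_inv _ _).symm]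
    exact (hι _).2 ⟨_, rfl⟩
  have hkGU : k ∈ Cfsg.GU n F q := by
    rw [mem_GU_iff_frobQ hF]
    have e2 : (X.1.map τ)ᵀ = (A'⁻¹).1 := by
      show ((((A'⁻¹).1.map τ)ᵀ).map τ)ᵀ = _
      rw [transpose_map, transpose_transpose, Matrix.map_map,
        show (τ ∘ τ : F → F) = id from funext (frobQ_frobQ hF), Matrix.map_id]
    have e3 : (A'.1.map τ)ᵀ * X.1 = 1 := X.inv_val
    rw [hkval, Matrix.map_smul' _ _ _ (map_mul τ), transpose_smul, smul_mul_smul_comm, Matrix.map_mul,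
      transpose_mul, e2, mul_assoc, ← mul_assoc (h.1.map τ)ᵀ, show τ e * e = w by rw [mul_comm, he],
      ← mul_smul_comm, ← smul_mul, hA', mul_assoc, e3, mul_one, Units.inv_mul]
  refine ⟨⟨k, hkGU⟩, ?_⟩
  rw [eq_mul_inv_iff_mul_eq, psuSemiAut_eq_mul g σ, mul_assoc, psuSemiAut_one_mul_inndiag, ← mul_assoc,
    ← map_mul, mul_left_inj, psuInndiagHom_eq_iff hF hn h32]
  refine ⟨c * Units.map (σ : F →+* F).toMonoidHom (Units.mk0 e he0) * (Units.mk0 e he0)⁻¹, ?_⟩
  show g.1.1 * (k.1).map σ =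
    ((c : F) * σ e * ((Units.mk0 e he0)⁻¹ : Fˣ)) • k.1
  rw [hkval, Matrix.map_smul' _ _ _ (map_mul σ), Matrix.map_mul, hσh, hXσ, smul_mul, smul_smul,
    mul_smul_comm, ← mul_assoc g.1.1, ← mul_assoc g.1.1, Units.mul_inv, one_mul, smul_smul,
    Units.val_inv_eq_inv_val, Units.val_mk0]
  congr 1
  field_simp

/-- The centraliser in `Inndiag` of a standard field automorphism of `PSU`. -/
theorem centralizer_fieldPSU (hF : Fintype.card F = q ^ 2) (hn : 3 ≤ n) (h32 : ¬ (n = 3 ∧ q = 2))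
    {q₀ r : ℕ} {F₀ : Type*} [Field F₀] [Fintype F₀] (hF₀ : Fintype.card F₀ = q₀ ^ 2)
    (hq : q = q₀ ^ r) (σ : F ≃+* F) (hr : orderOf σ = r) (hodd : Odd r) (ι : F₀ →+* F)
    (hι : ∀ x, σ x = x ↔ ∃ a, ι a = x) :
    ∃ φ : Cfsg.GU n F₀ q₀ →* Cfsg.GU n F q,
      (∀ h, (φ h).1.1 = h.1.1.map ι) ∧
      Cfsg.inndiagPSU n F q ⊓ Subgroup.centralizer {psuSemiAut 1 σ} = (psuInndiagHom.comp φ).range := by
  subst hr
  have hmem : ∀ h : GL (Fin n) F₀, h ∈ Cfsg.GU n F₀ q₀ ↔
      GeneralLinearGroup.map ι h ∈ Cfsg.GU n F q := fun h => by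
    rw [mem_GU_iff_frobQ hF, mem_GU_iff_frobQ hF₀]
    show _ ↔ ((h.1.map ι).map (frobQ hF))ᵀ * h.1.map ι = 1
    rw [map_map_frobQ hF hF₀ hq hodd ι, ← transpose_map (f := ⇑ι), ← Matrix.map_mul]
    constructor
    · intro e; rw [e, Matrix.map_one _ (map_zero ι) (map_one ι)]
    · intro e
      refine Matrix.map_injective ι.injective ?_
      dsimp only
      rw [Matrix.map_one _ (map_zero ι) (map_one ι)]
      exact e
  let φ : Cfsg.GU n F₀ q₀ →* Cfsg.GU n F q :=
    ((GeneralLinearGroup.map ι).comp (Cfsg.GU n F₀ q₀).subtype).codRestrict _ fun h => (hmem h.1).1 h.2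
  refine ⟨φ, fun h => rfl, le_antisymm ?_ ?_⟩
  · intro x hx
    obtain ⟨g, rfl⟩ : ∃ g, psuInndiagHom g = x := by
      have := hx.1; rwa [SetLike.mem_coe, inndiagPSU_eq_range] at this
    have hcomm := Subgroup.mem_centralizer_singleton_iff.1 hx.2
    rw [psuSemiAut_one_mul_inndiag] at hcomm
    obtain ⟨a, ha⟩ := (psuInndiagHom_eq_iff hF hn h32 _ _).1 (mul_right_cancel hcomm).symm
    have hv : ∀ i j, σ (g.1.1 i j) = (a : F) * g.1.1 i j := fun i j =>
      congrArg (fun M : Matrix _ _ F => M i j) ha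
    obtain ⟨i, j, hij⟩ : ∃ i j, g.1.1 i j ≠ 0 := by
      by_contra hcon
      simp only [not_exists, not_not] at hcon
      haveI : Nonempty (Fin n) := ⟨⟨0, by omega⟩⟩
      exact g.1.isUnit.ne_zero (Matrix.ext hcon)
    set u := g.1.1 i j with hu
    -- the scalar `u` can be corrected to have norm one
    have haN : frobQ hF (a : F) * a = 1 := by
      have h1 := (mem_GU_iff_frobQ hF (guMap σ g).1).1 (guMap σ g).2
      have h2 : (guMap σ g).1.1 = (a : F) • g.1.1 := Matrix.ext hv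
      rw [h2, Matrix.map_smul' _ _ _ (map_mul (frobQ hF)), transpose_smul, smul_mul_smul_comm,
        (mem_GU_iff_frobQ hF g.1).1 g.2] at h1
      haveI : Nonempty (Fin n) := ⟨⟨0, by omega⟩⟩
      have h3 := congrArg (fun M : Matrix (Fin n) (Fin n) F => M ⟨0, by omega⟩ ⟨0, by omega⟩) h1
      simpa using h3
    have hfixN : σ (u * frobQ hF u) = u * frobQ hF u := by
      rw [map_mul, frobQ_comm, hv, map_mul]
      linear_combination (u * frobQ hF u) * haN
    obtain ⟨b, hb⟩ := (hι _).1 hfixN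
    have hfu : frobQ hF u ≠ 0 := (map_ne_zero _).2 hij
    have hb0 : b ≠ 0 := fun h0 => by
      rw [h0, map_zero] at hb
      exact mul_ne_zero hij hfu hb.symm
    obtain ⟨t, ht0, ht⟩ := exists_mul_apply_eq (frobQ hF₀) (orderOf_frobQ hF₀) hb0 (ι.injective (by
      rw [← frobQ_embedding hF hF₀ hq hodd, hb, map_mul, frobQ_frobQ, mul_comm]))
    have hιt : ι t ≠ 0 := (map_ne_zero ι).2 ht0
    let c : Fˣ := Units.mk0 (ι t / u) (div_ne_zero hιt hij)
    have hcN : frobQ hF (c : F) * c = 1 := by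
      show frobQ hF (ι t / u) * (ι t / u) = 1
      rw [map_div₀, div_mul_div_comm, frobQ_embedding hF hF₀ hq hodd, ← map_mul, mul_comm (frobQ hF₀ t),
        ht, hb, mul_comm (frobQ hF u)]
      exact div_self (mul_ne_zero hij hfu)
    have hfix : ∀ k l, σ ((c : F) * g.1.1 k l) = (c : F) * g.1.1 k l := fun k l => by
      show σ (ι t / u * g.1.1 k l) = ι t / u * g.1.1 k l
      rw [map_mul, map_div₀, (hι _).2 ⟨t, rfl⟩, hv, hv]
      rw [← hu]
      field_simp [a.ne_zero, hij]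
    choose M hM using fun k l => (hι _).1 (hfix k l)
    have hMmap : (Matrix.of M).map ι = (c : F) • g.1.1 := Matrix.ext hM
    have hdet : (Matrix.of M).det ≠ 0 := fun h0 => by
      have h1 := congrArg ι h0
      rw [RingHom.map_det, map_zero] at h1
      change ((Matrix.of M).map ι).det = 0 at h1
      rw [hMmap, det_smul] at h1
      exact mul_ne_zero (pow_ne_zero _ c.ne_zero)
        ((Matrix.isUnit_iff_isUnit_det _).1 g.1.isUnit).ne_zero h1
    refine ⟨⟨GeneralLinearGroup.mkOfDetNeZero _ hdet, (hmem _).2 ((mem_GU_iff_frobQ hF _).2 ?_)⟩,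
      (psuInndiagHom_eq_iff hF hn h32 _ _).2 ⟨c, hMmap⟩⟩
    show (((Matrix.of M).map ι).map (frobQ hF))ᵀ * (Matrix.of M).map ι = 1
    rw [hMmap, Matrix.map_smul' _ _ _ (map_mul (frobQ hF)), transpose_smul, smul_mul_smul_comm,
      (mem_GU_iff_frobQ hF g.1).1 g.2, hcN, one_smul]
  · rintro _ ⟨h, rfl⟩
    refine ⟨by rw [SetLike.mem_coe, inndiagPSU_eq_range]; exact ⟨_, rfl⟩,
      Subgroup.mem_centralizer_singleton_iff.2 ?_⟩
    rw [MonoidHom.comp_apply, psuSemiAut_one_mul_inndiag]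
    congr 2
    exact Subtype.ext (Units.ext (Matrix.ext fun i j => ((hι _).2 ⟨_, rfl⟩).symm))

theorem pgu_equiv_range (hF : Fintype.card F = q ^ 2) (hn : 3 ≤ n) (h32 : ¬ (n = 3 ∧ q = 2))
    {q₀ : ℕ} {F₀ : Type*} [Field F₀] (ι : F₀ →+* F)
    (φ : Cfsg.GU n F₀ q₀ →* Cfsg.GU n F q) (hφ : ∀ h, (φ h).1.1 = h.1.1.map ι) :
    Nonempty (↥(psuInndiagHom.comp φ).range ≃* Cfsg.PGU n F₀ q₀) := by
  have hker : (psuInndiagHom.comp φ).rangeRestrict.ker =
      (Cfsg.Geo.scalars (Fin n) F₀).subgroupOf (Cfsg.GU n F₀ q₀) := by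
    ext u
    rw [MonoidHom.mem_ker, Subgroup.mem_subgroupOf, Cfsg.Geo.mem_scalars_iff, Subtype.ext_iff,
      MonoidHom.coe_rangeRestrict, MonoidHom.comp_apply, Subgroup.coe_one, psuInndiagHom_apply,
      psuSemiAut_eq_one_iff hF hn h32, and_iff_right rfl, hφ]
    constructor
    · rintro ⟨c, hc⟩
      let i₀ : Fin n := ⟨0, by omega⟩
      have hc0 : ι (u.1.1 i₀ i₀) = c := by
        have := congrArg (fun M : Matrix _ _ F => M i₀ i₀) hc
        simpa using this
      have hne : u.1.1 i₀ i₀ ≠ 0 := fun h0 => c.ne_zero (by rw [← hc0, h0, map_zero])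
      refine ⟨Units.mk0 _ hne, Matrix.map_injective ι.injective ?_⟩
      dsimp only
      rw [hc, Units.val_mk0, ← hc0]
      ext k l
      by_cases hkl : k = l <;> simp [hkl, Matrix.one_apply]
    · rintro ⟨c, hc⟩
      refine ⟨Units.map ι.toMonoidHom c, ?_⟩
      rw [hc]
      ext k l
      by_cases hkl : k = l <;> simp [hkl, Matrix.one_apply]
  exact ⟨((QuotientGroup.quotientMulEquivOfEq hker.symm).trans
    (QuotientGroup.quotientKerEquivOfSurjective _ (psuInndiagHom.comp φ).rangeRestrict_surjective)).symm⟩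

/-- The units of norm one. -/
abbrev normOne (F : Type*) [Field F] (q : ℕ) : Subgroup Fˣ := (powMonoidHom (q + 1) : Fˣ →* Fˣ).ker

theorem card_normOne (hF : Fintype.card F = q ^ 2) : Nat.card (normOne F q) = q + 1 := by
  rw [IsCyclic.card_powMonoidHom_ker, units_card_sq hF, mul_comm, Nat.gcd_mul_right_left]

theorem mem_normOne_iff (hF : Fintype.card F = q ^ 2) (u : Fˣ) :
    u ∈ normOne F q ↔ u ∈ (unitNorm (frobQ hF)).ker := by
  rw [MonoidHom.mem_ker, MonoidHom.mem_ker, powMonoidHom_apply, Units.ext_iff, Units.ext_iff,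
    unitNorm_two _ (orderOf_frobQ hF), frobQ_apply, Units.val_pow_eq_pow_val, pow_succ', Units.val_one]

theorem det_mem_normOne (hF : Fintype.card F = q ^ 2) (hn : 1 ≤ n) (g : Cfsg.GU n F q) :
    Matrix.GeneralLinearGroup.det g.1 ∈ normOne F q := by
  haveI : NeZero n := ⟨by omega⟩
  rw [mem_normOne_iff hF, ← det_GU (n := n) (frobQ hF) (frobQ_apply hF) (orderOf_frobQ hF)]
  exact ⟨g.1, g.2, rfl⟩

/-- The determinant on `GU_n`. -/
noncomputable def guDet (hF : Fintype.card F = q ^ 2) (hn : 1 ≤ n) : Cfsg.GU n F q →* normOne F q :=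
  ((Matrix.GeneralLinearGroup.det).comp (Cfsg.GU n F q).subtype).codRestrict _
    (det_mem_normOne hF hn)

theorem guDet_val (hF : Fintype.card F = q ^ 2) (hn : 1 ≤ n) (g : Cfsg.GU n F q) :
    (guDet hF hn g).1 = Matrix.GeneralLinearGroup.det g.1 := rfl

theorem guDet_surjective (hF : Fintype.card F = q ^ 2) (hn : 1 ≤ n) :
    Function.Surjective (guDet (n := n) hF hn) := by
  intro u
  haveI : NeZero n := ⟨by omega⟩
  obtain ⟨g, hg, he⟩ : u.1 ∈ (Cfsg.GU n F q).map Matrix.GeneralLinearGroup.det := by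
    rw [det_GU (frobQ hF) (frobQ_apply hF) (orderOf_frobQ hF), ← mem_normOne_iff hF]
    exact u.2
  exact ⟨⟨g, hg⟩, Subtype.ext he⟩

/-- `SU_n` inside `GU_n`. -/
def suToGU : Cfsg.SU n F q →* Cfsg.GU n F q where
  toFun s := ⟨SpecialLinearGroup.toGL s.1, s.2⟩
  map_one' := Subtype.ext (map_one _)
  map_mul' s t := Subtype.ext (map_mul _ s.1 t.1)

theorem psuInndiagHom_suToGU (s : Cfsg.SU n F q) :
    psuInndiagHom (suToGU s) = MulAut.conj (QuotientGroup.mk s : Cfsg.PSU n F q) := by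
  rw [psuInndiagHom_apply, ← centerQuotAut_conj, psuSemiAut,
    show suField (RingEquiv.refl F) = 1 from map_one suField, mul_one]
  congr 1

theorem suToGU_range (hF : Fintype.card F = q ^ 2) (hn : 1 ≤ n) :
    (suToGU (n := n) (F := F) (q := q)).range = (guDet hF hn).ker := by
  ext g
  rw [MonoidHom.mem_ker]
  constructor
  · rintro ⟨s, rfl⟩
    exact Subtype.ext (Units.ext s.1.2)
  · intro h
    exact ⟨⟨⟨g.1.1, congrArg (fun u : normOne F q => ((u.1 : Fˣ) : F)) h⟩, g.2⟩,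
      Subtype.ext (Units.ext rfl)⟩

theorem innPSU_eq_map_ker (hF : Fintype.card F = q ^ 2) (hn : 1 ≤ n) :
    Cfsg.Inn (Cfsg.PSU n F q) = (guDet (n := n) hF hn).ker.map psuInndiagHom := by
  rw [← suToGU_range hF hn, MonoidHom.map_range]
  ext x
  constructor
  · rintro ⟨y, rfl⟩
    obtain ⟨s, rfl⟩ := QuotientGroup.mk_surjective y
    exact ⟨s, psuInndiagHom_suToGU s⟩
  · rintro ⟨s, rfl⟩
    exact ⟨_, (psuInndiagHom_suToGU s).symm⟩

theorem inn_le_inndiagPSU (hF : Fintype.card F = q ^ 2) (hn : 1 ≤ n) :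
    Cfsg.Inn (Cfsg.PSU n F q) ≤ Cfsg.inndiagPSU n F q := by
  rw [innPSU_eq_map_ker hF hn, inndiagPSU_eq_range]
  exact Subgroup.map_le_range _ _

/-- The kernel of `GU → Inndiag` maps onto the `n`-th powers of the units of norm one. -/
theorem guDet_map_ker (hF : Fintype.card F = q ^ 2) (hn : 3 ≤ n) (h32 : ¬ (n = 3 ∧ q = 2)) :
    (psuInndiagHom (n := n) (F := F) (q := q)).ker.map (guDet hF (by omega)) =
      (powMonoidHom n : normOne F q →* normOne F q).range := by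
  refine le_antisymm ?_ ?_
  · rintro _ ⟨g, hg, rfl⟩
    rw [SetLike.mem_coe, MonoidHom.mem_ker, psuInndiagHom_apply, psuSemiAut_eq_one_iff hF hn h32] at hg
    obtain ⟨-, c, hc⟩ := hg
    have hcN : c ∈ normOne F q := by
      have h1 := (mem_GU_iff_frobQ hF g.1).1 g.2
      rw [hc, Matrix.map_smul' _ _ _ (map_mul (frobQ hF)), transpose_smul, smul_mul_smul_comm,
        Matrix.map_one _ (map_zero (frobQ hF)) (map_one (frobQ hF)), transpose_one, one_mul] at h1
      have h3 := congrArg (fun M : Matrix (Fin n) (Fin n) F => M ⟨0, by omega⟩ ⟨0, by omega⟩) h1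
      simp [frobQ_apply] at h3
      refine MonoidHom.mem_ker.2 (Units.ext ?_)
      rw [powMonoidHom_apply, Units.val_pow_eq_pow_val, Units.val_one, pow_succ]
      exact h3
    refine ⟨⟨c, hcN⟩, Subtype.ext (Units.ext ?_)⟩
    show (c : F) ^ n = g.1.1.det
    rw [hc, det_smul, det_one, mul_one, Fintype.card_fin]
  · rintro _ ⟨c, rfl⟩
    have hv : (GeneralLinearGroup.scalar (Fin n) c.1).1 = (c.1 : F) • 1 :=
      (smul_one_eq_diagonal _).symm
    have hmem : GeneralLinearGroup.scalar (Fin n) c.1 ∈ Cfsg.GU n F q := by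
      rw [mem_GU_iff_frobQ hF, hv, Matrix.map_smul' _ _ _ (map_mul (frobQ hF)), transpose_smul,
        smul_mul_smul_comm, Matrix.map_one _ (map_zero (frobQ hF)) (map_one (frobQ hF)), transpose_one,
        one_mul, frobQ_apply, ← pow_succ]
      have h1 := congrArg Units.val (MonoidHom.mem_ker.1 c.2)
      rw [powMonoidHom_apply, Units.val_pow_eq_pow_val, Units.val_one] at h1
      rw [h1, one_smul]
    refine ⟨⟨_, hmem⟩, MonoidHom.mem_ker.2 ?_, Subtype.ext (Units.ext ?_)⟩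
    · rw [psuInndiagHom_apply, psuSemiAut_eq_one_iff hF hn h32]
      exact ⟨rfl, c.1, hv⟩
    · show (GeneralLinearGroup.scalar (Fin n) c.1).1.det = (c.1 : F) ^ n
      rw [hv, det_smul, det_one, mul_one, Fintype.card_fin]

/-- The number of `Inn`-classes in an `Inndiag`-class, from the determinants of the centraliser. -/
theorem splitClassCountPSU_eq (hF : Fintype.card F = q ^ 2) (hn : 3 ≤ n) (h32 : ¬ (n = 3 ∧ q = 2))
    (x : MulAut (Cfsg.PSU n F q)) (D : Subgroup (Cfsg.GU n F q))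
    (hD : Cfsg.inndiagPSU n F q ⊓ Subgroup.centralizer {x} = D.map psuInndiagHom) :
    Cfsg.splitClassCount (Cfsg.inndiagPSU n F q) (Cfsg.Inn (Cfsg.PSU n F q)) x =
      Nat.gcd (Nat.gcd n (q + 1)) (D.map (guDet hF (by omega))).index := by
  rw [splitClassCount_eq _ _ (inn_le_inndiagPSU hF (by omega)), hD, innPSU_eq_map_ker hF (by omega),
    ← Subgroup.map_sup, inndiagPSU_eq_range, ← Subgroup.index_comap, Subgroup.comap_map_eq,
    ← Subgroup.index_map_eq _ (guDet_surjective hF (by omega)) (le_trans le_sup_left le_sup_left),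
    Subgroup.map_sup, Subgroup.map_sup, (Subgroup.map_eq_bot_iff _).2 le_rfl, bot_sup_eq,
    guDet_map_ker hF hn h32, index_sup_of_isCyclic, IsCyclic.index_powMonoidHom_range, card_normOne hF,
    Nat.gcd_comm _ (Nat.gcd _ _), Nat.gcd_comm (q + 1) n]

/-- The determinants of the centraliser. -/
theorem index_det_centralizer (hF : Fintype.card F = q ^ 2) (hn : 1 ≤ n) {q₀ r : ℕ} {F₀ : Type*}
    [Field F₀] [Fintype F₀] (hF₀ : Fintype.card F₀ = q₀ ^ 2) (hq : q = q₀ ^ r) (hodd : Odd r)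
    (ι : F₀ →+* F) (φ : Cfsg.GU n F₀ q₀ →* Cfsg.GU n F q) (hφ : ∀ h, (φ h).1.1 = h.1.1.map ι) :
    (φ.range.map (guDet hF hn)).index = (q + 1) / (q₀ + 1) := by
  have hdvd : q₀ + 1 ∣ q + 1 := by
    rw [hq]
    simpa using hodd.nat_add_dvd_pow_add_pow q₀ 1
  have himg : (φ.range.map (guDet hF hn)).map (normOne F q).subtype =
      (normOne F₀ q₀).map (Units.map ι.toMonoidHom) := by
    rw [MonoidHom.map_range, MonoidHom.map_range]
    ext u
    constructor
    · rintro ⟨h, rfl⟩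
      refine ⟨_, det_mem_normOne hF₀ hn h, Units.ext ?_⟩
      show ι h.1.1.det = (φ h).1.1.det
      rw [hφ]
      exact RingHom.map_det ι _
    · rintro ⟨v, hv, rfl⟩
      obtain ⟨h, hh⟩ := guDet_surjective (n := n) hF₀ hn ⟨v, hv⟩
      refine ⟨h, Units.ext ?_⟩
      have h1 := congrArg (fun u : normOne F₀ q₀ => ((u.1 : F₀ˣ) : F₀)) hh
      show (φ h).1.1.det = ι (v : F₀)
      rw [hφ, ← h1]
      exact (RingHom.map_det ι _).symm
  have hcard : Nat.card (φ.range.map (guDet hF hn)) = q₀ + 1 := by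
    rw [← Subgroup.card_map_of_injective (normOne F q).subtype_injective, himg,
      Subgroup.card_map_of_injective (Units.map_injective ι.injective), card_normOne hF₀]
  have h1 := (φ.range.map (guDet hF hn)).card_mul_index
  rw [hcard, card_normOne hF] at h1
  rw [← h1, Nat.mul_div_cancel_left _ (by omega)]

end CfsgLib.KnownC
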