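import Mathlib

set_option autoImplicit false

/-!
The centraliser of a semisimple matrix over a finite field has every determinant.
-/

namespace CfsgLib.KnownC

open Polynomial Module

variable {F : Type*} [Field F]

theorem det_one_add_comp_comm {V W : Type*} [AddCommGroup V] [Module F V] [FiniteDimensional F V]
    [AddCommGroup W] [Module F W] [FiniteDimensional F W] (f : W →ₗ[F] V) (g : V →ₗ[F] W) :
    LinearMap.det (LinearMap.id + f ∘ₗ g) = LinearMap.det (LinearMap.id + g ∘ₗ f) := by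
  classical
  let bV := Module.finBasis F V
  let bW := Module.finBasis F W
  rw [← LinearMap.det_toMatrix bV, ← LinearMap.det_toMatrix bW, map_add, map_add, LinearMap.toMatrix_id,
    LinearMap.toMatrix_id, LinearMap.toMatrix_comp bV bW bV, LinearMap.toMatrix_comp bW bV bW,
    Matrix.det_one_add_mul_comm]

/-- A semisimple endomorphism of a non-zero space commutes with maps of any determinant. -/
theorem exists_commute_det [Finite F] {V : Type*} [AddCommGroup V] [Module F V] [FiniteDimensional F V]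
    [Nontrivial V] (φ : V →ₗ[F] V) {m : ℕ} (hm : (m : F) ≠ 0) (hφ : φ ^ m = 1) (u : F) :
    ∃ T : V →ₗ[F] V, T ∘ₗ φ = φ ∘ₗ T ∧ LinearMap.det T = u := by
  classical
  obtain ⟨ι, _, p, hp, e, ⟨E⟩⟩ := Module.equiv_directSum_of_isTorsion
    (R := F[X]) (M := AEval' φ) (AEval.isTorsion_of_finiteDimensional F V φ)
  have hann : ∀ i, p i ^ e i ∣ X ^ m - 1 := fun i => by
    have h1 : ∀ v : AEval' φ, ((X : F[X]) ^ m - 1) • v = 0 := fun v => by
      obtain ⟨w, rfl⟩ := (AEval'.of φ).surjective v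
      rw [sub_smul, one_smul, AEval'.X_pow_smul_of, hφ, one_smul, sub_self]
    have h2 := h1 (E.symm (DirectSum.of _ i (Submodule.Quotient.mk 1)))
    rw [← map_smul, LinearEquiv.map_eq_zero_iff] at h2
    have h3 : (((X : F[X]) ^ m - 1) •
        DirectSum.of (fun j => F[X] ⧸ (F[X] ∙ p j ^ e j)) i (Submodule.Quotient.mk 1)) i = 0 := by
      rw [h2]; rfl
    rw [DirectSum.smul_apply, DirectSum.of_eq_same, ← Submodule.Quotient.mk_smul,
      Submodule.Quotient.mk_eq_zero, smul_eq_mul, mul_one] at h3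
    exact Ideal.mem_span_singleton.1 h3
  have hsq : Squarefree ((X : F[X]) ^ m - 1) :=
    (Polynomial.separable_X_pow_sub_C (1 : F) hm one_ne_zero).squarefree
  obtain ⟨i, hi⟩ : ∃ i, e i = 1 := by
    by_contra hcon
    simp only [not_exists] at hcon
    have he : ∀ i, e i = 0 := fun i => by
      by_contra h0
      have h2 : 2 ≤ e i := by have := hcon i; omega
      exact (hp i).not_isUnit (hsq _ (by rw [← sq]; exact (pow_dvd_pow _ h2).trans (hann i)))
    obtain ⟨v, hv⟩ := exists_ne (0 : V)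
    refine hv ((AEval'.of φ).map_eq_zero_iff.1 (E.map_eq_zero_iff.1 (DirectSum.ext fun i => ?_)))
    obtain ⟨a, ha⟩ := Submodule.Quotient.mk_surjective _ ((E (AEval'.of φ v)) i)
    rw [← ha, DirectSum.zero_apply, Submodule.Quotient.mk_eq_zero]
    exact Ideal.mem_span_singleton.2 (by rw [he i, pow_zero]; exact one_dvd a)
  haveI : (Ideal.span {p i}).IsMaximal := PrincipalIdealRing.isMaximal_of_irreducible (hp i)
  letI : Field (F[X] ⧸ Ideal.span {p i}) := Ideal.Quotient.field _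
  let e₀ : (F[X] ⧸ (F[X] ∙ p i ^ e i)) ≃ₗ[F[X]] (F[X] ⧸ Ideal.span {p i}) :=
    Submodule.quotEquivOfEq _ _ (by rw [hi, pow_one])
  -- inclusion and projection of the chosen summand
  let ρ : (F[X] ⧸ Ideal.span {p i}) →ₗ[F[X]] AEval' φ :=
    E.symm.toLinearMap ∘ₗ DirectSum.lof F[X] ι (fun j => F[X] ⧸ (F[X] ∙ p j ^ e j)) i ∘ₗ
      e₀.symm.toLinearMap
  let π : AEval' φ →ₗ[F[X]] (F[X] ⧸ Ideal.span {p i}) :=
    e₀.toLinearMap ∘ₗ DirectSum.component F[X] ι (fun j => F[X] ⧸ (F[X] ∙ p j ^ e j)) i ∘ₗ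
      E.toLinearMap
  have hπρ : ∀ a, π (ρ a) = a := fun a => by
    show e₀ ((DirectSum.component F[X] ι _ i) (E (E.symm
      (DirectSum.lof F[X] ι (fun j => F[X] ⧸ (F[X] ∙ p j ^ e j)) i (e₀.symm a))))) = a
    rw [LinearEquiv.apply_symm_apply, DirectSum.component.lof_self, LinearEquiv.apply_symm_apply]
  let f : (F[X] ⧸ Ideal.span {p i}) →ₗ[F] V :=
    (AEval'.of φ).symm.toLinearMap ∘ₗ ρ.restrictScalars F
  let π' : V →ₗ[F] (F[X] ⧸ Ideal.span {p i}) :=
    π.restrictScalars F ∘ₗ (AEval'.of φ).toLinearMap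
  have hπ' : Function.Surjective π' := fun a => ⟨f a, by
    show π (AEval'.of φ ((AEval'.of φ).symm (ρ a))) = a
    rw [LinearEquiv.apply_symm_apply, hπρ]⟩
  haveI : FiniteDimensional F (F[X] ⧸ Ideal.span {p i}) := Module.Finite.of_surjective π' hπ'
  haveI : Finite (F[X] ⧸ Ideal.span {p i}) := Module.finite_of_finite F
  obtain ⟨k, hk⟩ := FiniteField.norm_surjective F (F[X] ⧸ Ideal.span {p i}) u
  let g : V →ₗ[F] (F[X] ⧸ Ideal.span {p i}) := LinearMap.mulLeft F (k - 1) ∘ₗ π'
  refine ⟨LinearMap.id + f ∘ₗ g, ?_, ?_⟩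
  · refine LinearMap.ext fun v => ?_
    show φ v + f (g (φ v)) = φ (v + f (g v))
    rw [map_add]
    congr 1
    have h1 : g (φ v) = (X : F[X]) • g v := by
      show (k - 1) * π (AEval'.of φ (φ v)) = (X : F[X]) • ((k - 1) * π (AEval'.of φ v))
      rw [← AEval'.X_smul_of, map_smul, mul_smul_comm]
    rw [h1]
    show (AEval'.of φ).symm (ρ ((X : F[X]) • g v)) = φ ((AEval'.of φ).symm (ρ (g v)))
    rw [map_smul, AEval'.of_symm_X_smul]
  · rw [det_one_add_comp_comm, ← hk, Algebra.norm_apply]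
    congr 1
    refine LinearMap.ext fun a => ?_
    show a + (k - 1) * π (AEval'.of φ ((AEval'.of φ).symm (ρ a))) = k * a
    rw [LinearEquiv.apply_symm_apply, hπρ]
    ring

end CfsgLib.KnownC
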