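import Mathlib

set_option autoImplicit false

/-!
The units of an `n`-dimensional algebra embed in `GL n`; unipotent elements of prime-power order.
-/

namespace CfsgLib.KnownC

open Polynomial

/-- The unit group of an `n`-dimensional algebra embeds into `GL n` by the regular representation. -/
theorem exists_units_embedding_GL {F : Type*} [Field F] (A : Type*) [Ring A] [Algebra F A]
    [FiniteDimensional F A] {n : ℕ} (h : Module.finrank F A = n) :
    ∃ φ : Aˣ →* GL (Fin n) F, Function.Injective φ := by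
  let b := (Module.finBasis F A).reindex (finCongr h)
  exact ⟨Units.map (Algebra.leftMulMatrix b).toRingHom.toMonoidHom,
    Units.map_injective (Algebra.leftMulMatrix_injective b)⟩

/-- Padding: an injective homomorphism from the units of an `i`-dimensional algebra into `GL n`, `i ≤ n`. -/
theorem exists_units_embedding_GL_le {F : Type*} [Field F] (A : Type*) [Ring A] [Algebra F A]
    [FiniteDimensional F A] {n i : ℕ} (h : Module.finrank F A = i) (hi : i ≤ n) :
    ∃ φ : Aˣ →* GL (Fin n) F, Function.Injective φ := by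
  obtain ⟨φ, hφ⟩ := exists_units_embedding_GL (F := F) (A × (Fin (n - i) → F)) (n := n)
    (by rw [Module.finrank_prod, Module.finrank_fin_fun, h]; omega)
  let ι : Aˣ →* (A × (Fin (n - i) → F))ˣ :=
    Units.map (MonoidHom.prod (MonoidHom.id A) (1 : A →* (Fin (n - i) → F)))
  refine ⟨φ.comp ι, hφ.comp ?_⟩
  intro a b hab
  exact Units.ext (congrArg Prod.fst (congrArg Units.val hab))

/-- In characteristic `p` there is a unipotent element of order exactly `p ^ e` in `GL n` as soon as
`p ^ (e - 1) < n ≤ p ^ e`. -/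
theorem exists_orderOf_eq_prime_pow_GL {F : Type*} [Field F] {p : ℕ} [Fact p.Prime] [CharP F p]
    {n e : ℕ} (h1 : p ^ e < n) (h2 : n ≤ p ^ (e + 1)) :
    ∃ g : GL (Fin n) F, orderOf g = p ^ (e + 1) := by
  have hn : 1 ≤ n := by omega
  set f : F[X] := X ^ n with hf
  have hf0 : f ≠ 0 := pow_ne_zero _ X_ne_zero
  have : FiniteDimensional F (AdjoinRoot f) := (AdjoinRoot.powerBasis hf0).finite
  have hdim : Module.finrank F (AdjoinRoot f) = n := by
    rw [(AdjoinRoot.powerBasis hf0).finrank, AdjoinRoot.powerBasis_dim, hf, natDegree_X_pow]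
  obtain ⟨φ, hφ⟩ := exists_units_embedding_GL (F := F) (AdjoinRoot f) hdim
  have hroot : (AdjoinRoot.root f) ^ n = 0 := by
    rw [← AdjoinRoot.mk_X, ← map_pow, AdjoinRoot.mk_self]
  have hu : IsUnit (1 + AdjoinRoot.root f) := IsNilpotent.isUnit_one_add ⟨n, hroot⟩
  refine ⟨φ hu.unit, ?_⟩
  rw [orderOf_injective φ hφ]
  have hpow : ∀ k : ℕ, (1 + AdjoinRoot.root f) ^ p ^ k = AdjoinRoot.mk f (1 + X ^ p ^ k) := by
    intro k
    rw [← AdjoinRoot.mk_X, ← map_one (AdjoinRoot.mk f), ← map_add, ← map_pow, add_pow_char_pow,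
      one_pow]
  apply orderOf_eq_prime_pow
  · intro hc
    have hc' : (1 + AdjoinRoot.root f) ^ p ^ e = 1 := by simpa using congrArg Units.val hc
    rw [hpow, ← map_one (AdjoinRoot.mk f), map_add, add_eq_left, AdjoinRoot.mk_eq_zero] at hc'
    have := natDegree_le_of_dvd hc' (pow_ne_zero _ X_ne_zero)
    rw [hf, natDegree_X_pow, natDegree_X_pow] at this
    omega
  · refine Units.ext ?_
    rw [Units.val_pow_eq_pow_val, IsUnit.unit_spec, hpow, Units.val_one, ← map_one (AdjoinRoot.mk f),
      map_add, add_eq_left, AdjoinRoot.mk_eq_zero]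
    exact pow_dvd_pow X h2

/-- In a finite-dimensional algebra over a finite field of characteristic `p`, a unit `a` satisfies
`a ^ (N * p ^ E) = 1` once `#F ^ d - 1 ∣ N` for all `1 ≤ d ≤ dim` and the minimal polynomial has degree at
most `p ^ E`. -/
theorem minpoly_dvd_X_pow_sub_one {F : Type*} [Field F] [Finite F] {p : ℕ} [Fact p.Prime] [CharP F p]
    {n N E : ℕ} (hN : ∀ d, 1 ≤ d → d ≤ n → (Nat.card F) ^ d - 1 ∣ N) (hE : n ≤ p ^ E)
    (f : F[X]) (hf : f.natDegree ≤ n) (hX : ¬ X ∣ f) :
    f ∣ X ^ (N * p ^ E) - 1 := by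
  have key : ∀ g : F[X], g ≠ 0 → g.natDegree ≤ n → ¬ X ∣ g → g ∣ (X ^ N - 1) ^ g.natDegree := by
    intro g
    induction g using UniqueFactorizationMonoid.induction_on_prime with
    | h₁ => intro h; exact absurd rfl h
    | h₂ g hg => intro _ _ _; exact hg.dvd
    | h₃ g P hg hP ih =>
      intro h0 hdeg hXd
      have hP0 : P ≠ 0 := hP.ne_zero
      rw [natDegree_mul hP0 hg] at hdeg ⊢
      have hPi : Irreducible P := hP.irreducible
      have hd1 : 1 ≤ P.natDegree := hPi.natDegree_pos
      have h1 : P ∣ X ^ ((Nat.card F) ^ P.natDegree) - X :=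
        (Irreducible.natDegree_dvd_iff_dvd_X_pow_card_pow_sub_X hPi).1 dvd_rfl
      have hpos : 1 ≤ (Nat.card F) ^ P.natDegree := Nat.one_le_pow _ _ Nat.card_pos
      have h2 : (X : F[X]) ^ ((Nat.card F) ^ P.natDegree) - X =
          X * (X ^ ((Nat.card F) ^ P.natDegree - 1) - 1) := by
        rw [mul_sub, mul_one, ← pow_succ', Nat.sub_add_cancel hpos]
      rw [h2] at h1
      have h3 : P ∣ X ^ N - 1 := by
        obtain ⟨c, hc⟩ := hN P.natDegree hd1 (by omega)
        refine dvd_trans (b := (X : F[X]) ^ ((Nat.card F) ^ P.natDegree - 1) - 1) ?_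
          (by rw [hc, pow_mul]; exact sub_one_dvd_pow_sub_one _ _)
        refine (hP.dvd_or_dvd h1).resolve_left ?_
        intro hPX
        exact hXd ((hPi.associated_of_dvd irreducible_X hPX).symm.dvd.trans (dvd_mul_right P g))
      rw [pow_add]
      exact mul_dvd_mul (h3.trans (dvd_pow_self _ (by omega)))
        (ih hg (by omega) fun h => hXd (h.trans (dvd_mul_left g P)))
  have h0 : f ≠ 0 := fun h => hX (h ▸ dvd_zero _)
  refine (key f h0 hf hX).trans ((pow_dvd_pow _ (hf.trans hE)).trans ?_)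
  rw [sub_pow_char_pow, one_pow, ← pow_mul]

/-- Exponent bound for `GL n` over a finite field. -/
theorem matrix_pow_eq_one_of_card_pow_sub_one_dvd {F : Type*} [Field F] [Finite F] {p : ℕ} [Fact p.Prime]
    [CharP F p] {n N E : ℕ} (hN : ∀ d, 1 ≤ d → d ≤ n → (Nat.card F) ^ d - 1 ∣ N) (hE : n ≤ p ^ E)
    (A : Matrix (Fin n) (Fin n) F) (hA : IsUnit A) : A ^ (N * p ^ E) = 1 := by
  have hdeg : A.charpoly.natDegree ≤ n := by rw [Matrix.charpoly_natDegree_eq_dim, Fintype.card_fin]
  have hX : ¬ X ∣ A.charpoly := by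
    rw [X_dvd_iff]
    intro h
    have hd : A.det ≠ 0 := ((Matrix.isUnit_iff_isUnit_det A).1 hA).ne_zero
    apply hd
    rw [Matrix.det_eq_sign_charpoly_coeff, h, mul_zero]
  obtain ⟨c, hc⟩ := minpoly_dvd_X_pow_sub_one hN hE A.charpoly hdeg hX
  have := congrArg (Polynomial.aeval A) hc
  rw [map_mul, Matrix.aeval_self_charpoly, zero_mul, map_sub, map_pow, aeval_X, map_one, sub_eq_zero] at this
  exact this

end CfsgLib.KnownC
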