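import Mathlib

set_option autoImplicit false

/-!
A matrix over a field is either primary (its characteristic polynomial is a power of an irreducible) or commutes
with a non-trivial idempotent; commuting scalar-on-each-part matrices of prime order.
-/

namespace CfsgLib.KnownC

open Polynomial

variable {F : Type*} [Field F] {n : ℕ}

/-- An irreducible factor of the characteristic polynomial divides the minimal polynomial. -/
theorem irreducible_dvd_minpoly_of_dvd_charpoly (A : Matrix (Fin n) (Fin n) F) {P : F[X]}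
    (hP : Irreducible P) (h : P ∣ A.charpoly) : P ∣ minpoly F A := by
  have : Fact (Irreducible P) := ⟨hP⟩
  let K := AdjoinRoot P
  set α : K := AdjoinRoot.root P with hα
  let φ : Matrix (Fin n) (Fin n) F →ₐ[F] Matrix (Fin n) (Fin n) K := (Algebra.ofId F K).mapMatrix
  have hroot : (A.map (algebraMap F K)).charpoly.eval α = 0 := by
    obtain ⟨c, hc⟩ := h
    rw [Matrix.charpoly_map, hc, Polynomial.map_mul, eval_mul, eval_map, ← aeval_def, hα,
      AdjoinRoot.aeval_eq, AdjoinRoot.mk_self, zero_mul]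
  rw [Matrix.eval_charpoly] at hroot
  obtain ⟨v, hv0, hv⟩ := Matrix.exists_mulVec_eq_zero_iff.2 hroot
  have hAv : (φ A).mulVec v = α • v := by
    rw [Matrix.sub_mulVec, sub_eq_zero] at hv
    have h2 : (Matrix.scalar (Fin n) α).mulVec v = α • v := by
      funext i; simp [Matrix.mulVec_diagonal]
    exact hv.symm.trans h2
  have hpoly : ∀ f : F[X], (φ (aeval A f)).mulVec v = aeval α f • v := by
    intro f
    induction f using Polynomial.induction_on with
    | C c =>
      rw [aeval_C, aeval_C, AlgHom.commutes, Algebra.algebraMap_eq_smul_one, Matrix.smul_mulVec,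
        Matrix.one_mulVec, algebraMap_smul]
    | add p q hp hq => rw [map_add, map_add, Matrix.add_mulVec, hp, hq, map_add, add_smul]
    | monomial k c ih =>
      rw [pow_succ, ← mul_assoc, map_mul, map_mul, aeval_X, ← Matrix.mulVec_mulVec, hAv,
        Matrix.mulVec_smul, ih, map_mul (aeval α) (C c * X ^ k), aeval_X, mul_comm _ α, smul_smul]
  have h0 := hpoly (minpoly F A)
  rw [minpoly.aeval, map_zero, Matrix.zero_mulVec, eq_comm, smul_eq_zero] at h0
  have h1 := h0.resolve_right hv0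
  rwa [hα, AdjoinRoot.aeval_eq, AdjoinRoot.mk_eq_zero] at h1

/-- A matrix killed by a power of a monic irreducible `P` has a power of `P` as characteristic polynomial. -/
theorem charpoly_eq_pow_of_aeval_pow_eq_zero (A : Matrix (Fin n) (Fin n) F) {P : F[X]} (hP : Irreducible P)
    (hPm : P.Monic) {m : ℕ} (h : aeval A (P ^ m) = 0) : ∃ j, A.charpoly = P ^ j := by
  obtain ⟨j, c, hPc, hc⟩ := WfDvdMonoid.max_power_factor (A.charpoly_monic.ne_zero) hP
  have hu : IsUnit c := by
    by_contra hnu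
    have hc0 : c ≠ 0 := fun h0 => A.charpoly_monic.ne_zero (by rw [hc, h0, mul_zero])
    obtain ⟨Q, hQ, hQc⟩ := WfDvdMonoid.exists_irreducible_factor hnu hc0
    have h1 : Q ∣ P ^ m := (irreducible_dvd_minpoly_of_dvd_charpoly A hQ (hc ▸ dvd_mul_of_dvd_right hQc _)).trans
      (minpoly.dvd F A h)
    exact hPc (((hQ.associated_of_dvd hP (hQ.prime.dvd_of_dvd_pow h1)).symm.dvd).trans hQc)
  have hcm : c.Monic := (hPm.pow j).of_mul_monic_left (hc ▸ A.charpoly_monic)
  exact ⟨j, by rw [hc, hcm.eq_one_of_isUnit hu, mul_one]⟩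

/-- A matrix either commutes with a non-trivial idempotent or is primary. -/
theorem idempotent_or_primary (hn : 0 < n) (A : Matrix (Fin n) (Fin n) F) :
    (∃ E : Matrix (Fin n) (Fin n) F, E * E = E ∧ Commute E A ∧ E ≠ 0 ∧ E ≠ 1) ∨
      ∃ (P : F[X]) (j : ℕ), P.Monic ∧ Irreducible P ∧ A.charpoly = P ^ j := by
  classical
  have : Nonempty (Fin n) := ⟨⟨0, hn⟩⟩
  have hint : IsIntegral F A := IsIntegral.of_finite F A
  have hf0 : minpoly F A ≠ 0 := minpoly.ne_zero hint
  obtain ⟨Q, hQ, hQdvd⟩ := WfDvdMonoid.exists_irreducible_factor (minpoly.not_isUnit F A) hf0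
  obtain ⟨P, hPm, hPQ⟩ : ∃ P : F[X], P.Monic ∧ Associated Q P :=
    ⟨normalize Q, Polynomial.monic_normalize hQ.ne_zero, (normalize_associated Q).symm⟩
  have hP : Irreducible P := hPQ.irreducible hQ
  obtain ⟨m, c, hPc, hc⟩ := WfDvdMonoid.max_power_factor hf0 hP
  have hm : m ≠ 0 := by
    intro h0
    rw [h0, pow_zero, one_mul] at hc
    exact hPc (hc ▸ hPQ.symm.dvd.trans hQdvd)
  by_cases hu : IsUnit c
  · right
    have hker : aeval A (P ^ m) = 0 := by
      obtain ⟨w, hw⟩ := hu.dvd (a := (1 : F[X]))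
      have h : aeval A (minpoly F A * w) = aeval A (P ^ m * c * w) := by rw [← hc]
      rw [map_mul, minpoly.aeval, zero_mul, mul_assoc, ← hw, mul_one] at h
      exact h.symm
    obtain ⟨j, hj⟩ := charpoly_eq_pow_of_aeval_pow_eq_zero A hP hPm hker
    exact ⟨P, j, hPm, hP, hj⟩
  · left
    have hcop : IsCoprime (P ^ m) c :=
      IsCoprime.pow_left ((hP.coprime_iff_not_dvd).2 hPc)
    obtain ⟨u, v, huv⟩ := hcop
    have hfull : ∀ g : F[X], minpoly F A ∣ g → aeval A g = 0 := fun g hg => by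
      obtain ⟨w, rfl⟩ := hg; rw [map_mul, minpoly.aeval, zero_mul]
    refine ⟨aeval A (u * P ^ m), ?_, ?_, ?_, ?_⟩
    · rw [← map_mul, ← sub_eq_zero, ← map_sub]
      refine hfull _ ⟨-(u * v), ?_⟩
      rw [hc]
      linear_combination (u * P ^ m) * huv
    · have := (Commute.all (u * P ^ m) X).map (aeval A)
      rwa [aeval_X] at this
    · intro h
      have hd : P ^ m * c ∣ u * P ^ m := hc ▸ minpoly.dvd F A h
      rw [mul_comm u] at hd
      have : c ∣ u := (mul_dvd_mul_iff_left (pow_ne_zero m hP.ne_zero)).1 hd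
      exact hu (isUnit_of_dvd_one (huv ▸ dvd_add (dvd_mul_of_dvd_left this _) (dvd_mul_left _ _)))
    · intro h
      have hz : aeval A (v * c) = 0 := by
        have h2 : aeval A (u * P ^ m) + aeval A (v * c) = 1 := by rw [← map_add, huv, map_one]
        rwa [h, add_eq_left] at h2
      have hd : P ^ m * c ∣ v * c := hc ▸ minpoly.dvd F A hz
      have hc0 : c ≠ 0 := fun h0 => hf0 (by rw [hc, h0, mul_zero])
      have : P ^ m ∣ v := (mul_dvd_mul_iff_right hc0).1 hd
      have h1 : P ∣ 1 := huv ▸ dvd_add (dvd_mul_of_dvd_right (dvd_pow_self P hm) _)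
        (dvd_mul_of_dvd_left ((dvd_pow_self P hm).trans this) _)
      exact hP.not_isUnit (isUnit_of_dvd_one h1)

/-- From an idempotent commuting with `A` and `ζ` of prime order `r ∤ n`: a non-central element of order dividing `r`
of `SL n` commuting with `A`. -/
theorem exists_SL_of_idempotent {r : ℕ} (hrn : ¬ r ∣ n) (hr : r.Prime) (ζ : F) (hζ : orderOf ζ = r)
    (A E : Matrix (Fin n) (Fin n) F) (hE : E * E = E) (hEA : Commute E A) (hE0 : E ≠ 0) (hE1 : E ≠ 1) :
    ∃ z : Matrix.SpecialLinearGroup (Fin n) F, z ^ r = 1 ∧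
      z ∉ Subgroup.center (Matrix.SpecialLinearGroup (Fin n) F) ∧
      Commute (z : Matrix (Fin n) (Fin n) F) A := by
  have hpow : ∀ (c : F) (k : ℕ), (1 + (c - 1) • E) ^ k = 1 + (c ^ k - 1) • E := by
    intro c k
    induction k with
    | zero => simp
    | succ k ih =>
      rw [pow_succ, ih, add_mul, mul_add, mul_add, one_mul, one_mul, mul_one, smul_mul_smul_comm, hE,
        add_assoc, ← add_smul, ← add_smul]
      congr 2
      ring
  set Z : Matrix (Fin n) (Fin n) F := 1 + (ζ - 1) • E with hZ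
  have hZr : Z ^ r = 1 := by rw [hZ, hpow, ← hζ, pow_orderOf_eq_one, sub_self, zero_smul, add_zero]
  have hδr : Z.det ^ r = 1 := by rw [← Matrix.det_pow, hZr, Matrix.det_one]
  have hδ0 : Z.det ≠ 0 := fun h => by rw [h, zero_pow hr.ne_zero] at hδr; exact zero_ne_one hδr
  obtain ⟨z, hzv⟩ : ∃ z : Matrix.SpecialLinearGroup (Fin n) F,
      (z : Matrix (Fin n) (Fin n) F) = Z.det⁻¹ • Z ^ n :=
    ⟨⟨Z.det⁻¹ • Z ^ n, by
      rw [Matrix.det_smul, Matrix.det_pow, Fintype.card_fin, ← mul_pow, inv_mul_cancel₀ hδ0, one_pow]⟩, rfl⟩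
  refine ⟨z, ?_, ?_, ?_⟩
  · apply Subtype.ext
    rw [Matrix.SpecialLinearGroup.coe_pow, Matrix.SpecialLinearGroup.coe_one, hzv, _root_.smul_pow, inv_pow, hδr, inv_one, one_smul, ← pow_mul, mul_comm, pow_mul, hZr, one_pow]
  · intro hc
    obtain ⟨c, -, hc⟩ := Matrix.SpecialLinearGroup.mem_center_iff.1 hc
    have hc' : Matrix.scalar (Fin n) c = Z.det⁻¹ • Z ^ n := hc.trans hzv
    rw [Matrix.scalar_apply] at hc'
    rw [hZ, hpow, ← Matrix.smul_one_eq_diagonal, ← hZ] at hc'
    have hne : ζ ^ n - 1 ≠ 0 := fun h => hrn (hζ ▸ orderOf_dvd_of_pow_eq_one (sub_eq_zero.1 h))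
    have hE' : E = ((ζ ^ n - 1)⁻¹ * (Z.det * c - 1)) • (1 : Matrix (Fin n) (Fin n) F) := by
      have h2 := congrArg (fun M => Z.det • M) hc'
      simp only [smul_smul, mul_inv_cancel₀ hδ0, one_smul] at h2
      rw [mul_smul, sub_smul, one_smul, h2, add_sub_cancel_left, smul_smul, inv_mul_cancel₀ hne, one_smul]
    set d := (ζ ^ n - 1)⁻¹ * (Z.det * c - 1)
    have hn : Nonempty (Fin n) := ⟨⟨0, Nat.pos_of_ne_zero fun h => hrn (h ▸ dvd_zero r)⟩⟩
    have hdd : d * d = d := by
      have h3 := congrArg (fun M : Matrix (Fin n) (Fin n) F => M (Classical.arbitrary _) (Classical.arbitrary _)) hE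
      simp only [hE', smul_mul_smul_comm, one_mul, Matrix.smul_apply, Matrix.one_apply_eq, smul_eq_mul,
        mul_one] at h3
      exact h3
    rcases mul_eq_zero.1 (show d * (d - 1) = 0 by rw [mul_sub, hdd, mul_one, sub_self]) with h | h
    · exact hE0 (by rw [hE', h, zero_smul])
    · exact hE1 (by rw [hE', sub_eq_zero.1 h, one_smul])
  · rw [hzv]
    exact (((Commute.one_left A).add_left (hEA.smul_left _)).pow_left n).smul_left _

end CfsgLib.KnownC
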