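import Mathlib
import Cfsg.Prelude.Def_Classical
import Cfsg.Agent.Lib.Classical.SemiUnitary
import Cfsg.Agent.Lib.Classical.SemiUnitaryExists
import Cfsg.Agent.Lib.Classical.SemiUnitaryClasses
import Cfsg.Agent.Lib.Classical.UnipUnitary
import Cfsg.Agent.Lib.Classical.SUCenter
import Cfsg.Agent.Lib.Classical.SemiPalin
import Cfsg.Agent.Lib.KnownC.MatrixPrimary
import Cfsg.Agent.Lib.KnownC.AlgebraEmbed

/-!
Element orders of `PSU_n(q)`: for `r ∣ q + 1`, `r ∤ n`, an element either has order dividing that of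
an element of order divisible by `r`, or order dividing `M * p ^ E`, `M` the order of a fixed
semisimple element.
-/

set_option autoImplicit false
set_option maxHeartbeats 400000

namespace CfsgLib.KnownC.UnitarySpectrum

open Matrix Polynomial CfsgLib.Classical CfsgLib.Classical.SemiPalin CfsgLib.KnownC
open scoped Matrix

universe u

variable {F : Type u} [Field F] [Fintype F] {q n : ℕ} (hF : Fintype.card F = q ^ 2)

local notation "Mn" => Matrix (Fin n) (Fin n) F
local notation "π" => QuotientGroup.mk' (Subgroup.center (Cfsg.SU n F q))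

/-- The matrix of an element of `SU`. -/
abbrev mat (g : Cfsg.SU n F q) : Mn := ((g : Matrix.SpecialLinearGroup (Fin n) F) : Mn)

omit [Fintype F] in
theorem mat_mul (g h : Cfsg.SU n F q) : mat (g * h) = mat g * mat h := rfl

omit [Fintype F] in
theorem mat_one : mat (1 : Cfsg.SU n F q) = 1 := rfl

omit [Fintype F] in
theorem mat_pow (g : Cfsg.SU n F q) (k : ℕ) : mat (g ^ k) = mat g ^ k := by
  induction k with
  | zero => rfl
  | succ k ih => rw [pow_succ, pow_succ, mat_mul, ih]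

omit [Fintype F] in
theorem mat_inj {g h : Cfsg.SU n F q} (he : mat g = mat h) : g = h := Subtype.ext (Subtype.ext he)

/-! ### Scalars and the conjugate transpose -/

theorem star'_smul (c : F) (X : Mn) :
    SemiUnitary.star' hF (c • X) = qFrob hF c • SemiUnitary.star' hF X := by
  ext i j; simp [SemiUnitary.star'_apply]

theorem star'_mat (g : Cfsg.SU n F q) : SemiUnitary.star' hF (mat g) * mat g = 1 := by
  have h := congrArg Matrix.transpose ((mem_su_iff hF _).1 g.2)
  rw [transpose_mul, transpose_transpose, transpose_one] at h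
  exact h

theorem star'_mat_eq_inv (g : Cfsg.SU n F q) : SemiUnitary.star' hF (mat g) = mat g⁻¹ :=
  left_inv_eq_right_inv (star'_mat hF g) (by rw [← mat_mul, mul_inv_cancel, mat_one])

include hF in
theorem mem_of_star' {X : Matrix.SpecialLinearGroup (Fin n) F}
    (h : SemiUnitary.star' hF (X : Mn) * (X : Mn) = 1) : X ∈ Cfsg.SU n F q := by
  rw [mem_su_iff hF]
  have h' := congrArg Matrix.transpose h
  rw [transpose_mul, SemiUnitary.star'_apply, transpose_transpose, transpose_one] at h'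
  exact h'

omit [Fintype F] in
theorem mk_eq_one_of_smul (g : Cfsg.SU n F q) (c : F) (h : mat g = c • (1 : Mn)) : π g = 1 := by
  rw [QuotientGroup.mk'_apply, QuotientGroup.eq_one_iff, Subgroup.mem_center_iff]
  intro x
  refine mat_inj ?_
  rw [mat_mul, mat_mul, h]
  simp

include hF in
/-- Central elements are scalar, of norm one. -/
theorem scalar_of_mk_eq_one (hn : 2 ≤ n) (g : Cfsg.SU n F q) (h : π g = 1) :
    ∃ c : F, c * qFrob hF c = 1 ∧ mat g = c • (1 : Mn) := by
  classical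
  rw [QuotientGroup.mk'_apply, QuotientGroup.eq_one_iff] at h
  set d := Nat.gcd n (q + 1) with hd
  have hcard : Nat.card (powMonoidHom d : Fˣ →* Fˣ).ker = d := by
    rw [IsCyclic.card_powMonoidHom_ker, Nat.card_units, Nat.card_eq_fintype_card, hF]
    refine Nat.gcd_eq_right ((Nat.gcd_dvd_right n (q + 1)).trans ⟨q - 1, ?_⟩)
    rw [← Nat.sq_sub_sq q 1, one_pow]
  have hmem : ∀ u : (powMonoidHom d : Fˣ →* Fˣ).ker, ∃ z : Cfsg.SU n F q,
      mat z = ((u : Fˣ) : F) • (1 : Mn) ∧ z ∈ Subgroup.center (Cfsg.SU n F q) := by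
    rintro ⟨u, hu⟩
    replace hu : u ^ d = 1 := hu
    obtain ⟨t, ht⟩ := Nat.gcd_dvd_left n (q + 1)
    obtain ⟨s, hs⟩ := Nat.gcd_dvd_right n (q + 1)
    have hu' : (u : F) ^ d = 1 := by rw [← Units.val_pow_eq_pow_val, hu, Units.val_one]
    have hun : (u : F) ^ n = 1 := by rw [ht, ← hd, pow_mul, hu', one_pow]
    have huq : qFrob hF (u : F) * (u : F) = 1 := by
      rw [qFrob_apply, ← pow_succ, hs, ← hd, pow_mul, hu', one_pow]
    let X : Matrix.SpecialLinearGroup (Fin n) F :=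
      ⟨(u : F) • 1, by rw [Matrix.det_smul, Matrix.det_one, mul_one, Fintype.card_fin, hun]⟩
    have hX : X ∈ Cfsg.SU n F q := mem_of_star' hF (by
      show SemiUnitary.star' hF ((u : F) • (1 : Mn)) * ((u : F) • (1 : Mn)) = 1
      rw [star'_smul, SemiUnitary.star'_one, smul_mul_smul_comm, one_mul, huq, one_smul])
    refine ⟨⟨X, hX⟩, rfl, ?_⟩
    have := mk_eq_one_of_smul (⟨X, hX⟩ : Cfsg.SU n F q) (u : F) rfl
    rwa [QuotientGroup.mk'_apply, QuotientGroup.eq_one_iff] at this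
  choose z hz hzc using hmem
  let f : (powMonoidHom d : Fˣ →* Fˣ).ker → Subgroup.center (Cfsg.SU n F q) :=
    fun u => ⟨z u, hzc u⟩
  have hinj : Function.Injective f := by
    intro u v huv
    have h1 := congrArg (fun w : Subgroup.center (Cfsg.SU n F q) => mat w.1 ⟨0, by omega⟩ ⟨0, by omega⟩) huv
    change mat (z u) _ _ = mat (z v) _ _ at h1
    rw [hz, hz] at h1
    exact Subtype.ext (Units.ext (by simpa using h1))
  have hbij : Function.Bijective f :=
    (Nat.bijective_iff_injective_and_card f).2 ⟨hinj, by rw [hcard, card_center_su hF hn]⟩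
  obtain ⟨⟨u, hu⟩, hfu⟩ := hbij.2 ⟨g, h⟩
  have hu₁ : u ^ d = 1 := hu
  have hg : z ⟨u, hu⟩ = g := congrArg Subtype.val hfu
  obtain ⟨s, hs⟩ := Nat.gcd_dvd_right n (q + 1)
  refine ⟨u, ?_, by rw [← hg, hz]⟩
  have hu' : (u : F) ^ d = 1 := by
    rw [← Units.val_pow_eq_pow_val, show u ^ d = 1 from hu, Units.val_one]
  rw [qFrob_apply, ← pow_succ', hs, ← hd, pow_mul, hu', one_pow]

/-! ### Roots and `tilde` -/

theorem reverse_map (σ : F →+* F) (f : F[X]) : (f.map σ).reverse = f.reverse.map σ := by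
  ext i
  simp only [coeff_reverse, coeff_map, natDegree_map]

theorem aeval_reverse_of_mul_eq_one {R : Type*} [CommRing R] [Algebra F R] {x xi : R} (h : x * xi = 1)
    (f : F[X]) : aeval x f.reverse * xi ^ f.natDegree = aeval xi f := by
  letI : Invertible xi := ⟨x, h, by rw [mul_comm, h]⟩
  exact eval₂_reverse_mul_pow (algebraMap F R) xi f

include hF in
/-- `aeval (y ^ q) (f ^ σ) = (aeval y f) ^ q`. -/
theorem aeval_map_pow {p a : ℕ} [Fact p.Prime] [CharP F p] (hq : q = p ^ a) {L : Type*} [Field L]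
    [Algebra F L] (f : F[X]) (y : L) : aeval (y ^ q) (f.map (qFrob hF)) = aeval y f ^ q := by
  have : CharP L p := charP_of_injective_algebraMap' F p
  have hμ : ∀ x : L, iterateFrobenius L p a x = x ^ q := fun x => by rw [iterateFrobenius_def, hq]
  rw [← hμ, ← hμ, aeval_def, aeval_def, hom_eval₂, eval₂_map]
  congr 1
  refine RingHom.ext fun x => ?_
  rw [RingHom.comp_apply, RingHom.comp_apply, hμ, qFrob_apply, map_pow]

include hF in
/-- A root of `tilde f` gives a root of `f`. -/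
theorem root_of_root_tilde {p a : ℕ} [Fact p.Prime] [CharP F p] (hq : q = p ^ a) {L : Type*} [Field L]
    [Algebra F L] {f : F[X]} (h0 : f.coeff 0 ≠ 0) {γ : L} (hγ0 : γ ≠ 0)
    (h : aeval γ (tilde (qFrob hF) f) = 0) : aeval (γ ^ q)⁻¹ f = 0 := by
  have h1 : aeval γ (f.reverse.map (qFrob hF)) = 0 := by
    rw [tilde, srev, map_mul, aeval_C, mul_eq_zero] at h
    exact h.resolve_left (by simpa using h0)
  have h2 := aeval_map_pow hF hq (f.reverse.map (qFrob hF)) γ
  rw [Polynomial.map_map, show (qFrob hF).comp (qFrob hF) = RingHom.id F from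
    RingHom.ext (qFrob_qFrob hF), Polynomial.map_id, h1,
    zero_pow (by rw [hq]; exact pow_ne_zero _ (Fact.out : p.Prime).ne_zero)] at h2
  rw [← aeval_reverse_of_mul_eq_one (mul_inv_cancel₀ (pow_ne_zero q hγ0)), h2, zero_mul]

include hF in
/-- Converse: `γ = y ^ q` with `y⁻¹` a root of `f` is a root of `tilde f`. -/
theorem root_tilde_of_root {p a : ℕ} [Fact p.Prime] [CharP F p] (hq : q = p ^ a) {L : Type*} [Field L]
    [Algebra F L] {f : F[X]} {y : L} (hy0 : y ≠ 0) (h : aeval y⁻¹ f = 0) :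
    aeval (y ^ q) (tilde (qFrob hF) f) = 0 := by
  have h1 : aeval y f.reverse = 0 := by
    have h2 := aeval_reverse_of_mul_eq_one (mul_inv_cancel₀ hy0) f
    rw [h] at h2
    exact (mul_eq_zero.1 h2).resolve_right (pow_ne_zero _ (inv_ne_zero hy0))
  rw [tilde, srev, map_mul, aeval_map_pow hF hq, h1,
    zero_pow (by rw [hq]; exact pow_ne_zero _ (Fact.out : p.Prime).ne_zero), mul_zero]

theorem tilde_one (σ : F →+* F) : tilde σ (1 : F[X]) = 1 := by
  rw [tilde, srev, coeff_one_zero, map_one, inv_one, map_one, one_mul, ← C_1, Polynomial.reverse_C,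
    map_C, map_one]

theorem tilde_pow (σ : F →+* F) (f : F[X]) (j : ℕ) : tilde σ (f ^ j) = tilde σ f ^ j := by
  induction j with
  | zero => rw [pow_zero, pow_zero, tilde_one]
  | succ j ih => rw [pow_succ, pow_succ, tilde_mul, ih]

theorem coeff_zero_pow (f : F[X]) (j : ℕ) : (f ^ j).coeff 0 = f.coeff 0 ^ j := by
  rw [coeff_zero_eq_eval_zero, eval_pow, ← coeff_zero_eq_eval_zero]

include hF in
theorem tilde_binomial {M : ℕ} (hM : 0 < M) {c : F} (hc : c * qFrob hF c = 1) :
    tilde (qFrob hF) (X ^ M - C c) = X ^ M - C c := by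
  have hc0 : c ≠ 0 := left_ne_zero_of_mul_eq_one hc
  have hrev : (X ^ M - C c : F[X]).reverse = 1 - C c * X ^ M := by
    rw [reverse, natDegree_X_pow_sub_C, reflect_sub, reflect_C]
    congr 1
    simpa using reflect_monomial (R := F) M M
  have hco : (X ^ M - C c : F[X]).coeff 0 = -c := by
    rw [coeff_sub, coeff_X_pow, if_neg (by omega), coeff_C_zero, zero_sub]
  rw [tilde, srev, hco, hrev, Polynomial.map_sub, Polynomial.map_one, Polynomial.map_mul, map_C,
    Polynomial.map_pow, map_X]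
  have hinv : (qFrob hF (-c))⁻¹ = -c := by
    rw [map_neg, inv_neg, inv_eq_of_mul_eq_one_left hc]
  rw [hinv, mul_sub, mul_one, ← mul_assoc, ← C_mul, neg_mul, hc, map_neg, map_neg, map_one]
  ring

/-! ### The symmetric idempotent -/

theorem star'_aeval (G : Mn) (f : F[X]) :
    SemiUnitary.star' hF (aeval G f) = aeval (SemiUnitary.star' hF G) (f.map (qFrob hF)) := by
  induction f using Polynomial.induction_on' with
  | add f g hf hg => rw [map_add, map_add, Polynomial.map_add, map_add, hf, hg]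
  | monomial k c =>
    rw [Polynomial.map_monomial, aeval_monomial, aeval_monomial, ← Algebra.smul_def, ← Algebra.smul_def,
      star'_smul]
    congr 1
    induction k with
    | zero => rw [pow_zero, pow_zero, SemiUnitary.star'_one]
    | succ k ih => rw [pow_succ, SemiUnitary.star'_mul, ih, ← pow_succ']

omit [Fintype F] in
theorem aeval_congr {G : Mn} {f f' : F[X]}
    (h : AdjoinRoot.mk G.charpoly f = AdjoinRoot.mk G.charpoly f') : aeval G f = aeval G f' := by
  obtain ⟨w, hw⟩ := AdjoinRoot.mk_eq_mk.1 h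
  rw [← sub_eq_zero, ← map_sub, hw, map_mul, Matrix.aeval_self_charpoly, zero_mul]

/-- A coprime factorisation into conjugate-reciprocal parts gives a symmetric idempotent. -/
theorem exists_idempotent (g : Cfsg.SU n F q) {A B : F[X]}
    (hA : A.coeff 0 ≠ 0) (hAt : tilde (qFrob hF) A = A) (hχ0 : (mat g).charpoly.coeff 0 ≠ 0)
    (hχt : tilde (qFrob hF) (mat g).charpoly = (mat g).charpoly)
    (hχ : (mat g).charpoly = A * B) (hcop : IsCoprime A B)
    (hμA : ¬ minpoly F (mat g) ∣ A) (hμB : ¬ minpoly F (mat g) ∣ B) :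
    ∃ e : Mn, e * e = e ∧ Commute e (mat g) ∧ SemiUnitary.star' hF e = e ∧ e ≠ 0 ∧ e ≠ 1 := by
  classical
  set σ := qFrob hF with hσ
  set χ := (mat g).charpoly with hχdef
  obtain ⟨x₁, z₁, hbez⟩ := hcop
  obtain ⟨r, w, hrw⟩ : IsCoprime X χ := by
    refine (irreducible_X.coprime_iff_not_dvd).2 ?_
    rw [X_dvd_iff]
    exact hχ0
  let R := AdjoinRoot χ
  set x : R := AdjoinRoot.root χ with hx
  set xi : R := AdjoinRoot.mk χ r with hxi
  have hinv : x * xi = 1 := by
    rw [hx, hxi, ← AdjoinRoot.mk_X, ← map_mul, ← map_one (AdjoinRoot.mk χ), AdjoinRoot.mk_eq_mk]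
    exact ⟨-w, by linear_combination hrw⟩
  have hmk : ∀ f : F[X], aeval x f = AdjoinRoot.mk χ f := fun f => AdjoinRoot.aeval_eq f
  set ε := aeval x (z₁ * B) with hε
  set ε' := aeval xi ((z₁ * B).map σ) with hε'
  have hχx : aeval x χ = 0 := by rw [hmk, AdjoinRoot.mk_self]
  have hrel : ∀ f : F[X], f.coeff 0 ≠ 0 → tilde σ f = f →
      aeval xi (f.map σ) = aeval x f * algebraMap F R (σ (f.coeff 0)) * xi ^ (f.map σ).natDegree := by
    intro f hf0 hft
    rw [← aeval_reverse_of_mul_eq_one hinv (f.map σ), reverse_map]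
    congr 1
    have h1 : C (σ (f.coeff 0)) * tilde σ f = srev σ f := by
      rw [tilde, ← mul_assoc, ← C_mul, mul_inv_cancel₀ ((map_ne_zero σ).2 hf0), map_one, one_mul]
    rw [hft] at h1
    rw [show f.reverse.map σ = srev σ f from rfl, ← h1, map_mul, aeval_C, mul_comm]
  have hχxi : aeval xi (χ.map σ) = 0 := by
    rw [hrel χ hχ0 hχt, hχx, zero_mul, zero_mul]
  have hone : aeval x x₁ * aeval x A + ε = 1 := by rw [hε, ← map_mul, ← map_add, hbez, map_one]
  have hone' : aeval xi (x₁.map σ) * aeval xi (A.map σ) + ε' = 1 := by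
    rw [hε', ← map_mul, ← Polynomial.map_mul, ← map_add, ← Polynomial.map_add, hbez,
      Polynomial.map_one, map_one]
  have h1 : ε * aeval x A = 0 := by
    rw [hε, ← map_mul, mul_assoc, mul_comm B, ← hχ, map_mul, hχx, mul_zero]
  have h1' : ε' * aeval xi (A.map σ) = 0 := by
    rw [hε', ← map_mul, ← Polynomial.map_mul, mul_assoc, mul_comm B, ← hχ, Polynomial.map_mul, map_mul,
      hχxi, mul_zero]
  set a := algebraMap F R (σ (A.coeff 0)) * xi ^ (A.map σ).natDegree with ha
  have hau : IsUnit a := by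
    refine IsUnit.mul ((isUnit_iff_ne_zero.2 ((map_ne_zero σ).2 hA)).map _) (IsUnit.pow _ ?_)
    exact IsUnit.of_mul_eq_one x (by rw [mul_comm]; exact hinv)
  have hAxi : aeval xi (A.map σ) = aeval x A * a := by rw [hrel A hA hAt, mul_assoc]
  have h2' : ε' * aeval x A = 0 := by
    rw [hAxi, ← mul_assoc] at h1'
    exact (hau.mul_left_eq_zero).1 h1'
  have h2'' : ε * aeval xi (A.map σ) = 0 := by rw [hAxi, ← mul_assoc, h1, zero_mul]
  have hεε : ε = ε' := by
    have e1 : ε' = ε' * ε := by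
      conv_lhs => rw [← mul_one ε', ← hone, mul_add, mul_left_comm, h2', mul_zero, zero_add]
    have e2 : ε = ε * ε' := by
      conv_lhs => rw [← mul_one ε, ← hone', mul_add, mul_left_comm, h2'', mul_zero, zero_add]
    rw [e2, mul_comm, ← e1]
  have hid : ε * ε = ε := by
    conv_rhs => rw [← mul_one ε, ← hone, mul_add, mul_left_comm, h1, mul_zero, zero_add]
  set G : Mn := mat g with hG
  have hGr : aeval G r = mat g⁻¹ := by
    have hl : aeval G r * G = 1 := by
      have : aeval G (r * X) = aeval G 1 := aeval_congr (by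
        rw [map_mul, AdjoinRoot.mk_X, map_one, mul_comm]; exact hinv)
      rwa [map_mul, aeval_X, map_one] at this
    exact left_inv_eq_right_inv hl (by rw [hG, ← mat_mul, mul_inv_cancel, mat_one])
  set e : Mn := aeval G (z₁ * B) with he
  have hadj : SemiUnitary.star' hF e = e := by
    rw [he, star'_aeval, hG, star'_mat_eq_inv, ← hGr, ← hG, ← aeval_comp]
    refine aeval_congr ?_
    rw [← hmk, ← hmk, aeval_comp, hmk r]
    exact hεε.symm
  have hee : e * e = e := by
    rw [he, ← map_mul]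
    refine aeval_congr ?_
    rw [← hmk, map_mul, ← hmk, ← hε]
    exact hid
  have hsum : aeval G x₁ * aeval G A + e = 1 := by rw [he, ← map_mul, ← map_add, hbez, map_one]
  have hprod : e * aeval G A = 0 := by
    rw [he, ← map_mul, mul_assoc, mul_comm B, ← hχ, map_mul, Matrix.aeval_self_charpoly, mul_zero]
  refine ⟨e, hee, (Algebra.commute_of_mem_adjoin_self
    (Polynomial.aeval_mem_adjoin_singleton F G)).symm, hadj, fun he0 => ?_, fun he1 => ?_⟩
  · rw [he0, add_zero] at hsum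
    refine hμB (minpoly.dvd F G ?_)
    calc aeval G B = aeval G x₁ * aeval G A * aeval G B := by rw [hsum, one_mul]
      _ = 0 := by rw [mul_assoc, ← map_mul, ← hχ, Matrix.aeval_self_charpoly, mul_zero]
  · refine hμA (minpoly.dvd F G ?_)
    rw [← hprod, he1, one_mul]

/-! ### An element of order `r` in the centraliser -/

include hF in
theorem exists_extension (hn : 2 ≤ n) {r : ℕ} (hr : r.Prime) (hrq : r ∣ q + 1) (hrn : ¬ r ∣ n)
    (g : Cfsg.SU n F q) {e : Mn} (hee : e * e = e) (heg : Commute e (mat g))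
    (hes : SemiUnitary.star' hF e = e) (he0 : e ≠ 0) (he1 : e ≠ 1) :
    ∃ y' : Cfsg.PSU n F q, orderOf (π g) ∣ orderOf y' ∧ r ∣ orderOf y' := by
  classical
  by_cases hext : r ∣ orderOf (π g)
  · exact ⟨π g, dvd_rfl, hext⟩
  have := Fact.mk hr
  obtain ⟨ζ, hζ⟩ : ∃ ζ : F, orderOf ζ = r := by
    obtain ⟨u, hu⟩ := exists_prime_orderOf_dvd_card r (G := Fˣ) (by
      rw [Fintype.card_units, hF]
      exact hrq.trans ⟨q - 1, by rw [← Nat.sq_sub_sq q 1, one_pow]⟩)
    exact ⟨u, by rw [orderOf_units, hu]⟩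
  set σ := qFrob hF with hσ
  have hζσ : σ ζ * ζ = 1 := by
    obtain ⟨t, ht⟩ := hrq
    rw [hσ, qFrob_apply, ← pow_succ, ht, ← hζ, pow_mul, pow_orderOf_eq_one, one_pow]
  have hpow : ∀ (c : F) (k : ℕ), (1 + (c - 1) • e) ^ k = 1 + (c ^ k - 1) • e := by
    intro c k
    induction k with
    | zero => simp
    | succ k ih =>
      rw [pow_succ, ih, add_mul, mul_add, mul_add, one_mul, one_mul, mul_one, smul_mul_smul_comm, hee,
        add_assoc, ← add_smul, ← add_smul]
      congr 2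
      ring
  set Z : Mn := 1 + (ζ - 1) • e with hZ
  have hZs : SemiUnitary.star' hF Z * Z = 1 := by
    rw [hZ, map_add, SemiUnitary.star'_one, star'_smul, hes, add_mul, mul_add, mul_add, one_mul, one_mul,
      mul_one, smul_mul_smul_comm, hee, add_assoc, ← add_smul, ← add_smul]
    rw [← hσ, map_sub, map_one, show (ζ - 1) + ((σ ζ - 1) + (σ ζ - 1) * (ζ - 1)) = 0 by
      linear_combination hζσ, zero_smul, add_zero]
  have hZr : Z ^ r = 1 := by rw [hZ, hpow, ← hζ, pow_orderOf_eq_one, sub_self, zero_smul, add_zero]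
  have hδr : Z.det ^ r = 1 := by rw [← Matrix.det_pow, hZr, Matrix.det_one]
  have hδ0 : Z.det ≠ 0 := fun h => by rw [h, zero_pow hr.ne_zero] at hδr; exact zero_ne_one hδr
  have hδs : σ Z.det * Z.det = 1 := by
    have h := congrArg Matrix.det hZs
    rw [det_mul, SemiUnitary.star'_apply, det_transpose, SemiUnitary.det_map, det_one] at h
    exact h
  let X : Matrix.SpecialLinearGroup (Fin n) F := ⟨Z.det⁻¹ • Z ^ n, by
    rw [Matrix.det_smul, Matrix.det_pow, Fintype.card_fin, ← mul_pow, inv_mul_cancel₀ hδ0, one_pow]⟩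
  have hZi : ∀ i : ℕ, SemiUnitary.star' hF (Z ^ i) * Z ^ i = 1 := by
    intro i
    induction i with
    | zero => rw [pow_zero, SemiUnitary.star'_one, one_mul]
    | succ i ih =>
      rw [pow_succ, SemiUnitary.star'_mul, mul_assoc, ← mul_assoc (SemiUnitary.star' hF (Z ^ i)), ih,
        one_mul, hZs]
  have hX : X ∈ Cfsg.SU n F q := mem_of_star' hF (by
    show SemiUnitary.star' hF (Z.det⁻¹ • Z ^ n) * (Z.det⁻¹ • Z ^ n) = 1
    rw [star'_smul, smul_mul_smul_comm, hZi, ← hσ, map_inv₀, ← mul_inv, hδs, inv_one, one_smul])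
  let z : Cfsg.SU n F q := ⟨X, hX⟩
  have hzm : mat z = Z.det⁻¹ • Z ^ n := rfl
  have hzr : z ^ r = 1 := mat_inj (by
    rw [mat_pow, hzm, _root_.smul_pow, inv_pow, hδr, inv_one, one_smul, ← pow_mul, mul_comm, pow_mul,
      hZr, one_pow, mat_one])
  have hzc : π z ≠ 1 := by
    intro h
    obtain ⟨c, -, hc⟩ := scalar_of_mk_eq_one hF hn z h
    rw [hzm, hZ, hpow, ← hZ] at hc
    have hne : ζ ^ n - 1 ≠ 0 := fun h => hrn (hζ ▸ orderOf_dvd_of_pow_eq_one (sub_eq_zero.1 h))
    have hE' : e = ((ζ ^ n - 1)⁻¹ * (Z.det * c - 1)) • (1 : Mn) := by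
      have h2 := congrArg (fun M => Z.det • M) hc
      simp only [smul_smul, mul_inv_cancel₀ hδ0, one_smul] at h2
      rw [mul_smul, sub_smul, one_smul, ← h2, add_sub_cancel_left, smul_smul, inv_mul_cancel₀ hne, one_smul]
    set d := (ζ ^ n - 1)⁻¹ * (Z.det * c - 1)
    have hdd : d * d = d := by
      have h3 := congrArg (fun M : Mn => M ⟨0, by omega⟩ ⟨0, by omega⟩) hee
      simp only [hE', smul_mul_smul_comm, one_mul, Matrix.smul_apply, Matrix.one_apply_eq, smul_eq_mul,
        mul_one] at h3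
      exact h3
    rcases mul_eq_zero.1 (show d * (d - 1) = 0 by rw [mul_sub, hdd, mul_one, sub_self]) with h | h
    · exact he0 (by rw [hE', h, zero_smul])
    · exact he1 (by rw [hE', sub_eq_zero.1 h, one_smul])
  have hzo : orderOf (π z) = r := orderOf_eq_prime (by rw [← map_pow, hzr, map_one]) hzc
  have hgz : Commute g z := mat_inj (by
    rw [mat_mul, mat_mul, hzm]
    exact ((((Commute.one_left (mat g)).add_left (heg.smul_left _)).pow_left n).smul_left _).symm.eq)
  have hcomm : Commute (π g) (π z) := Commute.map hgz π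
  have hcop : (orderOf (π g)).Coprime (orderOf (π z)) := by
    rw [hzo]; exact ((hr.coprime_iff_not_dvd).2 hext).symm
  refine ⟨π g * π z, ?_, ?_⟩
  · rw [hcomm.orderOf_mul_eq_mul_orderOf_of_coprime hcop]; exact dvd_mul_right _ _
  · rw [hcomm.orderOf_mul_eq_mul_orderOf_of_coprime hcop, hzo]; exact dvd_mul_left _ _

/-! ### The semisimple element -/

theorem det_leftMul {L : Type*} [Field L] [Algebra F L] [FiniteDimensional F L] {m : ℕ}
    (b : Module.Basis (Fin m) F L) {P : F[X]} (hP : Irreducible P) (hPm : P.Monic) {x : L}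
    (hx : aeval x P = 0) :
    ∃ j, (Algebra.leftMulMatrix b x).charpoly = P ^ j ∧ m = j * P.natDegree ∧
      (Algebra.leftMulMatrix b x).det = (-1) ^ m * P.coeff 0 ^ j := by
  obtain ⟨j, hj⟩ := charpoly_eq_pow_of_aeval_pow_eq_zero (Algebra.leftMulMatrix b x) hP hPm (m := 1)
    (by rw [pow_one, aeval_algHom_apply, hx, map_zero])
  refine ⟨j, hj, ?_, ?_⟩
  · have := congrArg natDegree hj
    rwa [Matrix.charpoly_natDegree_eq_dim, Fintype.card_fin, natDegree_pow] at this
  · rw [Matrix.det_eq_sign_charpoly_coeff, hj, Fintype.card_fin, coeff_zero_pow]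

/-- A unitary element with a given characteristic polynomial and the root transfer. -/
theorem su_of_poly {p : ℕ} [Fact p.Prime] [CharP F p] (hn : 2 ≤ n) {f : F[X]} (hf : f.Monic)
    (hfd : f.natDegree = n) (hf0 : (-1) ^ n * f.coeff 0 = 1) (hft : tilde (qFrob hF) f = f) :
    ∃ w : Cfsg.SU n F q, (orderOf (π w)).Coprime p ∧
      ∀ (P : F[X]), Irreducible P → P ∣ f → ∀ M : ℕ, (π w) ^ M = 1 →
        ∃ c : F, c * qFrob hF c = 1 ∧ P ∣ X ^ M - C c := by
  have hf00 : f.coeff 0 ≠ 0 := fun h => by rw [h, mul_zero] at hf0; exact zero_ne_one hf0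
  obtain ⟨B, hB, hBo, hBc⟩ := SemiUnitaryExists.exists_gu hF p hf hfd hf00 hft
  have hdet : (B : Mn).det = 1 := by
    rw [Matrix.det_eq_sign_charpoly_coeff, hBc, Fintype.card_fin]; exact hf0
  let X₀ : Matrix.SpecialLinearGroup (Fin n) F := ⟨(B : Mn), hdet⟩
  have hX : X₀ ∈ Cfsg.SU n F q := by
    rw [mem_su_iff hF]
    exact (SemiUnitary.mem_gu_iff hF B).1 hB
  let w : Cfsg.SU n F q := ⟨X₀, hX⟩
  have hwo : orderOf w ∣ orderOf B := orderOf_dvd_of_pow_eq_one (mat_inj (by
    rw [mat_pow, mat_one]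
    show (B : Mn) ^ orderOf B = 1
    rw [← Units.val_pow_eq_pow_val, pow_orderOf_eq_one, Units.val_one]))
  refine ⟨w, Nat.Coprime.coprime_dvd_left ((orderOf_map_dvd π w).trans hwo) hBo, fun P hP hPf M hM => ?_⟩
  rw [← map_pow] at hM
  obtain ⟨c, hc, hwc⟩ := scalar_of_mk_eq_one hF hn _ hM
  refine ⟨c, hc, ((irreducible_dvd_minpoly_of_dvd_charpoly (B : Mn) hP (hBc ▸ hPf)).trans
    (minpoly.dvd F _ ?_))⟩
  rw [map_sub, map_pow, aeval_X, aeval_C, Algebra.algebraMap_eq_smul_one, sub_eq_zero, ← hwc, mat_pow]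

theorem aeval_pow_card {L : Type*} [Field L] [Algebra F L] (f : F[X]) {x : L} (hx : aeval x f = 0)
    (k : ℕ) : aeval (x ^ Fintype.card F ^ k) f = 0 := by
  induction k with
  | zero => rwa [pow_zero, pow_one]
  | succ k ih =>
    have h := aeval_algHom_apply (FiniteField.frobeniusAlgHom F L) (x ^ Fintype.card F ^ k) f
    rw [ih, map_zero] at h
    simpa [← pow_mul, ← pow_succ] using h

include hF in
theorem self_tilde_root {p a : ℕ} [Fact p.Prime] [CharP F p] (hq : q = p ^ a) {P : F[X]}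
    [hPi : Fact (Irreducible P)] (hP0 : P.coeff 0 ≠ 0) (ht : tilde (qFrob hF) P = P) :
    Odd P.natDegree ∧ (AdjoinRoot.root P) ^ (q ^ P.natDegree + 1) = 1 := by
  have hP := hPi.out
  set d := P.natDegree with hd
  let K := AdjoinRoot P
  have : Module.Finite F K := (AdjoinRoot.powerBasis hP.ne_zero).finite
  have : Finite K := Module.finite_of_finite F
  letI : Fintype K := Fintype.ofFinite K
  set β : K := AdjoinRoot.root P with hβ
  have hβP : aeval β P = 0 := by rw [hβ, AdjoinRoot.aeval_eq, AdjoinRoot.mk_self]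
  have hβ0 : β ≠ 0 := by
    intro h
    rw [h, aeval_def, eval₂_at_zero, _root_.map_eq_zero] at hβP
    exact hP0 hβP
  have hroot : aeval (β ^ q)⁻¹ P = 0 := root_of_root_tilde hF hq hP0 hβ0 (by rw [ht]; exact hβP)
  have hrk : Module.finrank F K = d := by
    rw [(AdjoinRoot.powerBasis hP.ne_zero).finrank, AdjoinRoot.powerBasis_dim]
  have hcK : Fintype.card K = q ^ (2 * d) := by
    rw [Module.card_eq_pow_finrank (K := F), hrk, hF, ← pow_mul]
  let τ : K →ₐ[F] K := AdjoinRoot.liftAlgHom P (Algebra.ofId F K) (β ^ q)⁻¹ (by simpa [aeval_def] using hroot)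
  have hτ : τ β = (β ^ q)⁻¹ := AdjoinRoot.liftAlgHom_root P _ _ _
  let τ' : K ≃ₐ[F] K := AlgEquiv.ofBijective τ
    ⟨τ.toRingHom.injective, Finite.injective_iff_surjective.1 τ.toRingHom.injective⟩
  obtain ⟨⟨i, hi⟩, hpw⟩ := (FiniteField.bijective_frobeniusAlgEquivOfAlgebraic_pow F K).2 τ'
  rw [hrk] at hi
  have hβi : β ^ q ^ (2 * i) = (β ^ q)⁻¹ := by
    have h1 := DFunLike.congr_fun hpw β
    rw [AlgEquiv.coe_pow, FiniteField.coe_frobeniusAlgEquivOfAlgebraic_iterate] at h1
    rw [pow_mul, ← hF]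
    exact h1.trans hτ
  have hd1 : 0 < d := hP.natDegree_pos
  have hN : β ^ q ^ (2 * i + 2 * d - 1) = β⁻¹ := by
    rw [show 2 * i + 2 * d - 1 = 2 * i + (2 * d - 1) by omega, pow_add, pow_mul, hβi, inv_pow,
      ← pow_mul, ← pow_succ', show 2 * d - 1 + 1 = 2 * d by omega, ← hcK, FiniteField.pow_card]
  have hdvd : d ∣ 2 * i + 2 * d - 1 := by
    have hone : (FiniteField.frobeniusAlgEquivOfAlgebraic F K) ^ (2 * i + 2 * d - 1) = 1 := by
      refine AlgEquiv.coe_algHom_injective (AdjoinRoot.algHom_ext ?_)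
      show ((FiniteField.frobeniusAlgEquivOfAlgebraic F K) ^ (2 * i + 2 * d - 1)) β = β
      rw [AlgEquiv.coe_pow, FiniteField.coe_frobeniusAlgEquivOfAlgebraic_iterate, hF, ← pow_mul,
        two_mul (2 * i + 2 * d - 1)]
      show β ^ q ^ _ = β
      rw [pow_add, pow_mul, hN, inv_pow, hN, inv_inv]
    have h := orderOf_dvd_of_pow_eq_one hone
    rwa [FiniteField.orderOf_frobeniusAlgEquivOfAlgebraic, hrk] at h
  have hodd : Odd (2 * i + 2 * d - 1) := ⟨i + d - 1, by omega⟩
  refine ⟨hodd.of_dvd_nat hdvd, ?_⟩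
  obtain ⟨t, ht⟩ := hdvd
  have hto : Odd t := (Nat.odd_mul.1 (ht ▸ hodd)).2
  obtain ⟨s, rfl⟩ := hto
  have hfix : ∀ s, β ^ q ^ (2 * d * s) = β := fun s => by
    rw [pow_mul, ← hcK]; exact FiniteField.pow_card_pow s β
  rw [ht, show d * (2 * s + 1) = 2 * d * s + d by ring, pow_add, pow_mul, hfix] at hN
  rw [pow_succ, hN, inv_mul_cancel₀ hβ0]

include hF in
theorem exists_torus {p a : ℕ} [Fact p.Prime] [CharP F p] (hq : q = p ^ a) (hn : 2 ≤ n) :
    ∃ w : Cfsg.SU n F q, (orderOf (π w)).Coprime p ∧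
      ∀ (P : F[X]) (e : ℕ), Irreducible P → P.Monic → P.coeff 0 ≠ 0 →
        ((Odd n ∧ tilde (qFrob hF) P = P ∧ P.natDegree * e = n ∧ P.coeff 0 ^ e = -1) ∨
          (2 * (P.natDegree * e) = n ∧ qFrob hF (P.coeff 0 ^ e) = P.coeff 0 ^ e)) →
        ∀ M : ℕ, (π w) ^ M = 1 → ∃ c : F, c * qFrob hF c = 1 ∧ P ∣ X ^ M - C c := by
  classical
  set σ := qFrob hF with hσ
  -- common: from the generator to all elements of its subgroup
  have transfer : ∀ (m : ℕ) [NeZero m] (γ : FiniteField.Extension F p m) (w : Cfsg.SU n F q),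
      (∀ M : ℕ, (π w) ^ M = 1 → ∃ c : F, c * σ c = 1 ∧ minpoly F γ ∣ X ^ M - C c) →
      ∀ (P : F[X]), Irreducible P → ∀ (emb : AdjoinRoot P →ₐ[F] FiniteField.Extension F p m) (i : ℕ),
      emb (AdjoinRoot.root P) = γ ^ i → ∀ M : ℕ, (π w) ^ M = 1 →
        ∃ c : F, c * σ c = 1 ∧ P ∣ X ^ M - C c := by
    intro m _ γ w hw P hP emb i hemb M hM
    have := Fact.mk hP
    obtain ⟨c, hc, t, ht⟩ := hw M hM
    have hγ : γ ^ M = algebraMap F _ c := by
      have h := congrArg (aeval γ) ht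
      rwa [map_mul, minpoly.aeval, zero_mul, map_sub, map_pow, aeval_X, aeval_C, sub_eq_zero] at h
    refine ⟨c ^ i, by rw [map_pow, ← mul_pow, hc, one_pow], ?_⟩
    rw [← AdjoinRoot.mk_eq_zero, map_sub, map_pow, AdjoinRoot.mk_X, AdjoinRoot.mk_C, sub_eq_zero]
    refine emb.toRingHom.injective ?_
    show emb (AdjoinRoot.root P ^ M) = emb (AdjoinRoot.of P (c ^ i))
    rw [map_pow, hemb, ← pow_mul, mul_comm, pow_mul, hγ, ← AdjoinRoot.algebraMap_eq, AlgHom.commutes,
      map_pow]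
  rcases Nat.even_or_odd n with hev | hodd
  · obtain ⟨m, hm⟩ := hev
    have : NeZero m := ⟨by omega⟩
    let L := FiniteField.Extension F p m
    let b : Module.Basis (Fin m) F L :=
      (Module.finBasis F L).reindex (finCongr (FiniteField.finrank_extension F p m))
    let D : Lˣ →* F := (Matrix.detMonoidHom).comp
      ((Algebra.leftMulMatrix b).toRingHom.toMonoidHom.comp (Units.coeHom L))
    let U : Subgroup Lˣ :=
      { carrier := {x | σ (D x) = D x}
        one_mem' := by show σ (D 1) = D 1; rw [map_one, map_one]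
        mul_mem' := fun {x y} hx hy => by
          show σ (D (x * y)) = D (x * y)
          rw [map_mul, map_mul, show σ (D x) = D x from hx, show σ (D y) = D y from hy]
        inv_mem' := fun {x} hx => by
          show σ (D x⁻¹) = D x⁻¹
          have h1 : D x⁻¹ * D x = 1 := by rw [← map_mul, inv_mul_cancel, map_one]
          rw [eq_inv_of_mul_eq_one_left h1, map_inv₀, show σ (D x) = D x from hx] }
    obtain ⟨⟨γu, hγU⟩, hgen⟩ := IsCyclic.exists_monoid_generator (α := ↥U)
    set γ : L := (γu : L) with hγ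
    set h := (Algebra.leftMulMatrix b γ).charpoly with hh
    have hhm : h.Monic := Matrix.charpoly_monic _
    have hhd : h.natDegree = m := by rw [hh, Matrix.charpoly_natDegree_eq_dim, Fintype.card_fin]
    have hDh : (-1) ^ m * h.coeff 0 = D γu := by
      show _ = (Algebra.leftMulMatrix b γ).det
      rw [Matrix.det_eq_sign_charpoly_coeff, Fintype.card_fin]
    have hh0 : h.coeff 0 ≠ 0 := by
      intro h0
      rw [h0, mul_zero] at hDh
      have h1 : D γu * D γu⁻¹ = 1 := by rw [← map_mul, mul_inv_cancel, map_one]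
      rw [← hDh, zero_mul] at h1
      exact zero_ne_one h1
    obtain ⟨htm, htd, ht0⟩ := tilde_facts σ hhm hh0
    have hσh : σ (h.coeff 0) = h.coeff 0 := by
      have h1 : σ (D γu) = D γu := hγU
      rw [← hDh, map_mul, map_pow, map_neg, map_one] at h1
      exact mul_left_cancel₀ (pow_ne_zero _ (neg_ne_zero.2 one_ne_zero)) h1
    obtain ⟨w, hwo, hw⟩ := su_of_poly hF (p := p) hn (hhm.mul htm)
      (by rw [hhm.natDegree_mul htm, htd, hhd, hm])
      (by rw [mul_coeff_zero, ht0, hσh, mul_inv_cancel₀ hh0, mul_one, hm, ← two_mul, pow_mul,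
        neg_one_sq, one_pow])
      (by rw [tilde_mul, tilde_tilde σ (qFrob_qFrob hF) hhm hh0, mul_comm])
    have hwγ : ∀ M : ℕ, (π w) ^ M = 1 → ∃ c : F, c * σ c = 1 ∧ minpoly F γ ∣ X ^ M - C c :=
      hw _ (minpoly.irreducible (Algebra.IsIntegral.isIntegral γ))
        ((minpoly.dvd F γ (by
          refine Algebra.leftMulMatrix_injective b ?_
          rw [← aeval_algHom_apply, Matrix.aeval_self_charpoly, map_zero])).trans (dvd_mul_right h _))
    refine ⟨w, hwo, fun P e hP hPm hP0 hcond M hM => ?_⟩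
    rcases hcond with ⟨ho, -⟩ | ⟨hde, hfix⟩
    · exact absurd ho (by rw [hm]; simp)
    have := Fact.mk hP
    have : FiniteDimensional F (AdjoinRoot P) := (AdjoinRoot.powerBasis hP.ne_zero).finite
    have hfin : Module.finrank F (AdjoinRoot P) = P.natDegree := by
      rw [(AdjoinRoot.powerBasis hP.ne_zero).finrank, AdjoinRoot.powerBasis_dim]
    have : Finite (AdjoinRoot P) := Module.finite_of_finite F
    obtain ⟨emb⟩ := FiniteField.nonempty_algHom_of_finrank_dvd (F := F) (K := AdjoinRoot P) (L := L)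
      (by rw [hfin, FiniteField.finrank_extension]; exact ⟨e, by omega⟩)
    have hroot : aeval (emb (AdjoinRoot.root P)) P = 0 := by
      rw [aeval_algHom_apply, AdjoinRoot.aeval_eq, AdjoinRoot.mk_self, map_zero]
    obtain ⟨j, -, hjm, hjd⟩ := det_leftMul b hP hPm hroot
    have hje : j = e := Nat.eq_of_mul_eq_mul_right hP.natDegree_pos (by rw [← hjm, mul_comm]; omega)
    have hβ0 : emb (AdjoinRoot.root P) ≠ 0 := by
      intro h0
      rw [h0, aeval_def, eval₂_at_zero, _root_.map_eq_zero] at hroot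
      exact hP0 hroot
    have hmem : Units.mk0 _ hβ0 ∈ U := by
      show σ (Algebra.leftMulMatrix b (emb (AdjoinRoot.root P))).det =
        (Algebra.leftMulMatrix b (emb (AdjoinRoot.root P))).det
      rw [hjd, hje, map_mul, hfix, map_pow, map_neg, map_one]
    obtain ⟨i, hi⟩ := Submonoid.mem_powers_iff _ _ |>.1 (hgen ⟨_, hmem⟩)
    exact transfer m γ w hwγ P hP emb i
      (congrArg (fun x : ↥U => ((x : Lˣ) : L)) hi).symm M hM
  · have : NeZero n := ⟨by omega⟩
    let L := FiniteField.Extension F p n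
    let b : Module.Basis (Fin n) F L :=
      (Module.finBasis F L).reindex (finCongr (FiniteField.finrank_extension F p n))
    let D : Lˣ →* F := (Matrix.detMonoidHom).comp
      ((Algebra.leftMulMatrix b).toRingHom.toMonoidHom.comp (Units.coeHom L))
    let U : Subgroup Lˣ := D.ker ⊓ (powMonoidHom (q ^ n + 1) : Lˣ →* Lˣ).ker
    obtain ⟨⟨γu, hγU⟩, hgen⟩ := IsCyclic.exists_monoid_generator (α := ↥U)
    set γ : L := (γu : L) with hγ
    set P1 := minpoly F γ with hP1
    have hint : IsIntegral F γ := Algebra.IsIntegral.isIntegral γ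
    have hP1i : Irreducible P1 := minpoly.irreducible hint
    have hP1m : P1.Monic := minpoly.monic hint
    have hP10 : P1.coeff 0 ≠ 0 := minpoly.coeff_zero_ne_zero hint γu.ne_zero
    have hγq : γ ^ q ^ n = γ⁻¹ := by
      have h1 : γu ^ (q ^ n + 1) = 1 := hγU.2
      have h2 : γ ^ (q ^ n + 1) = 1 := by
        rw [hγ, ← Units.val_pow_eq_pow_val, h1, Units.val_one]
      rw [pow_succ] at h2
      exact eq_inv_of_mul_eq_one_left h2
    have hP1t : tilde σ P1 = P1 := by
      obtain ⟨y, hy⟩ : ∃ y : L, y = γ ^ q ^ (2 * n - 1) := ⟨_, rfl⟩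
      have hγ0 : γ ≠ 0 := γu.ne_zero
      obtain ⟨k, hk⟩ := hodd
      have hyq : y ^ q = γ := by
        rw [hy, ← pow_mul, ← pow_succ, show 2 * n - 1 + 1 = n + n by omega, pow_add, pow_mul, hγq,
          inv_pow, hγq, inv_inv]
      have hy' : y⁻¹ = γ ^ Fintype.card F ^ (3 * k + 1) := by
        rw [hF, ← pow_mul, hy, show 2 * (3 * k + 1) = n + (2 * n - 1) by omega, pow_add, pow_mul, hγq,
          inv_pow]
      obtain ⟨hQm, hQd, -⟩ := tilde_facts σ hP1m hP10
      have hroot : aeval γ (tilde σ P1) = 0 := by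
        rw [← hyq]
        refine root_tilde_of_root hF hq (by rw [hy]; exact pow_ne_zero _ hγ0) ?_
        rw [hy']
        exact aeval_pow_card P1 (minpoly.aeval F γ) _
      exact eq_of_monic_of_associated hQm hP1m
        ((hP1i.associated_of_dvd (tilde_irreducible σ (qFrob_qFrob hF) hP1m hP10 hP1i)
          (minpoly.dvd F γ hroot)).symm)
    obtain ⟨j, hj, hjn, hjd⟩ := det_leftMul b hP1i hP1m (minpoly.aeval F γ)
    have hD : (Algebra.leftMulMatrix b γ).det = 1 := hγU.1
    obtain ⟨w, hwo, hw⟩ := su_of_poly hF (p := p) hn (hP1m.pow j)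
      (by rw [hP1m.natDegree_pow, hjn])
      (by rw [coeff_zero_pow, ← hjd, hD])
      (by rw [tilde_pow, hP1t])
    have hj0 : j ≠ 0 := by rintro rfl; omega
    have hwγ : ∀ M : ℕ, (π w) ^ M = 1 → ∃ c : F, c * σ c = 1 ∧ minpoly F γ ∣ X ^ M - C c :=
      hw _ hP1i (dvd_pow_self _ hj0)
    refine ⟨w, hwo, fun P e hP hPm hP0 hcond M hM => ?_⟩
    rcases hcond with ⟨-, hPt, hde, hcoef⟩ | ⟨hde, -⟩
    swap
    · exact absurd hodd (by rw [← hde]; simp)
    have := Fact.mk hP
    have : FiniteDimensional F (AdjoinRoot P) := (AdjoinRoot.powerBasis hP.ne_zero).finite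
    have hfin : Module.finrank F (AdjoinRoot P) = P.natDegree := by
      rw [(AdjoinRoot.powerBasis hP.ne_zero).finrank, AdjoinRoot.powerBasis_dim]
    have : Finite (AdjoinRoot P) := Module.finite_of_finite F
    obtain ⟨emb⟩ := FiniteField.nonempty_algHom_of_finrank_dvd (F := F) (K := AdjoinRoot P) (L := L)
      (by rw [hfin, FiniteField.finrank_extension]; exact ⟨e, hde.symm⟩)
    have hroot : aeval (emb (AdjoinRoot.root P)) P = 0 := by
      rw [aeval_algHom_apply, AdjoinRoot.aeval_eq, AdjoinRoot.mk_self, map_zero]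
    obtain ⟨j', -, hjm, hjd'⟩ := det_leftMul b hP hPm hroot
    have hje : j' = e := Nat.eq_of_mul_eq_mul_right hP.natDegree_pos (by rw [← hjm, mul_comm]; omega)
    obtain ⟨-, hβq⟩ := self_tilde_root hF hq hP0 hPt
    have hβpow : emb (AdjoinRoot.root P) ^ (q ^ n + 1) = 1 := by
      have he : Odd e := (Nat.odd_mul.1 (hde ▸ hodd)).2
      obtain ⟨t, ht⟩ : q ^ P.natDegree + 1 ∣ q ^ n + 1 := by
        have := he.nat_add_dvd_pow_add_pow (q ^ P.natDegree) 1
        rwa [one_pow, ← pow_mul, hde] at this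
      rw [ht, ← map_pow, pow_mul, hβq, one_pow, map_one]
    have hβ0 : emb (AdjoinRoot.root P) ≠ 0 := fun h0 => by
      rw [h0, zero_pow (by omega)] at hβpow; exact zero_ne_one hβpow
    have hmem : Units.mk0 _ hβ0 ∈ U := by
      refine ⟨?_, Units.ext ?_⟩
      · show (Algebra.leftMulMatrix b (emb (AdjoinRoot.root P))).det = 1
        rw [hjd', hje, hcoef, hodd.neg_one_pow, neg_one_mul, neg_neg]
      · show ((Units.mk0 _ hβ0 ^ (q ^ n + 1) : Lˣ) : L) = 1
        rw [Units.val_pow_eq_pow_val]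
        exact hβpow
    obtain ⟨i, hi⟩ := Submonoid.mem_powers_iff _ _ |>.1 (hgen ⟨_, hmem⟩)
    exact transfer n γ w hwγ P hP emb i (congrArg (fun x : ↥U => ((x : Lˣ) : L)) hi).symm M hM

/-! ### Classification -/

include hF in
theorem classify {p a r : ℕ} [hp : Fact p.Prime] [CharP F p] (hq : q = p ^ a) (hn : 2 ≤ n) (hr : r.Prime)
    (hrq : r ∣ q + 1) (hrn : ¬ r ∣ n) :
    ∃ w : Cfsg.PSU n F q, (orderOf w).Coprime p ∧ ∀ (y : Cfsg.PSU n F q) (E : ℕ), n ≤ p ^ E →
      (∃ y' : Cfsg.PSU n F q, orderOf y ∣ orderOf y' ∧ r ∣ orderOf y') ∨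
        orderOf y ∣ orderOf w * p ^ E := by
  classical
  set σ := qFrob hF with hσ
  obtain ⟨w, hwo, hw⟩ := exists_torus hF hq (n := n) hn
  refine ⟨π w, hwo, fun y E hE => ?_⟩
  obtain ⟨g, rfl⟩ := QuotientGroup.mk'_surjective _ y
  set χ := (mat g).charpoly with hχdef
  have hχm : χ.Monic := Matrix.charpoly_monic _
  have hχd : χ.natDegree = n := by rw [hχdef, Matrix.charpoly_natDegree_eq_dim, Fintype.card_fin]
  have hdet : (-1) ^ n * χ.coeff 0 = 1 := by
    have h := Matrix.det_eq_sign_charpoly_coeff (mat g)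
    rw [Fintype.card_fin] at h
    rw [hχdef, ← h]
    exact g.1.2
  have hχ0 : χ.coeff 0 ≠ 0 := fun h => by rw [h, mul_zero] at hdet; exact zero_ne_one hdet
  obtain ⟨G₀, hG₀⟩ : ∃ G₀ : GL (Fin n) F, (G₀ : Mn) = mat g :=
    ⟨Matrix.SpecialLinearGroup.toGL (g : Matrix.SpecialLinearGroup (Fin n) F), rfl⟩
  have hgu : G₀ ∈ Cfsg.GU n F q := by
    rw [SemiUnitary.mem_gu_iff hF, hG₀]
    exact (mem_su_iff hF _).1 g.2
  have hχt : tilde σ χ = χ := by
    have h := SemiUnitaryExists.tilde_charpoly hF hgu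
    rw [hG₀] at h
    exact h
  obtain ⟨S, hSm, hSd, hSχ, hSt, hS0, hcopS, hShape⟩ : ∃ S : F[X], S.Monic ∧ 0 < S.natDegree ∧
      S ∣ χ ∧ tilde σ S = S ∧ S.coeff 0 ≠ 0 ∧
      (∀ h : F[X], h.Monic → tilde σ h = h → ¬ S ∣ h → IsCoprime S h) ∧
      (Irreducible S ∨ ∃ P : F[X], Irreducible P ∧ P.Monic ∧ P.coeff 0 ≠ 0 ∧
        tilde σ P ≠ P ∧ S = P * tilde σ P) := by
    obtain ⟨P, hPm, hP, R, hR⟩ := exists_monic_irreducible_factor χ (fun hu => by
      have := natDegree_eq_zero_of_isUnit hu; omega)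
    have hP0 : P.coeff 0 ≠ 0 := fun h0 => hχ0 (by rw [hR, mul_coeff_zero, h0, zero_mul])
    by_cases hPQ : tilde σ P = P
    · exact ⟨P, hPm, hP.natDegree_pos, ⟨R, hR⟩, hPQ, hP0,
        fun h _ _ hnd => hP.coprime_iff_not_dvd.2 hnd, Or.inl hP⟩
    · obtain ⟨hQm, hQd, hQ0⟩ := tilde_facts σ hPm hP0
      have hQ := tilde_irreducible σ (qFrob_qFrob hF) hPm hP0 hP
      have hcPQ : IsCoprime P (tilde σ P) := (hP.coprime_iff_not_dvd).2 fun hd =>
        hPQ (eq_of_monic_of_associated hPm hQm (hP.associated_of_dvd hQ hd)).symm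
      refine ⟨P * tilde σ P, hPm.mul hQm, ?_, ?_, ?_, ?_, ?_,
        Or.inr ⟨P, hP, hPm, hP0, hPQ, rfl⟩⟩
      · rw [hPm.natDegree_mul hQm]; have := hP.natDegree_pos; omega
      · exact hcPQ.mul_dvd ⟨R, hR⟩ ⟨tilde σ R, by rw [← tilde_mul, ← hR, hχt]⟩
      · rw [tilde_mul, tilde_tilde _ (qFrob_qFrob hF) hPm hP0, mul_comm]
      · rw [mul_coeff_zero]
        exact mul_ne_zero hP0 (by rw [hQ0]; exact inv_ne_zero ((map_ne_zero σ).2 hP0))
      · intro h hhm hht hnd
        refine IsCoprime.mul_left ((hP.coprime_iff_not_dvd).2 fun hd => hnd ?_)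
          ((hQ.coprime_iff_not_dvd).2 fun hd => hnd ?_)
        · refine hcPQ.mul_dvd hd ?_
          obtain ⟨v, hv⟩ := hd
          exact ⟨tilde σ v, by rw [← tilde_mul, ← hv, hht]⟩
        · refine hcPQ.mul_dvd ?_ hd
          obtain ⟨v, hv⟩ := hd
          exact ⟨tilde σ v, by
            conv_lhs => rw [← hht, hv, tilde_mul, tilde_tilde _ (qFrob_qFrob hF) hPm hP0]⟩
  obtain ⟨j, h, hnd, hj⟩ := WfDvdMonoid.max_power_factor' (a₀ := χ) (x := S) hχm.ne_zero
    (fun hu => by have := natDegree_eq_zero_of_isUnit hu; omega)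
  have hhm : h.Monic := (hSm.pow j).of_mul_monic_left (hj ▸ hχm)
  have hSjt : tilde σ (S ^ j) = S ^ j := by rw [tilde_pow, hSt]
  have hht : tilde σ h = h := by
    refine mul_left_cancel₀ (pow_ne_zero j hSm.ne_zero) ?_
    rw [← hj]
    conv_rhs => rw [← hχt, hj, tilde_mul, hSjt]
  have hcop : IsCoprime (S ^ j) h := (hcopS h hhm hht hnd).pow_left
  have hdeg : χ.natDegree = j * S.natDegree + h.natDegree := by
    rw [hj, (hSm.pow j).natDegree_mul hhm, hSm.natDegree_pow]
  by_cases hh0 : 0 < h.natDegree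
  · left
    have hj1 : 0 < j := by
      rcases Nat.eq_zero_or_pos j with rfl | hj1
      · rw [pow_zero, one_mul] at hj
        exact absurd (hj ▸ hSχ) hnd
      · exact hj1
    obtain ⟨e, hee, heg, hes, he0, he1⟩ := exists_idempotent hF g (A := S ^ j) (B := h)
      (by rw [coeff_zero_pow]; exact pow_ne_zero _ hS0)
      hSjt hχ0 hχt hj hcop
      (fun hd => by
        obtain ⟨R, hR, hRd⟩ := WfDvdMonoid.exists_irreducible_factor
          (fun hu => by have := natDegree_eq_zero_of_isUnit hu; omega) hhm.ne_zero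
        exact hR.not_isUnit (hcop.isUnit_of_dvd'
          ((irreducible_dvd_minpoly_of_dvd_charpoly (mat g) hR (hRd.trans (Dvd.intro_left _ hj.symm : h ∣ (mat g).charpoly))).trans hd) hRd))
      (fun hd => by
        obtain ⟨R, hR, hRd⟩ := WfDvdMonoid.exists_irreducible_factor (a := S)
          (fun hu => by have := natDegree_eq_zero_of_isUnit hu; omega) hSm.ne_zero
        exact hR.not_isUnit (hcop.isUnit_of_dvd' (hRd.trans (dvd_pow_self S hj1.ne'))
          ((irreducible_dvd_minpoly_of_dvd_charpoly (mat g) hR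
            ((hRd.trans (dvd_pow_self S hj1.ne')).trans (Dvd.intro h hj.symm : S ^ j ∣ (mat g).charpoly))).trans hd)))
    exact exists_extension hF hn hr hrq hrn g hee heg hes he0 he1
  right
  have hh1 : h = 1 := hhm.natDegree_eq_zero.1 (by omega)
  rw [hh1, mul_one] at hj
  rw [hh1, natDegree_one, add_zero, hχd] at hdeg
  set M := orderOf (π w) with hM
  have hwM : (π w) ^ M = 1 := pow_orderOf_eq_one _
  have hMpos : 0 < M := orderOf_pos _
  obtain ⟨c, hc, hSc⟩ : ∃ c : F, c * σ c = 1 ∧ S ∣ X ^ M - C c := by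
    rcases hShape with hS | ⟨P, hP, hPm, hP0, hPQ, rfl⟩
    · have := Fact.mk hS
      rcases Nat.even_or_odd n with hev | hodd
      · obtain ⟨hdo, -⟩ := self_tilde_root hF hq hS0 hSt
        have hje : Even j := by
          rw [hdeg, Nat.even_mul] at hev
          exact hev.resolve_right (Nat.not_even_iff_odd.2 hdo)
        obtain ⟨j', rfl⟩ := hje
        refine hw S j' hS hSm hS0 (Or.inr ⟨by rw [hdeg]; ring, ?_⟩) M hwM
        have h1 : S.coeff 0 ^ (j' + j') = 1 := by
          have h2 := hdet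
          rw [hj, coeff_zero_pow, hev.neg_one_pow, one_mul] at h2
          exact h2
        have hS0' : σ (S.coeff 0) = (S.coeff 0)⁻¹ := by
          have h3 := (tilde_facts σ hSm hS0).2.2
          rw [hSt] at h3
          conv_rhs => rw [h3, inv_inv]
        rw [map_pow, hS0', inv_pow]
        rw [pow_add] at h1
        exact inv_eq_of_mul_eq_one_left h1
      · refine hw S j hS hSm hS0 (Or.inl ⟨hodd, hSt, by rw [hdeg, mul_comm], ?_⟩) M hwM
        have h2 := hdet
        rw [hj, coeff_zero_pow, hodd.neg_one_pow, neg_one_mul, neg_eq_iff_eq_neg] at h2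
        exact h2
    · obtain ⟨hQm, hQd, hQ0⟩ := tilde_facts σ hPm hP0
      rw [hPm.natDegree_mul hQm, hQd] at hdeg
      have hev : Even n := ⟨j * P.natDegree, by rw [hdeg]; ring⟩
      obtain ⟨c, hc, hPc⟩ := hw P j hP hPm hP0 (Or.inr ⟨by rw [hdeg]; ring, by
        have h2 := hdet
        rw [hj, coeff_zero_pow, hev.neg_one_pow, one_mul, mul_coeff_zero, hQ0, mul_pow, inv_pow,
          ← map_pow, ← div_eq_mul_inv, div_eq_one_iff_eq ((map_ne_zero σ).2 (pow_ne_zero _ hP0))] at h2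
        exact h2.symm⟩) M hwM
      refine ⟨c, hc, IsCoprime.mul_dvd ((hP.coprime_iff_not_dvd).2 fun hd =>
        hPQ (eq_of_monic_of_associated hPm hQm
          (hP.associated_of_dvd (tilde_irreducible σ (qFrob_qFrob hF) hPm hP0 hP) hd)).symm) hPc ?_⟩
      obtain ⟨R, hR⟩ := hPc
      exact ⟨tilde σ R, by rw [← tilde_mul, ← hR, tilde_binomial hF hMpos hc]⟩
  have hjn : j ≤ p ^ E := by
    refine le_trans ?_ hE
    rw [hdeg]; exact Nat.le_mul_of_pos_right j hSd
  refine orderOf_dvd_of_pow_eq_one ?_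
  rw [← map_pow]
  refine mk_eq_one_of_smul _ (c ^ p ^ E) ?_
  have hd : χ ∣ X ^ (M * p ^ E) - C (c ^ p ^ E) := by
    rw [hj, pow_mul, C_pow, ← sub_pow_char_pow]
    exact (pow_dvd_pow_of_dvd hSc j).trans (pow_dvd_pow _ hjn)
  obtain ⟨v, hv⟩ := hd
  have h0 := congrArg (aeval (mat g)) hv
  rw [map_mul, Matrix.aeval_self_charpoly, zero_mul, map_sub, map_pow, aeval_X, aeval_C, sub_eq_zero,
    Algebra.algebraMap_eq_smul_one] at h0
  rw [mat_pow, h0]

/-! ### Unipotent elements -/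

include hF in
theorem exists_gu_unipotent {p : ℕ} [hp : Fact p.Prime] [CharP F p] {m : ℕ} (hm : 2 ≤ m) :
    ∃ B : GL (Fin m) F, B ∈ Cfsg.GU m F q ∧ orderOf B = p ^ Nat.clog p m ∧
      (B : Matrix (Fin m) (Fin m) F).det = 1 := by
  obtain ⟨E, hE⟩ : ∃ E, Nat.clog p m = E + 1 :=
    ⟨Nat.clog p m - 1, by have := Nat.clog_pos hp.out.one_lt hm; omega⟩
  have hlt : p ^ E < m := by
    have := Nat.pow_pred_clog_lt_self hp.out.one_lt (show 1 < m by omega)
    rw [hE] at this
    exact this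
  obtain ⟨A, hA⟩ := exists_orderOf_eq_prime_pow_GL (F := F) (p := p) hlt
    (hE ▸ Nat.le_pow_clog hp.out.one_lt m)
  have : Nonempty (Fin m) := ⟨⟨0, by omega⟩⟩
  have : CharP (Matrix (Fin m) (Fin m) F) p :=
    charP_of_injective_algebraMap (algebraMap F _).injective p
  have hpw : (A : Matrix (Fin m) (Fin m) F) ^ p ^ (E + 1) = 1 := by
    rw [← Units.val_pow_eq_pow_val, ← hA, pow_orderOf_eq_one, Units.val_one]
  obtain ⟨B, hB⟩ := UnipUnitary.exists_unitary_of_unipotent hF A ⟨p ^ (E + 1), by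
    rw [sub_pow_char_pow_of_commute p (E + 1) (Commute.one_right _), hpw, one_pow, sub_self]⟩
  obtain ⟨y, hy⟩ := isConj_iff.1 hB
  refine ⟨B.1, B.2, ?_, ?_⟩
  · rw [← hy, show y * A * y⁻¹ = MulAut.conj y A from rfl, MulEquiv.orderOf_eq, hA, hE]
  · rw [← hy, Units.val_mul, Units.val_mul, Matrix.det_units_conj]
    have h1 : (A : Matrix (Fin m) (Fin m) F).det ^ p ^ (E + 1) = 1 := by
      rw [← Matrix.det_pow, hpw, Matrix.det_one]
    have h2 : ((A : Matrix (Fin m) (Fin m) F).det - 1) ^ p ^ (E + 1) = 0 := by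
      rw [sub_pow_char_pow, h1, one_pow, sub_self]
    exact sub_eq_zero.1 (eq_zero_of_pow_eq_zero h2)

include hF in
theorem exists_unipotent {p : ℕ} [hp : Fact p.Prime] [CharP F p] (hn : 2 ≤ n) :
    ∃ u : Cfsg.SU n F q, p ^ Nat.clog p n ∣ orderOf (π u) := by
  obtain ⟨B, hB, hBo, hBd⟩ := exists_gu_unipotent (m := n) hF (p := p) hn
  let X : Matrix.SpecialLinearGroup (Fin n) F := ⟨(B : Mn), hBd⟩
  have hX : X ∈ Cfsg.SU n F q := (mem_su_iff hF X).2 ((SemiUnitary.mem_gu_iff hF B).1 hB)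
  let u : Cfsg.SU n F q := ⟨X, hX⟩
  refine ⟨u, ?_⟩
  set o := orderOf (π u) with ho
  obtain ⟨c, -, hc⟩ := scalar_of_mk_eq_one hF hn (u ^ o) (by rw [map_pow, ho, pow_orderOf_eq_one])
  rw [mat_pow] at hc
  change (B : Mn) ^ o = c • 1 at hc
  have h1 : (c • (1 : Mn)) ^ p ^ Nat.clog p n = 1 := by
    rw [← hc, ← pow_mul, mul_comm, pow_mul, ← hBo, ← Units.val_pow_eq_pow_val B, pow_orderOf_eq_one,
      Units.val_one, one_pow]
  have h2 : c ^ p ^ Nat.clog p n = 1 := by
    rw [_root_.smul_pow, one_pow] at h1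
    simpa using congrFun (congrFun h1 ⟨0, by omega⟩) ⟨0, by omega⟩
  have hc1 : c = 1 := by
    refine sub_eq_zero.1 (eq_zero_of_pow_eq_zero (n := p ^ Nat.clog p n) ?_)
    rw [sub_pow_char_pow, h2, one_pow, sub_self]
  rw [hc1, one_smul] at hc
  rw [← hBo]
  exact orderOf_dvd_of_pow_eq_one (Units.ext (by rw [Units.val_pow_eq_pow_val, hc, Units.val_one]))

include hF in
/-- An element of order divisible by `r` and `p ^ clog_p (n-1)`. -/
theorem exists_mixed {p r : ℕ} [hp : Fact p.Prime] [CharP F p] (hn : 3 ≤ n) (hr : r.Prime)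
    (hrq : r ∣ q + 1) (hrn : ¬ r ∣ n) :
    ∃ y : Cfsg.PSU n F q, r ∣ orderOf y ∧ p ^ Nat.clog p (n - 1) ∣ orderOf y := by
  classical
  obtain ⟨B, hB, hBo, hBd⟩ := exists_gu_unipotent hF (p := p) (show 2 ≤ n - 1 by omega)
  let e : Fin (n - 1) ⊕ Fin 1 ≃ Fin n := finSumFinEquiv.trans (finCongr (by omega))
  obtain ⟨G, hG⟩ : ∃ G : GL (Fin n) F, G = SemiUnitaryClasses.blkHom e (B, 1) := ⟨_, rfl⟩
  have hGU : G ∈ Cfsg.GU n F q := hG ▸ SemiUnitaryClasses.blkHom_mem hF e hB (one_mem _)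
  have hGv : (G : Mn) = SemiUnitaryClasses.blk e (B : Matrix (Fin (n - 1)) (Fin (n - 1)) F) 1 := by
    rw [hG]; rfl
  have hGd : (G : Mn).det = 1 := by
    rw [hGv, SemiUnitaryClasses.blk, Matrix.reindex_apply, Matrix.det_submatrix_equiv_self,
      Matrix.det_fromBlocks_zero₂₁, hBd, Matrix.det_one, one_mul]
  let X : Matrix.SpecialLinearGroup (Fin n) F := ⟨(G : Mn), hGd⟩
  have hX : X ∈ Cfsg.SU n F q := (mem_su_iff hF X).2 ((SemiUnitary.mem_gu_iff hF G).1 hGU)
  let g : Cfsg.SU n F q := ⟨X, hX⟩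
  have hgm : mat g = SemiUnitaryClasses.blk e (B : Matrix (Fin (n - 1)) (Fin (n - 1)) F) 1 := hGv
  set E : Mn := SemiUnitaryClasses.blk e (0 : Matrix (Fin (n - 1)) (Fin (n - 1)) F) 1 with hE
  have hentry : ∀ a b, E (e a) (e b) =
      Matrix.fromBlocks (0 : Matrix (Fin (n - 1)) (Fin (n - 1)) F) 0 0 (1 : Matrix (Fin 1) (Fin 1) F) a b :=
    fun a b => by simp [hE, SemiUnitaryClasses.blk]
  obtain ⟨y', hy1, hy2⟩ := exists_extension hF (show 2 ≤ n by omega) hr hrq hrn g (e := E)
    (by rw [hE, SemiUnitaryClasses.blk_mul, zero_mul, one_mul])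
    (by
      show E * mat g = mat g * E
      rw [hgm, hE, SemiUnitaryClasses.blk_mul, SemiUnitaryClasses.blk_mul, zero_mul, mul_zero])
    (by
      ext i k
      obtain ⟨i, rfl⟩ := e.surjective i
      obtain ⟨k, rfl⟩ := e.surjective k
      rw [SemiUnitary.star'_apply, Matrix.transpose_apply, Matrix.map_apply, hentry, hentry]
      rcases i with i | i <;> rcases k with k | k <;> simp [Matrix.one_apply, eq_comm])
    (fun h => by
      have h1 := hentry (Sum.inr 0) (Sum.inr 0)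
      rw [h] at h1
      simp at h1)
    (fun h => by
      have h1 := hentry (Sum.inl ⟨0, by omega⟩) (Sum.inl ⟨0, by omega⟩)
      rw [h] at h1
      simp at h1)
  refine ⟨y', hy2, dvd_trans ?_ hy1⟩
  set o := orderOf (π g) with ho
  obtain ⟨c, -, hc⟩ := scalar_of_mk_eq_one hF (show 2 ≤ n by omega) (g ^ o)
    (by rw [map_pow, ho, pow_orderOf_eq_one])
  rw [mat_pow, hgm] at hc
  have hpow : ∀ k, SemiUnitaryClasses.blk e (B : Matrix (Fin (n - 1)) (Fin (n - 1)) F)
      (1 : Matrix (Fin 1) (Fin 1) F) ^ k =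
      SemiUnitaryClasses.blk e ((B : Matrix (Fin (n - 1)) (Fin (n - 1)) F) ^ k) 1 := by
    intro k
    induction k with
    | zero => rw [pow_zero, pow_zero, SemiUnitaryClasses.blk_one]
    | succ k ih => rw [pow_succ, ih, SemiUnitaryClasses.blk_mul, ← pow_succ, one_mul]
  rw [hpow] at hc
  have hb : ∀ a b, Matrix.fromBlocks ((B : Matrix (Fin (n - 1)) (Fin (n - 1)) F) ^ o) 0 0
      (1 : Matrix (Fin 1) (Fin 1) F) a b = (c • (1 : Mn)) (e a) (e b) := fun a b => by
    rw [← hc]; simp [SemiUnitaryClasses.blk]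
  have hc1 : c = 1 := by simpa using (hb (Sum.inr 0) (Sum.inr 0)).symm
  rw [← hBo]
  refine orderOf_dvd_of_pow_eq_one (Units.ext (Matrix.ext fun i k => ?_))
  rw [Units.val_pow_eq_pow_val, Units.val_one]
  have h1 := hb (Sum.inl i) (Sum.inl k)
  simpa [hc1, Matrix.one_apply, e.injective.eq_iff] using h1

end CfsgLib.KnownC.UnitarySpectrum
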