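import Mathlib

set_option autoImplicit false

/-!
The automorphism group of a finite field.
-/

namespace CfsgLib.KnownC

/-- The ring automorphisms of a field with `p^f` elements form a cyclic group of order `f`,
generated by the Frobenius. -/
theorem exists_ringAut_generator {F : Type*} [Field F] [Fintype F] {p f : ℕ} [Fact p.Prime]
    (hF : Fintype.card F = p ^ f) :
    ∃ φ : F ≃+* F, (∀ x, φ x = x ^ p) ∧ orderOf φ = f ∧ ∀ σ : F ≃+* F, σ ∈ Subgroup.zpowers φ := by
  haveI : CharP F p := charP_of_card_eq_prime_pow hF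
  letI : Algebra (ZMod p) F := ZMod.algebra F p
  have hfin : Module.finrank (ZMod p) F = f := by
    have h1 := Module.card_eq_pow_finrank (K := ZMod p) (V := F)
    rw [ZMod.card, hF] at h1
    exact (Nat.pow_right_injective (Fact.out : p.Prime).two_le h1).symm
  let e : (F ≃ₐ[ZMod p] F) ≃* (F ≃+* F) :=
    { toFun := fun a => a.toRingEquiv
      invFun := fun s => AlgEquiv.ofRingEquiv (f := s) fun x =>
        RingHom.congr_fun (RingHom.ext_zmod ((s : F →+* F).comp (algebraMap (ZMod p) F))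
          (algebraMap (ZMod p) F)) x
      left_inv := fun a => AlgEquiv.ext fun x => rfl
      right_inv := fun s => RingEquiv.ext fun x => rfl
      map_mul' := fun a b => RingEquiv.ext fun x => rfl }
  refine ⟨e (FiniteField.frobeniusAlgEquivOfAlgebraic (ZMod p) F), fun x => ?_, ?_, fun σ => ?_⟩
  · show FiniteField.frobeniusAlgEquivOfAlgebraic (ZMod p) F x = x ^ p
    rw [FiniteField.coe_frobeniusAlgEquivOfAlgebraic, ZMod.card]
  · rw [MulEquiv.orderOf_eq, FiniteField.orderOf_frobeniusAlgEquivOfAlgebraic, hfin]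
  · obtain ⟨k, hk⟩ := (FiniteField.bijective_frobeniusAlgEquivOfAlgebraic_pow (ZMod p) F).2
      (e.symm σ)
    refine ⟨(k.1 : ℤ), ?_⟩
    simp only [zpow_natCast, ← map_pow]
    exact e.eq_symm_apply.1 hk

theorem exists_zmod_mulEquiv_ringAut {F : Type*} [Field F] [Fintype F] {p f : ℕ} [Fact p.Prime]
    (hF : Fintype.card F = p ^ f) :
    Nat.card (F ≃+* F) = f ∧ Nonempty (Multiplicative (ZMod f) ≃* (F ≃+* F)) := by
  obtain ⟨φ, -, ho, hg⟩ := exists_ringAut_generator hF
  have hcard : Nat.card (F ≃+* F) = f := by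
    rw [← ho, orderOf_eq_card_of_forall_mem_zpowers hg]
  have hc : IsCyclic (F ≃+* F) := ⟨⟨φ, hg⟩⟩
  refine ⟨hcard, ?_⟩
  rw [← hcard]
  exact ⟨zmodCyclicMulEquiv hc⟩

end CfsgLib.KnownC
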