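import Mathlib

set_option autoImplicit false

/-!
Galois descent for `GL_n` over a finite field (Hilbert 90 / Lang), and norms of finite fields.
-/

namespace CfsgLib.KnownC

open Matrix

variable {n : ℕ} {F : Type*} [Field F]

/-- `g σ(g) ⋯ σ^{k-1}(g)`. -/
def normProd (σ : F ≃+* F) (g : GL (Fin n) F) : ℕ → GL (Fin n) F
  | 0 => 1
  | k + 1 => g * GeneralLinearGroup.map (σ : F →+* F) (normProd σ g k)

theorem normProd_zero (σ : F ≃+* F) (g : GL (Fin n) F) : normProd σ g 0 = 1 := rfl

theorem normProd_succ (σ : F ≃+* F) (g : GL (Fin n) F) (k : ℕ) :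
    normProd σ g (k + 1) = g * GeneralLinearGroup.map (σ : F →+* F) (normProd σ g k) := rfl

theorem glMap_glMap (σ τ : F ≃+* F) (h : GL (Fin n) F) :
    GeneralLinearGroup.map (σ : F →+* F) (GeneralLinearGroup.map (τ : F →+* F) h) =
      GeneralLinearGroup.map ((σ * τ : F ≃+* F) : F →+* F) h :=
  Units.ext (Matrix.ext fun _ _ => rfl)

theorem glMap_refl (h : GL (Fin n) F) :
    GeneralLinearGroup.map ((RingEquiv.refl F : F ≃+* F) : F →+* F) h = h :=
  Units.ext (Matrix.ext fun _ _ => rfl)

/-- `normProd` read from the other end. -/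
theorem normProd_succ' (σ : F ≃+* F) (g : GL (Fin n) F) (k : ℕ) :
    normProd σ g (k + 1) =
      normProd σ g k * GeneralLinearGroup.map ((σ ^ k : F ≃+* F) : F →+* F) g := by
  induction k with
  | zero =>
    rw [normProd_succ, normProd_zero, map_one, mul_one, one_mul, pow_zero]
    exact (glMap_refl g).symm
  | succ k ih =>
    rw [normProd_succ, ih, map_mul, ← mul_assoc, ← normProd_succ, glMap_glMap, ← pow_succ',
      ih]

/-- Galois descent: a semilinear map of finite order `orderOf σ` has a basis of fixed vectors. -/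
theorem exists_descent [Finite F] (σ : F ≃+* F) (g : GL (Fin n) F)
    (hg : normProd σ g (orderOf σ) = 1) :
    ∃ h : GL (Fin n) F, g * GeneralLinearGroup.map (σ : F →+* F) h = h := by
  classical
  haveI : Finite (F ≃+* F) :=
    Finite.of_injective (fun s : F ≃+* F => (s : F → F)) DFunLike.coe_injective
  let Ψ : (Fin n → F) → (Fin n → F) := fun v => g.1 *ᵥ fun i => σ (v i)
  have hadd : ∀ v w, Ψ (v + w) = Ψ v + Ψ w := fun v w => by
    show g.1 *ᵥ _ = g.1 *ᵥ _ + g.1 *ᵥ _
    rw [← mulVec_add]; exact congrArg _ (funext fun i => map_add σ _ _)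
  have hiter : ∀ k (v : Fin n → F),
      Ψ^[k] v = (normProd σ g k).1 *ᵥ fun i => (σ ^ k : F ≃+* F) (v i) := by
    intro k
    induction k with
    | zero => intro v; simp [normProd_zero]
    | succ k ih =>
      intro v
      rw [Function.iterate_succ_apply', ih, normProd_succ, Units.val_mul, ← mulVec_mulVec]
      show g.1 *ᵥ _ = g.1 *ᵥ _
      congr 1
      funext i
      rw [pow_succ']
      exact RingHom.map_mulVec (σ : F →+* F) (normProd σ g k).1 (fun j => (σ ^ k : F ≃+* F) (v j)) i
  have hΨr : ∀ v, Ψ^[orderOf σ] v = v := fun v => by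
    rw [hiter, hg, pow_orderOf_eq_one, Units.val_one, one_mulVec]
    rfl
  let S : Set (Fin n → F) := {v | Ψ v = v}
  have hspan : Submodule.span F S = ⊤ := by
    by_contra hne
    obtain ⟨v, hv⟩ : ∃ v, v ∉ Submodule.span F S := by
      by_contra h
      exact hne (Submodule.eq_top_iff'.2 fun v => not_not.1 fun hv => h ⟨v, hv⟩)
    obtain ⟨φ, hφv, hφ⟩ := Submodule.exists_dual_map_eq_bot_of_notMem hv inferInstance
    have hzero : ∀ s ∈ S, φ s = 0 := fun s hs =>
      (Submodule.eq_bot_iff _).1 hφ _ (Submodule.mem_map_of_mem (Submodule.subset_span hs))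
    let χ : Fin (orderOf σ) → (F →* F) := fun i =>
      ((σ ^ (i : ℕ) : F ≃+* F) : F →+* F).toMonoidHom
    have hχ : Function.Injective χ := fun i j hij => by
      have : σ ^ (i : ℕ) = σ ^ (j : ℕ) := RingEquiv.ext fun x => DFunLike.congr_fun hij x
      exact Fin.ext (pow_injOn_Iio_orderOf i.2 j.2 this)
    have hli := (linearIndependent_monoidHom F F).comp χ hχ
    have hsum : ∀ c : F, ∑ i : Fin (orderOf σ), φ (Ψ^[i] v) * (σ ^ (i : ℕ) : F ≃+* F) c = 0 := fun c => by
      have hmem : (∑ i ∈ Finset.range (orderOf σ), Ψ^[i] (c • v)) ∈ S := by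
        show Ψ _ = _
        rw [show Ψ (∑ i ∈ Finset.range (orderOf σ), Ψ^[i] (c • v)) =
          ∑ i ∈ Finset.range (orderOf σ), Ψ (Ψ^[i] (c • v)) from
            map_sum (AddMonoidHom.mk' Ψ hadd) _ _]
        simp only [← Function.iterate_succ_apply' Ψ]
        have h1 := Finset.sum_range_succ' (fun i => Ψ^[i] (c • v)) (orderOf σ)
        rw [Finset.sum_range_succ, hΨr, Function.iterate_zero_apply] at h1
        exact (add_right_cancel h1).symm
      have h2 := hzero _ hmem
      rw [map_sum, Finset.sum_range] at h2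
      rw [← h2]
      refine Finset.sum_congr rfl fun i _ => ?_
      have : Ψ^[(i : ℕ)] (c • v) = (σ ^ (i : ℕ) : F ≃+* F) c • Ψ^[(i : ℕ)] v := by
        rw [hiter, hiter, ← mulVec_smul]
        exact congrArg _ (funext fun j => map_mul (σ ^ (i : ℕ) : F ≃+* F) c (v j))
      rw [this, map_smul, smul_eq_mul, mul_comm]
    have hpos : 0 < orderOf σ := orderOf_pos σ
    have h0 := Fintype.linearIndependent_iff.1 hli (fun i => φ (Ψ^[i] v))
      (funext fun c => by
        rw [Finset.sum_apply, Pi.zero_apply, ← hsum c]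
        exact Finset.sum_congr rfl fun i _ => rfl) ⟨0, hpos⟩
    exact hφv h0
  obtain ⟨t, hts, htsp, hli⟩ := exists_linearIndependent F S
  let b0 : Module.Basis t F (Fin n → F) :=
    Module.Basis.mk hli (by rw [Subtype.range_coe_subtype, Set.setOf_mem_eq, htsp]; exact hspan.ge)
  haveI := b0.fintypeIndexOfRankLtAleph0 (Module.rank_lt_aleph0 F (Fin n → F))
  have hcard : Fintype.card t = n := by
    rw [← Module.finrank_eq_card_basis b0, Module.finrank_fin_fun]
  let b := b0.reindex (Fintype.equivFinOfCardEq hcard)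
  have hb : ∀ i, b i ∈ S := fun i => by
    rw [Module.Basis.reindex_apply, Module.Basis.mk_apply]; exact hts (Subtype.prop _)
  haveI := (Pi.basisFun F (Fin n)).invertibleToMatrix b
  refine ⟨unitOfInvertible ((Pi.basisFun F (Fin n)).toMatrix b), Units.ext (Matrix.ext fun i j => ?_)⟩
  have h1 := congrFun (hb j) i
  show (g.1 * ((Pi.basisFun F (Fin n)).toMatrix b).map σ) i j = (Pi.basisFun F (Fin n)).toMatrix b i j
  simp only [mul_apply, Matrix.map_apply, Module.Basis.toMatrix_apply, Pi.basisFun_repr]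
  exact h1

/-- The product of the conjugates of a unit under the powers of `σ`. -/
noncomputable def unitNorm (σ : F ≃+* F) : Fˣ →* Fˣ :=
  ∏ i ∈ Finset.range (orderOf σ), Units.map ((σ ^ i : F ≃+* F) : F →+* F).toMonoidHom

/-- `u / σ(u)`. -/
def unitTwist (σ : F ≃+* F) : Fˣ →* Fˣ :=
  MonoidHom.id Fˣ / Units.map (σ : F →+* F).toMonoidHom

theorem unitNorm_apply (σ : F ≃+* F) (u : Fˣ) : unitNorm σ u =
    ∏ i ∈ Finset.range (orderOf σ), Units.map ((σ ^ i : F ≃+* F) : F →+* F).toMonoidHom u := by
  simp [unitNorm]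

theorem coe_unitTwist (σ : F ≃+* F) (u : Fˣ) : (unitTwist σ u : F) = (u : F) / σ (u : F) :=
  Units.val_div_eq_div_val _ _

theorem mem_unitTwist_ker (σ : F ≃+* F) (u : Fˣ) : u ∈ (unitTwist σ).ker ↔ σ (u : F) = u := by
  rw [MonoidHom.mem_ker, Units.ext_iff, coe_unitTwist, Units.val_one,
    div_eq_one_iff_eq ((map_ne_zero σ).2 u.ne_zero), eq_comm]

theorem det_normProd (σ : F ≃+* F) (g : GL (Fin n) F) (k : ℕ) :
    Matrix.GeneralLinearGroup.det (normProd σ g k) =
      ∏ i ∈ Finset.range k,
        Units.map ((σ ^ i : F ≃+* F) : F →+* F).toMonoidHom (Matrix.GeneralLinearGroup.det g) := by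
  induction k with
  | zero => simp [normProd_zero]
  | succ k ih =>
    rw [normProd_succ', map_mul, ih, Finset.prod_range_succ]
    congr 1
    exact Units.ext (RingHom.map_det _ _).symm

/-- Hilbert 90 for the units of a finite field. -/
theorem unitNorm_ker [Finite F] (σ : F ≃+* F) : (unitNorm σ).ker = (unitTwist σ).range := by
  refine le_antisymm (fun u hu => ?_) ?_
  · let g : GL (Fin 1) F := GeneralLinearGroup.scalar (Fin 1) u
    have hdet : ∀ x : GL (Fin 1) F, Matrix.GeneralLinearGroup.det x = 1 → x = 1 := fun x hx => by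
      refine Units.ext (Matrix.ext fun i j => ?_)
      have : (x.1).det = 1 := congrArg Units.val hx
      rw [det_unique] at this
      rw [Subsingleton.elim i default, Subsingleton.elim j default, this]
      simp
    have hgdet : Matrix.GeneralLinearGroup.det g = u := Units.ext (by
      show (Matrix.scalar (Fin 1) (u : F)).det = (u : F)
      simp)
    obtain ⟨h, hh⟩ := exists_descent σ g (hdet _ (by
      rw [det_normProd, hgdet, ← unitNorm_apply]; exact MonoidHom.mem_ker.1 hu))
    refine ⟨Matrix.GeneralLinearGroup.det h, ?_⟩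
    have hd := congrArg Matrix.GeneralLinearGroup.det hh
    rw [map_mul, hgdet] at hd
    refine Units.ext ?_
    rw [coe_unitTwist, div_eq_iff ((map_ne_zero σ).2 (Units.ne_zero _))]
    have hv := congrArg Units.val hd
    rw [Units.val_mul] at hv
    conv_lhs => rw [← hv]
    congr 1
    exact (RingHom.map_det (σ : F →+* F) h.1).symm
  · rintro _ ⟨u, rfl⟩
    refine MonoidHom.mem_ker.2 (Units.ext ?_)
    haveI : Finite (F ≃+* F) :=
      Finite.of_injective (fun s : F ≃+* F => (s : F → F)) DFunLike.coe_injective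
    rw [unitNorm_apply]
    push_cast
    show ∏ i ∈ Finset.range (orderOf σ), (σ ^ i : F ≃+* F) (unitTwist σ u : F) = (1 : F)
    simp only [coe_unitTwist, map_div₀]
    have : ∀ i, (σ ^ i : F ≃+* F) (σ (u : F)) = (σ ^ (i + 1) : F ≃+* F) (u : F) := fun i => by
      rw [pow_succ]; rfl
    simp only [this]
    have h1 := Finset.prod_range_succ' (fun i => (σ ^ i : F ≃+* F) (u : F)) (orderOf σ)
    rw [Finset.prod_range_succ, pow_orderOf_eq_one, pow_zero] at h1
    have h2 : ∏ i ∈ Finset.range (orderOf σ), (σ ^ i : F ≃+* F) (u : F) =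
        ∏ i ∈ Finset.range (orderOf σ), (σ ^ (i + 1) : F ≃+* F) (u : F) :=
      mul_right_cancel₀ (show ((1 : F ≃+* F) (u : F)) ≠ 0 from u.ne_zero) h1
    rw [Finset.prod_div_distrib, h2, div_self]
    exact Finset.prod_ne_zero_iff.2 fun i _ => (map_ne_zero _).2 u.ne_zero

theorem map_unitNorm [Finite F] (σ : F ≃+* F) (u : Fˣ) : σ (unitNorm σ u : F) = unitNorm σ u := by
  have h : unitTwist σ u ∈ (unitNorm σ).ker := by rw [unitNorm_ker]; exact ⟨u, rfl⟩
  rw [MonoidHom.mem_ker, unitTwist, MonoidHom.div_apply, map_div, div_eq_one] at h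
  have h2 : unitNorm σ (Units.map (σ : F →+* F).toMonoidHom u) =
      Units.map (σ : F →+* F).toMonoidHom (unitNorm σ u) := by
    rw [unitNorm_apply, unitNorm_apply, map_prod]
    refine Finset.prod_congr rfl fun i _ => Units.ext ?_
    show (σ ^ i : F ≃+* F) (σ (u : F)) = σ ((σ ^ i : F ≃+* F) (u : F))
    rw [← RingAut.mul_apply, ← RingAut.mul_apply, ← pow_succ, ← pow_succ']
  rw [MonoidHom.id_apply, h2] at h
  exact (congrArg Units.val h).symm

/-- The norm is onto the fixed units. -/
theorem unitNorm_range [Finite F] (σ : F ≃+* F) : (unitNorm σ).range = (unitTwist σ).ker := by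
  refine Subgroup.eq_of_le_of_card_ge ?_ (le_of_eq ?_)
  · rintro _ ⟨u, rfl⟩
    exact (mem_unitTwist_ker σ _).2 (map_unitNorm σ u)
  · rw [← Subgroup.index_ker (unitNorm σ), unitNorm_ker, Subgroup.index_range]

/-- Up to a scalar, an element of scalar norm is a twist. -/
theorem exists_descent_scalar [Finite F] (hn : 1 ≤ n) (σ : F ≃+* F) (g : GL (Fin n) F)
    (hg : normProd σ g (orderOf σ) ∈ Subgroup.center (GL (Fin n) F)) :
    ∃ (h : GL (Fin n) F) (c : Fˣ),
      g * GeneralLinearGroup.map (σ : F →+* F) h = GeneralLinearGroup.scalar (Fin n) c * h := by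
  haveI : Finite (F ≃+* F) :=
    Finite.of_injective (fun s : F ≃+* F => (s : F → F)) DFunLike.coe_injective
  rw [GeneralLinearGroup.center_eq_range_scalar] at hg
  obtain ⟨a, ha⟩ := hg
  haveI : Nonempty (Fin n) := ⟨⟨0, hn⟩⟩
  have hfix : σ (a : F) = a := by
    obtain ⟨k, hk⟩ : ∃ k, orderOf σ = k + 1 := ⟨orderOf σ - 1, by have := orderOf_pos σ; omega⟩
    have h2 : g * GeneralLinearGroup.map (σ : F →+* F) (normProd σ g (orderOf σ)) =
        normProd σ g (orderOf σ) * g := by
      rw [← normProd_succ, normProd_succ', pow_orderOf_eq_one]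
      congr 1
    rw [← ha, (Subgroup.mem_center_iff.1 (show GeneralLinearGroup.scalar (Fin n) a ∈
      Subgroup.center _ by rw [GeneralLinearGroup.center_eq_range_scalar]; exact ⟨a, rfl⟩) g).symm,
      mul_right_inj] at h2
    let i0 : Fin n := Classical.arbitrary _
    have h3 := congrArg (fun M : GL (Fin n) F => (M : Matrix (Fin n) (Fin n) F) i0 i0) h2
    simpa using h3
  obtain ⟨m, hm⟩ : a ∈ (unitNorm σ).range := by
    rw [unitNorm_range]; exact (mem_unitTwist_ker σ a).2 hfix
  have hmap : ∀ (τ : F ≃+* F) (c : Fˣ),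
      GeneralLinearGroup.map (τ : F →+* F) (GeneralLinearGroup.scalar (Fin n) c) =
        GeneralLinearGroup.scalar (Fin n) (Units.map (τ : F →+* F).toMonoidHom c) := fun τ c => by
    refine Units.ext (Matrix.ext fun i j => ?_)
    by_cases hij : i = j <;> simp [hij]
  have hcomm : ∀ (c : Fˣ) (x : GL (Fin n) F),
      GeneralLinearGroup.scalar (Fin n) c * x = x * GeneralLinearGroup.scalar (Fin n) c := fun c x =>
    (Subgroup.mem_center_iff.1 (show GeneralLinearGroup.scalar (Fin n) c ∈ Subgroup.center _ by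
      rw [GeneralLinearGroup.center_eq_range_scalar]; exact ⟨c, rfl⟩) x).symm
  have hprod : ∀ k, normProd σ (GeneralLinearGroup.scalar (Fin n) m⁻¹ * g) k =
      GeneralLinearGroup.scalar (Fin n) (∏ i ∈ Finset.range k,
        Units.map ((σ ^ i : F ≃+* F) : F →+* F).toMonoidHom m⁻¹) * normProd σ g k := by
    intro k
    induction k with
    | zero => simp [normProd_zero]
    | succ k ih =>
      rw [normProd_succ', normProd_succ', ih, map_mul, hmap, Finset.prod_range_succ, map_mul]
      simp only [mul_assoc]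
      congr 1
      rw [← mul_assoc, ← hcomm, mul_assoc]
  obtain ⟨h, hh⟩ := exists_descent σ (GeneralLinearGroup.scalar (Fin n) m⁻¹ * g) (by
    rw [hprod, ← unitNorm_apply, map_inv, hm, map_inv, ← ha, inv_mul_cancel])
  refine ⟨h, m, ?_⟩
  rw [mul_assoc, map_inv, inv_mul_eq_iff_eq_mul] at hh
  exact hh

end CfsgLib.KnownC
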