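import Mathlib
import Cfsg.Agent.Lib.Classical.OrthSimple

set_option autoImplicit false
set_option linter.unusedSectionVars false
set_option linter.style.haveILetI false

/-!
Preparations for the automorphisms of the central quotient of `Ω(Q)`, `dim ≥ 7`: subspaces orthogonal to
hyperbolic pairs, and the root elements attached to totally singular lines.
-/

namespace CfsgLib.KnownC

open CfsgLib.Geom CfsgLib.Classical
open QuadraticMap (polar)

variable {F V : Type*} [Field F] [AddCommGroup V] [Module F V]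

section Hyperbolic

variable (Q : QuadraticForm F V)

/-- A hyperbolic pair. -/
structure OHyp (e f : V) : Prop where
  he : Q e = 0
  hf : Q f = 0
  hef : polar Q e f = 1

/-- The vectors orthogonal to both members of a pair. -/
def operp (e f : V) : Submodule F V :=
  LinearMap.ker (QuadraticMap.polarBilin Q e) ⊓ LinearMap.ker (QuadraticMap.polarBilin Q f)

theorem mem_operp {e f w : V} : w ∈ operp Q e f ↔ polar Q e w = 0 ∧ polar Q f w = 0 := Iff.rfl

/-- The form on the subspace orthogonal to a pair. -/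
abbrev operpForm (e f : V) : QuadraticForm F (operp Q e f) := Q.comp (operp Q e f).subtype

theorem operpForm_polar (e f : V) (x y : operp Q e f) :
    polar (operpForm Q e f) x y = polar Q (x : V) (y : V) := rfl

variable {Q}

theorem OHyp.fe {e f : V} (h : OHyp Q e f) : polar Q f e = 1 := by
  rw [QuadraticMap.polar_comm]; exact h.hef

theorem OHyp.ne_zero {e f : V} (h : OHyp Q e f) : e ≠ 0 ∧ f ≠ 0 := by
  constructor <;> intro h0 <;> simpa [h0] using h.hef

theorem OHyp.symm {e f : V} (h : OHyp Q e f) : OHyp Q f e := ⟨h.hf, h.he, h.fe⟩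

theorem OHyp.proj_mem {e f : V} (h : OHyp Q e f) (v : V) :
    v - polar Q f v • e - polar Q e v • f ∈ operp Q e f := by
  rw [mem_operp]
  simp [QuadraticMap.polar_sub_right, QuadraticMap.polar_smul_right, polar_self_of_singular Q h.he,
    polar_self_of_singular Q h.hf, h.hef, h.fe]

theorem OHyp.sep_perp (hQ : ∀ x, (∀ y, polar Q x y = 0) → x = 0) {e f : V} (h : OHyp Q e f)
    (x : operp Q e f) (hx : ∀ y, polar (operpForm Q e f) x y = 0) : x = 0 := by
  refine Subtype.ext (hQ _ fun y => ?_)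
  have h1 := hx ⟨_, h.proj_mem y⟩
  simp only [operpForm_polar, QuadraticMap.polar_sub_right, QuadraticMap.polar_smul_right,
    QuadraticMap.polar_comm _ (x : V) e, QuadraticMap.polar_comm _ (x : V) f, ((mem_operp Q).1 x.2).1,
    ((mem_operp Q).1 x.2).2, smul_zero, sub_zero] at h1
  exact h1

theorem finrank_operp [FiniteDimensional F V] (e f : V) :
    Module.finrank F V ≤ Module.finrank F (operp Q e f) + 2 := by
  let φ : V →ₗ[F] F × F := (QuadraticMap.polarBilin Q e).prod (QuadraticMap.polarBilin Q f)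
  have hk : LinearMap.ker φ = operp Q e f := LinearMap.ker_prod _ _
  have h1 := φ.finrank_range_add_finrank_ker
  have h2 := Submodule.finrank_le (LinearMap.range φ)
  rw [Module.finrank_prod, Module.finrank_self] at h2
  rw [hk] at h1
  omega

/-- In the presence of a hyperbolic pair the singular vectors span. -/
theorem OHyp.eq_zero_of_singular {e f : V} (h : OHyp Q e f) (φ : V →ₗ[F] F)
    (hφ : ∀ x, Q x = 0 → φ x = 0) : φ = 0 := by
  refine LinearMap.ext fun v => ?_
  have key : ∀ u ∈ operp Q e f, φ u = 0 := by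
    intro u hu
    obtain ⟨he, hf⟩ := (mem_operp Q).1 hu
    have hs : Q (u + e + (-Q u) • f) = 0 := by
      rw [quad_map_add_smul, QuadraticMap.polar_add_left, QuadraticMap.map_add (Q : QuadraticMap F V F), h.he, h.hf,
        QuadraticMap.polar_comm _ u e, QuadraticMap.polar_comm _ u f, he, hf, h.hef]
      ring
    have h1 := hφ _ hs
    rw [map_add, map_add, map_smul, hφ e h.he, hφ f h.hf] at h1
    simpa using h1
  have h1 := key _ (h.proj_mem v)
  simpa [hφ e h.he, hφ f h.hf] using h1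

/-- A vector orthogonal to all singular vectors of `⟨e, f⟩^⊥`, which contains a hyperbolic pair, is orthogonal
to that subspace. -/
theorem perp_of_perp_singular {e f a b : V} (ha : a ∈ operp Q e f) (hb : b ∈ operp Q e f)
    (hab : OHyp Q a b) {c : V} (hc : ∀ u ∈ operp Q e f, Q u = 0 → polar Q c u = 0)
    {u : V} (hu : u ∈ operp Q e f) : polar Q c u = 0 := by
  have h : OHyp (operpForm Q e f) ⟨a, ha⟩ ⟨b, hb⟩ := ⟨hab.he, hab.hf, hab.hef⟩
  exact LinearMap.congr_fun (h.eq_zero_of_singular
    ((QuadraticMap.polarBilin Q c).comp (operp Q e f).subtype) fun x hx => hc x x.2 hx) ⟨u, hu⟩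

theorem exists_hyp [FiniteDimensional F V] (hQ : ∀ x, (∀ y, polar Q x y = 0) → x = 0) {x : V}
    (hx : x ≠ 0) (hx0 : Q x = 0) : ∃ y, OHyp Q x y := by
  obtain ⟨z, hz⟩ := exists_partner Q hQ hx
  refine ⟨z + (-Q z) • x, hx0, ?_, ?_⟩
  · rw [quad_map_add_smul, hx0, QuadraticMap.polar_comm _ z x, hz]; ring
  · rw [QuadraticMap.polar_add_right, QuadraticMap.polar_smul_right, polar_self_of_singular Q hx0, hz]; simp

theorem exists_dual_fam [FiniteDimensional F V] (hQ : ∀ x, (∀ y, polar Q x y = 0) → x = 0) {k : ℕ}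
    {v : Fin k → V} (h : LinearIndependent F v) (a : Fin k → F) : ∃ z, ∀ i, polar Q (v i) z = a i := by
  obtain ⟨φ, hφ⟩ := LinearMap.exists_extend ((Module.Basis.span h).constr F a)
  have hφ' : ∀ i, φ (v i) = a i := fun i => by
    have h0 := LinearMap.congr_fun hφ (Module.Basis.span h i)
    rw [LinearMap.comp_apply, Module.Basis.constr_basis] at h0
    simpa [Module.Basis.span_apply] using h0
  have hnd : LinearMap.BilinForm.Nondegenerate (QuadraticMap.polarBilin Q) :=
    ⟨fun u hu => hQ u hu, fun u hu => hQ u fun y => by rw [QuadraticMap.polar_comm]; exact hu y⟩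
  obtain ⟨z, hz⟩ := (LinearMap.BilinForm.toDual _ hnd).surjective φ
  refine ⟨z, fun i => ?_⟩
  rw [← hφ' i, ← hz, QuadraticMap.polar_comm]; rfl

theorem exists_perp_ne_zero_fin [FiniteDimensional F V] {k : ℕ} (v : Fin k → V)
    (hk : k < Module.finrank F V) : ∃ z, z ≠ 0 ∧ ∀ i, polar Q (v i) z = 0 := by
  let L : V →ₗ[F] (Fin k → F) := LinearMap.pi fun i => QuadraticMap.polarBilin Q (v i)
  obtain ⟨w, hw, hw0⟩ : ∃ w ∈ LinearMap.ker L, w ≠ 0 := by
    refine Submodule.exists_mem_ne_zero_of_ne_bot fun h => ?_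
    have h1 := L.finrank_range_add_finrank_ker
    have h2 := Submodule.finrank_le (LinearMap.range L)
    rw [h, finrank_bot] at h1
    simp at h2
    omega
  exact ⟨w, hw0, fun i => congrFun hw i⟩

end Hyperbolic

/-- The standing hypotheses. -/
structure OCtx (Q : QuadraticForm F V) : Prop where
  sep : ∀ x, (∀ y, polar Q x y = 0) → x = 0
  seven : 7 ≤ Module.finrank F V

variable {Q : QuadraticForm F V} [FiniteDimensional F V] [Finite F]

/-- The group `Ω(Q)`. -/
abbrev OG (_K : OCtx Q) : Type _ := ↥(commutator (quadIsoms Q))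

/-- Its central quotient. -/
abbrev OQ (K : OCtx Q) : Type _ := OG K ⧸ Subgroup.center (OG K)

variable (K : OCtx Q)

/-- The quotient map. -/
abbrev toOQ : OG K →* OQ K := QuotientGroup.mk' _

/-- A Siegel transformation as an element of `Ω(Q)`. -/
noncomputable def siegelO (x w : V) : OG K :=
  ⟨siegel Q x w, by
    rw [commutator_eq_siegelGroup Q K.sep (le_trans (by norm_num) K.seven)]
    exact siegel_mem Q x w⟩

/-- A totally singular line, given by two vectors. -/
structure TSL (Q : QuadraticForm F V) (a b : V) : Prop where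
  ha : Q a = 0
  hb : Q b = 0
  hab : polar Q a b = 0
  hi : LinearIndependent F ![a, b]

/-- The root element of the line `⟨a, b⟩` with parameter `t`. -/
noncomputable def rootO (a b : V) (t : F) : OQ K := toOQ K (siegelO K a (t • b))

/-- The root group of the line `⟨a, b⟩`. -/
noncomputable def rootGrp (a b : V) : Subgroup (OQ K) := Subgroup.closure (Set.range (rootO K a b))

theorem five_le (K : OCtx Q) : 5 ≤ Module.finrank F V := le_trans (by norm_num) K.seven

theorem exists_singular_perp4 (K : OCtx Q) {e f : V} (h : OHyp Q e f) (a b : V) :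
    ∃ u, u ≠ 0 ∧ u ∈ operp Q e f ∧ polar Q a u = 0 ∧ polar Q b u = 0 ∧ Q u = 0 := by
  obtain ⟨u, hu0, hau, hbu, hu⟩ := exists_perp_singular (operpForm Q e f) (h.sep_perp K.sep)
    (by have := finrank_operp (Q := Q) e f; have := K.seven; omega)
    ⟨_, h.proj_mem a⟩ ⟨_, h.proj_mem b⟩
  obtain ⟨he, hf⟩ := (mem_operp Q).1 u.2
  simp only [operpForm_polar, QuadraticMap.polar_sub_left, QuadraticMap.polar_smul_left, he, hf,
    smul_zero, sub_zero] at hau hbu
  exact ⟨u, fun h0 => hu0 (Subtype.ext h0), u.2, hau, hbu, hu⟩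

theorem og_ext {g h : OG K} (e : ∀ v, g.1.1 v = h.1.1 v) : g = h := Subtype.ext (quadIsoms_ext Q e)

theorem og_mul_apply (g h : OG K) (v : V) : (g * h).1.1 v = g.1.1 (h.1.1 v) := rfl

theorem og_polar (g : OG K) (u v : V) : polar Q (g.1.1 u) (g.1.1 v) = polar Q u v :=
  polar_quadIsom g.1.2 u v

theorem og_Q (g : OG K) (u : V) : Q (g.1.1 u) = Q u := g.1.2 u

theorem siegelO_apply {x w : V} (hx : Q x = 0) (hw : polar Q x w = 0) (z : V) :
    (siegelO K x w).1.1 z = z + polar Q x z • w - (polar Q w z + Q w * polar Q x z) • x :=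
  siegel_apply Q hx hw z

theorem siegelO_add {x : V} (hx : Q x = 0) {w w' : V} (hw : polar Q x w = 0) (hw' : polar Q x w' = 0) :
    siegelO K x (w + w') = siegelO K x w * siegelO K x w' :=
  Subtype.ext (siegel_add Q hx hw hw')

theorem siegelO_conj (g : OG K) (x w : V) :
    g * siegelO K x w * g⁻¹ = siegelO K (g.1.1 x) (g.1.1 w) :=
  Subtype.ext (siegel_conj Q g.1 x w)

theorem siegelO_smul {x : V} (hx : Q x = 0) {w : V} (hw : polar Q x w = 0) (a : F) :
    siegelO K (a • x) w = siegelO K x (a • w) :=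
  Subtype.ext (siegel_smul Q hx hw a)

theorem siegelO_zero (x : V) : siegelO K x 0 = 1 := Subtype.ext (siegel_zero Q x)

theorem scalar_of_toOQ_eq_one {k : OG K} (hk : toOQ K k = 1) : ∃ a : F, ∀ v, k.1.1 v = a • v :=
  (mem_center_commutator_iff Q K.sep (five_le K) k).1 ((QuotientGroup.eq_one_iff k).1 hk)

theorem toOQ_eq_one_of_scalar {k : OG K} {a : F} (h : ∀ v, k.1.1 v = a • v) : toOQ K k = 1 :=
  (QuotientGroup.eq_one_iff k).2 ((mem_center_commutator_iff Q K.sep (five_le K) k).2 ⟨a, h⟩)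

theorem toOQ_surjective : Function.Surjective (toOQ K) := QuotientGroup.mk'_surjective _

theorem toOQ_inj_of_fix {g h : OG K} (he : toOQ K g = toOQ K h) {x : V} (hx : x ≠ 0)
    (hg : g.1.1 x = x) (hh : h.1.1 x = x) : g = h := by
  obtain ⟨a, ha⟩ := scalar_of_toOQ_eq_one K
    (show toOQ K (h⁻¹ * g) = 1 by rw [map_mul, map_inv, he, inv_mul_cancel])
  have hhx : h.1.1.symm x = x := h.1.1.symm_apply_eq.2 hh.symm
  have hax : a • x = x := by
    rw [← ha]
    show h.1.1.symm (g.1.1 x) = x
    rw [hg, hhx]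
  have ha1 : a = 1 :=
    sub_eq_zero.1 ((smul_eq_zero.1 (show (a - 1) • x = 0 by rw [sub_smul, hax, one_smul, sub_self])).resolve_right hx)
  refine (inv_mul_eq_one.1 (og_ext K fun v => ?_)).symm
  rw [ha, ha1, one_smul]
  rfl

theorem TSL.ba {a b : V} (h : TSL Q a b) : polar Q b a = 0 := by
  rw [QuadraticMap.polar_comm]; exact h.hab

theorem TSL.symm {a b : V} (h : TSL Q a b) : TSL Q b a :=
  ⟨h.hb, h.ha, h.ba, LinearIndependent.pair_symm_iff.1 h.hi⟩

theorem TSL.ne_zero {a b : V} (h : TSL Q a b) : a ≠ 0 ∧ b ≠ 0 :=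
  ⟨h.hi.ne_zero 0, h.hi.ne_zero 1⟩

theorem TSL.smul_ok {a b : V} (h : TSL Q a b) (t : F) : polar Q a (t • b) = 0 := by
  rw [QuadraticMap.polar_smul_right, h.hab, smul_zero]

theorem TSL.span_singular {a b : V} (h : TSL Q a b) (s t : F) : Q (s • a + t • b) = 0 := by
  rw [quad_map_add_smul, quad_smul, QuadraticMap.polar_smul_left, h.ha, h.hb, h.hab, smul_zero]; ring

theorem TSL.siegel_apply {a b : V} (h : TSL Q a b) (t : F) (z : V) :
    (siegelO K a (t • b)).1.1 z = z + t • (polar Q a z • b - polar Q b z • a) := by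
  rw [siegelO_apply K h.ha (h.smul_ok t), quad_smul, h.hb, QuadraticMap.polar_smul_left, smul_eq_mul]
  module

theorem TSL.fix {a b : V} (h : TSL Q a b) (t : F) {z : V} (ha : polar Q a z = 0)
    (hb : polar Q b z = 0) : (siegelO K a (t • b)).1.1 z = z := by
  rw [h.siegel_apply K, ha, hb]; simp

theorem rootO_zero (a b : V) : rootO K a b 0 = 1 := by
  rw [rootO, zero_smul, siegelO_zero, map_one]

theorem TSL.rootO_add {a b : V} (h : TSL Q a b) (s t : F) :
    rootO K a b (s + t) = rootO K a b s * rootO K a b t := by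
  rw [rootO, rootO, rootO, ← map_mul, add_smul, siegelO_add K h.ha (h.smul_ok s) (h.smul_ok t)]

theorem TSL.mem_rootGrp {a b : V} (h : TSL Q a b) {x : OQ K} :
    x ∈ rootGrp K a b ↔ ∃ t, x = rootO K a b t := by
  refine ⟨fun hx => ?_, fun ⟨t, ht⟩ => ht ▸ Subgroup.subset_closure ⟨t, rfl⟩⟩
  induction hx using Subgroup.closure_induction with
  | mem x hx => obtain ⟨t, rfl⟩ := hx; exact ⟨t, rfl⟩
  | one => exact ⟨0, (rootO_zero K a b).symm⟩
  | mul x y _ _ hx hy =>
    obtain ⟨s, rfl⟩ := hx
    obtain ⟨t, rfl⟩ := hy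
    exact ⟨s + t, (h.rootO_add K s t).symm⟩
  | inv x _ hx =>
    obtain ⟨t, rfl⟩ := hx
    refine ⟨-t, inv_eq_of_mul_eq_one_right ?_⟩
    rw [← h.rootO_add K, add_neg_cancel, rootO_zero]

theorem rootO_mem (a b : V) (t : F) : rootO K a b t ∈ rootGrp K a b :=
  Subgroup.subset_closure ⟨t, rfl⟩

/-- Root elements of two lines with the same image: the second line is spanned inside the first. -/
theorem TSL.mem_span_of_eq {a b c d : V} (h : TSL Q a b) (h' : TSL Q c d) {s t : F} (ht : t ≠ 0)
    (he : rootO K a b s = rootO K c d t) :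
    c ∈ Submodule.span F {a, b} ∧ d ∈ Submodule.span F {a, b} := by
  obtain ⟨z, hz0, hz⟩ := exists_perp_ne_zero_fin (Q := Q) ![a, b, c, d]
    (by have := K.seven; omega)
  have h1 := toOQ_inj_of_fix K he hz0 (h.fix K s (hz 0) (hz 1)) (h'.fix K t (hz 2) (hz 3))
  have him : ∀ v, t • (polar Q c v • d - polar Q d v • c) = s • (polar Q a v • b - polar Q b v • a) := by
    intro v
    have h2 := congrArg (fun g : OG K => g.1.1 v) h1
    simp only [h.siegel_apply K, h'.siegel_apply K, add_right_inj] at h2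
    exact h2.symm
  have hmem : ∀ v, polar Q c v • d - polar Q d v • c ∈ Submodule.span F {a, b} := by
    intro v
    rw [← inv_smul_smul₀ ht (polar Q c v • d - polar Q d v • c), him]
    refine Submodule.smul_mem _ _ (Submodule.smul_mem _ _ (Submodule.sub_mem _ ?_ ?_))
    · exact Submodule.smul_mem _ _ (Submodule.subset_span (by simp))
    · exact Submodule.smul_mem _ _ (Submodule.subset_span (by simp))
  obtain ⟨v, hv1, hv2⟩ := exists_dual_pair Q K.sep h'.hi 1 0
  obtain ⟨w, hw1, hw2⟩ := exists_dual_pair Q K.sep h'.hi 0 (-1)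
  have e1 := hmem v
  have e2 := hmem w
  simp only [hv1, hv2, one_smul, zero_smul, sub_zero] at e1
  simp only [hw1, hw2, zero_smul, zero_sub, neg_smul, one_smul, neg_neg] at e2
  exact ⟨e2, e1⟩

theorem TSL.rootO_ne_one {a b : V} (h : TSL Q a b) {t : F} (ht : t ≠ 0) : rootO K a b t ≠ 1 := by
  intro he
  obtain ⟨z, hz0, hz⟩ := exists_perp_ne_zero_fin (Q := Q) ![a, b]
    (by have := K.seven; omega)
  have h1 : siegelO K a (t • b) = 1 :=
    toOQ_inj_of_fix K (he.trans (map_one (toOQ K)).symm) hz0 (h.fix K t (hz 0) (hz 1)) rfl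
  obtain ⟨v, hv1, hv2⟩ := exists_dual_pair Q K.sep h.hi 1 0
  have h2 : (siegelO K a (t • b)).1.1 v = v := by rw [h1]; rfl
  rw [h.siegel_apply K, hv1, hv2, one_smul, zero_smul, sub_zero, add_eq_left] at h2
  exact h.ne_zero.2 ((smul_eq_zero.1 h2).resolve_left ht)

theorem TSL.rootO_inj {a b : V} (h : TSL Q a b) {s t : F} (he : rootO K a b s = rootO K a b t) :
    s = t := by
  by_contra hne
  refine h.rootO_ne_one K (sub_ne_zero.2 hne) (mul_right_cancel (b := rootO K a b t) ?_)
  rw [← h.rootO_add K, sub_add_cancel, one_mul, he]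

theorem exists_det_of_mem_span {a b c d : V} (hc : c ∈ Submodule.span F {a, b})
    (hd : d ∈ Submodule.span F {a, b}) :
    ∃ D : F, ∀ v, polar Q c v • d - polar Q d v • c = D • (polar Q a v • b - polar Q b v • a) := by
  obtain ⟨x, y, rfl⟩ := Submodule.mem_span_pair.1 hc
  obtain ⟨u, w, rfl⟩ := Submodule.mem_span_pair.1 hd
  refine ⟨x * w - u * y, fun v => ?_⟩
  simp only [QuadraticMap.polar_add_left, QuadraticMap.polar_smul_left, smul_eq_mul]
  module

theorem TSL.rootGrp_eq {a b c d : V} (h : TSL Q a b) (h' : TSL Q c d)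
    (hc : c ∈ Submodule.span F {a, b}) (hd : d ∈ Submodule.span F {a, b}) :
    rootGrp K c d = rootGrp K a b := by
  obtain ⟨D, hD⟩ := exists_det_of_mem_span (Q := Q) hc hd
  have key : ∀ t, rootO K c d t = rootO K a b (t * D) := fun t =>
    congrArg (toOQ K) (og_ext K fun v => by
      rw [h.siegel_apply K, h'.siegel_apply K, hD, mul_smul])
  have hD0 : D ≠ 0 := fun h0 => h'.rootO_ne_one K one_ne_zero (by
    rw [key, h0, mul_zero, rootO_zero])
  refine le_antisymm (fun x hx => ?_) (fun x hx => ?_)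
  · obtain ⟨t, rfl⟩ := (h'.mem_rootGrp K).1 hx
    rw [key]; exact rootO_mem K a b _
  · obtain ⟨t, rfl⟩ := (h.mem_rootGrp K).1 hx
    rw [← div_mul_cancel₀ t hD0, ← key]; exact rootO_mem K c d _

theorem TSL.mem_span_of_rootGrp_eq {a b c d : V} (h : TSL Q a b) (h' : TSL Q c d)
    (he : rootGrp K c d = rootGrp K a b) :
    c ∈ Submodule.span F {a, b} ∧ d ∈ Submodule.span F {a, b} := by
  obtain ⟨s, hs⟩ := (h.mem_rootGrp K).1 (he ▸ rootO_mem K c d 1)
  exact h.mem_span_of_eq K h' one_ne_zero hs.symm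

theorem rootO_conj (g : OG K) (a b : V) (t : F) :
    toOQ K g * rootO K a b t * (toOQ K g)⁻¹ = rootO K (g.1.1 a) (g.1.1 b) t := by
  rw [rootO, rootO, ← map_inv, ← map_mul, ← map_mul, siegelO_conj, map_smul]

theorem TSL.map {a b : V} (h : TSL Q a b) (g : OG K) : TSL Q (g.1.1 a) (g.1.1 b) := by
  refine ⟨(og_Q K g a).trans h.ha, (og_Q K g b).trans h.hb, (og_polar K g a b).trans h.hab, ?_⟩
  refine LinearIndependent.pair_iff.2 fun s t hst => LinearIndependent.pair_iff.1 h.hi s t ?_
  exact g.1.1.injective (by rw [map_add, map_smul, map_smul, hst, map_zero])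

/-- The set of root groups. -/
def IsRootGrp (R : Subgroup (OQ K)) : Prop := ∃ a b, TSL Q a b ∧ R = rootGrp K a b

theorem rootO_conj_mem_iff {a b c d : V} (h : TSL Q a b) (h' : TSL Q c d) {s t : F} (hs : s ≠ 0)
    (ht : t ≠ 0) (hcomm : Commute (rootO K a b s) (rootO K c d t)) :
    polar Q a c • b - polar Q b c • a ∈ Submodule.span F {c, d} ∧
      polar Q a d • b - polar Q b d • a ∈ Submodule.span F {c, d} := by
  have h1 := h'.map K (siegelO K a (s • b))
  have he : rootO K c d t = rootO K ((siegelO K a (s • b)).1.1 c) ((siegelO K a (s • b)).1.1 d) t := by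
    rw [← rootO_conj]
    show rootO K c d t = rootO K a b s * rootO K c d t * (rootO K a b s)⁻¹
    rw [hcomm.eq, mul_inv_cancel_right]
  obtain ⟨h2, h3⟩ := h'.mem_span_of_eq K h1 ht he
  rw [h.siegel_apply K, Submodule.add_mem_iff_right _ (Submodule.subset_span (by simp)),
    Submodule.smul_mem_iff _ hs] at h2 h3
  exact ⟨h2, h3⟩

end CfsgLib.KnownC
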