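import Mathlib
import Cfsg.Agent.Lib.KnownC.AutPOmegaBase

set_option autoImplicit false
set_option linter.unusedSectionVars false
set_option linter.style.haveILetI false

/-!
The root groups of totally singular lines are exactly the centres of the Sylow subgroups of `PΩ(Q)` in the
defining characteristic, so automorphisms permute them.
-/

namespace CfsgLib.KnownC

open CfsgLib.Geom CfsgLib.Classical
open QuadraticMap (polar)

variable {F V : Type*} [Field F] [AddCommGroup V] [Module F V] [FiniteDimensional F V] [Finite F]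
variable {Q : QuadraticForm F V} (K : OCtx Q)

omit K in
/-- A linear functional vanishing on the singular vectors orthogonal to a singular `a` vanishes on the whole
of `a^⊥`. -/
theorem eq_zero_on_perp (hQ : ∀ x, (∀ y, polar Q x y = 0) → x = 0) (h5 : 5 ≤ Module.finrank F V)
    {a : V} (ha0 : a ≠ 0) (ha : Q a = 0) (φ : V →ₗ[F] F)
    (hφ : ∀ u, Q u = 0 → polar Q a u = 0 → φ u = 0) {v : V} (hv : polar Q a v = 0) : φ v = 0 := by
  obtain ⟨b, h⟩ := exists_hyp hQ ha0 ha
  obtain ⟨u, hu0, hau, hbu, hu⟩ := exists_perp_singular Q hQ h5 a b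
  have hu' : u ∈ operp Q a b := (mem_operp Q).2 ⟨hau, hbu⟩
  obtain ⟨y, hy⟩ := exists_hyp (Q := operpForm Q a b) (h.sep_perp hQ)
    (x := ⟨u, hu'⟩) (fun h0 => hu0 (congrArg Subtype.val h0)) hu
  have h1 : φ.comp (operp Q a b).subtype = 0 :=
    hy.eq_zero_of_singular _ fun x hx => hφ x hx ((mem_operp Q).1 x.2).1
  have h2 : φ (v - polar Q b v • a - polar Q a v • b) = 0 :=
    LinearMap.congr_fun h1 ⟨_, h.proj_mem v⟩
  simpa [hv, hφ a ha (polar_self_of_singular Q ha)] using h2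

include K

theorem exists_singular_of_tsl {e f : V} (h : OHyp Q e f) {w : V} (hw : w ∈ operp Q e f) (hw0 : w ≠ 0)
    (hwQ : Q w = 0) : TSL Q e w := by
  obtain ⟨he, hf⟩ := (mem_operp Q).1 hw
  refine ⟨h.he, hwQ, he, (LinearIndependent.pair_iff' h.ne_zero.1).2 fun t ht => ?_⟩
  rw [← ht, QuadraticMap.polar_smul_right, h.fe, smul_eq_mul, mul_one] at hf
  exact hw0 (by rw [← ht, hf, zero_smul])

omit [FiniteDimensional F V] [Finite F] K in
theorem OHyp.ext_lin {e f : V} (h : OHyp Q e f) {φ ψ : V →ₗ[F] V} (he : φ e = ψ e) (hf : φ f = ψ f)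
    (hW : ∀ w ∈ operp Q e f, φ w = ψ w) : φ = ψ := by
  refine LinearMap.ext fun v => ?_
  have h1 := hW _ (h.proj_mem v)
  simp only [map_sub, map_smul, he, hf] at h1
  simpa using h1

omit [FiniteDimensional F V] [Finite F] K in
theorem OHyp.decomp {e f : V} (h : OHyp Q e f) (v : V) :
    v = polar Q f v • e + polar Q e v • f + (v - polar Q f v • e - polar Q e v • f) := by abel

/-- The elements acting trivially on the factors of the flag of a singular point in a singular line. -/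
def lineUni (e a : V) : Subgroup (OG K) where
  carrier := {g | g.1.1 e = e ∧ (∃ c : F, g.1.1 a = a + c • e) ∧
    ∀ v, polar Q e v = 0 → polar Q a v = 0 → ∃ c d : F, g.1.1 v = v + c • e + d • a}
  one_mem' := ⟨rfl, ⟨0, by simp⟩, fun v _ _ => ⟨0, 0, by simp⟩⟩
  mul_mem' := by
    rintro g h ⟨hg, ⟨c, hc⟩, hg'⟩ ⟨hh, ⟨c', hc'⟩, hh'⟩
    refine ⟨by rw [og_mul_apply, hh, hg], ⟨c + c', ?_⟩, fun v hv hv' => ?_⟩
    · rw [og_mul_apply, hc', map_add, map_smul, hg, hc]; module
    · obtain ⟨s, t, hst⟩ := hh' v hv hv'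
      obtain ⟨s', t', hst'⟩ := hg' v hv hv'
      refine ⟨s' + s + t * c, t' + t, ?_⟩
      rw [og_mul_apply, hst, map_add, map_add, map_smul, map_smul, hg, hc, hst']
      module
  inv_mem' := by
    rintro g ⟨hg, ⟨c, hc⟩, hg'⟩
    refine ⟨g.1.1.symm_apply_eq.2 hg.symm, ⟨-c, g.1.1.symm_apply_eq.2 ?_⟩, fun v hv hv' => ?_⟩
    · rw [map_add, map_smul, hg, hc]; module
    · obtain ⟨s, t, hst⟩ := hg' v hv hv'
      refine ⟨-s + t * c, -t, g.1.1.symm_apply_eq.2 ?_⟩
      rw [map_add, map_add, map_smul, map_smul, hg, hc, hst]; module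

theorem isPGroup_lineUni {p : ℕ} [Fact p.Prime] [CharP F p] {e a : V} (h : TSL Q e a) :
    IsPGroup p (lineUni K e a) := by
  rintro ⟨g, hge, ⟨c, hga⟩, hg⟩
  refine ⟨3, Subtype.ext (og_ext K fun x => ?_)⟩
  let T : Module.End F V := (g.1.1 : V →ₗ[F] V) - 1
  have hT : ∀ y, T y = g.1.1 y - y := fun y => rfl
  have h1 : ∀ y, polar Q e (T y) = 0 := fun y => by
    rw [hT, QuadraticMap.polar_sub_right, sub_eq_zero]
    conv_lhs => rw [← hge, og_polar]
  have h2 : ∀ y, polar Q e y = 0 → polar Q a (T y) = 0 := fun y hy => by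
    have h3 := og_polar K g a y
    have h4 := h1 y
    rw [hT, QuadraticMap.polar_sub_right, hy, sub_zero] at h4
    rw [hga, QuadraticMap.polar_add_left, QuadraticMap.polar_smul_left, h4, smul_zero, add_zero] at h3
    rw [hT, QuadraticMap.polar_sub_right, h3, sub_self]
  have hTe : T e = 0 := by rw [hT, hge, sub_self]
  have hTa : T a = c • e := by rw [hT, hga, add_sub_cancel_left]
  have hT5 : T ^ 5 = 0 := LinearMap.ext fun y => by
    obtain ⟨s, t, hst⟩ := hg (T (T y)) (h1 _) (h2 _ (h1 y))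
    show T (T (T (T (T y)))) = 0
    rw [show T (T (T y)) = s • e + t • a by rw [hT (T (T y)), hst]; abel]
    simp only [map_add, map_smul, hTe, hTa, smul_zero, zero_add]
  haveI : Nontrivial V := ⟨e, 0, h.ne_zero.1⟩
  haveI : CharP (Module.End F V) p := charP_of_injective_algebraMap' F p
  have hg' : (g.1.1 : V →ₗ[F] V) = T + 1 := by simp [T]
  have hpow : (g.1.1 : V →ₗ[F] V) ^ p ^ 3 = 1 := by
    have hle : 5 ≤ p ^ 3 := le_trans (by norm_num) (Nat.pow_le_pow_left (Fact.out : p.Prime).two_le 3)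
    rw [hg', add_pow_char_pow_of_commute _ _ (Commute.one_right T), one_pow,
      pow_eq_zero_of_le hle hT5, zero_add]
  have hcoe : ∀ k : ℕ, ((g ^ k).1.1 : V →ₗ[F] V) = (g.1.1 : V →ₗ[F] V) ^ k := by
    intro k
    induction k with
    | zero => rfl
    | succ k ih => rw [pow_succ, pow_succ, ← ih]; rfl
  have := LinearMap.congr_fun ((hcoe (p ^ 3)).trans hpow) x
  simpa using this

theorem siegel_left_mem {e a w : V} (h : TSL Q e a) (hw : polar Q e w = 0) :
    siegelO K e w ∈ lineUni K e a := by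
  have hwe : polar Q w e = 0 := by rw [QuadraticMap.polar_comm]; exact hw
  refine ⟨?_, ⟨-polar Q w a, ?_⟩, fun v hv _ => ⟨-polar Q w v, 0, ?_⟩⟩
  · rw [siegelO_apply K h.ha hw, polar_self_of_singular Q h.ha, hwe]; simp
  · rw [siegelO_apply K h.ha hw, h.hab]; simp [sub_eq_add_neg]
  · rw [siegelO_apply K h.ha hw, hv]; simp [sub_eq_add_neg]

theorem siegel_right_mem {e a w : V} (h : TSL Q e a) (hw : polar Q a w = 0) (hwe : polar Q e w = 0) :
    siegelO K a w ∈ lineUni K e a := by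
  have hwa : polar Q w a = 0 := by rw [QuadraticMap.polar_comm]; exact hw
  have hwe' : polar Q w e = 0 := by rw [QuadraticMap.polar_comm]; exact hwe
  refine ⟨?_, ⟨0, ?_⟩, fun v _ hv => ⟨0, -polar Q w v, ?_⟩⟩
  · rw [siegelO_apply K h.hb hw, h.ba, hwe']; simp
  · rw [siegelO_apply K h.hb hw, polar_self_of_singular Q h.hb, hwa]; simp
  · rw [siegelO_apply K h.hb hw, hv]; simp [sub_eq_add_neg]

theorem exists_mul_mem_span_pair {e a : V} (h : TSL Q e a) {k : OG K}
    (hk : Commute (toOQ K k) (rootO K e a 1)) :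
    k.1.1 e ∈ Submodule.span F {e, a} ∧ k.1.1 a ∈ Submodule.span F {e, a} := by
  refine h.mem_span_of_eq K (h.map K k) (s := 1) one_ne_zero ?_
  rw [← rootO_conj, hk.eq, mul_inv_cancel_right]

/-- An element of `Ω` commuting modulo the centre with all `S(e, ·)` and with all `S(a, ·)` that fix `e`
is a root element of the line `⟨e, a⟩` up to the centre. -/
theorem mem_rootGrp_of_commute {e a : V} (h : TSL Q e a) {k : OG K}
    (hE : ∀ w, polar Q e w = 0 → Commute (toOQ K k) (toOQ K (siegelO K e w)))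
    (hA : ∀ w, polar Q a w = 0 → polar Q e w = 0 → Commute (toOQ K k) (toOQ K (siegelO K a w))) :
    toOQ K k ∈ rootGrp K e a := by
  obtain ⟨f₀, hf1, hf2⟩ := exists_dual_pair Q K.sep h.hi 1 0
  obtain ⟨f, hf⟩ : ∃ f, f = f₀ + (-Q f₀) • e := ⟨_, rfl⟩
  have hH : OHyp Q e f := ⟨h.ha, by
      rw [hf, quad_map_add_smul, h.ha, QuadraticMap.polar_comm _ f₀ e, hf1]; ring, by
      rw [hf, QuadraticMap.polar_add_right, QuadraticMap.polar_smul_right,
        polar_self_of_singular Q h.ha, hf1]; simp⟩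
  have haW : a ∈ operp Q e f := (mem_operp Q).2 ⟨h.hab, by
    rw [hf, QuadraticMap.polar_add_left, QuadraticMap.polar_smul_left, h.hab,
      QuadraticMap.polar_comm _ f₀ a, hf2]; simp⟩
  have hWfin : 5 ≤ Module.finrank F (operp Q e f) := by
    have := finrank_operp (Q := Q) e f; have := K.seven; omega
  have hfe' := hH.fe
  have hsep := hH.sep_perp K.sep
  -- `k` fixes the point of `e`
  obtain ⟨w₁, hw₁0, hw₁, -, -, hw₁Q⟩ := exists_singular_perp4 K hH 0 0
  obtain ⟨w₂, hw₂⟩ := exists_hyp (Q := operpForm Q e f) hsep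
    (x := ⟨w₁, hw₁⟩) (fun h0 => hw₁0 (congrArg Subtype.val h0)) hw₁Q
  have hspan : ∀ w ∈ operp Q e f, w ≠ 0 → Q w = 0 →
      k.1.1 e ∈ Submodule.span F {e, w} ∧ k.1.1 w ∈ Submodule.span F {e, w} := fun w hw hw0 hwQ =>
    exists_mul_mem_span_pair K (exists_singular_of_tsl K hH hw hw0 hwQ)
      (hE _ ((exists_singular_of_tsl K hH hw hw0 hwQ).smul_ok 1))
  obtain ⟨l, hl⟩ : ∃ l : F, k.1.1 e = l • e := by
    obtain ⟨x, y, hxy⟩ := Submodule.mem_span_pair.1 (hspan w₁ hw₁ hw₁0 hw₁Q).1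
    obtain ⟨x', y', hxy'⟩ := Submodule.mem_span_pair.1
      (hspan w₂ w₂.2 (fun h0 => hw₂.ne_zero.2 (Subtype.ext h0)) hw₂.hf).1
    have h1 := congrArg (polar Q (w₂ : V)) (hxy.trans hxy'.symm)
    have hw₂e : polar Q (w₂ : V) e = 0 := by
      rw [QuadraticMap.polar_comm]; exact ((mem_operp Q).1 w₂.2).1
    have hw21 : polar Q (w₂ : V) w₁ = 1 := hw₂.fe
    simp only [QuadraticMap.polar_add_right, QuadraticMap.polar_smul_right, hw₂e, hw21,
      polar_self_of_singular Q (show Q (w₂ : V) = 0 from hw₂.hf), smul_eq_mul, mul_zero, mul_one,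
      zero_add] at h1
    exact ⟨x, by rw [← hxy, h1, zero_smul, add_zero]⟩
  have hl0 : l ≠ 0 := fun h0 => h.ne_zero.1 (k.1.1.injective (by rw [hl, h0, zero_smul, map_zero]))
  -- modulo `e`, it acts on `W` as a scalar
  have hkW : ∀ w ∈ operp Q e f, Q w = 0 → ∃ s : F, k.1.1 w = s • e + l⁻¹ • w := by
    intro w hw hwQ
    by_cases hw0 : w = 0
    · exact ⟨0, by simp [hw0]⟩
    obtain ⟨s, t, hst⟩ := Submodule.mem_span_pair.1 (hspan w hw hw0 hwQ).2
    have hT := exists_singular_of_tsl K hH hw hw0 hwQ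
    have h1 : rootO K e w 1 = rootO K e w (l * t) := by
      conv_lhs => rw [← mul_inv_cancel_right (rootO K e w 1) (toOQ K k),
        ← (show Commute (toOQ K k) (rootO K e w 1) from hE _ (hT.smul_ok 1)).eq, rootO_conj]
      refine congrArg (toOQ K) (og_ext K fun v => ?_)
      rw [(hT.map K k).siegel_apply K, hT.siegel_apply K, ← hst, hl]
      simp only [QuadraticMap.polar_smul_left, QuadraticMap.polar_add_left, smul_eq_mul]
      module
    have h2 : t = l⁻¹ := (inv_eq_of_mul_eq_one_right (hT.rootO_inj K h1).symm).symm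
    exact ⟨s, by rw [← hst, h2]⟩
  obtain ⟨u₀, u₁, hu⟩ : ∃ u v : operp Q e f, OHyp (operpForm Q e f) u v :=
    ⟨_, _, hw₂⟩
  have hkW' : ∀ w ∈ operp Q e f, k.1.1 w = polar Q f (k.1.1 w) • e + l⁻¹ • w := by
    intro w hw
    refine sub_eq_zero.1 (K.sep _ fun y => ?_)
    let φ : V →ₗ[F] F := (QuadraticMap.polarBilin Q y).comp
      ((k.1.1 : V →ₗ[F] V) - ((QuadraticMap.polarBilin Q f).comp (k.1.1 : V →ₗ[F] V)).smulRight e
        - l⁻¹ • LinearMap.id)
    have h1 : φ.comp (operp Q e f).subtype = 0 := hu.eq_zero_of_singular _ fun x hx => by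
      obtain ⟨s, hs⟩ := hkW x x.2 hx
      have hfx := ((mem_operp Q).1 x.2).2
      simp [φ, hs, QuadraticMap.polar_add_right, QuadraticMap.polar_smul_right, hH.fe, hfx]
    rw [QuadraticMap.polar_comm]
    simpa [φ, sub_sub] using LinearMap.congr_fun h1 ⟨w, hw⟩
  have hl1 : l⁻¹ * l⁻¹ = 1 := by
    have h1 := og_Q K k (u₀ + u₁ : operp Q e f)
    have hQ1 : Q ((u₀ + u₁ : operp Q e f) : V) = 1 := by
      show operpForm Q e f (u₀ + u₁) = 1
      rw [QuadraticMap.map_add (operpForm Q e f : QuadraticMap F _ F), hu.he, hu.hf, hu.hef]; simp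
    have he' := ((mem_operp Q).1 (u₀ + u₁).2).1
    rw [hkW' _ (u₀ + u₁).2, QuadraticMap.map_add (Q : QuadraticMap F V F), quad_smul, quad_smul, h.ha,
      QuadraticMap.polar_smul_left, QuadraticMap.polar_smul_right, he', hQ1] at h1
    simpa using h1
  -- the translation part vanishes on `a^⊥`
  have hAspan : ∀ y ∈ operp Q e f, Q y = 0 → polar Q a y = 0 → LinearIndependent F ![a, y] →
      k.1.1 a ∈ Submodule.span F {a, y} ∧ k.1.1 y ∈ Submodule.span F {a, y} := by
    intro y hy hyQ hay hi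
    have hT : TSL Q a y := ⟨h.hb, hyQ, hay, hi⟩
    exact exists_mul_mem_span_pair K hT (hA _ (hT.smul_ok 1)
      (by rw [QuadraticMap.polar_smul_right, ((mem_operp Q).1 hy).1, smul_zero]))
  have hzero : ∀ v ∈ operp Q e f, ∀ y ∈ operp Q e f, ∀ z ∈ operp Q e f,
      k.1.1 v ∈ Submodule.span F {y, z} → polar Q f (k.1.1 v) = 0 := by
    intro v _ y hy z hz hv
    obtain ⟨s, t, hst⟩ := Submodule.mem_span_pair.1 hv
    rw [← hst]
    simp [QuadraticMap.polar_add_right, QuadraticMap.polar_smul_right, ((mem_operp Q).1 hy).2,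
      ((mem_operp Q).1 hz).2]
  have hca : polar Q f (k.1.1 a) = 0 := by
    obtain ⟨b, hb⟩ := exists_hyp (Q := operpForm Q e f) hsep (x := ⟨a, haW⟩)
      (fun h0 => h.ne_zero.2 (congrArg Subtype.val h0)) h.hb
    obtain ⟨y, hy0, hy, hay, hby, hyQ⟩ := exists_singular_perp4 K hH a (b : V)
    refine hzero a haW a haW y hy (hAspan y hy hyQ hay ?_).1
    rw [LinearIndependent.pair_iff' h.ne_zero.2]
    intro t ht
    have hba : polar Q (b : V) a = 1 := hb.fe
    rw [← ht, QuadraticMap.polar_smul_right, hba, smul_eq_mul, mul_one] at hby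
    exact hy0 (by rw [← ht, hby, zero_smul])
  have hperp : ∀ w ∈ operp Q e f, polar Q a w = 0 → polar Q f (k.1.1 w) = 0 := by
    intro w hw haw
    let φ : operp Q e f →ₗ[F] F :=
      ((QuadraticMap.polarBilin Q f).comp (k.1.1 : V →ₗ[F] V)).comp (operp Q e f).subtype
    refine eq_zero_on_perp (Q := operpForm Q e f) hsep hWfin (a := ⟨a, haW⟩)
      (fun h0 => h.ne_zero.2 (congrArg Subtype.val h0)) h.hb φ (fun y hy hay => ?_)
      (v := ⟨w, hw⟩) haw
    show polar Q f (k.1.1 y) = 0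
    by_cases hi : LinearIndependent F ![a, (y : V)]
    · exact hzero y y.2 a haW y y.2 (hAspan y y.2 hy hay hi).2
    · rw [LinearIndependent.pair_iff' h.ne_zero.2] at hi
      push Not at hi
      obtain ⟨t, ht⟩ := hi
      rw [← ht, map_smul, QuadraticMap.polar_smul_right, hca, smul_zero]
  obtain ⟨b, hb⟩ := exists_hyp (Q := operpForm Q e f) hsep (x := ⟨a, haW⟩)
    (fun h0 => h.ne_zero.2 (congrArg Subtype.val h0)) h.hb
  have hab : polar Q a (b : V) = 1 := hb.hef
  obtain ⟨γ, hγ⟩ : ∃ γ, γ = polar Q f (k.1.1 (b : V)) := ⟨_, rfl⟩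
  have hc : ∀ w ∈ operp Q e f, polar Q f (k.1.1 w) = γ * polar Q a w := by
    intro w hw
    have h1 := hperp (w - polar Q a w • (b : V)) (Submodule.sub_mem _ hw (Submodule.smul_mem _ _ b.2))
      (by rw [QuadraticMap.polar_sub_right, QuadraticMap.polar_smul_right, hab]; simp)
    rw [map_sub, map_smul, QuadraticMap.polar_sub_right, QuadraticMap.polar_smul_right, smul_eq_mul,
      sub_eq_zero, ← hγ] at h1
    rw [h1, mul_comm]
  have hll : l⁻¹ = l := by field_simp at hl1 ⊢; linear_combination hl1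
  rw [hll] at hkW' hl1
  refine (h.mem_rootGrp K).2 ⟨-(l * γ), ?_⟩
  refine (inv_mul_eq_one.1 ?_).symm
  rw [rootO, ← map_inv, ← map_mul]
  refine toOQ_eq_one_of_scalar K (a := l) fun v => ?_
  show (siegelO K e (-(l * γ) • a)).1.1.symm (k.1.1 v) = l • v
  rw [LinearEquiv.symm_apply_eq, map_smul, h.siegel_apply K]
  have hkf : k.1.1 f = l • f - γ • a := by
    have haf : polar Q a f = 0 := by rw [QuadraticMap.polar_comm]; exact ((mem_operp Q).1 haW).2
    have hfa : polar Q f a = 0 := ((mem_operp Q).1 haW).2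
    have hekf : polar Q e (k.1.1 f) = l := by
      have := og_polar K k e f
      rw [hl, QuadraticMap.polar_smul_left, hH.hef, smul_eq_mul] at this
      linear_combination l * this - polar Q e (k.1.1 f) * hl1
    have hkw : ∀ w ∈ operp Q e f, polar Q (k.1.1 f) w = -(γ * polar Q a w) := by
      intro w hw
      have hfw := ((mem_operp Q).1 hw).2
      have h1 := og_polar K k f w
      rw [hkW' w hw, hc w hw, QuadraticMap.polar_add_right, QuadraticMap.polar_smul_right,
        QuadraticMap.polar_smul_right, hfw, QuadraticMap.polar_comm _ _ e, hekf, smul_eq_mul,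
        smul_eq_mul] at h1
      linear_combination l * h1 - (γ * polar Q a w * l + polar Q (k.1.1 f) w) * hl1 +
        γ * polar Q a w * (l - 1) * hl1
    obtain ⟨u, hu'⟩ : ∃ u, u = k.1.1 f - polar Q f (k.1.1 f) • e - polar Q e (k.1.1 f) • f := ⟨_, rfl⟩
    have huW : u ∈ operp Q e f := hu' ▸ hH.proj_mem _
    have hu0 : (⟨u, huW⟩ + γ • ⟨a, haW⟩ : operp Q e f) = 0 := hsep _ fun w => by
      rw [operpForm_polar]
      obtain ⟨hew, hfw⟩ := (mem_operp Q).1 w.2
      show polar Q (u + γ • a) (w : V) = 0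
      rw [QuadraticMap.polar_add_left, QuadraticMap.polar_smul_left, hu', QuadraticMap.polar_sub_left,
        QuadraticMap.polar_sub_left, QuadraticMap.polar_smul_left, QuadraticMap.polar_smul_left,
        hkw w w.2, hew, hfw, smul_eq_mul]
      ring
    have hu1 : u + γ • a = 0 := congrArg Subtype.val hu0
    obtain ⟨x, hx⟩ : ∃ x, x = polar Q f (k.1.1 f) := ⟨_, rfl⟩
    have hkf' : k.1.1 f = (l • f + (-γ) • a) + x • e := by
      rw [hu', ← hx, hekf] at hu1
      linear_combination (norm := module) hu1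
    have hQkf := og_Q K k f
    rw [hH.hf, hkf', quad_map_add_smul, quad_map_add_smul, quad_smul, hH.hf, h.hb, h.ha,
      QuadraticMap.polar_smul_left, QuadraticMap.polar_add_left, QuadraticMap.polar_smul_left,
      QuadraticMap.polar_smul_left, hH.fe, hfa, h.ba, smul_eq_mul, smul_eq_mul, smul_eq_mul] at hQkf
    have hx0 : x = 0 := by
      have : x * l = 0 := by linear_combination hQkf
      exact (mul_eq_zero.1 this).resolve_right hl0
    rw [hkf', hx0]; module
  have hlin : (k.1.1 : V →ₗ[F] V) = l • LinearMap.id +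
      (-γ) • ((QuadraticMap.polarBilin Q e).smulRight a - (QuadraticMap.polarBilin Q a).smulRight e) := by
    refine hH.ext_lin ?_ ?_ fun w hw => ?_
    · simp [hl, polar_self_of_singular Q h.ha, h.ba]
    · have haf : polar Q a f = 0 := by rw [QuadraticMap.polar_comm]; exact ((mem_operp Q).1 haW).2
      simp only [LinearEquiv.coe_coe, LinearMap.add_apply, LinearMap.smul_apply, LinearMap.id_apply,
        LinearMap.sub_apply, LinearMap.smulRight_apply, QuadraticMap.polarBilin_apply_apply, hkf, hH.hef,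
        haf]
      module
    · have he' := ((mem_operp Q).1 hw).1
      have hkw' := hkW' w hw
      rw [hc w hw] at hkw'
      simp only [LinearEquiv.coe_coe, LinearMap.add_apply, LinearMap.smul_apply, LinearMap.id_apply,
        LinearMap.sub_apply, LinearMap.smulRight_apply, QuadraticMap.polarBilin_apply_apply, hkw', he']
      module
  rw [show k.1.1 v = (k.1.1 : V →ₗ[F] V) v from rfl, hlin]
  simp only [LinearMap.add_apply, LinearMap.smul_apply, LinearMap.id_apply, LinearMap.sub_apply,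
    LinearMap.smulRight_apply, QuadraticMap.polarBilin_apply_apply]
  linear_combination (norm := module) (γ * hl1) • (polar Q e v • a - polar Q a v • e)

/-- The root groups are the centres of Sylow subgroups. -/
theorem exists_sylow_centre {p : ℕ} [Fact p.Prime] [CharP F p] {e a : V} (h : TSL Q e a) :
    ∃ P : Sylow p (OQ K), ∀ x, x ∈ rootGrp K e a ↔ x ∈ P ∧ ∀ g ∈ P, g * x = x * g := by
  haveI : Finite V := Module.finite_of_finite F
  haveI : Finite (V ≃ₗ[F] V) :=
    Finite.of_injective (fun g : V ≃ₗ[F] V => (g : V → V)) DFunLike.coe_injective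
  obtain ⟨P₀, hP₀⟩ := (isPGroup_lineUni K (p := p) h).exists_le_sylow
  obtain ⟨P, hP⟩ : ∃ P : Sylow p (OQ K), P = P₀.mapSurjective (toOQ_surjective K) := ⟨_, rfl⟩
  have hPm : ∀ {x}, x ∈ P ↔ ∃ g ∈ P₀, toOQ K g = x := by
    intro x; rw [hP]; exact Iff.rfl
  have hE : ∀ w, polar Q e w = 0 → toOQ K (siegelO K e w) ∈ P := fun w hw =>
    hPm.2 ⟨_, hP₀ (siegel_left_mem K h hw), rfl⟩
  have hA : ∀ w, polar Q a w = 0 → polar Q e w = 0 → toOQ K (siegelO K a w) ∈ P := fun w hw hw' =>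
    hPm.2 ⟨_, hP₀ (siegel_right_mem K h hw hw'), rfl⟩
  have hin : ∀ x, x ∈ P → (∀ g ∈ P, g * x = x * g) → x ∈ rootGrp K e a := by
    intro x hx hc
    obtain ⟨k, hk, rfl⟩ := hPm.1 hx
    exact mem_rootGrp_of_commute K h (fun w hw => (hc _ (hE w hw)).symm)
      (fun w hw hw' => (hc _ (hA w hw hw')).symm)
  refine ⟨P, fun x => ⟨fun hx => ?_, fun hx => hin x hx.1 hx.2⟩⟩
  obtain ⟨t, rfl⟩ := (h.mem_rootGrp K).1 hx
  refine ⟨hE _ (h.smul_ok t), fun g hg => ?_⟩
  -- a non-trivial central element exists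
  have hne : Nontrivial P :=
    ⟨⟨⟨rootO K e a 1, hE _ (h.smul_ok 1)⟩, 1, fun he => h.rootO_ne_one K one_ne_zero
      (congrArg Subtype.val he)⟩⟩
  haveI := P.2.center_nontrivial
  obtain ⟨z, hz⟩ := exists_ne (1 : Subgroup.center P)
  have hz' : ∀ g ∈ P, g * (z.1 : OQ K) = z.1 * g := fun g hg =>
    congrArg Subtype.val (Subgroup.mem_center_iff.1 z.2 ⟨g, hg⟩)
  obtain ⟨s, hs⟩ := (h.mem_rootGrp K).1 (hin _ z.1.2 hz')
  have hs0 : s ≠ 0 := fun h0 => hz (Subtype.ext (Subtype.ext (hs.trans (by rw [h0, rootO_zero]; rfl))))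
  obtain ⟨k, hk, rfl⟩ := hPm.1 hg
  have h1 := hz' _ hg
  rw [hs, ← mul_inv_eq_iff_eq_mul, rootO_conj] at h1
  rw [← mul_inv_eq_iff_eq_mul, rootO_conj]
  obtain ⟨hc, hd⟩ := h.mem_span_of_eq K (h.map K k) hs0 h1.symm
  obtain ⟨D, hD⟩ := exists_det_of_mem_span (Q := Q) hc hd
  have key : ∀ t, rootO K (k.1.1 e) (k.1.1 a) t = rootO K e a (t * D) := fun t =>
    congrArg (toOQ K) (og_ext K fun v => by
      rw [h.siegel_apply K, (h.map K k).siegel_apply K, hD, mul_smul])
  rw [key] at h1 ⊢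
  have hD1 : D = 1 := mul_left_cancel₀ hs0 ((h.rootO_inj K h1).trans (mul_one s).symm)
  rw [hD1, mul_one]

theorem isRootGrp_map (β : MulAut (OQ K)) {R : Subgroup (OQ K)} (hR : IsRootGrp K R) :
    IsRootGrp K (R.map β.toMonoidHom) := by
  obtain ⟨p, hp⟩ := CharP.exists F
  haveI : Fact p.Prime :=
    ⟨(CharP.char_is_prime_or_zero F p).resolve_right (CharP.char_ne_zero_of_finite F p)⟩
  haveI : Finite V := Module.finite_of_finite F
  haveI : Finite (V ≃ₗ[F] V) :=
    Finite.of_injective (fun g : V ≃ₗ[F] V => (g : V → V)) DFunLike.coe_injective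
  obtain ⟨e, a, h, rfl⟩ := hR
  obtain ⟨P, hP⟩ := exists_sylow_centre K (p := p) h
  obtain ⟨g, hg⟩ := MulAction.exists_smul_eq (OQ K) P (P.mapSurjective (f := β.toMonoidHom) β.surjective)
  obtain ⟨k, rfl⟩ := toOQ_surjective K g
  refine ⟨k.1.1 e, k.1.1 a, h.map K k, Subgroup.ext fun x => ?_⟩
  have hmem : ∀ y, y ∈ P.mapSurjective (f := β.toMonoidHom) β.surjective ↔
      (toOQ K k)⁻¹ * y * toOQ K k ∈ P := by
    intro y
    rw [← hg]
    show y ∈ ((P : Subgroup (OQ K)).map (MulAut.conj (toOQ K k)).toMonoidHom) ↔ _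
    rw [Subgroup.mem_map_equiv, MulAut.conj_symm_apply]
    rfl
  have hroot : x ∈ rootGrp K (k.1.1 e) (k.1.1 a) ↔ (toOQ K k)⁻¹ * x * toOQ K k ∈ rootGrp K e a := by
    rw [(h.map K k).mem_rootGrp K, h.mem_rootGrp K]
    refine exists_congr fun t => ?_
    rw [← rootO_conj]
    constructor
    · intro hx; rw [hx]; group
    · intro hx; rw [← hx]; group
  rw [hroot, hP, ← hmem, Subgroup.mem_map_equiv, hP]
  have hP' : ∀ y, β.symm y ∈ P ↔ y ∈ P.mapSurjective (f := β.toMonoidHom) β.surjective := fun y =>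
    (Subgroup.mem_map_equiv (K := (P : Subgroup (OQ K))) (f := β) (x := y)).symm
  constructor
  · rintro ⟨h1, h2⟩
    refine ⟨(hP' x).1 h1, fun y hy => ?_⟩
    have hy' : toOQ K k * y * (toOQ K k)⁻¹ ∈ P.mapSurjective (f := β.toMonoidHom) β.surjective :=
      (hmem _).2 (by group; exact hy)
    have h3 := h2 _ ((hP' _).2 hy')
    rw [← map_mul, ← map_mul, β.symm.injective.eq_iff] at h3
    calc y * ((toOQ K k)⁻¹ * x * toOQ K k)
        = (toOQ K k)⁻¹ * (toOQ K k * y * (toOQ K k)⁻¹ * x) * toOQ K k := by group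
      _ = (toOQ K k)⁻¹ * (x * (toOQ K k * y * (toOQ K k)⁻¹)) * toOQ K k := by rw [h3]
      _ = _ := by group
  · rintro ⟨h1, h2⟩
    refine ⟨(hP' x).2 h1, fun y hy => ?_⟩
    obtain ⟨y, rfl⟩ := β.symm.surjective y
    rw [← map_mul, ← map_mul]
    refine congrArg β.symm ?_
    have h3 := h2 _ ((hmem y).1 ((hP' y).1 hy))
    calc y * x = toOQ K k * ((toOQ K k)⁻¹ * y * toOQ K k * ((toOQ K k)⁻¹ * x * toOQ K k)) *
          (toOQ K k)⁻¹ := by group
      _ = toOQ K k * ((toOQ K k)⁻¹ * x * toOQ K k * ((toOQ K k)⁻¹ * y * toOQ K k)) *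
          (toOQ K k)⁻¹ := by rw [h3]
      _ = x * y := by group

end CfsgLib.KnownC
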