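import Mathlib
import Cfsg.Agent.Lib.KnownC.AutPOmegaSylow

set_option autoImplicit false
set_option linter.unusedSectionVars false
set_option linter.style.haveILetI false

/-!
Relations between the root groups of totally singular lines: commuting, collinear, and the characterisation
of the stars of singular points.
-/

namespace CfsgLib.KnownC

open CfsgLib.Geom CfsgLib.Classical
open QuadraticMap (polar)

section Relations

variable {G : Type*} [Group G]

/-- Two subgroups commute elementwise. -/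
def SComm (R S : Subgroup G) : Prop := ∀ x ∈ R, ∀ y ∈ S, Commute x y

/-- Collinearity with respect to a set of subgroups. -/
def SColl (P : Subgroup G → Prop) (R S : Subgroup G) : Prop :=
  R ≠ S ∧ SComm R S ∧ ∀ x ∈ R, ∀ y ∈ S, ∃ T, P T ∧ x * y ∈ T

/-- The members collinear with both. -/
def SCommon (P : Subgroup G → Prop) (R S T : Subgroup G) : Prop := P T ∧ SColl P T R ∧ SColl P T S

/-- There is a common collinear member with three pairwise non-collinear such neighbours. -/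
def SRich (P : Subgroup G → Prop) (R S : Subgroup G) : Prop :=
  ∃ U U₁ U₂ U₃, SCommon P R S U ∧ SCommon P R S U₁ ∧ SCommon P R S U₂ ∧ SCommon P R S U₃ ∧
    SColl P U U₁ ∧ SColl P U U₂ ∧ SColl P U U₃ ∧
    (U₁ ≠ U₂ ∧ ¬ SColl P U₁ U₂) ∧ (U₁ ≠ U₃ ∧ ¬ SColl P U₁ U₃) ∧ (U₂ ≠ U₃ ∧ ¬ SColl P U₂ U₃)

/-- The members commuting with both and with all their common collinear members. -/
def SSigma (P : Subgroup G → Prop) (R S T : Subgroup G) : Prop :=
  P T ∧ SComm T R ∧ SComm T S ∧ ∀ U, SCommon P R S U → SComm T U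

variable (β : MulAut G) {P : Subgroup G → Prop}

/-- The image under an automorphism. -/
abbrev amap (R : Subgroup G) : Subgroup G := R.map β.toMonoidHom

theorem amap_injective : Function.Injective (amap β) :=
  Subgroup.map_injective β.injective

theorem scomm_amap {R S : Subgroup G} : SComm (amap β R) (amap β S) ↔ SComm R S := by
  constructor
  · intro h x hx y hy
    have := h _ ⟨x, hx, rfl⟩ _ ⟨y, hy, rfl⟩
    simpa using this.map β.symm.toMonoidHom
  · rintro h _ ⟨x, hx, rfl⟩ _ ⟨y, hy, rfl⟩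
    exact (h x hx y hy).map β.toMonoidHom

variable (hP : ∀ R, P (amap β R) ↔ P R)
include hP

omit hP in
theorem amap_surjective : Function.Surjective (amap β) := fun R => ⟨amap β.symm R, by
  ext x
  simp [amap, Subgroup.mem_map_equiv]⟩

theorem scoll_amap {R S : Subgroup G} : SColl P (amap β R) (amap β S) ↔ SColl P R S := by
  refine and_congr (amap_injective β).ne_iff (and_congr (scomm_amap β) ⟨fun h x hx y hy => ?_, ?_⟩)
  · obtain ⟨T, hT, hxy⟩ := h _ ⟨x, hx, rfl⟩ _ ⟨y, hy, rfl⟩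
    obtain ⟨T, rfl⟩ := amap_surjective β T
    obtain ⟨z, hz, hzxy⟩ := hxy
    rw [← map_mul] at hzxy
    exact ⟨T, (hP T).1 hT, β.injective hzxy ▸ hz⟩
  · rintro h _ ⟨x, hx, rfl⟩ _ ⟨y, hy, rfl⟩
    obtain ⟨T, hT, hxy⟩ := h x hx y hy
    exact ⟨amap β T, (hP T).2 hT, ⟨_, hxy, map_mul _ _ _⟩⟩

theorem scommon_amap {R S T : Subgroup G} :
    SCommon P (amap β R) (amap β S) (amap β T) ↔ SCommon P R S T :=
  and_congr (hP T) (and_congr (scoll_amap β hP) (scoll_amap β hP))

theorem srich_amap {R S : Subgroup G} (h : SRich P R S) : SRich P (amap β R) (amap β S) := by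
  obtain ⟨U, U₁, U₂, U₃, h0, h1, h2, h3, c1, c2, c3, n12, n13, n23⟩ := h
  have hn : ∀ {A B : Subgroup G}, (A ≠ B ∧ ¬ SColl P A B) →
      amap β A ≠ amap β B ∧ ¬ SColl P (amap β A) (amap β B) :=
    fun h => ⟨(amap_injective β).ne h.1, fun hc => h.2 ((scoll_amap β hP).1 hc)⟩
  exact ⟨amap β U, amap β U₁, amap β U₂, amap β U₃, (scommon_amap β hP).2 h0, (scommon_amap β hP).2 h1,
    (scommon_amap β hP).2 h2, (scommon_amap β hP).2 h3, (scoll_amap β hP).2 c1, (scoll_amap β hP).2 c2,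
    (scoll_amap β hP).2 c3, hn n12, hn n13, hn n23⟩

theorem ssigma_amap {R S T : Subgroup G} :
    SSigma P (amap β R) (amap β S) (amap β T) ↔ SSigma P R S T := by
  refine and_congr (hP T) (and_congr (scomm_amap β) (and_congr (scomm_amap β) ⟨fun h U hU => ?_, ?_⟩))
  · exact (scomm_amap β).1 (h _ ((scommon_amap β hP).2 hU))
  · intro h U hU
    obtain ⟨U, rfl⟩ := amap_surjective β U
    exact (scomm_amap β).2 (h U ((scommon_amap β hP).1 hU))

end Relations

variable {F V : Type*} [Field F] [AddCommGroup V] [Module F V] [FiniteDimensional F V] [Finite F]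
variable {Q : QuadraticForm F V} (K : OCtx Q)

/-- No four independent, mutually orthogonal singular vectors. -/
def NoFour (Q : QuadraticForm F V) : Prop :=
  ∀ a b c d, TSL Q a b → TSL Q c d → polar Q a c = 0 → polar Q a d = 0 → polar Q b c = 0 →
    polar Q b d = 0 → ¬ LinearIndependent F ![a, b, c, d]

include K

theorem rootGrp_isRoot {a b : V} (h : TSL Q a b) : IsRootGrp K (rootGrp K a b) := ⟨a, b, h, rfl⟩

theorem isRootGrp_amap (β : MulAut (OQ K)) (R : Subgroup (OQ K)) :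
    IsRootGrp K (amap β R) ↔ IsRootGrp K R := by
  refine ⟨fun h => ?_, isRootGrp_map K β⟩
  convert isRootGrp_map K β.symm h
  ext x
  simp [amap, Subgroup.mem_map_equiv]

theorem scomm_of_common {p a b : V} (ha : TSL Q p a) (hb : TSL Q p b) :
    SComm (rootGrp K p a) (rootGrp K p b) := by
  rintro x hx y hy
  obtain ⟨s, rfl⟩ := (ha.mem_rootGrp K).1 hx
  obtain ⟨t, rfl⟩ := (hb.mem_rootGrp K).1 hy
  refine Commute.map ?_ _
  rw [Commute, SemiconjBy, ← siegelO_add K ha.ha (ha.smul_ok s) (hb.smul_ok t),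
    ← siegelO_add K ha.ha (hb.smul_ok t) (ha.smul_ok s), add_comm]

theorem scomm_of_perp {a b c d : V} (h : TSL Q a b) (h' : TSL Q c d) (hac : polar Q a c = 0)
    (had : polar Q a d = 0) (hbc : polar Q b c = 0) (hbd : polar Q b d = 0) :
    SComm (rootGrp K a b) (rootGrp K c d) := by
  rintro x hx y hy
  obtain ⟨s, rfl⟩ := (h.mem_rootGrp K).1 hx
  obtain ⟨t, rfl⟩ := (h'.mem_rootGrp K).1 hy
  refine Commute.map ?_ _
  have h1 := siegelO_conj K (siegelO K a (s • b)) c (t • d)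
  rw [h.fix K s hac hbc, map_smul, h.fix K s had hbd] at h1
  exact mul_inv_eq_iff_eq_mul.1 h1

theorem TSL.of_span {a b c d : V} (h : TSL Q a b) (hc : c ∈ Submodule.span F {a, b})
    (hd : d ∈ Submodule.span F {a, b}) (hi : LinearIndependent F ![c, d]) : TSL Q c d := by
  obtain ⟨x, y, rfl⟩ := Submodule.mem_span_pair.1 hc
  obtain ⟨u, w, rfl⟩ := Submodule.mem_span_pair.1 hd
  refine ⟨h.span_singular x y, h.span_singular u w, ?_, hi⟩
  simp [QuadraticMap.polar_add_left, QuadraticMap.polar_add_right, QuadraticMap.polar_smul_left,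
    QuadraticMap.polar_smul_right, h.hab, h.ba, polar_self_of_singular Q h.ha,
    polar_self_of_singular Q h.hb]

theorem TSL.exists_pointed {a b x : V} (h : TSL Q a b) (hx : x ≠ 0)
    (hm : x ∈ Submodule.span F {a, b}) : ∃ y, TSL Q x y ∧ rootGrp K x y = rootGrp K a b := by
  obtain ⟨s, t, hst⟩ := Submodule.mem_span_pair.1 hm
  have ha : a ∈ Submodule.span F {a, b} := Submodule.subset_span (by simp)
  have hb : b ∈ Submodule.span F {a, b} := Submodule.subset_span (by simp)
  by_cases hs : s = 0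
  · have ht : t ≠ 0 := fun h0 => hx (by rw [← hst, hs, h0, zero_smul, zero_smul, add_zero])
    have hi : LinearIndependent F ![x, a] := by
      refine LinearIndependent.pair_iff.2 fun u v huv => ?_
      have := LinearIndependent.pair_iff.1 h.hi v (u * t) (by
        rw [← hst, hs, zero_smul, zero_add] at huv
        rw [← huv]; module)
      exact ⟨(mul_eq_zero.1 this.2).resolve_right ht, this.1⟩
    exact ⟨a, TSL.of_span K h hm ha hi, h.rootGrp_eq K (TSL.of_span K h hm ha hi) hm ha⟩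
  · have hi : LinearIndependent F ![x, b] := by
      refine LinearIndependent.pair_iff.2 fun u v huv => ?_
      have := LinearIndependent.pair_iff.1 h.hi (u * s) (u * t + v) (by
        rw [← hst] at huv
        rw [← huv]; module)
      have hu := (mul_eq_zero.1 this.1).resolve_right hs
      refine ⟨hu, ?_⟩
      simpa [hu] using this.2
    exact ⟨b, TSL.of_span K h hm hb hi, h.rootGrp_eq K (TSL.of_span K h hm hb hi) hm hb⟩

/-- Commuting root groups meet or are orthogonal. -/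
theorem meet_or_perp_of_scomm {a b c d : V} (h : TSL Q a b) (h' : TSL Q c d)
    (hc : SComm (rootGrp K a b) (rootGrp K c d)) :
    (∃ x, x ≠ 0 ∧ x ∈ Submodule.span F {a, b} ∧ x ∈ Submodule.span F {c, d}) ∨
      (polar Q a c = 0 ∧ polar Q a d = 0 ∧ polar Q b c = 0 ∧ polar Q b d = 0) := by
  obtain ⟨h1, h2⟩ := rootO_conj_mem_iff K h h' one_ne_zero one_ne_zero
    (hc _ (rootO_mem K a b 1) _ (rootO_mem K c d 1))
  by_cases hz : ∀ x, x ∈ Submodule.span F {a, b} → x ∈ Submodule.span F {c, d} → x = 0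
  · refine Or.inr ?_
    have key : ∀ s t : F, s • b - t • a ∈ Submodule.span F {c, d} → t = 0 ∧ s = 0 := by
      intro s t hm
      have h0 := hz _ (Submodule.sub_mem _ (Submodule.smul_mem _ _ (Submodule.subset_span (by simp)))
        (Submodule.smul_mem _ _ (Submodule.subset_span (by simp)))) hm
      have := LinearIndependent.pair_iff.1 h.hi (-t) s (by rw [← h0]; module)
      exact ⟨neg_eq_zero.1 this.1, this.2⟩
    exact ⟨(key _ _ h1).2, (key _ _ h2).2, (key _ _ h1).1, (key _ _ h2).1⟩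
  · push Not at hz
    obtain ⟨x, hx1, hx2, hx0⟩ := hz
    exact Or.inl ⟨x, hx0, hx1, hx2⟩

theorem scoll_of_common {p a b : V} (ha : TSL Q p a) (hb : TSL Q p b) (hab : polar Q a b = 0)
    (hne : rootGrp K p a ≠ rootGrp K p b) : SColl (IsRootGrp K) (rootGrp K p a) (rootGrp K p b) := by
  refine ⟨hne, scomm_of_common K ha hb, fun x hx y hy => ?_⟩
  obtain ⟨s, rfl⟩ := (ha.mem_rootGrp K).1 hx
  obtain ⟨t, rfl⟩ := (hb.mem_rootGrp K).1 hy
  by_cases hi : LinearIndependent F ![p, s • a + t • b]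
  · have hT : TSL Q p (s • a + t • b) := by
      refine ⟨ha.ha, ?_, ?_, hi⟩
      · rw [quad_map_add_smul, quad_smul, QuadraticMap.polar_smul_left, ha.hb, hb.hb, hab, smul_zero]; ring
      · simp [QuadraticMap.polar_add_right, QuadraticMap.polar_smul_right, ha.hab, hb.hab]
    refine ⟨_, rootGrp_isRoot K hT, (hT.mem_rootGrp K).2 ⟨1, ?_⟩⟩
    rw [rootO, rootO, rootO, ← map_mul, ← siegelO_add K ha.ha (ha.smul_ok s) (hb.smul_ok t), one_smul]
  · rw [LinearIndependent.pair_iff' ha.ne_zero.1] at hi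
    push Not at hi
    obtain ⟨r, hr⟩ := hi
    refine ⟨_, rootGrp_isRoot K ha, (ha.mem_rootGrp K).2 ⟨0, ?_⟩⟩
    rw [rootO_zero, rootO, rootO, ← map_mul, ← siegelO_add K ha.ha (ha.smul_ok s) (hb.smul_ok t), ← hr,
      ← siegelO_smul K ha.ha]
    · refine toOQ_eq_one_of_scalar K (a := 1) fun v => ?_
      rw [siegelO_apply K (by rw [quad_smul, ha.ha, mul_zero])
        (by rw [QuadraticMap.polar_smul_left, polar_self_of_singular Q ha.ha, smul_zero]),
        QuadraticMap.polar_smul_left, ha.ha, one_smul]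
      simp only [smul_eq_mul]
      module
    · exact polar_self_of_singular Q ha.ha

/-- The product of root elements of two non-orthogonal lines through a point is not a root element. -/
theorem not_scoll_of_symp {p a b : V} (ha : TSL Q p a) (hb : TSL Q p b) (hab : polar Q a b ≠ 0) :
    ¬ SColl (IsRootGrp K) (rootGrp K p a) (rootGrp K p b) := by
  rintro ⟨-, -, h⟩
  obtain ⟨T, ⟨c, d, hT, rfl⟩, hm⟩ := h _ (rootO_mem K p a 1) _ (rootO_mem K p b 1)
  obtain ⟨u, hu⟩ := (hT.mem_rootGrp K).1 hm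
  obtain ⟨z, hz0, hz⟩ := exists_perp_ne_zero_fin (Q := Q) ![p, a, b, c, d]
    (by have := K.seven; omega)
  have hadd : polar Q p (a + b) = 0 := by rw [QuadraticMap.polar_add_right, ha.hab, hb.hab, add_zero]
  have h1 : siegelO K p (a + b) = siegelO K c (u • d) := by
    refine toOQ_inj_of_fix K ?_ hz0 ?_ (hT.fix K u (hz 3) (hz 4))
    · rw [show rootO K c d u = toOQ K (siegelO K c (u • d)) from rfl] at hu
      rw [← hu, rootO, rootO, ← map_mul, one_smul, one_smul, siegelO_add K ha.ha ha.hab hb.hab]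
    · rw [siegelO_apply K ha.ha hadd, QuadraticMap.polar_add_left, show polar Q p z = 0 from hz 0,
        show polar Q a z = 0 from hz 1, show polar Q b z = 0 from hz 2]
      simp
  obtain ⟨v, hv⟩ := exists_partner Q K.sep ha.ne_zero.1
  have h2 := congrArg (fun g : OG K => g.1.1 v - v) h1
  simp only [siegelO_apply K ha.ha hadd, hT.siegel_apply K, hv, one_smul] at h2
  have hQ : Q (a + b) = polar Q a b := by
    rw [QuadraticMap.map_add (Q : QuadraticMap F V F), ha.hb, hb.hb, zero_add, zero_add]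
  have h3 : Q (u • (polar Q c v • d - polar Q d v • c)) = 0 := by
    rw [show u • (polar Q c v • d - polar Q d v • c) =
      (-(u * polar Q d v)) • c + (u * polar Q c v) • d by module]
    exact hT.span_singular _ _
  rw [add_sub_cancel_left, show ∀ (w : V) (r : F), v + w - r • p - v = w + (-r) • p from
    fun w r => by module] at h2
  rw [← h2, quad_map_add_smul, ha.ha, QuadraticMap.polar_comm _ (a + b) p, hadd, hQ] at h3
  exact hab (by linear_combination h3)

/-- The product of root elements of two disjoint orthogonal lines is not a root element. -/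
theorem not_scoll_of_disjoint {a b c d : V} (h : TSL Q a b) (h' : TSL Q c d) (hac : polar Q a c = 0)
    (had : polar Q a d = 0) (hbc : polar Q b c = 0) (hbd : polar Q b d = 0)
    (hi : LinearIndependent F ![a, b, c, d]) :
    ¬ SColl (IsRootGrp K) (rootGrp K a b) (rootGrp K c d) := by
  rintro ⟨-, -, hp⟩
  obtain ⟨T, ⟨x, y, hT, rfl⟩, hm⟩ := hp _ (rootO_mem K a b 1) _ (rootO_mem K c d 1)
  obtain ⟨u, hu⟩ := (hT.mem_rootGrp K).1 hm
  obtain ⟨z, hz0, hz⟩ := exists_perp_ne_zero_fin (Q := Q) ![a, b, c, d, x, y]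
    (by have := K.seven; omega)
  have h1 : siegelO K a ((1 : F) • b) * siegelO K c ((1 : F) • d) = siegelO K x (u • y) := by
    refine toOQ_inj_of_fix K ?_ hz0 ?_ (hT.fix K u (hz 4) (hz 5))
    · rw [map_mul]; exact hu
    · rw [og_mul_apply, h'.fix K 1 (hz 2) (hz 3), h.fix K 1 (hz 0) (hz 1)]
  have hmem : ∀ v, polar Q a v • b - polar Q b v • a + (polar Q c v • d - polar Q d v • c) ∈
      Submodule.span F {x, y} := by
    intro v
    have h2 := congrArg (fun g : OG K => g.1.1 v) h1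
    simp only [og_mul_apply] at h2
    rw [h'.siegel_apply K, map_add, map_smul, map_sub, map_smul, map_smul, h.fix K 1 hac hbc,
      h.fix K 1 had hbd, h.siegel_apply K, hT.siegel_apply K, one_smul, one_smul, add_assoc,
      add_right_inj] at h2
    rw [h2]
    exact Submodule.smul_mem _ _ (Submodule.sub_mem _
      (Submodule.smul_mem _ _ (Submodule.subset_span (by simp)))
      (Submodule.smul_mem _ _ (Submodule.subset_span (by simp))))
  have hall : ∀ i, ![a, b, c, d] i ∈ Submodule.span F {x, y} := by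
    obtain ⟨v₁, hv₁⟩ := exists_dual_fam K.sep hi ![0, -1, 0, 0]
    obtain ⟨v₂, hv₂⟩ := exists_dual_fam K.sep hi ![1, 0, 0, 0]
    obtain ⟨v₃, hv₃⟩ := exists_dual_fam K.sep hi ![0, 0, 0, -1]
    obtain ⟨v₄, hv₄⟩ := exists_dual_fam K.sep hi ![0, 0, 1, 0]
    intro i
    fin_cases i
    · simpa [show polar Q a v₁ = 0 from hv₁ 0, show polar Q b v₁ = -1 from hv₁ 1,
        show polar Q c v₁ = 0 from hv₁ 2, show polar Q d v₁ = 0 from hv₁ 3] using hmem v₁
    · simpa [show polar Q a v₂ = 1 from hv₂ 0, show polar Q b v₂ = 0 from hv₂ 1,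
        show polar Q c v₂ = 0 from hv₂ 2, show polar Q d v₂ = 0 from hv₂ 3] using hmem v₂
    · simpa [show polar Q a v₃ = 0 from hv₃ 0, show polar Q b v₃ = 0 from hv₃ 1,
        show polar Q c v₃ = 0 from hv₃ 2, show polar Q d v₃ = -1 from hv₃ 3] using hmem v₃
    · simpa [show polar Q a v₄ = 0 from hv₄ 0, show polar Q b v₄ = 0 from hv₄ 1,
        show polar Q c v₄ = 1 from hv₄ 2, show polar Q d v₄ = 0 from hv₄ 3] using hmem v₄
  have hle : Submodule.span F (Set.range ![a, b, c, d]) ≤ Submodule.span F {x, y} :=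
    Submodule.span_le.2 (by rintro _ ⟨i, rfl⟩; exact hall i)
  have h4 := Submodule.finrank_mono hle
  rw [finrank_span_eq_card hi, Fintype.card_fin] at h4
  have h5 : Module.finrank F (Submodule.span F ({x, y} : Set V)) ≤ 2 := by
    have hxy : ({x, y} : Set V) = Set.range ![x, y] := by
      rw [Matrix.range_cons, Matrix.range_cons, Matrix.range_empty]; simp [Set.pair_comm]
    rw [hxy, finrank_span_eq_card hT.hi, Fintype.card_fin]
  omega

theorem li_four_of_disjoint {a b c d : V} (h : TSL Q a b) (h' : TSL Q c d)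
    (hd : ∀ x, x ∈ Submodule.span F {a, b} → x ∈ Submodule.span F {c, d} → x = 0) :
    LinearIndependent F ![a, b, c, d] := by
  rw [Fintype.linearIndependent_iff]
  intro g hg
  simp only [Fin.sum_univ_four, Matrix.cons_val_zero, Matrix.cons_val_one, Matrix.cons_val] at hg
  have hx := hd (g 0 • a + g 1 • b) (Submodule.mem_span_pair.2 ⟨_, _, rfl⟩)
    (Submodule.mem_span_pair.2 ⟨-g 2, -g 3, by linear_combination (norm := module) (-1 : F) • hg⟩)
  have h1 := LinearIndependent.pair_iff.1 h.hi _ _ hx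
  rw [h1.1, h1.2, zero_smul, zero_smul, zero_add, zero_add] at hg
  have h2 := LinearIndependent.pair_iff.1 h'.hi _ _ hg
  intro i
  fin_cases i
  exacts [h1.1, h1.2, h2.1, h2.2]

/-- Collinear root groups share a point and span a totally singular plane. -/
theorem exists_common_of_scoll {a b c d : V} (h : TSL Q a b) (h' : TSL Q c d)
    (hc : SColl (IsRootGrp K) (rootGrp K a b) (rootGrp K c d)) :
    ∃ p u v, TSL Q p u ∧ TSL Q p v ∧ polar Q u v = 0 ∧ rootGrp K p u = rootGrp K a b ∧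
      rootGrp K p v = rootGrp K c d ∧ p ∈ Submodule.span F {a, b} ∧ p ∈ Submodule.span F {c, d} := by
  by_cases hd : ∀ x, x ∈ Submodule.span F {a, b} → x ∈ Submodule.span F {c, d} → x = 0
  · rcases meet_or_perp_of_scomm K h h' hc.2.1 with ⟨x, hx0, hx1, hx2⟩ | ⟨h1, h2, h3, h4⟩
    · exact absurd (hd x hx1 hx2) hx0
    · exact absurd hc (not_scoll_of_disjoint K h h' h1 h2 h3 h4 (li_four_of_disjoint K h h' hd))
  · push Not at hd
    obtain ⟨p, hp1, hp2, hp0⟩ := hd
    obtain ⟨u, hu, hue⟩ := h.exists_pointed K hp0 hp1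
    obtain ⟨v, hv, hve⟩ := h'.exists_pointed K hp0 hp2
    refine ⟨p, u, v, hu, hv, ?_, hue, hve, hp1, hp2⟩
    by_contra hne
    rw [← hue, ← hve] at hc
    exact not_scoll_of_symp K hu hv hne hc

/-- Two non-orthogonal lines through a point. -/
structure Symp (Q : QuadraticForm F V) (p a b : V) : Prop where
  hpa : TSL Q p a
  hpb : TSL Q p b
  hne : polar Q a b ≠ 0

theorem Symp.rootGrp_ne {p a b : V} (h : Symp Q p a b) : rootGrp K p a ≠ rootGrp K p b := by
  intro he
  obtain ⟨-, h1⟩ := h.hpb.mem_span_of_rootGrp_eq K h.hpa he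
  obtain ⟨s, t, hst⟩ := Submodule.mem_span_pair.1 h1
  refine h.hne ?_
  rw [← hst]
  simp [QuadraticMap.polar_add_left, QuadraticMap.polar_smul_left, h.hpb.hab,
    polar_self_of_singular Q h.hpb.hb]

theorem exists_symp {p : V} (hp0 : p ≠ 0) (hp : Q p = 0) : ∃ a b, Symp Q p a b := by
  obtain ⟨f, hf⟩ := exists_hyp K.sep hp0 hp
  obtain ⟨u, hu0, hu, -, -, huQ⟩ := exists_singular_perp4 K hf 0 0
  obtain ⟨v, hv⟩ := exists_hyp (Q := operpForm Q p f) (hf.sep_perp K.sep)
    (x := ⟨u, hu⟩) (fun h0 => hu0 (congrArg Subtype.val h0)) huQ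
  refine ⟨u, v, exists_singular_of_tsl K hf hu hu0 huQ,
    exists_singular_of_tsl K hf v.2 (fun h0 => hv.ne_zero.2 (Subtype.ext h0)) hv.hf, ?_⟩
  rw [show polar Q u (v : V) = 1 from hv.hef]
  exact one_ne_zero

/-- Data normalising a symplectic pair: `f` opposite to `p`, orthogonal to `a`, `b`. -/
theorem Symp.exists_frame {p a b : V} (h : Symp Q p a b) :
    ∃ f b', OHyp Q p f ∧ Symp Q p a b' ∧ rootGrp K p b' = rootGrp K p b ∧
      a ∈ operp Q p f ∧ b' ∈ operp Q p f ∧ OHyp Q a b' := by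
  obtain ⟨b', hb'⟩ : ∃ b', b' = (polar Q a b)⁻¹ • b := ⟨_, rfl⟩
  have hab' : polar Q a b' = 1 := by
    rw [hb', QuadraticMap.polar_smul_right, smul_eq_mul, inv_mul_cancel₀ h.hne]
  have hb'm : b' ∈ Submodule.span F {p, b} := Submodule.mem_span_pair.2 ⟨0, (polar Q a b)⁻¹, by rw [hb']; simp⟩
  have hpm : p ∈ Submodule.span F {p, b} := Submodule.subset_span (by simp)
  have hT : TSL Q p b' := by
    refine TSL.of_span K h.hpb hpm hb'm (LinearIndependent.pair_iff.2 fun s t hst => ?_)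
    have := LinearIndependent.pair_iff.1 h.hpb.hi s (t * (polar Q a b)⁻¹) (by
      rw [hb'] at hst; rw [← hst]; module)
    exact ⟨this.1, (mul_eq_zero.1 this.2).resolve_right (inv_ne_zero h.hne)⟩
  have hH : OHyp Q a b' := ⟨h.hpa.hb, hT.hb, hab'⟩
  obtain ⟨f, hf⟩ := exists_hyp (Q := operpForm Q a b') (hH.sep_perp K.sep)
    (x := ⟨p, (mem_operp Q).2 ⟨h.hpa.ba, hT.ba⟩⟩)
    (fun h0 => h.hpa.ne_zero.1 (congrArg Subtype.val h0)) h.hpa.ha
  obtain ⟨haf, hbf⟩ := (mem_operp Q).1 f.2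
  exact ⟨f, b', ⟨hf.he, hf.hf, hf.hef⟩, ⟨h.hpa, hT, by rw [hab']; exact one_ne_zero⟩,
    h.hpb.rootGrp_eq K hT hpm hb'm,
    (mem_operp Q).2 ⟨h.hpa.hab, by rw [QuadraticMap.polar_comm]; exact haf⟩,
    (mem_operp Q).2 ⟨hT.hab, by rw [QuadraticMap.polar_comm]; exact hbf⟩, hH⟩

theorem scommon_frame {p f a b u : V} (hH : OHyp Q p f) (h : Symp Q p a b) (hu : u ∈ operp Q p f)
    (hu0 : u ≠ 0) (hau : polar Q a u = 0) (hbu : polar Q b u = 0) (huQ : Q u = 0) :
    TSL Q p u ∧ SCommon (IsRootGrp K) (rootGrp K p a) (rootGrp K p b) (rootGrp K p u) := by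
  have hT := exists_singular_of_tsl K hH hu hu0 huQ
  have hne : ∀ {x y : V}, TSL Q p x → polar Q y u = 0 → polar Q y x ≠ 0 → polar Q y p = 0 →
      rootGrp K p u ≠ rootGrp K p x := by
    intro x y hx hyu hyx hyp he
    obtain ⟨-, h1⟩ := hT.mem_span_of_rootGrp_eq K hx he.symm
    obtain ⟨s, t, hst⟩ := Submodule.mem_span_pair.1 h1
    refine hyx ?_
    rw [← hst]
    simp [QuadraticMap.polar_add_right, QuadraticMap.polar_smul_right, hyu, hyp]
  refine ⟨hT, rootGrp_isRoot K hT, scoll_of_common K hT h.hpa ?_ ?_, scoll_of_common K hT h.hpb ?_ ?_⟩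
  · rw [QuadraticMap.polar_comm]; exact hau
  · exact hne h.hpa hbu (by rw [QuadraticMap.polar_comm]; exact h.hne) h.hpb.ba
  · rw [QuadraticMap.polar_comm]; exact hbu
  · exact hne h.hpb hau h.hne h.hpa.ba

/-- The star of a singular point is characterised by two non-orthogonal lines through it. -/
theorem ssigma_iff {p a b : V} (h : Symp Q p a b) (T : Subgroup (OQ K)) :
    SSigma (IsRootGrp K) (rootGrp K p a) (rootGrp K p b) T ↔ ∃ c, TSL Q p c ∧ T = rootGrp K p c := by
  obtain ⟨f, b', hH, hS, hbe, haW, hbW, hab⟩ := h.exists_frame K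
  rw [← hbe]
  clear hbe h b
  constructor
  swap
  · rintro ⟨c, hc, rfl⟩
    refine ⟨rootGrp_isRoot K hc, scomm_of_common K hc hS.hpa, scomm_of_common K hc hS.hpb, ?_⟩
    rintro _ ⟨⟨x, y, hxy, rfl⟩, ha, hb⟩
    obtain ⟨q, u, v, hqu, hqv, -, hue, hve, hq1, hq2⟩ := exists_common_of_scoll K hxy hS.hpa ha
    obtain ⟨r, u', v', hru, hrv, -, hue', hve', hr1, hr2⟩ := exists_common_of_scoll K hxy hS.hpb hb
    suffices hp : p ∈ Submodule.span F {x, y} by
      obtain ⟨z, hz, hze⟩ := hxy.exists_pointed K hS.hpa.ne_zero.1 hp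
      rw [← hze]
      exact scomm_of_common K hc hz
    obtain ⟨s, t, hst⟩ := Submodule.mem_span_pair.1 hq2
    obtain ⟨s', t', hst'⟩ := Submodule.mem_span_pair.1 hr2
    have hqr : polar Q q r = 0 := by
      obtain ⟨i, j, hij⟩ := Submodule.mem_span_pair.1 hq1
      obtain ⟨i', j', hij'⟩ := Submodule.mem_span_pair.1 hr1
      rw [← hij, ← hij']
      simp [QuadraticMap.polar_add_left, QuadraticMap.polar_add_right, QuadraticMap.polar_smul_left,
        QuadraticMap.polar_smul_right, hxy.hab, hxy.ba, polar_self_of_singular Q hxy.ha,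
        polar_self_of_singular Q hxy.hb]
    rw [← hst, ← hst'] at hqr
    simp [QuadraticMap.polar_add_left, QuadraticMap.polar_add_right, QuadraticMap.polar_smul_left,
      QuadraticMap.polar_smul_right, hS.hpa.ba, hS.hpb.hab, hS.hpa.hab,
      polar_self_of_singular Q hS.hpa.ha, hab.hef] at hqr
    rcases hqr with rfl | rfl
    · rw [zero_smul, add_zero] at hst'
      have hs : s' ≠ 0 := fun h0 => hru.ne_zero.1 (by rw [← hst', h0, zero_smul])
      rw [← inv_smul_smul₀ hs p, hst']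
      exact Submodule.smul_mem _ _ hr1
    · rw [zero_smul, add_zero] at hst
      have hs : s ≠ 0 := fun h0 => hqu.ne_zero.1 (by rw [← hst, h0, zero_smul])
      rw [← inv_smul_smul₀ hs p, hst]
      exact Submodule.smul_mem _ _ hq1
  rintro ⟨⟨c, d, hcd, rfl⟩, hTa, hTb, hTU⟩
  by_cases hp : p ∈ Submodule.span F {c, d}
  · obtain ⟨z, hz, hze⟩ := hcd.exists_pointed K hS.hpa.ne_zero.1 hp
    exact ⟨z, hz, hze.symm⟩
  exfalso
  -- `T` is orthogonal to `p`, `a`, `b'`
  have inner : ∀ {x x' : V}, x ∈ Submodule.span F {c, d} → x' ∈ Submodule.span F {c, d} →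
      polar Q x x' = 0 := by
    intro x x' hx hx'
    obtain ⟨i, j, rfl⟩ := Submodule.mem_span_pair.1 hx
    obtain ⟨i', j', rfl⟩ := Submodule.mem_span_pair.1 hx'
    simp [QuadraticMap.polar_add_left, QuadraticMap.polar_add_right, QuadraticMap.polar_smul_left,
      QuadraticMap.polar_smul_right, hcd.hab, hcd.ba, polar_self_of_singular Q hcd.ha,
      polar_self_of_singular Q hcd.hb]
  have hmeet : ∀ {y : V} {hy : TSL Q p y}, ∀ {x : V}, x ≠ 0 → x ∈ Submodule.span F {c, d} →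
      x ∈ Submodule.span F {p, y} → ∃ s : F, s • p + y ∈ Submodule.span F {c, d} := by
    intro y hy x hx0 hx1 hx2
    obtain ⟨s, t, hst⟩ := Submodule.mem_span_pair.1 hx2
    have ht : t ≠ 0 := by
      rintro rfl
      rw [zero_smul, add_zero] at hst
      have hs : s ≠ 0 := fun h0 => hx0 (by rw [← hst, h0, zero_smul])
      exact hp (by rw [← inv_smul_smul₀ hs p, hst]; exact Submodule.smul_mem _ _ hx1)
    refine ⟨t⁻¹ * s, ?_⟩
    rw [show (t⁻¹ * s) • p + y = t⁻¹ • (s • p + t • y) by rw [smul_add, inv_smul_smul₀ ht, mul_smul],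
      hst]
    exact Submodule.smul_mem _ _ hx1
  have hperpT : polar Q p c = 0 ∧ polar Q p d = 0 ∧ polar Q a c = 0 ∧ polar Q a d = 0 ∧
      polar Q b' c = 0 ∧ polar Q b' d = 0 := by
    rcases meet_or_perp_of_scomm K hcd hS.hpa hTa with ⟨x, hx0, hx1, hx2⟩ | ⟨h1, h2, h3, h4⟩ <;>
      rcases meet_or_perp_of_scomm K hcd hS.hpb hTb with ⟨y, hy0, hy1, hy2⟩ | ⟨k1, k2, k3, k4⟩
    · obtain ⟨s, hs⟩ := hmeet (hy := hS.hpa) hx0 hx1 hx2
      obtain ⟨t, ht⟩ := hmeet (hy := hS.hpb) hy0 hy1 hy2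
      have := inner hs ht
      simp [QuadraticMap.polar_add_left, QuadraticMap.polar_add_right, QuadraticMap.polar_smul_left,
        QuadraticMap.polar_smul_right, hS.hpa.ba, hS.hpb.hab, polar_self_of_singular Q hS.hpa.ha,
        hab.hef] at this
    · obtain ⟨s, hs⟩ := hmeet (hy := hS.hpa) hx0 hx1 hx2
      obtain ⟨i, j, hij⟩ := Submodule.mem_span_pair.1 hs
      have := congrArg (polar Q b') hij
      simp [QuadraticMap.polar_add_right, QuadraticMap.polar_smul_right,
        QuadraticMap.polar_comm _ b' c, QuadraticMap.polar_comm _ b' d, k2, k4, hS.hpb.ba, hab.fe]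
        at this
    · obtain ⟨s, hs⟩ := hmeet (hy := hS.hpb) hy0 hy1 hy2
      obtain ⟨i, j, hij⟩ := Submodule.mem_span_pair.1 hs
      have := congrArg (polar Q a) hij
      simp [QuadraticMap.polar_add_right, QuadraticMap.polar_smul_right,
        QuadraticMap.polar_comm _ a c, QuadraticMap.polar_comm _ a d, h2, h4, hS.hpa.ba, hab.hef]
        at this
    · refine ⟨?_, ?_, ?_, ?_, ?_, ?_⟩ <;> rw [QuadraticMap.polar_comm] <;> assumption
  obtain ⟨hpc, hpd, hac, had, hbc, hbd⟩ := hperpT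
  -- and to every singular vector orthogonal to `p`, `f`, `a`, `b'`
  obtain ⟨hap, haf⟩ := (mem_operp Q).1 haW
  have hU : ∀ u ∈ operp Q p f, polar Q a u = 0 → polar Q b' u = 0 → Q u = 0 →
      polar Q c u = 0 ∧ polar Q d u = 0 := by
    intro u hu hau hbu huQ
    by_cases hu0 : u = 0
    · subst hu0; simp
    obtain ⟨hT, hC⟩ := scommon_frame K hH hS hu hu0 hau hbu huQ
    rcases meet_or_perp_of_scomm K hcd hT (hTU _ hC) with ⟨x, hx0, hx1, hx2⟩ | ⟨-, h2, -, h4⟩
    · obtain ⟨s, hs⟩ := hmeet (hy := hT) hx0 hx1 hx2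
      have h1 := inner (Submodule.subset_span (by simp : c ∈ ({c, d} : Set V))) hs
      have h2 := inner (Submodule.subset_span (by simp : d ∈ ({c, d} : Set V))) hs
      rw [QuadraticMap.polar_add_right, QuadraticMap.polar_smul_right, QuadraticMap.polar_comm _ c p,
        hpc, smul_zero, zero_add] at h1
      rw [QuadraticMap.polar_add_right, QuadraticMap.polar_smul_right, QuadraticMap.polar_comm _ d p,
        hpd, smul_zero, zero_add] at h2
      exact ⟨h1, h2⟩
    · exact ⟨h2, h4⟩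
  -- so it lies in `⟨p⟩`
  have hline : ∀ y, polar Q p y = 0 → polar Q a y = 0 → polar Q b' y = 0 →
      (∀ u ∈ operp Q p f, polar Q a u = 0 → polar Q b' u = 0 → Q u = 0 → polar Q y u = 0) →
      ∃ s : F, y = s • p := by
    intro y hpy hay hby hyU
    have hab' : OHyp (operpForm Q p f) ⟨a, haW⟩ ⟨b', hbW⟩ := ⟨hab.he, hab.hf, hab.hef⟩
    obtain ⟨u, hu0, hu, hau, hbu, huQ⟩ := exists_singular_perp4 K hH a b'
    obtain ⟨u', hu'⟩ := exists_hyp (Q := operpForm (operpForm Q p f) ⟨a, haW⟩ ⟨b', hbW⟩)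
      (hab'.sep_perp (hH.sep_perp K.sep))
      (x := ⟨⟨u, hu⟩, (mem_operp _).2 ⟨hau, hbu⟩⟩)
      (fun h0 => hu0 (congrArg (fun w : operp (operpForm Q p f) ⟨a, haW⟩ ⟨b', hbW⟩ => ((w : operp Q p f) : V)) h0))
      huQ
    have hφ := hu'.eq_zero_of_singular
      (((QuadraticMap.polarBilin Q y).comp (operp Q p f).subtype).comp (Submodule.subtype _))
      fun x hx => hyU _ x.1.2 ((mem_operp _).1 x.2).1 ((mem_operp _).1 x.2).2 hx
    refine ⟨polar Q f y, ?_⟩
    refine sub_eq_zero.1 ?_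
    have hyW : y - polar Q f y • p ∈ operp Q p f := by
      rw [mem_operp]
      simp [QuadraticMap.polar_sub_right, QuadraticMap.polar_smul_right, hpy, hH.fe,
        polar_self_of_singular Q hH.he]
    have hyO : (⟨_, hyW⟩ : operp Q p f) ∈ operp (operpForm Q p f) ⟨a, haW⟩ ⟨b', hbW⟩ := by
      rw [mem_operp]
      simp [operpForm_polar, QuadraticMap.polar_sub_right, QuadraticMap.polar_smul_right, hay, hby,
        hS.hpa.ba, hS.hpb.ba]
    have h0 : (⟨⟨_, hyW⟩, hyO⟩ : operp (operpForm Q p f) ⟨a, haW⟩ ⟨b', hbW⟩) = 0 :=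
      hab'.sep_perp (hH.sep_perp K.sep) _ fun w => by
        have h1 : polar Q y ((w : operp Q p f) : V) = 0 := LinearMap.congr_fun hφ w
        show polar Q (y - polar Q f y • p) ((w : operp Q p f) : V) = 0
        rw [QuadraticMap.polar_sub_left, QuadraticMap.polar_smul_left, h1,
          ((mem_operp Q).1 (w : operp Q p f).2).1]
        simp
    exact congrArg (fun w : operp (operpForm Q p f) ⟨a, haW⟩ ⟨b', hbW⟩ => ((w : operp Q p f) : V)) h0
  obtain ⟨s, hs⟩ := hline c hpc hac hbc (fun u hu h1 h2 h3 => (hU u hu h1 h2 h3).1)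
  refine hp ?_
  rw [← inv_smul_smul₀ (show s ≠ 0 from fun h0 => hcd.ne_zero.1 (by rw [hs, h0, zero_smul])) p, ← hs]
  exact Submodule.smul_mem _ _ (Submodule.subset_span (by simp))

omit K in
/-- In dimension at least five there is a singular point with three pairwise non-orthogonal singular
points orthogonal to it. -/
theorem exists_rich_config {W : Type*} [AddCommGroup W] [Module F W] [FiniteDimensional F W]
    (R : QuadraticForm F W) (hR : ∀ x, (∀ y, polar R x y = 0) → x = 0) (h5 : 5 ≤ Module.finrank F W) :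
    ∃ c c' u v z, OHyp R c c' ∧ (∀ x ∈ [u, v, z], R x = 0 ∧ x ≠ 0 ∧ x ∈ operp R c c') ∧
      polar R u v ≠ 0 ∧ polar R u z ≠ 0 ∧ polar R v z ≠ 0 := by
  obtain ⟨c, hc0, -, -, hc⟩ := exists_perp_singular R hR h5 0 0
  obtain ⟨c', hcc⟩ := exists_hyp hR hc0 hc
  obtain ⟨u, hu0, hcu, hc'u, hu⟩ := exists_perp_singular R hR h5 c c'
  have huW : u ∈ operp R c c' := (mem_operp _).2 ⟨hcu, hc'u⟩
  obtain ⟨v, hv⟩ := exists_hyp (hcc.sep_perp hR) (x := ⟨u, huW⟩)
    (fun h0 => hu0 (congrArg Subtype.val h0)) hu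
  obtain ⟨w, hw, hwQ⟩ : ∃ w, w ∈ operp (operpForm R c c') ⟨u, huW⟩ v ∧ operpForm R c c' w ≠ 0 := by
    by_contra hall
    push Not at hall
    have h1 := finrank_operp (Q := R) c c'
    have h2 := finrank_operp (Q := operpForm R c c') ⟨u, huW⟩ v
    haveI : Nontrivial (operp (operpForm R c c') ⟨u, huW⟩ v) :=
      Module.nontrivial_of_finrank_pos (R := F) (by omega)
    obtain ⟨x, hx⟩ := exists_ne (0 : operp (operpForm R c c') ⟨u, huW⟩ v)
    refine hx ((hv.sep_perp (hcc.sep_perp hR)) x fun y => ?_)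
    rw [operpForm_polar]
    rw [QuadraticMap.polar, hall _ (Submodule.add_mem _ x.2 y.2), hall _ x.2, hall _ y.2]
    simp
  obtain ⟨hwu, hwv⟩ := (mem_operp _).1 hw
  obtain ⟨t, ht⟩ : ∃ t, t = -operpForm R c c' w := ⟨_, rfl⟩
  obtain ⟨z, hz⟩ : ∃ z : operp R c c', z = ⟨u, huW⟩ + t • v + w := ⟨_, rfl⟩
  have hzQ : operpForm R c c' z = 0 := by
    rw [hz, QuadraticMap.map_add (operpForm R c c' : QuadraticMap F _ F), quad_map_add_smul,
      QuadraticMap.polar_add_left, QuadraticMap.polar_smul_left, hv.he, hv.hf, hv.hef, hwu, hwv, ht]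
    simp
  have hzu : polar (operpForm R c c') ⟨u, huW⟩ z = t := by
    rw [hz, QuadraticMap.polar_add_right, QuadraticMap.polar_add_right, QuadraticMap.polar_smul_right,
      polar_self_of_singular _ hv.he, hv.hef, hwu]
    simp
  have hzv : polar (operpForm R c c') v z = 1 := by
    rw [hz, QuadraticMap.polar_add_right, QuadraticMap.polar_add_right, QuadraticMap.polar_smul_right,
      polar_self_of_singular _ hv.hf, hv.fe, hwv]
    simp
  have ht0 : t ≠ 0 := fun h0 => hwQ (neg_eq_zero.1 (ht.symm.trans h0))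
  refine ⟨c, c', u, v, z, hcc, ?_, ?_, ?_, ?_⟩
  · intro x hx
    simp only [List.mem_cons, List.not_mem_nil, or_false] at hx
    rcases hx with rfl | rfl | rfl
    · exact ⟨hu, hu0, huW⟩
    · exact ⟨hv.hf, fun h0 => hv.ne_zero.2 (Subtype.ext h0), v.2⟩
    · refine ⟨hzQ, fun h0 => ?_, z.2⟩
      rw [show z = 0 from Subtype.ext h0, QuadraticMap.polar_zero_right] at hzv
      exact zero_ne_one hzv
  · rw [show polar R u (v : W) = 1 from hv.hef]; exact one_ne_zero
  · rw [show polar R u (z : W) = t from hzu]; exact ht0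
  · rw [show polar R (v : W) (z : W) = 1 from hzv]; exact one_ne_zero

theorem srich_of_nine (h9 : 9 ≤ Module.finrank F V) {p a b : V} (h : Symp Q p a b) :
    SRich (IsRootGrp K) (rootGrp K p a) (rootGrp K p b) := by
  obtain ⟨f, b', hH, hS, hbe, haW, hbW, hab⟩ := h.exists_frame K
  rw [← hbe]
  have hab' : OHyp (operpForm Q p f) ⟨a, haW⟩ ⟨b', hbW⟩ := ⟨hab.he, hab.hf, hab.hef⟩
  obtain ⟨c, c', u, v, z, hcc, hall, huv, huz, hvz⟩ :=
    exists_rich_config (operpForm (operpForm Q p f) ⟨a, haW⟩ ⟨b', hbW⟩)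
      (hab'.sep_perp (hH.sep_perp K.sep))
      (by have := finrank_operp (Q := Q) p f
          have := finrank_operp (Q := operpForm Q p f) ⟨a, haW⟩ ⟨b', hbW⟩
          omega)
  obtain ⟨val, hval⟩ : ∃ val : operp (operpForm Q p f) ⟨a, haW⟩ ⟨b', hbW⟩ → V,
      ∀ x, val x = ((x : operp Q p f) : V) := ⟨_, fun _ => rfl⟩
  have mk : ∀ x : operp (operpForm Q p f) ⟨a, haW⟩ ⟨b', hbW⟩, x ≠ 0 →
      operpForm (operpForm Q p f) ⟨a, haW⟩ ⟨b', hbW⟩ x = 0 →
      TSL Q p (val x) ∧ SCommon (IsRootGrp K) (rootGrp K p a) (rootGrp K p b') (rootGrp K p (val x)) := by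
    intro x hx hxQ
    rw [hval]
    exact scommon_frame K hH hS x.1.2 (fun h0 => hx (Subtype.ext (Subtype.ext h0)))
      ((mem_operp _).1 x.2).1 ((mem_operp _).1 x.2).2 hxQ
  obtain ⟨hc1, hC⟩ := mk c hcc.ne_zero.1 hcc.he
  obtain ⟨huQ, hu0, hu⟩ := hall u (by simp)
  obtain ⟨hvQ, hv0, hv⟩ := hall v (by simp)
  obtain ⟨hzQ, hz0, hz⟩ := hall z (by simp)
  obtain ⟨hu1, hU⟩ := mk u hu0 huQ
  obtain ⟨hv1, hV⟩ := mk v hv0 hvQ
  obtain ⟨hz1, hZ⟩ := mk z hz0 hzQ
  have coll : ∀ x, x ∈ operp (operpForm (operpForm Q p f) ⟨a, haW⟩ ⟨b', hbW⟩) c c' →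
      TSL Q p (val x) → SColl (IsRootGrp K) (rootGrp K p (val c)) (rootGrp K p (val x)) := by
    intro x hx hx'
    obtain ⟨hcx, hc'x⟩ := (mem_operp _).1 hx
    refine scoll_of_common K hc1 hx' (by rw [hval, hval]; exact hcx) fun he => ?_
    obtain ⟨-, h1⟩ := hx'.mem_span_of_rootGrp_eq K hc1 he
    obtain ⟨i, j, hij⟩ := Submodule.mem_span_pair.1 h1
    have hc'p : polar Q (val c') p = 0 := by
      rw [hval, QuadraticMap.polar_comm]; exact ((mem_operp Q).1 c'.1.2).1
    have := congrArg (polar Q (val c')) hij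
    rw [QuadraticMap.polar_add_right, QuadraticMap.polar_smul_right, QuadraticMap.polar_smul_right,
      hc'p, show polar Q (val c') (val x) = 0 by rw [hval, hval]; exact hc'x,
      show polar Q (val c') (val c) = 1 by rw [hval, hval]; exact hcc.fe] at this
    simp at this
  have ncoll : ∀ x y, TSL Q p (val x) → TSL Q p (val y) →
      polar (operpForm (operpForm Q p f) ⟨a, haW⟩ ⟨b', hbW⟩) x y ≠ 0 →
      rootGrp K p (val x) ≠ rootGrp K p (val y) ∧
        ¬ SColl (IsRootGrp K) (rootGrp K p (val x)) (rootGrp K p (val y)) := fun x y hx hy hxy => by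
    have hxy' : polar Q (val x) (val y) ≠ 0 := by rw [hval, hval]; exact hxy
    exact ⟨Symp.rootGrp_ne K ⟨hx, hy, hxy'⟩, not_scoll_of_symp K hx hy hxy'⟩
  exact ⟨_, _, _, _, hC, hU, hV, hZ, coll u hu hu1, coll v hv hv1, coll z hz hz1,
    ncoll u v hu1 hv1 huv, ncoll u z hu1 hz1 huz, ncoll v z hv1 hz1 hvz⟩

theorem not_srich_of_disjoint {a b c d : V} (h : TSL Q a b) (h' : TSL Q c d) (hac : polar Q a c = 0)
    (had : polar Q a d = 0) (hbc : polar Q b c = 0) (hbd : polar Q b d = 0)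
    (hdis : ∀ x, x ∈ Submodule.span F {a, b} → x ∈ Submodule.span F {c, d} → x = 0) :
    ¬ SRich (IsRootGrp K) (rootGrp K a b) (rootGrp K c d) := by
  rintro ⟨U, U₁, U₂, U₃, h0, h1, h2, h3, c1, c2, c3, n12, n13, n23⟩
  -- every common collinear line is a transversal
  have trans : ∀ {T}, SCommon (IsRootGrp K) (rootGrp K a b) (rootGrp K c d) T →
      ∃ x y, x ∈ Submodule.span F {a, b} ∧ y ∈ Submodule.span F {c, d} ∧ TSL Q x y ∧
        T = rootGrp K x y := by
    rintro T ⟨⟨x, y, hxy, rfl⟩, hA, hC⟩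
    obtain ⟨q, u, v, hqu, -, -, -, -, hq1, hq2⟩ := exists_common_of_scoll K hxy h hA
    obtain ⟨r, u', v', hru, -, -, -, -, hr1, hr2⟩ := exists_common_of_scoll K hxy h' hC
    have hi : LinearIndependent F ![q, r] := by
      refine (LinearIndependent.pair_iff' hqu.ne_zero.1).2 fun s hs => hru.ne_zero.1 (hdis r ?_ hr2)
      rw [← hs]; exact Submodule.smul_mem _ _ hq2
    exact ⟨q, r, hq2, hr2, TSL.of_span K hxy hq1 hr1 hi,
      (hxy.rootGrp_eq K (TSL.of_span K hxy hq1 hr1 hi) hq1 hr1).symm⟩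
  have orth : ∀ {x y : V}, x ∈ Submodule.span F {a, b} → y ∈ Submodule.span F {c, d} →
      polar Q x y = 0 := by
    intro x y hx hy
    obtain ⟨i, j, rfl⟩ := Submodule.mem_span_pair.1 hx
    obtain ⟨i', j', rfl⟩ := Submodule.mem_span_pair.1 hy
    simp [QuadraticMap.polar_add_left, QuadraticMap.polar_add_right, QuadraticMap.polar_smul_left,
      QuadraticMap.polar_smul_right, hac, had, hbc, hbd]
  have inA : ∀ {x x' : V}, x ∈ Submodule.span F {a, b} → x' ∈ Submodule.span F {a, b} →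
      polar Q x x' = 0 := by
    intro x y hx hy
    obtain ⟨i, j, rfl⟩ := Submodule.mem_span_pair.1 hx
    obtain ⟨i', j', rfl⟩ := Submodule.mem_span_pair.1 hy
    simp [QuadraticMap.polar_add_left, QuadraticMap.polar_add_right, QuadraticMap.polar_smul_left,
      QuadraticMap.polar_smul_right, h.hab, h.ba, polar_self_of_singular Q h.ha,
      polar_self_of_singular Q h.hb]
  have inC : ∀ {x x' : V}, x ∈ Submodule.span F {c, d} → x' ∈ Submodule.span F {c, d} →
      polar Q x x' = 0 := by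
    intro x y hx hy
    obtain ⟨i, j, rfl⟩ := Submodule.mem_span_pair.1 hx
    obtain ⟨i', j', rfl⟩ := Submodule.mem_span_pair.1 hy
    simp [QuadraticMap.polar_add_left, QuadraticMap.polar_add_right, QuadraticMap.polar_smul_left,
      QuadraticMap.polar_smul_right, h'.hab, h'.ba, polar_self_of_singular Q h'.ha,
      polar_self_of_singular Q h'.hb]
  obtain ⟨x₀, y₀, hx₀, hy₀, hT₀, rfl⟩ := trans h0
  -- a collinear transversal shares one of the endpoints
  have share : ∀ {T}, SCommon (IsRootGrp K) (rootGrp K a b) (rootGrp K c d) T →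
      SColl (IsRootGrp K) (rootGrp K x₀ y₀) T →
      (∃ y ∈ Submodule.span F {c, d}, TSL Q x₀ y ∧ T = rootGrp K x₀ y) ∨
        (∃ x ∈ Submodule.span F {a, b}, TSL Q y₀ x ∧ T = rootGrp K y₀ x) := by
    intro T hT hc'
    obtain ⟨x, y, hx, hy, hxy, rfl⟩ := trans hT
    obtain ⟨q, u, v, hq, _, _, _, _, hq1, hq2⟩ := exists_common_of_scoll K hT₀ hxy hc'
    obtain ⟨i, j, hij⟩ := Submodule.mem_span_pair.1 hq1
    obtain ⟨i', j', hij'⟩ := Submodule.mem_span_pair.1 hq2
    have e1 : i • x₀ - i' • x = j' • y - j • y₀ := by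
      have := hij.trans hij'.symm
      linear_combination (norm := module) this
    have e2 := hdis _ (Submodule.sub_mem _ (Submodule.smul_mem _ _ hx₀) (Submodule.smul_mem _ _ hx))
      (e1 ▸ Submodule.sub_mem _ (Submodule.smul_mem _ _ hy) (Submodule.smul_mem _ _ hy₀))
    rw [e2, eq_comm, sub_eq_zero] at e1
    rw [sub_eq_zero] at e2
    have hxm : x ∈ Submodule.span F {x, y} := Submodule.subset_span (by simp)
    have hym : y ∈ Submodule.span F {x, y} := Submodule.subset_span (by simp)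
    by_cases hi' : i' = 0
    · have hj' : j' ≠ 0 := fun h0 => hq.ne_zero.1 (by rw [← hij', hi', h0, zero_smul, zero_smul, add_zero])
      have hy0m : y₀ ∈ Submodule.span F {x, y} := by
        have hj : j ≠ 0 := fun h0 => hxy.ne_zero.2
          ((smul_eq_zero.1 (by rw [e1, h0, zero_smul] : j' • y = 0)).resolve_left hj')
        rw [← inv_smul_smul₀ hj y₀, ← e1]
        exact Submodule.smul_mem _ _ (Submodule.smul_mem _ _ hym)
      have hind : LinearIndependent F ![y₀, x] := by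
        refine (LinearIndependent.pair_iff' hT₀.ne_zero.2).2 fun s hs => hxy.ne_zero.1 (hdis x hx ?_)
        rw [← hs]; exact Submodule.smul_mem _ _ hy₀
      exact Or.inr ⟨x, hx, TSL.of_span K hxy hy0m hxm hind,
        (hxy.rootGrp_eq K (TSL.of_span K hxy hy0m hxm hind) hy0m hxm).symm⟩
    · have hi0 : i ≠ 0 := fun h0 => hxy.ne_zero.1
        ((smul_eq_zero.1 (by rw [← e2, h0, zero_smul] : i' • x = 0)).resolve_left hi')
      have hx0m : x₀ ∈ Submodule.span F {x, y} := by
        rw [← inv_smul_smul₀ hi0 x₀, e2]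
        exact Submodule.smul_mem _ _ (Submodule.smul_mem _ _ hxm)
      have hind : LinearIndependent F ![x₀, y] := by
        refine (LinearIndependent.pair_iff' hT₀.ne_zero.1).2 fun s hs => hxy.ne_zero.2 (hdis y ?_ hy)
        rw [← hs]; exact Submodule.smul_mem _ _ hx₀
      exact Or.inl ⟨y, hy, TSL.of_span K hxy hx0m hym hind,
        (hxy.rootGrp_eq K (TSL.of_span K hxy hx0m hym hind) hx0m hym).symm⟩
  have coll2 : ∀ {S T}, (S ≠ T ∧ ¬ SColl (IsRootGrp K) S T) →
      ¬ (∃ p u v, TSL Q p u ∧ TSL Q p v ∧ polar Q u v = 0 ∧ S = rootGrp K p u ∧ T = rootGrp K p v) := by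
    rintro S T hST ⟨p, u, v, hu, hv, huv, rfl, rfl⟩
    exact hST.2 (scoll_of_common K hu hv huv hST.1)
  rcases share h1 c1 with ⟨y1, m1, t1, e1⟩ | ⟨x1, m1, t1, e1⟩ <;>
    rcases share h2 c2 with ⟨y2, m2, t2, e2⟩ | ⟨x2, m2, t2, e2⟩ <;>
    rcases share h3 c3 with ⟨y3, m3, t3, e3⟩ | ⟨x3, m3, t3, e3⟩
  · exact coll2 n12 ⟨_, _, _, t1, t2, inC m1 m2, e1, e2⟩
  · exact coll2 n12 ⟨_, _, _, t1, t2, inC m1 m2, e1, e2⟩
  · exact coll2 n13 ⟨_, _, _, t1, t3, inC m1 m3, e1, e3⟩
  · exact coll2 n23 ⟨_, _, _, t2, t3, inA m2 m3, e2, e3⟩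
  · exact coll2 n23 ⟨_, _, _, t2, t3, inC m2 m3, e2, e3⟩
  · exact coll2 n13 ⟨_, _, _, t1, t3, inA m1 m3, e1, e3⟩
  · exact coll2 n12 ⟨_, _, _, t1, t2, inA m1 m2, e1, e2⟩
  · exact coll2 n12 ⟨_, _, _, t1, t2, inA m1 m2, e1, e2⟩

/-- An automorphism carries the star of a singular point onto the star of a singular point. -/
theorem exists_star_image (hn : 9 ≤ Module.finrank F V ∨ NoFour Q) (β : MulAut (OQ K)) {p : V}
    (hp0 : p ≠ 0) (hp : Q p = 0) :
    ∃ q, q ≠ 0 ∧ Q q = 0 ∧ ∀ R, (∃ c, TSL Q p c ∧ R = rootGrp K p c) ↔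
      ∃ c, TSL Q q c ∧ amap β R = rootGrp K q c := by
  obtain ⟨a, b, h⟩ := exists_symp K hp0 hp
  have hP := isRootGrp_amap K β
  obtain ⟨a₁, a₂, hA, hAe⟩ := (hP _).2 (rootGrp_isRoot K h.hpa)
  obtain ⟨b₁, b₂, hB, hBe⟩ := (hP _).2 (rootGrp_isRoot K h.hpb)
  have hne : rootGrp K a₁ a₂ ≠ rootGrp K b₁ b₂ := by
    rw [← hAe, ← hBe]; exact (amap_injective β).ne (h.rootGrp_ne K)
  have hcomm : SComm (rootGrp K a₁ a₂) (rootGrp K b₁ b₂) := by
    rw [← hAe, ← hBe, scomm_amap]; exact scomm_of_common K h.hpa h.hpb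
  have hncoll : ¬ SColl (IsRootGrp K) (rootGrp K a₁ a₂) (rootGrp K b₁ b₂) := by
    rw [← hAe, ← hBe, scoll_amap β hP]; exact not_scoll_of_symp K h.hpa h.hpb h.hne
  have hnd : ¬ ∀ x, x ∈ Submodule.span F {a₁, a₂} → x ∈ Submodule.span F {b₁, b₂} → x = 0 := by
    intro hdis
    rcases meet_or_perp_of_scomm K hA hB hcomm with ⟨x, hx0, hx1, hx2⟩ | ⟨h1, h2, h3, h4⟩
    · exact hx0 (hdis x hx1 hx2)
    · rcases hn with h9 | h4'
      · exact not_srich_of_disjoint K hA hB h1 h2 h3 h4 hdis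
          (by rw [← hAe, ← hBe]; exact srich_amap β hP (srich_of_nine K h9 h))
      · exact h4' a₁ a₂ b₁ b₂ hA hB h1 h2 h3 h4 (li_four_of_disjoint K hA hB hdis)
  push Not at hnd
  obtain ⟨q, hq1, hq2, hq0⟩ := hnd
  obtain ⟨u, hu, hue⟩ := hA.exists_pointed K hq0 hq1
  obtain ⟨v, hv, hve⟩ := hB.exists_pointed K hq0 hq2
  have hS : Symp Q q u v := ⟨hu, hv, fun huv => hncoll (by
    rw [← hue, ← hve] at hne ⊢
    exact scoll_of_common K hu hv huv hne)⟩
  refine ⟨q, hq0, hu.ha, fun R => ?_⟩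
  rw [← ssigma_iff K h R, ← ssigma_iff K hS (amap β R), hue, hve, ← hAe, ← hBe, ssigma_amap β hP]

end CfsgLib.KnownC
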