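import Mathlib
import Cfsg.Agent.Lib.KnownC.AutPOmegaLines

set_option autoImplicit false
set_option linter.unusedSectionVars false
set_option linter.style.haveILetI false

/-!
The map on singular points induced by an automorphism of `PΩ(Q)`, and the automorphisms induced by
semisimilitudes.
-/

namespace CfsgLib.KnownC

open CfsgLib.Geom CfsgLib.Classical
open QuadraticMap (polar)

variable {F V : Type*} [Field F] [AddCommGroup V] [Module F V]
variable {Q : QuadraticForm F V}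

/-- A semisimilitude of a quadratic form. -/
structure OSim (Q : QuadraticForm F V) where
  /-- The field automorphism. -/
  σ : F ≃+* F
  /-- The multiplier. -/
  c : F
  /-- The semilinear bijection. -/
  T : V ≃+ V
  c_ne : c ≠ 0
  smul : ∀ (a : F) (v : V), T (a • v) = σ a • T v
  quad : ∀ v, Q (T v) = c * σ (Q v)

namespace OSim

theorem polar_map (Φ : OSim Q) (u v : V) : polar Q (Φ.T u) (Φ.T v) = Φ.c * Φ.σ (polar Q u v) := by
  simp only [QuadraticMap.polar, ← map_add, Φ.quad, map_sub]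
  ring

theorem symm_smul (Φ : OSim Q) (a : F) (v : V) :
    Φ.T.symm (a • v) = Φ.σ.symm a • Φ.T.symm v := by
  rw [AddEquiv.symm_apply_eq, Φ.smul, Φ.σ.apply_symm_apply, Φ.T.apply_symm_apply]

/-- The inverse semisimilitude. -/
def inv (Φ : OSim Q) : OSim Q where
  σ := Φ.σ.symm
  c := (Φ.σ.symm Φ.c)⁻¹
  T := Φ.T.symm
  c_ne := inv_ne_zero (fun h => Φ.c_ne (by simpa using congrArg Φ.σ h))
  smul := Φ.symm_smul
  quad v := by
    have hne : Φ.σ.symm Φ.c ≠ 0 := fun h => Φ.c_ne (by simpa using congrArg Φ.σ h)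
    have h := congrArg Φ.σ.symm (Φ.quad (Φ.T.symm v))
    rw [Φ.T.apply_symm_apply, map_mul, Φ.σ.symm_apply_apply] at h
    rw [h, inv_mul_cancel_left₀ hne]

/-- The composite of two semisimilitudes. -/
def comp (Φ Ψ : OSim Q) : OSim Q where
  σ := Ψ.σ.trans Φ.σ
  c := Φ.c * Φ.σ Ψ.c
  T := Ψ.T.trans Φ.T
  c_ne := mul_ne_zero Φ.c_ne (fun h => Ψ.c_ne (Φ.σ.injective (h.trans (map_zero Φ.σ).symm)))
  smul a v := by simp [Ψ.smul, Φ.smul]
  quad v := by simp [Φ.quad, Ψ.quad, mul_assoc]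

/-- An isometry as a semisimilitude. -/
def ofIsom (g : quadIsoms Q) : OSim Q where
  σ := RingEquiv.refl F
  c := 1
  T := g.1.toAddEquiv
  c_ne := one_ne_zero
  smul := g.1.map_smul
  quad v := (g.2 v).trans (one_mul _).symm

/-- The conjugate of an isometry by a semisimilitude. -/
def conjLin (Φ : OSim Q) (g : V ≃ₗ[F] V) : V ≃ₗ[F] V where
  toFun v := Φ.T (g (Φ.T.symm v))
  invFun v := Φ.T (g.symm (Φ.T.symm v))
  map_add' u v := by simp
  map_smul' a v := by simp [Φ.symm_smul, Φ.smul]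
  left_inv v := by simp
  right_inv v := by simp

theorem conjLin_mem (Φ : OSim Q) {g : V ≃ₗ[F] V} (hg : g ∈ quadIsoms Q) :
    Φ.conjLin g ∈ quadIsoms Q := fun v => by
  show Q (Φ.T (g (Φ.T.symm v))) = Q v
  rw [Φ.quad, hg, ← Φ.quad, Φ.T.apply_symm_apply]

theorem inv_T_symm (Φ : OSim Q) (v : V) : Φ.inv.T.symm v = Φ.T v := rfl

/-- Conjugation by a semisimilitude on the isometry group. -/
def conjAut (Φ : OSim Q) : MulAut (quadIsoms Q) where
  toFun g := ⟨Φ.conjLin g.1, Φ.conjLin_mem g.2⟩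
  invFun g := ⟨Φ.inv.conjLin g.1, Φ.inv.conjLin_mem g.2⟩
  left_inv g := Subtype.ext (LinearEquiv.ext fun v => by
    show Φ.T.symm (Φ.T (g.1 (Φ.T.symm (Φ.T v)))) = g.1 v
    simp)
  right_inv g := Subtype.ext (LinearEquiv.ext fun v => by
    show Φ.T (Φ.T.symm (g.1 (Φ.T (Φ.T.symm v)))) = g.1 v
    simp)
  map_mul' g h := Subtype.ext (LinearEquiv.ext fun v => by
    show Φ.T ((g.1 * h.1) (Φ.T.symm v)) = Φ.T (g.1 (Φ.T.symm (Φ.T (h.1 (Φ.T.symm v)))))
    rw [AddEquiv.symm_apply_apply]; rfl)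

theorem conjAut_apply (Φ : OSim Q) (g : quadIsoms Q) (v : V) :
    (Φ.conjAut g).1 v = Φ.T (g.1 (Φ.T.symm v)) := rfl

end OSim

variable [FiniteDimensional F V] [Finite F] (K : OCtx Q)

/-- Conjugation by a semisimilitude on `Ω(Q)`. -/
noncomputable def osimOmega (Φ : OSim Q) : MulAut (OG K) :=
  (Φ.conjAut.subgroupMap (commutator (quadIsoms Q))).trans (MulEquiv.subgroupCongr (by
    show (commutator (quadIsoms Q)).map Φ.conjAut.toMonoidHom = commutator _
    rw [commutator_def, Subgroup.map_commutator,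
      Subgroup.map_top_of_surjective Φ.conjAut.toMonoidHom Φ.conjAut.surjective, ← commutator_def]))

/-- The automorphism of `PΩ(Q)` induced by a semisimilitude. -/
noncomputable def osimAut (Φ : OSim Q) : MulAut (OQ K) :=
  QuotientGroup.congr _ _ (osimOmega K Φ) (by
    ext x
    simp only [Subgroup.mem_map, Subgroup.mem_center_iff]
    constructor
    · rintro ⟨y, hy, rfl⟩ g
      obtain ⟨g, rfl⟩ := (osimOmega K Φ).surjective g
      exact (map_mul (osimOmega K Φ) g y).symm.trans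
        ((congrArg (osimOmega K Φ) (hy g)).trans (map_mul (osimOmega K Φ) y g))
    · intro hx
      obtain ⟨y, rfl⟩ := (osimOmega K Φ).surjective x
      exact ⟨y, fun g => (osimOmega K Φ).injective (by rw [map_mul, map_mul, hx]), rfl⟩)

/-- `β` sends the singular point `p` to `q`: the stars correspond. -/
def SendsP (β : MulAut (OQ K)) (p q : V) : Prop :=
  p ≠ 0 ∧ q ≠ 0 ∧ Q p = 0 ∧ Q q = 0 ∧
    ∀ R, (∃ c, TSL Q p c ∧ R = rootGrp K p c) ↔ ∃ c, TSL Q q c ∧ amap β R = rootGrp K q c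

include K

theorem osimAut_mk (Φ : OSim Q) (g : OG K) : osimAut K Φ (toOQ K g) = toOQ K (osimOmega K Φ g) := rfl

theorem osimOmega_apply (Φ : OSim Q) (g : OG K) (v : V) :
    (osimOmega K Φ g).1.1 v = Φ.T (g.1.1 (Φ.T.symm v)) := rfl

theorem osimAut_comp (Φ Ψ : OSim Q) : osimAut K (Φ.comp Ψ) = osimAut K Φ * osimAut K Ψ := by
  refine MulEquiv.ext fun x => ?_
  obtain ⟨g, rfl⟩ := toOQ_surjective K x
  refine congrArg (toOQ K) (og_ext K fun v => ?_)
  rfl

theorem osimAut_ofIsom (g : OG K) : osimAut K (OSim.ofIsom g.1) = MulAut.conj (toOQ K g) := by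
  refine MulEquiv.ext fun x => ?_
  obtain ⟨h, rfl⟩ := toOQ_surjective K x
  rw [MulAut.conj_apply, ← map_inv, ← map_mul, ← map_mul]
  exact congrArg (toOQ K) (og_ext K fun v => rfl)

theorem osimAut_siegel (Φ : OSim Q) {x w : V} (hx : Q x = 0) (hw : polar Q x w = 0) :
    osimOmega K Φ (siegelO K x w) = siegelO K (Φ.T x) (Φ.c⁻¹ • Φ.T w) := by
  refine og_ext K fun v => ?_
  obtain ⟨z, rfl⟩ := Φ.T.surjective v
  rw [osimOmega_apply, Φ.T.symm_apply_apply, siegelO_apply K hx hw, siegelO_apply K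
    (by rw [Φ.quad, hx, map_zero, mul_zero])
    (by rw [QuadraticMap.polar_smul_right, Φ.polar_map, hw, map_zero, mul_zero, smul_zero]),
    map_sub, map_add, Φ.smul, Φ.smul, Φ.polar_map, QuadraticMap.polar_smul_left, Φ.polar_map, quad_smul,
    Φ.quad, smul_smul, map_add, map_mul, smul_eq_mul]
  have := Φ.c_ne
  field_simp

theorem amap_mul_apply (α β : MulAut (OQ K)) (R : Subgroup (OQ K)) :
    amap (α * β) R = amap α (amap β R) := by
  ext x
  simp [amap, Subgroup.mem_map]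

theorem amap_one (R : Subgroup (OQ K)) : amap (1 : MulAut (OQ K)) R = R := Subgroup.map_id R

theorem amap_inv_self (β : MulAut (OQ K)) (R : Subgroup (OQ K)) : amap β⁻¹ (amap β R) = R := by
  rw [← amap_mul_apply K, inv_mul_cancel, amap_one K]

theorem amap_conj {a b : V} (h : TSL Q a b) (g : OG K) :
    amap (MulAut.conj (toOQ K g)) (rootGrp K a b) = rootGrp K (g.1.1 a) (g.1.1 b) := by
  ext x
  rw [Subgroup.mem_map, (h.map K g).mem_rootGrp K]
  constructor
  · rintro ⟨y, hy, rfl⟩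
    obtain ⟨t, rfl⟩ := (h.mem_rootGrp K).1 hy
    exact ⟨t, rootO_conj K g a b t⟩
  · rintro ⟨t, rfl⟩
    exact ⟨_, rootO_mem K a b t, rootO_conj K g a b t⟩

theorem point_of_star {q q' : V} (hq0 : q ≠ 0) (hq : Q q = 0)
    (h : ∀ c, TSL Q q c → q' ∈ Submodule.span F {q, c}) : ∃ s : F, q' = s • q := by
  obtain ⟨u, v, hS⟩ := exists_symp K hq0 hq
  obtain ⟨i, j, hij⟩ := Submodule.mem_span_pair.1 (h u hS.hpa)
  obtain ⟨i', j', hij'⟩ := Submodule.mem_span_pair.1 (h v hS.hpb)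
  have h1 := congrArg (polar Q u) (hij.trans hij'.symm)
  simp only [QuadraticMap.polar_add_right, QuadraticMap.polar_smul_right, hS.hpa.ba,
    polar_self_of_singular Q hS.hpa.hb, smul_eq_mul, mul_zero, zero_add] at h1
  have hj' : j' = 0 := (mul_eq_zero.1 h1.symm).resolve_right hS.hne
  exact ⟨i', by rw [← hij', hj', zero_smul, add_zero]⟩

theorem exists_sendsP (hn : 9 ≤ Module.finrank F V ∨ NoFour Q) (β : MulAut (OQ K)) {p : V}
    (hp0 : p ≠ 0) (hp : Q p = 0) : ∃ q, SendsP K β p q := by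
  obtain ⟨q, hq0, hq, h⟩ := exists_star_image K hn β hp0 hp
  exact ⟨q, hp0, hq0, hp, hq, h⟩

theorem SendsP.symm {β : MulAut (OQ K)} {p q : V} (h : SendsP K β p q) : SendsP K β⁻¹ q p := by
  refine ⟨h.2.1, h.1, h.2.2.2.1, h.2.2.1, fun R => ?_⟩
  have h1 := h.2.2.2.2 (amap β⁻¹ R)
  rw [← amap_mul_apply K, mul_inv_cancel, amap_one K] at h1
  exact h1.symm

theorem SendsP.comp {β γ : MulAut (OQ K)} {p q r : V} (h : SendsP K β p q) (h' : SendsP K γ q r) :
    SendsP K (γ * β) p r :=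
  ⟨h.1, h'.2.1, h.2.2.1, h'.2.2.2.1, fun R => by
    rw [amap_mul_apply K, ← h'.2.2.2.2, h.2.2.2.2]⟩

theorem sendsP_conj (g : OG K) {p : V} (hp0 : p ≠ 0) (hp : Q p = 0) :
    SendsP K (MulAut.conj (toOQ K g)) p (g.1.1 p) := by
  refine ⟨hp0, fun h => hp0 (g.1.1.injective (h.trans (map_zero _).symm)), hp, (og_Q K g p).trans hp,
    fun R => ⟨?_, ?_⟩⟩
  · rintro ⟨c, hc, rfl⟩
    exact ⟨g.1.1 c, hc.map K g, amap_conj K hc g⟩
  · rintro ⟨d, hd, hR⟩
    obtain ⟨c, rfl⟩ := g.1.1.surjective d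
    have hc : TSL Q p c := ⟨hp, (og_Q K g c).symm.trans hd.hb, (og_polar K g p c).symm.trans hd.hab,
      LinearIndependent.pair_iff.2 fun s t hst => LinearIndependent.pair_iff.1 hd.hi s t (by
        rw [← map_smul, ← map_smul, ← map_add, hst, map_zero])⟩
    rw [← amap_conj K hc g] at hR
    exact ⟨c, hc, amap_injective _ hR⟩

theorem sendsP_one {p : V} (hp0 : p ≠ 0) (hp : Q p = 0) : SendsP K 1 p p :=
  ⟨hp0, hp0, hp, hp, fun R => by rw [amap_one K]⟩

theorem SendsP.line {β : MulAut (OQ K)} {p q q' : V} (h : SendsP K β p q) (h' : SendsP K β p q') :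
    ∃ s : F, s ≠ 0 ∧ q' = s • q := by
  obtain ⟨s, hs⟩ := point_of_star K (q' := q') h.2.1 h.2.2.2.1 fun c hc => by
    obtain ⟨R, hR⟩ : ∃ R, amap β R = rootGrp K q c := amap_surjective β _
    obtain ⟨d, hd, hRd⟩ := (h'.2.2.2.2 R).1 ((h.2.2.2.2 R).2 ⟨c, hc, hR⟩)
    exact (hc.mem_span_of_rootGrp_eq K hd (hRd.symm.trans hR)).1
  exact ⟨s, fun h0 => h'.2.1 (by rw [hs, h0, zero_smul]), hs⟩

theorem SendsP.smul_right {β : MulAut (OQ K)} {p q : V} (h : SendsP K β p q) {s : F} (hs : s ≠ 0) :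
    SendsP K β p (s • q) := by
  refine ⟨h.1, smul_ne_zero hs h.2.1, h.2.2.1, by rw [quad_smul, h.2.2.2.1, mul_zero], fun R => ?_⟩
  rw [h.2.2.2.2]
  have key : ∀ {x : V} {r : F}, r ≠ 0 → ∀ c, TSL Q x c →
      TSL Q (r • x) c ∧ rootGrp K (r • x) c = rootGrp K x c := by
    intro x r hr c hc
    have h1 : r • x ∈ Submodule.span F {x, c} := Submodule.smul_mem _ _ (Submodule.subset_span (by simp))
    have h2 : c ∈ Submodule.span F {x, c} := Submodule.subset_span (by simp)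
    have hT := TSL.of_span K hc h1 h2 (LinearIndependent.pair_iff.2 fun i j hij => by
      have := LinearIndependent.pair_iff.1 hc.hi (i * r) j (by rw [← hij]; module)
      exact ⟨(mul_eq_zero.1 this.1).resolve_right hr, this.2⟩)
    exact ⟨hT, hc.rootGrp_eq K hT h1 h2⟩
  constructor
  · rintro ⟨c, hc, hR⟩
    obtain ⟨h1, h2⟩ := key hs c hc
    exact ⟨c, h1, hR.trans h2.symm⟩
  · rintro ⟨c, hc, hR⟩
    obtain ⟨h1, h2⟩ := key (inv_ne_zero hs) c hc
    rw [inv_smul_smul₀ hs] at h1 h2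
    exact ⟨c, h1, hR.trans h2.symm⟩

theorem SendsP.smul_left {β : MulAut (OQ K)} {p q : V} (h : SendsP K β p q) {s : F} (hs : s ≠ 0) :
    SendsP K β (s • p) q := by
  simpa using (h.symm K).smul_right K hs |>.symm K

/-- The image of a line. -/
theorem SendsP.line_image {β : MulAut (OQ K)} {p q a b : V} (h : SendsP K β p q)
    (h' : SendsP K β a b) (hT : TSL Q p a) :
    TSL Q q b ∧ amap β (rootGrp K p a) = rootGrp K q b := by
  obtain ⟨c, hc, hce⟩ := (h.2.2.2.2 _).1 ⟨a, hT, rfl⟩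
  have hpm : p ∈ Submodule.span F {p, a} := Submodule.subset_span (by simp)
  have ham : a ∈ Submodule.span F {p, a} := Submodule.subset_span (by simp)
  have hT' : TSL Q a p := hT.symm
  obtain ⟨d, hd, hde⟩ := (h'.2.2.2.2 _).1 ⟨p, hT', (hT.rootGrp_eq K hT' ham hpm).symm⟩
  have hbm : b ∈ Submodule.span F {q, c} := (hc.mem_span_of_rootGrp_eq K hd (hde.symm.trans hce)).1
  have hqm : q ∈ Submodule.span F {q, c} := Submodule.subset_span (by simp)
  have hi : LinearIndependent F ![q, b] := by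
    refine (LinearIndependent.pair_iff' h.2.1).2 fun s hs => ?_
    have hs0 : s ≠ 0 := fun h0 => h'.2.1 (by rw [← hs, h0, zero_smul])
    obtain ⟨r, -, hr⟩ := SendsP.line K ((hs ▸ h'.symm K).smul_left K (inv_ne_zero hs0))
      (by rw [inv_smul_smul₀ hs0]; exact h.symm K)
    exact (LinearIndependent.pair_iff' hT.ne_zero.2).1 hT'.hi r hr.symm
  have hTq := TSL.of_span K hc hqm hbm hi
  exact ⟨hTq, hce.trans (hc.rootGrp_eq K hTq hqm hbm).symm⟩

theorem SendsP.perp_iff (hn : 9 ≤ Module.finrank F V ∨ NoFour Q) {β : MulAut (OQ K)} {p q a b : V}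
    (h : SendsP K β p q) (h' : SendsP K β a b) : polar Q p a = 0 ↔ polar Q q b = 0 := by
  have key : ∀ {γ : MulAut (OQ K)} {x y u v : V}, SendsP K γ x y → SendsP K γ u v →
      polar Q x u = 0 → polar Q y v = 0 := by
    intro γ x y u v hx hu hxu
    by_cases hi : LinearIndependent F ![x, u]
    · exact (hx.line_image K hu ⟨hx.2.2.1, hu.2.2.1, hxu, hi⟩).1.hab
    · rw [LinearIndependent.pair_iff' hx.1] at hi
      push Not at hi
      obtain ⟨s, hs⟩ := hi
      have hs0 : s ≠ 0 := fun h0 => hu.1 (by rw [← hs, h0, zero_smul])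
      obtain ⟨r, -, hr⟩ := SendsP.line K (hs ▸ hx.smul_left K hs0) hu
      rw [hr, QuadraticMap.polar_smul_right, polar_self_of_singular Q hx.2.2.2.1, smul_zero]
  exact ⟨key h h', key (h.symm K) (h'.symm K)⟩

/-- The point map is equivariant. -/
theorem SendsP.equivariant {β : MulAut (OQ K)} {p q : V} (h : SendsP K β p q) {g g' : OG K}
    (hg : β (toOQ K g) = toOQ K g') : SendsP K β (g.1.1 p) (g'.1.1 q) := by
  have h1 := (((sendsP_conj K g h.1 h.2.2.1).symm K).comp K h).comp K (sendsP_conj K g' h.2.1 h.2.2.2.1)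
  have he : MulAut.conj (toOQ K g') * (β * (MulAut.conj (toOQ K g))⁻¹) = β := by
    refine MulEquiv.ext fun x => ?_
    simp only [MulAut.mul_apply, MulAut.conj_inv_apply, map_mul, map_inv, hg, MulAut.conj_apply]
    group
  rwa [he] at h1

end CfsgLib.KnownC
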