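import Mathlib
import Cfsg.Agent.Lib.KnownC.AutPOmegaPoints

set_option autoImplicit false
set_option linter.unusedSectionVars false
set_option linter.style.haveILetI false

/-!
An automorphism of `PΩ(Q)` fixing two opposite points acts on the radical of a point stabiliser as a
semisimilitude; consequently every automorphism is induced by a semisimilitude.
-/

namespace CfsgLib.KnownC

open CfsgLib.Geom CfsgLib.Classical
open QuadraticMap (polar)

variable {F V : Type*} [Field F] [AddCommGroup V] [Module F V] [FiniteDimensional F V] [Finite F]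
variable {Q : QuadraticForm F V}

/-- In the presence of a hyperbolic pair every vector is a sum of singular ones. -/
theorem OHyp.singular_induction {e f : V} (h : OHyp Q e f) {P : V → Prop}
    (hadd : ∀ u v, P u → P v → P (u + v)) (hs : ∀ u, Q u = 0 → P u) (v : V) : P v := by
  have hW : ∀ u ∈ operp Q e f, P u := by
    intro u hu
    obtain ⟨he, hf⟩ := (mem_operp Q).1 hu
    have h1 : Q (u + e + (-Q u) • f) = 0 := by
      rw [quad_map_add_smul, QuadraticMap.polar_add_left, QuadraticMap.map_add (Q : QuadraticMap F V F),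
        h.he, h.hf, QuadraticMap.polar_comm _ u e, QuadraticMap.polar_comm _ u f, he, hf, h.hef]
      ring
    rw [show u = u + e + (-Q u) • f + (Q u • f + (-1 : F) • e) by module]
    exact hadd _ _ (hs _ h1) (hadd _ _ (hs _ (by rw [quad_smul, h.hf, mul_zero]))
      (hs _ (by rw [quad_smul, h.he, mul_zero])))
  rw [h.decomp v]
  exact hadd _ _ (hadd _ _ (hs _ (by rw [quad_smul, h.he, mul_zero]))
    (hs _ (by rw [quad_smul, h.hf, mul_zero]))) (hW _ (h.proj_mem v))

variable (K : OCtx Q)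

/-- `β` fixes the points of a hyperbolic pair. -/
structure OFix (β : MulAut (OQ K)) (e f : V) : Prop where
  hyp : OHyp Q e f
  he : SendsP K β e e
  hf : SendsP K β f f

/-- The action of `β` on the radical of the stabiliser of `e`, transported to `⟨e, f⟩^⊥`. -/
structure OTheta (β : MulAut (OQ K)) (e f : V) (θ : operp Q e f → operp Q e f) : Prop where
  spec : ∀ w : operp Q e f, β (toOQ K (siegelO K e (w : V))) = toOQ K (siegelO K e (θ w : V))
  bij : Function.Bijective θ
  add : ∀ u v, θ (u + v) = θ u + θ v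

include K

theorem exists_pair_of_perp {e f : V} (hH : OHyp Q e f) :
    ∃ a b : operp Q e f, OHyp (operpForm Q e f) a b := by
  obtain ⟨u, hu0, hu, -, -, huQ⟩ := exists_singular_perp4 K hH 0 0
  obtain ⟨v, hv⟩ := exists_hyp (Q := operpForm Q e f) (hH.sep_perp K.sep)
    (x := ⟨u, hu⟩) (fun h0 => hu0 (congrArg Subtype.val h0)) huQ
  exact ⟨_, v, hv⟩

theorem perp_ok {e f : V} (w : operp Q e f) : polar Q e (w : V) = 0 := ((mem_operp Q).1 w.2).1

theorem siegel_perp_inj {e f : V} (hH : OHyp Q e f) {w w' : operp Q e f}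
    (h : toOQ K (siegelO K e (w : V)) = toOQ K (siegelO K e (w' : V))) : w = w' := by
  have hfix : ∀ x : operp Q e f, (siegelO K e (x : V)).1.1 e = e := fun x => by
    rw [siegelO_apply K hH.he (perp_ok K x), polar_self_of_singular Q hH.he,
      QuadraticMap.polar_comm _ (x : V) e, perp_ok K x]
    simp
  have h1 := congrArg (fun g : OG K => g.1.1 f) (toOQ_inj_of_fix K h hH.ne_zero.1 (hfix w) (hfix w'))
  simp only [siegelO_apply K hH.he (perp_ok K w), siegelO_apply K hH.he (perp_ok K w'), hH.hef, one_smul,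
    mul_one, QuadraticMap.polar_comm _ (w : V) f, QuadraticMap.polar_comm _ (w' : V) f,
    ((mem_operp Q).1 w.2).2, ((mem_operp Q).1 w'.2).2, zero_add] at h1
  refine sub_eq_zero.1 (hH.sep_perp K.sep _ fun y => ?_)
  have h2 := congrArg (polar Q (y : V)) h1
  have hye : polar Q (y : V) e = 0 := by rw [QuadraticMap.polar_comm]; exact perp_ok K y
  simp only [QuadraticMap.polar_sub_right, QuadraticMap.polar_add_right, QuadraticMap.polar_smul_right,
    hye, smul_zero, sub_zero, add_right_inj] at h2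
  rw [operpForm_polar]
  show polar Q ((w : V) - (w' : V)) (y : V) = 0
  rw [QuadraticMap.polar_sub_left, QuadraticMap.polar_comm _ (w : V), QuadraticMap.polar_comm _ (w' : V),
    h2, sub_self]

theorem exists_theta {β : MulAut (OQ K)} {e f : V} (h : OFix K β e f) :
    ∃ θ, OTheta K β e f θ := by
  have key : ∀ {γ : MulAut (OQ K)}, OFix K γ e f → ∀ w : operp Q e f,
      ∃ w' : operp Q e f, γ (toOQ K (siegelO K e (w : V))) = toOQ K (siegelO K e (w' : V)) := by
    intro γ hγ w
    obtain ⟨a, b, hab⟩ := exists_pair_of_perp K hγ.hyp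
    refine hab.singular_induction (P := fun w : operp Q e f => ∃ w' : operp Q e f,
      γ (toOQ K (siegelO K e (w : V))) = toOQ K (siegelO K e (w' : V))) (fun u v hu hv => ?_) (fun u hu => ?_) w
    · obtain ⟨u', hu'⟩ := hu
      obtain ⟨v', hv'⟩ := hv
      refine ⟨u' + v', ?_⟩
      rw [Submodule.coe_add, siegelO_add K hγ.hyp.he (perp_ok K u) (perp_ok K v), map_mul, map_mul, hu',
        hv', ← map_mul, ← siegelO_add K hγ.hyp.he (perp_ok K u') (perp_ok K v'), Submodule.coe_add]
    · by_cases hu0 : u = 0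
      · exact ⟨0, by subst hu0; simp [siegelO_zero]⟩
      have hT := exists_singular_of_tsl K hγ.hyp u.2 (fun h0 => hu0 (Subtype.ext h0)) hu
      obtain ⟨c, hc, hce⟩ := (hγ.he.2.2.2.2 _).1 ⟨_, hT, rfl⟩
      obtain ⟨t, ht⟩ := (hc.mem_rootGrp K).1 (show γ (rootO K e (u : V) 1) ∈ rootGrp K e c from
        hce ▸ ⟨_, rootO_mem K e _ 1, rfl⟩)
      obtain ⟨c', hc'⟩ : ∃ c', c' = c + (-polar Q f c) • e := ⟨_, rfl⟩
      have hc'W : c' ∈ operp Q e f := by
        rw [mem_operp, hc']
        simp [QuadraticMap.polar_add_right, QuadraticMap.polar_smul_right,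
          polar_self_of_singular Q hγ.hyp.he, hc.hab, hγ.hyp.fe]
      refine ⟨t • ⟨c', hc'W⟩, ?_⟩
      rw [show siegelO K e (u : V) = siegelO K e ((1 : F) • (u : V)) by rw [one_smul],
        show toOQ K (siegelO K e ((1 : F) • (u : V))) = rootO K e (u : V) 1 from rfl, ht]
      refine congrArg (toOQ K) (og_ext K fun v => ?_)
      show _ = (siegelO K e (t • c')).1.1 v
      have hTc : TSL Q e c' := TSL.of_span K hc (Submodule.subset_span (by simp))
        (Submodule.mem_span_pair.2 ⟨-polar Q f c, 1, by rw [hc']; module⟩)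
        (LinearIndependent.pair_iff.2 fun i j hij => by
          have := LinearIndependent.pair_iff.1 hc.hi (i + j * (-polar Q f c)) j
            (by rw [hc'] at hij; rw [← hij]; module)
          exact ⟨by simpa [this.2] using this.1, this.2⟩)
      rw [hc.siegel_apply K, hTc.siegel_apply K, hc', QuadraticMap.polar_add_left,
        QuadraticMap.polar_smul_left, smul_eq_mul]
      module
  choose θ hθ using key h
  refine ⟨θ, hθ, ⟨fun u v huv => siegel_perp_inj K h.hyp (β.injective (by rw [hθ, hθ, huv])),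
    fun w => ?_⟩, fun u v => siegel_perp_inj K h.hyp ?_⟩
  · obtain ⟨w', hw'⟩ := key (γ := β⁻¹) ⟨h.hyp, h.he.symm K, h.hf.symm K⟩ w
    refine ⟨w', siegel_perp_inj K h.hyp ?_⟩
    rw [← hθ, ← hw', MulAut.apply_inv_self]
  · rw [← hθ, Submodule.coe_add, siegelO_add K h.hyp.he (perp_ok K u) (perp_ok K v), map_mul, map_mul, hθ,
      hθ, ← map_mul, ← siegelO_add K h.hyp.he (perp_ok K _) (perp_ok K _), Submodule.coe_add]

theorem OTheta.map_zero {β : MulAut (OQ K)} {e f : V} {θ : operp Q e f → operp Q e f}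
    (hθ : OTheta K β e f θ) : θ 0 = 0 := by
  have := hθ.add 0 0
  rwa [add_zero, right_eq_add] at this

theorem OTheta.line {β : MulAut (OQ K)} {e f : V} (h : OFix K β e f)
    {θ : operp Q e f → operp Q e f} (hθ : OTheta K β e f θ) {w : operp Q e f} (hw0 : w ≠ 0)
    (hw : operpForm Q e f w = 0) :
    θ w ≠ 0 ∧ operpForm Q e f (θ w) = 0 ∧
      (∀ t : F, ∃ s : F, θ (t • w) = s • θ w) ∧ ∀ s : F, ∃ t : F, θ (t • w) = s • θ w := by
  have hθw : θ w ≠ 0 := fun h0 => hw0 (hθ.bij.1 (h0.trans (hθ.map_zero K).symm))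
  have hwV : (w : V) ≠ 0 := fun h0 => hw0 (Subtype.ext h0)
  have hT := exists_singular_of_tsl K h.hyp w.2 hwV hw
  obtain ⟨c, hc, hce⟩ := (h.he.2.2.2.2 _).1 ⟨_, hT, rfl⟩
  obtain ⟨d, hd⟩ : ∃ d, d = c + (-polar Q f c) • e := ⟨_, rfl⟩
  have hdW : d ∈ operp Q e f := by
    rw [mem_operp, hd]
    simp [QuadraticMap.polar_add_right, QuadraticMap.polar_smul_right,
      polar_self_of_singular Q h.hyp.he, hc.hab, h.hyp.fe]
  have hdm : d ∈ Submodule.span F {e, c} := Submodule.mem_span_pair.2 ⟨-polar Q f c, 1, by rw [hd]; module⟩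
  have hem : e ∈ Submodule.span F {e, c} := Submodule.subset_span (by simp)
  have hTd : TSL Q e d := TSL.of_span K hc hem hdm
    (LinearIndependent.pair_iff.2 fun i j hij => by
      have := LinearIndependent.pair_iff.1 hc.hi (i + j * (-polar Q f c)) j
        (by rw [hd] at hij; rw [← hij]; module)
      exact ⟨by simpa [this.2] using this.1, this.2⟩)
  rw [← hc.rootGrp_eq K hTd hem hdm] at hce
  have hmem : ∀ t : F, ∃ s : F, θ (t • w) = s • ⟨d, hdW⟩ := by
    intro t
    obtain ⟨s, hs⟩ := (hTd.mem_rootGrp K).1 (show β (rootO K e (w : V) t) ∈ rootGrp K e d from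
      hce ▸ ⟨_, rootO_mem K e _ t, rfl⟩)
    exact ⟨s, siegel_perp_inj K h.hyp (((hθ.spec (t • w)).symm.trans hs))⟩
  have hsurj : ∀ s : F, ∃ t : F, θ (t • w) = s • ⟨d, hdW⟩ := by
    intro s
    obtain ⟨x, hx, hxe⟩ : rootO K e d s ∈ amap β (rootGrp K e (w : V)) := hce ▸ rootO_mem K e d s
    obtain ⟨t, rfl⟩ := (hT.mem_rootGrp K).1 hx
    exact ⟨t, siegel_perp_inj K h.hyp (((hθ.spec (t • w)).symm.trans hxe))⟩
  obtain ⟨u, hu⟩ := hmem 1
  rw [one_smul] at hu
  have hu0 : u ≠ 0 := fun h0 => hθw (by rw [hu, h0, zero_smul])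
  refine ⟨hθw, ?_, fun t => ?_, fun s => ?_⟩
  · rw [hu, quad_smul, show operpForm Q e f ⟨d, hdW⟩ = 0 from hTd.hb, mul_zero]
  · obtain ⟨s, hs⟩ := hmem t
    exact ⟨s / u, by rw [hs, hu, smul_smul, div_mul_cancel₀ _ hu0]⟩
  · obtain ⟨t, ht⟩ := hsurj (s * u)
    exact ⟨t, by rw [ht, hu, smul_smul]⟩

/-- `θ` is semilinear. -/
theorem OTheta.exists_semilinear {β : MulAut (OQ K)} {e f : V} (h : OFix K β e f)
    {θ : operp Q e f → operp Q e f} (hθ : OTheta K β e f θ) :
    ∃ μ : F ≃+* F, ∀ (t : F) (w : operp Q e f), θ (t • w) = μ t • θ w := by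
  have hsep := h.hyp.sep_perp K.sep
  have h5 : 5 ≤ Module.finrank F (operp Q e f) := by
    have := finrank_operp (Q := Q) e f; have := K.seven; omega
  have hsub : ∀ u v, θ (u - v) = θ u - θ v := fun u v => by
    rw [eq_sub_iff_add_eq, ← hθ.add, sub_add_cancel]
  -- orthogonal independent singular vectors share their scalar map
  have step : ∀ {w w' : operp Q e f}, operpForm Q e f w = 0 → operpForm Q e f w' = 0 →
      polar (operpForm Q e f) w w' = 0 → LinearIndependent F ![w, w'] →
      ∀ t r r' : F, θ (t • w) = r • θ w → θ (t • w') = r' • θ w' → r = r' := by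
    intro w w' hw hw' hww hi t r r' hr hr'
    have hs : operpForm Q e f (w + w') = 0 := by
      rw [QuadraticMap.map_add (operpForm Q e f : QuadraticMap F _ F), hw, hw', hww]; simp
    have hne : w + w' ≠ 0 := fun h0 => one_ne_zero
      (LinearIndependent.pair_iff.1 hi 1 1 (by rw [one_smul, one_smul]; exact h0)).1
    obtain ⟨-, -, h3, -⟩ := hθ.line K h hne hs
    obtain ⟨hθw, -, -, hsw⟩ := hθ.line K h (hi.ne_zero 0) hw
    obtain ⟨q, hq⟩ := h3 t
    rw [smul_add, hθ.add, hθ.add, hr, hr'] at hq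
    have hind : LinearIndependent F ![θ w, θ w'] := by
      refine (LinearIndependent.pair_iff' hθw).2 fun s hs' => ?_
      obtain ⟨t', ht'⟩ := hsw s
      exact (LinearIndependent.pair_iff' (hi.ne_zero 0)).1 hi t' (hθ.bij.1 (ht'.trans hs'))
    have := LinearIndependent.pair_iff.1 hind (r - q) (r' - q)
      (by linear_combination (norm := module) hq)
    rw [sub_eq_zero, sub_eq_zero] at this
    rw [this.1, this.2]
  have share : ∀ {w w' : operp Q e f}, w ≠ 0 → w' ≠ 0 → operpForm Q e f w = 0 →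
      operpForm Q e f w' = 0 →
      ∀ t r r' : F, θ (t • w) = r • θ w → θ (t • w') = r' • θ w' → r = r' := by
    intro w w' hw0 hw'0 hw hw' t r r' hr hr'
    have via : ∀ u, operpForm Q e f u = 0 → u ≠ 0 → polar (operpForm Q e f) w u = 0 →
        polar (operpForm Q e f) w' u = 0 → LinearIndependent F ![u, w] → LinearIndependent F ![u, w'] →
        r = r' := by
      intro u hu hu0 h1 h2 i1 i2
      obtain ⟨-, -, h3, -⟩ := hθ.line K h hu0 hu
      obtain ⟨q, hq⟩ := h3 t
      exact (step hu hw (by rw [QuadraticMap.polar_comm]; exact h1) i1 t q r hq hr).symm.trans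
        (step hu hw' (by rw [QuadraticMap.polar_comm]; exact h2) i2 t q r' hq hr')
    by_cases hp : polar (operpForm Q e f) w w' = 0
    · by_cases hi : LinearIndependent F ![w, w']
      · exact step hw hw' hp hi t r r' hr hr'
      · rw [LinearIndependent.pair_iff' hw0] at hi
        push Not at hi
        obtain ⟨s, rfl⟩ := hi
        have hs : s ≠ 0 := fun h0 => hw'0 (by rw [h0, zero_smul])
        obtain ⟨y, hy⟩ := exists_hyp hsep hw0 hw
        obtain ⟨u, hu, hu0, hwu, -, hind⟩ := exists_singular_perp_indep _ hsep h5 hw0 y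
        obtain ⟨i1, -⟩ := hind (by rw [hy.hef]; exact one_ne_zero)
        refine via u hu hu0 hwu (by rw [QuadraticMap.polar_smul_left, hwu, smul_zero]) i1 ?_
        refine LinearIndependent.pair_iff.2 fun i j hij => ?_
        have := LinearIndependent.pair_iff.1 i1 i (j * s) (by rw [← hij]; module)
        exact ⟨this.1, (mul_eq_zero.1 this.2).resolve_right hs⟩
    · obtain ⟨u, hu, hu0, hwu, hw'u, hind⟩ := exists_singular_perp_indep _ hsep h5 hw0 w'
      exact via u hu hu0 hwu hw'u (hind hp).1 (hind hp).2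
  obtain ⟨a, b, hab⟩ := exists_pair_of_perp K h.hyp
  obtain ⟨hθa, -, hta, hsa⟩ := hθ.line K h hab.ne_zero.1 hab.he
  choose μ hμ using hta
  have hlin : ∀ (t : F) (w : operp Q e f), θ (t • w) = μ t • θ w := by
    intro t w
    refine hab.singular_induction (P := fun w : operp Q e f => θ (t • w) = μ t • θ w)
      (fun u v hu hv => ?_) (fun u hu => ?_) w
    · rw [smul_add, hθ.add, hθ.add, hu, hv, smul_add]
    · by_cases hu0 : u = 0
      · rw [hu0, smul_zero, hθ.map_zero K, smul_zero]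
      obtain ⟨-, -, htu, -⟩ := hθ.line K h hu0 hu
      obtain ⟨r, hr⟩ := htu t
      rw [hr, share hu0 hab.ne_zero.1 hu hab.he t r (μ t) hr (hμ t)]
  have hadd : ∀ s t, μ (s + t) = μ s + μ t := fun s t => smul_left_injective F hθa (by
    show μ (s + t) • θ a = (μ s + μ t) • θ a
    rw [add_smul, ← hμ, ← hμ, ← hμ, add_smul, hθ.add])
  have hmul : ∀ s t, μ (s * t) = μ s * μ t := fun s t => smul_left_injective F hθa (by
    show μ (s * t) • θ a = (μ s * μ t) • θ a
    rw [mul_smul, ← hμ, ← hμ, ← hlin, mul_smul])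
  have hinj : Function.Injective μ := fun s t hst => by
    have h1 : θ (s • a) = θ (t • a) := by rw [hμ, hμ, hst]
    exact smul_left_injective F hab.ne_zero.1 (hθ.bij.1 h1)
  have hsurj : Function.Surjective μ := fun s => by
    obtain ⟨t, ht⟩ := hsa s
    exact ⟨t, smul_left_injective F hθa ((hμ t).symm.trans ht)⟩
  exact ⟨{ Equiv.ofBijective μ ⟨hinj, hsurj⟩ with map_mul' := hmul, map_add' := hadd }, hlin⟩

/-- `θ` is a semisimilitude. -/
theorem OTheta.exists_multiplier {β : MulAut (OQ K)} {e f : V} (h : OFix K β e f)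
    {θ : operp Q e f → operp Q e f} (hθ : OTheta K β e f θ) {μ : F ≃+* F}
    (hμ : ∀ (t : F) (w : operp Q e f), θ (t • w) = μ t • θ w) :
    ∃ c : F, c ≠ 0 ∧ ∀ w, operpForm Q e f (θ w) = c * μ (operpForm Q e f w) := by
  have hsep := h.hyp.sep_perp K.sep
  obtain ⟨R, hR⟩ : ∃ R, R = operpForm Q e f := ⟨_, rfl⟩
  rw [← hR] at hsep ⊢
  have sing : ∀ w, R w = 0 → R (θ w) = 0 := by
    intro w hw
    by_cases hw0 : w = 0
    · rw [hw0, hθ.map_zero K, QuadraticMap.map_zero]
    · subst hR; exact (hθ.line K h hw0 hw).2.1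
  obtain ⟨a, b, hab⟩ := exists_pair_of_perp K h.hyp
  rw [← hR] at hab
  obtain ⟨c, hc⟩ : ∃ c, c = polar R (θ a) (θ b) := ⟨_, rfl⟩
  obtain ⟨a', b', hab'⟩ : ∃ a' b' : operp R a b, OHyp (operpForm R a b) a' b' := by
    have h5 : 5 ≤ Module.finrank F (operp Q e f) := by
      have := finrank_operp (Q := Q) e f; have := K.seven; omega
    obtain ⟨u, hu0, hau, hbu, hu⟩ := exists_perp_singular R hsep h5 a b
    obtain ⟨v, hv⟩ := exists_hyp (hab.sep_perp hsep) (x := ⟨u, (mem_operp R).2 ⟨hau, hbu⟩⟩)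
      (fun h0 => hu0 (congrArg Subtype.val h0)) hu
    exact ⟨_, v, hv⟩
  have hperp : ∀ u : operp R a b,
      polar R (θ a) (θ u) = 0 ∧ polar R (θ b) (θ u) = 0 := by
    intro u
    refine hab'.singular_induction (P := fun u : operp R a b =>
      polar R (θ a) (θ u) = 0 ∧ polar R (θ b) (θ u) = 0) (fun x y hx hy => ?_) (fun x hx => ?_) u
    · rw [Submodule.coe_add, hθ.add, QuadraticMap.polar_add_right, QuadraticMap.polar_add_right,
        hx.1, hx.2, hy.1, hy.2]
      simp
    · obtain ⟨hax, hbx⟩ := (mem_operp R).1 x.2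
      have key : ∀ z, R z = 0 → polar R z (x : operp Q e f) = 0 → polar R (θ z) (θ x) = 0 := by
        intro z hz hzx
        have h1 : R (z + x) = 0 := by
          rw [QuadraticMap.map_add (R : QuadraticMap F _ F), hz, hzx,
            show R (x : operp Q e f) = 0 from hx]; simp
        have h2 := sing _ h1
        rw [hθ.add, QuadraticMap.map_add (R : QuadraticMap F _ F), sing _ hz, sing (x : operp Q e f) hx] at h2
        simpa using h2
      exact ⟨key a hab.he hax, key b hab.hf hbx⟩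
  have hneg : ∀ u : operp R a b, R (θ u) = c * μ (R u) := by
    intro u
    obtain ⟨hau, hbu⟩ := (mem_operp R).1 u.2
    obtain ⟨s, hs⟩ : ∃ s, s = -R (u : operp Q e f) := ⟨_, rfl⟩
    have h1 : R ((u : operp Q e f) + a + s • b) = 0 := by
      rw [quad_map_add_smul, QuadraticMap.polar_add_left, QuadraticMap.map_add (R : QuadraticMap F _ F),
        hab.he, hab.hf, QuadraticMap.polar_comm _ (u : operp Q e f) a,
        QuadraticMap.polar_comm _ (u : operp Q e f) b, hau, hbu, hab.hef, hs]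
      ring
    have h2 := sing _ h1
    obtain ⟨k1, k2⟩ := hperp u
    rw [hθ.add, hθ.add, hμ, quad_map_add_smul, QuadraticMap.polar_add_left,
      QuadraticMap.map_add (R : QuadraticMap F _ F), sing _ hab.he, sing _ hab.hf,
      QuadraticMap.polar_comm _ (θ u) (θ a), QuadraticMap.polar_comm _ (θ u) (θ b), k1, k2, ← hc, hs,
      map_neg] at h2
    linear_combination h2
  have hall : ∀ w, R (θ w) = c * μ (R w) := by
    intro w
    obtain ⟨u, hu⟩ : ∃ u : operp R a b, (u : operp Q e f) = w - polar R b w • a - polar R a w • b :=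
      ⟨⟨_, hab.proj_mem w⟩, rfl⟩
    obtain ⟨hau, hbu⟩ := (mem_operp R).1 u.2
    obtain ⟨k1, k2⟩ := hperp u
    have hw : w = (u : operp Q e f) + polar R b w • a + polar R a w • b := by rw [hu]; abel
    generalize polar R b w = s at hw
    generalize polar R a w = t at hw
    subst hw
    rw [hθ.add, hθ.add, hμ, hμ, quad_map_add_smul, quad_map_add_smul, quad_map_add_smul,
      quad_map_add_smul, QuadraticMap.polar_add_left, QuadraticMap.polar_add_left,
      QuadraticMap.polar_smul_left, QuadraticMap.polar_smul_left, sing _ hab.he, sing _ hab.hf, hab.he,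
      hab.hf, hneg, QuadraticMap.polar_comm _ (θ u) (θ a), QuadraticMap.polar_comm _ (θ u) (θ b), k1, k2,
      QuadraticMap.polar_comm _ (u : operp Q e f) a, QuadraticMap.polar_comm _ (u : operp Q e f) b, hau,
      hbu, ← hc, hab.hef]
    simp only [smul_eq_mul, mul_one, map_add, map_mul, mul_zero, add_zero, zero_add, map_zero]
    ring
  refine ⟨c, fun hc0 => ?_, hall⟩
  have hz : ∀ v, R v = 0 := fun v => by
    obtain ⟨w, rfl⟩ := hθ.bij.2 v
    rw [hall, hc0, zero_mul]
  have h1 := hab.hef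
  simp only [QuadraticMap.polar, hz, sub_self] at h1
  exact zero_ne_one h1

theorem exists_osim_of_fix {β : MulAut (OQ K)} {e f : V} (h : OFix K β e f) :
    ∃ Φ : OSim Q, SendsP K (osimAut K Φ) e e ∧ SendsP K (osimAut K Φ) f f ∧
      ∀ w, polar Q e w = 0 → osimAut K Φ (toOQ K (siegelO K e w)) = β (toOQ K (siegelO K e w)) := by
  obtain ⟨θ, hθ⟩ := exists_theta K h
  obtain ⟨μ, hμ⟩ := hθ.exists_semilinear K h
  obtain ⟨c, hc, hq⟩ := hθ.exists_multiplier K h hμ
  haveI : Finite V := Module.finite_of_finite F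
  obtain ⟨pr, hpr⟩ : ∃ pr : V →ₗ[F] operp Q e f,
      ∀ v, (pr v : V) = v - polar Q f v • e - polar Q e v • f :=
    ⟨LinearMap.codRestrict _ (LinearMap.id - (QuadraticMap.polarBilin Q f).smulRight e -
      (QuadraticMap.polarBilin Q e).smulRight f) fun v => by
        simpa using h.hyp.proj_mem v, fun v => by simp⟩
  obtain ⟨T, hT⟩ : ∃ T : V → V, ∀ v, T v =
      (c * μ (polar Q f v)) • e + μ (polar Q e v) • f + (θ (pr v) : V) := ⟨_, fun v => rfl⟩
  have hadd : ∀ u v, T (u + v) = T u + T v := fun u v => by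
    rw [hT, hT, hT, map_add, hθ.add, Submodule.coe_add, QuadraticMap.polar_add_right,
      QuadraticMap.polar_add_right, map_add, map_add]
    module
  have hsmul : ∀ (a : F) (v : V), T (a • v) = μ a • T v := fun a v => by
    rw [hT, hT, map_smul, hμ, Submodule.coe_smul, QuadraticMap.polar_smul_right,
      QuadraticMap.polar_smul_right, smul_eq_mul, smul_eq_mul, map_mul, map_mul]
    module
  have quadOf : ∀ (x y : F) (w : operp Q e f),
      Q (x • e + y • f + (w : V)) = x * y + operpForm Q e f w := by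
    intro x y w
    obtain ⟨he, hf⟩ := (mem_operp Q).1 w.2
    rw [QuadraticMap.map_add (Q : QuadraticMap F V F), quad_map_add_smul, quad_smul, h.hyp.he, h.hyp.hf,
      QuadraticMap.polar_add_left, QuadraticMap.polar_smul_left, QuadraticMap.polar_smul_left,
      QuadraticMap.polar_smul_left, he, hf, h.hyp.hef]
    simp only [QuadraticMap.comp_apply, Submodule.subtype_apply, smul_eq_mul]
    ring
  have hquad : ∀ v, Q (T v) = c * μ (Q v) := fun v => by
    have hv : v = polar Q f v • e + polar Q e v • f + (pr v : V) := by rw [hpr]; abel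
    conv_rhs => rw [hv, quadOf, map_add, map_mul]
    rw [hT, quadOf, hq]
    ring
  let T₀ : V →+ V := AddMonoidHom.mk' T hadd
  have hpol : ∀ u v, polar Q (T u) (T v) = c * μ (polar Q u v) := fun u v => by
    simp only [QuadraticMap.polar, ← hadd, hquad, map_sub]; ring
  have hinj : Function.Injective T₀ := (injective_iff_map_eq_zero T₀).2 fun v hv => K.sep _ fun y => by
    have h1 := hpol v y
    rw [show T v = 0 from hv, QuadraticMap.polar_zero_left, eq_comm, mul_eq_zero] at h1
    exact μ.injective ((h1.resolve_left hc).trans (map_zero μ).symm)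
  obtain ⟨Φ, hΦ⟩ : ∃ Φ : OSim Q, Φ.c = c ∧ ∀ v, Φ.T v = T v :=
    ⟨⟨μ, c, AddEquiv.ofBijective T₀ ⟨hinj, Finite.surjective_of_injective hinj⟩, hc, hsmul, hquad⟩,
      rfl, fun v => rfl⟩
  have hTe : Φ.T e = c • e := by
    rw [hΦ.2, hT, polar_self_of_singular Q h.hyp.he, h.hyp.fe,
      show pr e = 0 from Subtype.ext (by simp [hpr, polar_self_of_singular Q h.hyp.he, h.hyp.fe]),
      hθ.map_zero K]
    simp
  have hTf : Φ.T f = f := by
    rw [hΦ.2, hT, polar_self_of_singular Q h.hyp.hf, h.hyp.hef,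
      show pr f = 0 from Subtype.ext (by simp [hpr, polar_self_of_singular Q h.hyp.hf, h.hyp.hef]),
      hθ.map_zero K]
    simp
  have himg : ∀ {x w : V}, TSL Q x w → amap (osimAut K Φ) (rootGrp K x w) =
      rootGrp K (Φ.T x) (Φ.T w) ∧ TSL Q (Φ.T x) (Φ.T w) := by
    intro x w hxw
    have hT' : TSL Q (Φ.T x) (Φ.T w) := ⟨by rw [Φ.quad, hxw.ha, map_zero, mul_zero],
      by rw [Φ.quad, hxw.hb, map_zero, mul_zero], by rw [Φ.polar_map, hxw.hab, map_zero, mul_zero],
      LinearIndependent.pair_iff.2 fun s t hst => by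
        have := LinearIndependent.pair_iff.1 hxw.hi (Φ.σ.symm s) (Φ.σ.symm t) (Φ.T.injective (by
          rw [map_add, Φ.smul, Φ.smul, Φ.σ.apply_symm_apply, Φ.σ.apply_symm_apply, hst, map_zero]))
        exact ⟨by simpa using congrArg Φ.σ this.1, by simpa using congrArg Φ.σ this.2⟩⟩
    have key : ∀ t, osimAut K Φ (rootO K x w t) = rootO K (Φ.T x) (Φ.T w) (Φ.c⁻¹ * Φ.σ t) := fun t => by
      rw [rootO, osimAut_mk, osimAut_siegel K Φ hxw.ha (hxw.smul_ok t), Φ.smul, smul_smul, rootO]
    refine ⟨Subgroup.ext fun y => ⟨?_, fun hy => ?_⟩, hT'⟩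
    · rintro ⟨z, hz, rfl⟩
      obtain ⟨t, rfl⟩ := (hxw.mem_rootGrp K).1 hz
      exact (key t).symm ▸ rootO_mem K _ _ _
    · obtain ⟨t, rfl⟩ := (hT'.mem_rootGrp K).1 hy
      refine ⟨_, rootO_mem K x w (Φ.σ.symm (Φ.c * t)), (key _).trans ?_⟩
      rw [Φ.σ.apply_symm_apply, inv_mul_cancel_left₀ Φ.c_ne]
  have hsends : ∀ {x : V}, x ≠ 0 → Q x = 0 → SendsP K (osimAut K Φ) x (Φ.T x) := by
    intro x hx0 hx
    refine ⟨hx0, fun h0 => hx0 (Φ.T.injective (h0.trans (map_zero Φ.T).symm)), hx,
      by rw [Φ.quad, hx, map_zero, mul_zero], fun R => ⟨?_, ?_⟩⟩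
    · rintro ⟨w, hw, rfl⟩
      exact ⟨_, (himg hw).2, (himg hw).1⟩
    · rintro ⟨w', hw', hR⟩
      obtain ⟨w, rfl⟩ := Φ.T.surjective w'
      have hw : TSL Q x w := ⟨hx,
        by have := hw'.hb; rwa [Φ.quad, mul_eq_zero, or_iff_right Φ.c_ne, map_eq_zero] at this,
        by have := hw'.hab; rwa [Φ.polar_map, mul_eq_zero, or_iff_right Φ.c_ne, map_eq_zero] at this,
        LinearIndependent.pair_iff.2 fun s t hst => by
          have := LinearIndependent.pair_iff.1 hw'.hi (Φ.σ s) (Φ.σ t)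
            (by rw [← Φ.smul, ← Φ.smul, ← map_add, hst, map_zero])
          exact ⟨(map_eq_zero _).1 this.1, (map_eq_zero _).1 this.2⟩⟩
      exact ⟨w, hw, amap_injective _ (hR.trans (himg hw).1.symm)⟩
  refine ⟨Φ, ?_, ?_, fun v hv => ?_⟩
  · have h1 := (hsends h.hyp.ne_zero.1 h.hyp.he).smul_right K (inv_ne_zero hc)
    rwa [hTe, inv_smul_smul₀ hc] at h1
  · simpa [hTf] using hsends h.hyp.ne_zero.2 h.hyp.hf
  · have hw : (pr v : V) = v - polar Q f v • e := by rw [hpr, hv, zero_smul, sub_zero]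
    have hsplit : toOQ K (siegelO K e v) = toOQ K (siegelO K e (pr v : V)) := by
      refine congrArg (toOQ K) (og_ext K fun z => ?_)
      rw [siegelO_apply K h.hyp.he hv, siegelO_apply K h.hyp.he (perp_ok K (pr v)), hw,
        show v - polar Q f v • e = v + (-polar Q f v) • e by module, QuadraticMap.polar_add_left,
        quad_map_add_smul,
        QuadraticMap.polar_smul_left, h.hyp.he, QuadraticMap.polar_comm _ v e, hv, smul_eq_mul]
      module
    rw [hsplit, hθ.spec, osimAut_mk, osimAut_siegel K Φ h.hyp.he (perp_ok K _), hTe, hΦ.1]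
    have hpr' : pr (pr v : V) = pr v := Subtype.ext (by
      rw [hpr, ((mem_operp Q).1 (pr v).2).1, ((mem_operp Q).1 (pr v).2).2]; simp)
    rw [hΦ.2, hT, ((mem_operp Q).1 (pr v).2).1, ((mem_operp Q).1 (pr v).2).2, hpr', map_zero, mul_zero,
      zero_smul, zero_smul, zero_add, zero_add,
      siegelO_smul K h.hyp.he (by rw [QuadraticMap.polar_smul_right, perp_ok K, smul_zero]),
      smul_inv_smul₀ hc]

/-- An automorphism fixing the points of a hyperbolic pair and centralising the radical at the first is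
trivial. -/
theorem eq_one_of_fix (hn : 9 ≤ Module.finrank F V ∨ NoFour Q) {γ : MulAut (OQ K)} {e f : V}
    (h : OFix K γ e f)
    (hU : ∀ w, polar Q e w = 0 → γ (toOQ K (siegelO K e w)) = toOQ K (siegelO K e w)) : γ = 1 := by
  have hH := h.hyp
  have hopp : ∀ q, q ≠ 0 → Q q = 0 → polar Q e q ≠ 0 → SendsP K γ q q := by
    intro q hq0 hq hne
    obtain ⟨q₁, hq₁⟩ : ∃ q₁, q₁ = (polar Q e q)⁻¹ • q := ⟨_, rfl⟩
    have h1 : polar Q e q₁ = 1 := by
      rw [hq₁, QuadraticMap.polar_smul_right, smul_eq_mul, inv_mul_cancel₀ hne]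
    have hq₁Q : Q f = Q q₁ := by rw [hH.hf, hq₁, quad_smul, hq, mul_zero]
    have hw : polar Q e (q₁ - f) = 0 := by rw [QuadraticMap.polar_sub_right, h1, hH.hef, sub_self]
    have h2 : SendsP K γ q₁ q₁ := by
      have h3 := h.hf.equivariant K (hU _ hw)
      rwa [show (siegelO K e (q₁ - f)).1.1 f = q₁ from siegel_move Q hH.he hH.hef h1 hq₁Q] at h3
    have h4 := (h2.smul_left K hne).smul_right K hne
    rwa [hq₁, smul_inv_smul₀ hne] at h4
  have hall : ∀ q, q ≠ 0 → Q q = 0 → SendsP K γ q q := by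
    intro q hq0 hq
    by_cases hne : polar Q e q = 0
    swap
    · exact hopp q hq0 hq hne
    obtain ⟨q', hq'⟩ := exists_sendsP K hn γ hq0 hq
    suffices ∃ s : F, q' = s • q by
      obtain ⟨s, rfl⟩ := this
      have hs : s ≠ 0 := fun h0 => hq'.2.1 (by rw [h0, zero_smul])
      simpa [inv_smul_smul₀ hs] using hq'.smul_right K (inv_ne_zero hs)
    have hne' : polar Q e q' = 0 := (h.he.perp_iff K hn hq').1 hne
    have key : ∀ u ∈ operp Q e f, polar Q f q + polar Q u q = 0 → polar Q f q' + polar Q u q' = 0 := by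
      intro u hu hz
      obtain ⟨heu, hfu⟩ := (mem_operp Q).1 hu
      obtain ⟨x, hx⟩ : ∃ x, x = u + f + (-Q u) • e := ⟨_, rfl⟩
      have hxe : polar Q e x = 1 := by
        rw [hx]
        simp [QuadraticMap.polar_add_right, QuadraticMap.polar_smul_right, heu, hH.hef,
          polar_self_of_singular Q hH.he]
      have hxQ : Q x = 0 := by
        rw [hx, quad_map_add_smul, QuadraticMap.polar_add_left, QuadraticMap.map_add (Q : QuadraticMap F V F),
          hH.he, hH.hf, QuadraticMap.polar_comm _ u f, QuadraticMap.polar_comm _ u e, heu, hfu, hH.fe]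
        ring
      have hx0 : x ≠ 0 := fun h0 => by simp [h0] at hxe
      have hxq : ∀ {y}, polar Q e y = 0 → polar Q x y = polar Q f y + polar Q u y := fun {y} hy => by
        rw [hx, QuadraticMap.polar_add_left, QuadraticMap.polar_add_left, QuadraticMap.polar_smul_left, hy,
          smul_zero, add_zero, add_comm]
      rw [← hxq hne'] 
      exact ((hopp x hx0 hxQ (by rw [hxe]; exact one_ne_zero)).perp_iff K hn hq').1 (by rw [hxq hne, hz])
    obtain ⟨w, hw⟩ : ∃ w : operp Q e f, (w : V) = q - polar Q f q • e :=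
      ⟨⟨_, hH.proj_mem q⟩, by simp [hne]⟩
    obtain ⟨w', hw'⟩ : ∃ w' : operp Q e f, (w' : V) = q' - polar Q f q' • e :=
      ⟨⟨_, hH.proj_mem q'⟩, by simp [hne']⟩
    have hpw : ∀ u : operp Q e f, polar Q (u : V) q = polar (operpForm Q e f) u w ∧
        polar Q (u : V) q' = polar (operpForm Q e f) u w' := by
      intro u
      constructor <;>
        simp [operpForm_polar, hw, hw', QuadraticMap.polar_sub_right, QuadraticMap.polar_smul_right,
          QuadraticMap.polar_comm _ (u : V) e, perp_ok K u]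
    by_cases hw0 : w = 0
    · rw [hw0, Submodule.coe_zero, eq_comm, sub_eq_zero] at hw
      have hs : polar Q f q ≠ 0 := fun h0 => hq0 (by rw [hw, h0, zero_smul])
      obtain ⟨r, -, hr⟩ := SendsP.line K ((h.he.smul_left K hs).smul_right K hs) (hw ▸ hq')
      exact ⟨r, by rw [hr, ← hw]⟩
    obtain ⟨p, hp⟩ := exists_partner (operpForm Q e f) (hH.sep_perp K.sep) hw0
    have hpw' : polar (operpForm Q e f) p w = 1 := by rw [QuadraticMap.polar_comm]; exact hp
    obtain ⟨s, hs⟩ : ∃ s, s = polar (operpForm Q e f) p w' := ⟨_, rfl⟩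
    have hker : ∀ v, polar (operpForm Q e f) v w = 0 → polar (operpForm Q e f) v w' = 0 := by
      intro v hv
      have h1 := key _ ((-polar Q f q) • p).2 (by
        rw [(hpw _).1, QuadraticMap.polar_smul_left, hpw', smul_eq_mul, mul_one, add_neg_cancel])
      have h2 := key _ ((-polar Q f q) • p + v).2 (by
        rw [(hpw _).1, QuadraticMap.polar_add_left, QuadraticMap.polar_smul_left, hpw', hv, smul_eq_mul,
          mul_one, add_zero, add_neg_cancel])
      rw [(hpw _).2] at h1 h2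
      rw [QuadraticMap.polar_add_left] at h2
      linear_combination h2 - h1
    have hww : w' = s • w := sub_eq_zero.1 (hH.sep_perp K.sep _ fun v => by
      have h1 := hker (v - polar (operpForm Q e f) v w • p) (by
        rw [QuadraticMap.polar_sub_left, QuadraticMap.polar_smul_left, hpw', smul_eq_mul, mul_one,
          sub_self])
      rw [QuadraticMap.polar_sub_left, QuadraticMap.polar_smul_left, ← hs, smul_eq_mul] at h1
      rw [QuadraticMap.polar_comm, QuadraticMap.polar_sub_right, QuadraticMap.polar_smul_right,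
        smul_eq_mul]
      linear_combination h1)
    have htt : polar Q f q' = s * polar Q f q := by
      have h1 := key _ ((-polar Q f q) • p).2 (by
        rw [(hpw _).1, QuadraticMap.polar_smul_left, hpw', smul_eq_mul, mul_one, add_neg_cancel])
      rw [(hpw _).2, QuadraticMap.polar_smul_left, ← hs, smul_eq_mul] at h1
      linear_combination h1
    rw [hww, Submodule.coe_smul, hw, htt] at hw'
    exact ⟨s, by linear_combination (norm := module) -hw'⟩
  refine MulEquiv.ext fun x => ?_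
  obtain ⟨g, rfl⟩ := toOQ_surjective K x
  obtain ⟨g', hg'⟩ := toOQ_surjective K (γ (toOQ K g))
  rw [MulAut.one_apply, ← hg']
  have hfix : ∀ q, Q q = 0 → q ≠ 0 → ∃ a : F, (g⁻¹ * g' : OG K).1.1 q = a • q := by
    intro q hq hq0
    have h1 := (hall q hq0 hq).equivariant K hg'.symm
    have hgq : g.1.1 q ≠ 0 := fun h0 => hq0 (g.1.1.injective (h0.trans (map_zero _).symm))
    obtain ⟨r, -, hr⟩ := SendsP.line K (hall _ hgq ((og_Q K g q).trans hq)) h1
    refine ⟨r, ?_⟩
    show g.1.1.symm (g'.1.1 q) = r • q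
    rw [LinearEquiv.symm_apply_eq, map_smul, hr]
  obtain ⟨a, ha⟩ := exists_scalar_of_fix_singular Q K.sep (five_le K) (g⁻¹ * g' : OG K).1 hfix
  have h2 := toOQ_eq_one_of_scalar K (k := g⁻¹ * g') ha
  rw [map_mul, map_inv, inv_mul_eq_one] at h2
  exact h2.symm

/-- Every automorphism of `PΩ(Q)` is induced by a semisimilitude. -/
theorem exists_osim (hn : 9 ≤ Module.finrank F V ∨ NoFour Q) (β : MulAut (OQ K)) :
    ∃ Φ : OSim Q, β = osimAut K Φ := by
  obtain ⟨e, he0, he⟩ := exists_singular Q K.sep (five_le K)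
  obtain ⟨f, hH⟩ := exists_hyp K.sep he0 he
  obtain ⟨e', he'⟩ := exists_sendsP K hn β he0 he
  obtain ⟨f', hf'⟩ := exists_sendsP K hn β hH.ne_zero.2 hH.hf
  have hne : polar Q e' f' ≠ 0 := fun h0 => by
    have := (he'.perp_iff K hn hf').2 h0
    rw [hH.hef] at this
    exact one_ne_zero this
  obtain ⟨g, hg, hge⟩ := siegel_transitive Q K.sep (five_le K) he'.2.2.2.1 he he'.2.1 he0
  obtain ⟨k, hk, hkg⟩ : ∃ k : OG K, k.1 = g ∧ k.1.1 e' = e :=
    ⟨⟨g, by rw [commutator_eq_siegelGroup Q K.sep (five_le K)]; exact hg⟩, rfl, hge⟩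
  obtain ⟨f₁, hf₁⟩ : ∃ f₁, f₁ = (polar Q e' f')⁻¹ • k.1.1 f' := ⟨_, rfl⟩
  have hef₁ : polar Q e f₁ = 1 := by
    rw [hf₁, QuadraticMap.polar_smul_right, smul_eq_mul]
    conv_lhs => rw [← hkg, og_polar]
    exact inv_mul_cancel₀ hne
  have hf₁Q : Q f₁ = Q f := by rw [hf₁, quad_smul, og_Q, hf'.2.2.2.1, hH.hf, mul_zero]
  obtain ⟨h, hh⟩ : ∃ h : OG K, h = siegelO K e (f - f₁) * k := ⟨_, rfl⟩
  have hw : polar Q e (f - f₁) = 0 := by rw [QuadraticMap.polar_sub_right, hH.hef, hef₁, sub_self]
  have hhe : h.1.1 e' = e := by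
    rw [hh, og_mul_apply, hkg, siegelO_apply K he hw, polar_self_of_singular Q he,
      QuadraticMap.polar_comm _ (f - f₁) e, hw]
    simp
  have hhf : h.1.1 f' = polar Q e' f' • f := by
    rw [hh, og_mul_apply, show k.1.1 f' = polar Q e' f' • f₁ by rw [hf₁, smul_inv_smul₀ hne], map_smul,
      show (siegelO K e (f - f₁)).1.1 f₁ = f from siegel_move Q he hef₁ hH.hef hf₁Q]
  obtain ⟨α, hα⟩ : ∃ α, α = MulAut.conj (toOQ K h) * β := ⟨_, rfl⟩
  have hfix : OFix K α e f := by
    refine ⟨hH, ?_, ?_⟩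
    · have h1 := he'.comp K (sendsP_conj K h he'.2.1 he'.2.2.2.1)
      rwa [hhe, ← hα] at h1
    · have h1 := (hf'.comp K (sendsP_conj K h hf'.2.1 hf'.2.2.2.1)).smul_right K (inv_ne_zero hne)
      rwa [hhf, inv_smul_smul₀ hne, ← hα] at h1
  obtain ⟨Φ, hΦe, hΦf, hΦU⟩ := exists_osim_of_fix K hfix
  have h1 : (osimAut K Φ)⁻¹ * α = 1 := by
    refine eq_one_of_fix K hn ⟨hH, (hfix.he.comp K (hΦe.symm K)), (hfix.hf.comp K (hΦf.symm K))⟩
      fun w hw => ?_
    rw [MulAut.mul_apply, ← hΦU w hw, MulAut.inv_apply_self]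
  rw [inv_mul_eq_one, hα] at h1
  refine ⟨(OSim.ofIsom h.1).inv.comp Φ, ?_⟩
  have hconj : osimAut K (OSim.ofIsom h.1).inv = (MulAut.conj (toOQ K h))⁻¹ := by
    rw [← map_inv, ← map_inv, ← osimAut_ofIsom]
    refine MulEquiv.ext fun x => ?_
    obtain ⟨y, rfl⟩ := toOQ_surjective K x
    exact congrArg (toOQ K) (og_ext K fun v => rfl)
  rw [osimAut_comp, hconj, h1, inv_mul_cancel_left]

end CfsgLib.KnownC
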