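import Mathlib
import Cfsg.Prelude.Def_LieTypeDatum
import Cfsg.Agent.Lib.KnownC.AutPOmegaTheta
import Cfsg.Agent.Lib.Classical.OrthOmega

set_option autoImplicit false
set_option linter.unusedSectionVars false
set_option linter.style.haveILetI false

/-!
The automorphism group of `Cfsg.POmega` in dimension at least seven is induced by semisimilitudes.
-/

namespace CfsgLib.KnownC

open CfsgLib.Geom CfsgLib.Classical
open QuadraticMap (polar)
open Matrix

universe u

variable {F : Type u} [Field F] [Finite F] {ι : Type} [Fintype ι] [DecidableEq ι]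
variable {Q : QuadraticForm F (ι → F)} (K : OCtx Q)

/-- `PΩ` as a matrix group and as an abstract group. -/
noncomputable def oqEquiv : OQ K ≃* Cfsg.POmega F (⇑Q) := centerQuotCongr (omegaEquiv Q)

/-- Transport to the matrix group of an automorphism induced by a semisimilitude. -/
noncomputable def osimPOmega (Φ : OSim Q) : MulAut (Cfsg.POmega F (⇑Q)) :=
  ((oqEquiv K).symm.trans (osimAut K Φ)).trans (oqEquiv K)

/-- The linear part of a semisimilitude. -/
noncomputable def OSim.linPart (Φ : OSim Q) : (ι → F) ≃ₗ[F] (ι → F) where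
  toFun v := Φ.T (fun i => Φ.σ.symm (v i))
  invFun v := fun i => Φ.σ (Φ.T.symm v i)
  map_add' u v := by
    rw [← map_add]
    exact congrArg Φ.T (funext fun i => map_add Φ.σ.symm _ _)
  map_smul' a v := by
    rw [show (fun i => Φ.σ.symm ((a • v) i)) = Φ.σ.symm a • fun i => Φ.σ.symm (v i) from
      funext fun i => by simp, Φ.smul, Φ.σ.apply_symm_apply, RingHom.id_apply]
  left_inv v := funext fun i => by simp
  right_inv v := by simp

/-- The matrix of a semisimilitude. -/
noncomputable def OSim.mat (Φ : OSim Q) : GL ι F := glOfEquiv Φ.linPart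

include K

theorem OSim.mat_mulVec (Φ : OSim Q) (v : ι → F) :
    (Φ.mat : Matrix ι ι F) *ᵥ (fun i => Φ.σ (v i)) = Φ.T v := by
  rw [OSim.mat, glOfEquiv_mulVec]
  show Φ.T (fun i => Φ.σ.symm (Φ.σ (v i))) = Φ.T v
  simp

theorem OSim.isSemisimilarityPair (Φ : OSim Q) : Cfsg.IsSemisimilarityPair (⇑Q) Φ.mat Φ.σ :=
  ⟨Units.mk0 Φ.c Φ.c_ne, fun v => by rw [Φ.mat_mulVec K, Φ.quad]; rfl⟩

theorem oq_mulVec (k : OG K) (v : ι → F) :
    (((omegaEquiv Q k : ↥(Cfsg.Omega F (⇑Q))) : ↥(Cfsg.isometryGroup F (⇑Q))) : GL ι F).1 *ᵥ v =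
      k.1.1 v := by
  rw [omegaEquiv_coe]; exact orEquiv_mulVec Q k.1 v

theorem isInduced_osimPOmega (Φ : OSim Q) :
    Cfsg.IsInducedBySemilinearPOmega (⇑Q) Φ.mat Φ.σ (osimPOmega K Φ) := by
  intro s s' h
  obtain ⟨k, rfl⟩ := (omegaEquiv Q).surjective s
  obtain ⟨k', rfl⟩ := (omegaEquiv Q).surjective s'
  have hk : k' = osimOmega K Φ k := og_ext K fun w => by
    obtain ⟨v, rfl⟩ := Φ.T.surjective w
    rw [osimOmega_apply, Φ.T.symm_apply_apply, ← oq_mulVec K k', ← Φ.mat_mulVec K v, h,
      ← Φ.mat_mulVec K (k.1.1 v), Matrix.mulVec_mulVec, mul_assoc, Units.inv_mul, mul_one,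
      ← Matrix.mulVec_mulVec, ← oq_mulVec K k]
    refine congrArg _ (funext fun i => ?_)
    exact (RingHom.map_mulVec (Φ.σ : F →+* F) _ v i).symm
  subst hk
  show oqEquiv K (osimAut K Φ ((oqEquiv K).symm (oqEquiv K (toOQ K k)))) = _
  rw [MulEquiv.symm_apply_apply]
  rfl

theorem exists_osimPOmega (hn : 9 ≤ Fintype.card ι ∨ NoFour Q) (β : MulAut (Cfsg.POmega F (⇑Q))) :
    ∃ Φ : OSim Q, β = osimPOmega K Φ := by
  obtain ⟨Φ, hΦ⟩ := exists_osim K
    (hn.imp_left fun h => by rwa [Module.finrank_fintype_fun_eq_card])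
    (((oqEquiv K).trans β).trans (oqEquiv K).symm)
  refine ⟨Φ, MulEquiv.ext fun x => ?_⟩
  rw [osimPOmega, ← hΦ]
  simp

theorem gammaPOmega_eq_top (hn : 9 ≤ Fintype.card ι ∨ NoFour Q) :
    Cfsg.gammaPOmega F (⇑Q) = ⊤ := by
  rw [eq_top_iff]
  intro β _
  obtain ⟨Φ, rfl⟩ := exists_osimPOmega K hn β
  exact Subgroup.subset_closure ⟨Φ.mat, Φ.σ, Φ.isSemisimilarityPair K, isInduced_osimPOmega K Φ⟩

omit K in
/-- Four independent mutually orthogonal singular vectors need dimension at least eight. -/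
theorem noFour_of_lt (hsep : ∀ x, (∀ y, polar Q x y = 0) → x = 0) (h : Fintype.card ι < 8) :
    NoFour Q := by
  intro a b c d hab hcd hac had hbc hbd hi
  obtain ⟨S, hS⟩ : ∃ S, S = Submodule.span F (Set.range ![a, b, c, d]) := ⟨_, rfl⟩
  have hgram : ∀ i j, polar Q (![a, b, c, d] i) (![a, b, c, d] j) = 0 := by
    intro i j
    fin_cases i <;> fin_cases j <;>
      simp [hac, had, hbc, hbd, hab.hab, hab.ba, hcd.hab, hcd.ba, QuadraticMap.polar_comm _ c a,
        QuadraticMap.polar_comm _ d a, QuadraticMap.polar_comm _ c b, QuadraticMap.polar_comm _ d b,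
        polar_self_of_singular Q hab.ha, polar_self_of_singular Q hab.hb,
        polar_self_of_singular Q hcd.ha, polar_self_of_singular Q hcd.hb]
  have hnd : LinearMap.BilinForm.Nondegenerate (QuadraticMap.polarBilin Q) :=
    ⟨fun u hu => hsep u hu, fun u hu => hsep u fun y => by rw [QuadraticMap.polar_comm]; exact hu y⟩
  have hle : S ≤ LinearMap.BilinForm.orthogonal (QuadraticMap.polarBilin Q) S := by
    intro u hu v hv
    rw [hS] at hu hv
    obtain ⟨x, rfl⟩ := (Submodule.mem_span_range_iff_exists_fun F).1 hu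
    obtain ⟨y, rfl⟩ := (Submodule.mem_span_range_iff_exists_fun F).1 hv
    show QuadraticMap.polarBilin Q (∑ i, y i • ![a, b, c, d] i) (∑ i, x i • ![a, b, c, d] i) = 0
    simp [Fin.sum_univ_four, QuadraticMap.polarBilin_apply_apply, show ∀ i j,
      polar Q (![a, b, c, d] i) (![a, b, c, d] j) = 0 from hgram, hac, had, hbc, hbd, hab.hab, hab.ba,
      hcd.hab, hcd.ba, QuadraticMap.polar_comm _ c a, QuadraticMap.polar_comm _ d a,
      QuadraticMap.polar_comm _ c b, QuadraticMap.polar_comm _ d b, QuadraticMap.polar_add_left,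
      QuadraticMap.polar_add_right, QuadraticMap.polar_smul_left, QuadraticMap.polar_smul_right,
      polar_self_of_singular Q hab.ha, polar_self_of_singular Q hab.hb,
      polar_self_of_singular Q hcd.ha, polar_self_of_singular Q hcd.hb]
  have h1 := LinearMap.BilinForm.finrank_orthogonal hnd S
  have h2 := Submodule.finrank_mono hle
  rw [h1, hS, finrank_span_eq_card hi, Fintype.card_fin, Module.finrank_fintype_fun_eq_card] at h2
  omega

omit K in
/-- Minus type of dimension eight has Witt index three. -/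
theorem noFour_minus_three {a b : F} (hab : ∀ z₁ z₂ : F, z₁ ^ 2 + a * z₁ * z₂ + b * z₂ ^ 2 = 0 → z₁ = 0 ∧ z₂ = 0) :
    NoFour (qfMinus 3 F a b) := by
  intro p q r s hpq hrs hpr hps hqr hqs hi
  obtain ⟨v, hv⟩ : ∃ v : Fin 4 → ((Fin 3 ⊕ Fin 3) ⊕ Fin 2 → F), v = ![p, q, r, s] := ⟨_, rfl⟩
  rw [← hv] at hi
  have hsing : ∀ x : Fin 4 → F, qfMinus 3 F a b (∑ i, x i • v i) = 0 := by
    intro x
    rw [hv, Fin.sum_univ_four]
    simp [QuadraticMap.map_add (qfMinus 3 F a b : QuadraticMap F _ F), quad_smul, hpq.ha, hpq.hb, hrs.ha,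
      hrs.hb, QuadraticMap.polar_add_left, QuadraticMap.polar_smul_left, QuadraticMap.polar_smul_right,
      hpr, hps, hqr, hqs, hpq.hab, hrs.hab]
  -- coordinates of the first three hyperbolic coordinates
  obtain ⟨X, hX⟩ : ∃ X : (Fin 4 → F) →ₗ[F] (Fin 3 → F), ∀ x i, X x i = (∑ j, x j • v j) (.inl (.inl i)) :=
    ⟨{ toFun := fun x i => (∑ j, x j • v j) (.inl (.inl i))
       map_add' := fun x y => funext fun i => by simp [add_smul, Finset.sum_add_distrib]
       map_smul' := fun t x => funext fun i => by simp [Finset.mul_sum, mul_assoc] }, fun _ _ => rfl⟩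
  obtain ⟨Y, hY⟩ : ∃ Y : (Fin 4 → F) →ₗ[F] (Fin 3 → F), ∀ x i, Y x i = (∑ j, x j • v j) (.inl (.inr i)) :=
    ⟨{ toFun := fun x i => (∑ j, x j • v j) (.inl (.inr i))
       map_add' := fun x y => funext fun i => by simp [add_smul, Finset.sum_add_distrib]
       map_smul' := fun t x => funext fun i => by simp [Finset.mul_sum, mul_assoc] }, fun _ _ => rfl⟩
  have hQ : ∀ x, (∑ i, X x i * Y x i) + ((∑ j, x j • v j) (.inr 0) ^ 2 +
      a * (∑ j, x j • v j) (.inr 0) * (∑ j, x j • v j) (.inr 1) + b * (∑ j, x j • v j) (.inr 1) ^ 2) = 0 := by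
    intro x
    have h := hsing x
    rw [qfMinus_coe] at h
    simpa [Cfsg.quadFormMinus, hX, hY] using h
  -- the pairing of the two halves vanishes against the kernel of `X`
  have hker : ∀ x ∈ LinearMap.ker X, ∀ y, ∑ i, X y i * Y x i = 0 := by
    intro x hx y
    have hx0 : X x = 0 := hx
    have hz : ∀ i : Fin 2, (∑ j, x j • v j) (.inr i) = 0 := by
      have h := hQ x
      simp only [hx0, Pi.zero_apply, zero_mul, Finset.sum_const_zero, zero_add] at h
      obtain ⟨h1, h2⟩ := hab _ _ h
      intro i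
      fin_cases i <;> assumption
    have h1 := hQ (x + y)
    have h2 := hQ y
    simp only [map_add, hx0, zero_add, Pi.add_apply, add_mul, mul_add, Finset.sum_add_distrib, add_smul,
      hz] at h1
    simp only [Pi.zero_apply, zero_mul, Finset.sum_const_zero, zero_add] at h1
    linear_combination h1 - h2
  have hYinj : ∀ x ∈ LinearMap.ker X, Y x = 0 → x = 0 := by
    intro x hx hy
    have hx0 : X x = 0 := hx
    have hz : (∑ j, x j • v j) = 0 := by
      have h := hQ x
      simp only [hx0, Pi.zero_apply, zero_mul, Finset.sum_const_zero, zero_add] at h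
      obtain ⟨h1, h2⟩ := hab _ _ h
      funext i
      rcases i with (i | i) | i
      · rw [← hX, hx0]; rfl
      · rw [← hY, hy]; rfl
      · fin_cases i <;> assumption
    exact funext ((Fintype.linearIndependent_iff.1 hi) x hz)
  let D : (Fin 3 → F) →ₗ[F] (LinearMap.range X →ₗ[F] F) :=
    { toFun := fun z => ∑ i, z i • (LinearMap.proj i).comp (LinearMap.range X).subtype
      map_add' := fun z w => by simp [add_smul, Finset.sum_add_distrib]
      map_smul' := fun t z => by simp [Finset.smul_sum, mul_smul] }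
  have hD : Function.Surjective D := by
    intro φ
    obtain ⟨ψ, hψ⟩ := LinearMap.exists_extend φ
    refine ⟨fun i => ψ (Pi.single i 1), LinearMap.ext fun w => ?_⟩
    rw [← hψ, LinearMap.comp_apply]
    conv_rhs => rw [pi_eq_sum_univ ((LinearMap.range X).subtype w), map_sum]
    simp only [D, LinearMap.coe_mk, AddHom.coe_mk, LinearMap.sum_apply, LinearMap.smul_apply,
      LinearMap.comp_apply, LinearMap.proj_apply, map_smul, smul_eq_mul]
    exact Finset.sum_congr rfl fun i _ => by rw [mul_comm]; congr 2; funext j; simp [Pi.single_apply, eq_comm]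
  have hsub : (LinearMap.ker X).map Y ≤ LinearMap.ker D := by
    rintro _ ⟨x, hx, rfl⟩
    refine LinearMap.ext fun w => ?_
    obtain ⟨_, y, rfl⟩ := w
    simpa [D, mul_comm] using hker x hx y
  have h1 := X.finrank_range_add_finrank_ker
  have h2 := D.finrank_range_add_finrank_ker
  have h3 := Submodule.finrank_mono hsub
  have hinj : Function.Injective (Y.comp (LinearMap.ker X).subtype) :=
    (injective_iff_map_eq_zero _).2 fun x hx => Subtype.ext (hYinj x x.2 hx)
  have h4 := LinearMap.finrank_range_of_inj hinj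
  rw [LinearMap.range_comp, Submodule.range_subtype] at h4
  rw [LinearMap.range_eq_top.2 hD, finrank_top,
    Module.finrank_linearMap, Module.finrank_self, mul_one] at h2
  simp only [Module.finrank_fintype_fun_eq_card, Fintype.card_fin] at h1 h2
  omega

end CfsgLib.KnownC
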