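import Mathlib
import Cfsg.Agent.Lib.KnownC.AutPOmegaStd

set_option autoImplicit false
set_option linter.unusedSectionVars false
set_option linter.style.haveILetI false

/-!
The action of the semisimilitudes on `PΩ(Q)`: kernel, powers, standard field automorphisms.
-/

namespace CfsgLib.KnownC

open CfsgLib.Geom CfsgLib.Classical
open QuadraticMap (polar)
open Matrix

section Abstract

variable {F V : Type*} [Field F] [AddCommGroup V] [Module F V] {Q : QuadraticForm F V}

/-- The identity semisimilitude. -/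
def OSim.one (Q : QuadraticForm F V) : OSim Q where
  σ := RingEquiv.refl F
  c := 1
  T := AddEquiv.refl V
  c_ne := one_ne_zero
  smul _ _ := rfl
  quad _ := (one_mul _).symm

/-- Powers of a semisimilitude. -/
def OSim.pow (Φ : OSim Q) : ℕ → OSim Q
  | 0 => OSim.one Q
  | k + 1 => Φ.comp (OSim.pow Φ k)

theorem OSim.pow_T (Φ : OSim Q) (k : ℕ) (v : V) : (Φ.pow k).T v = (⇑Φ.T)^[k] v := by
  induction k generalizing v with
  | zero => rfl
  | succ k ih =>
    rw [Function.iterate_succ_apply']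
    show Φ.T ((Φ.pow k).T v) = _
    rw [ih]

theorem OSim.pow_σ (Φ : OSim Q) (k : ℕ) : (Φ.pow k).σ = Φ.σ ^ k := by
  induction k with
  | zero => rfl
  | succ k ih => rw [pow_succ', ← ih]; rfl

variable [FiniteDimensional F V] [Finite F] (K : OCtx Q)
include K

theorem osimAut_congr {Φ Ψ : OSim Q} (h : ∀ v, Φ.T v = Ψ.T v) : osimAut K Φ = osimAut K Ψ := by
  refine MulEquiv.ext fun x => ?_
  obtain ⟨g, rfl⟩ := toOQ_surjective K x
  refine congrArg (toOQ K) (og_ext K fun v => ?_)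
  show Φ.T (g.1.1 (Φ.T.symm v)) = Ψ.T (g.1.1 (Ψ.T.symm v))
  rw [h]
  congr 2
  rw [AddEquiv.symm_apply_eq, h, AddEquiv.apply_symm_apply]

theorem osimAut_one : osimAut K (OSim.one Q) = 1 := by
  refine MulEquiv.ext fun x => ?_
  obtain ⟨g, rfl⟩ := toOQ_surjective K x
  exact congrArg (toOQ K) (og_ext K fun v => rfl)

theorem osimAut_inv (Φ : OSim Q) : osimAut K Φ.inv = (osimAut K Φ)⁻¹ := by
  refine eq_inv_of_mul_eq_one_left ?_
  rw [← osimAut_comp]
  exact (osimAut_congr K fun v => Φ.T.symm_apply_apply v).trans (osimAut_one K)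

theorem osimAut_pow (Φ : OSim Q) (k : ℕ) : osimAut K (Φ.pow k) = osimAut K Φ ^ k := by
  induction k with
  | zero => rw [pow_zero]; exact osimAut_one K
  | succ k ih => rw [pow_succ', ← ih, ← osimAut_comp]; rfl

theorem OSim.map_tsl (Φ : OSim Q) {x w : V} (hxw : TSL Q x w) : TSL Q (Φ.T x) (Φ.T w) := by
  refine ⟨by rw [Φ.quad, hxw.ha, map_zero, mul_zero], by rw [Φ.quad, hxw.hb, map_zero, mul_zero],
    by rw [Φ.polar_map, hxw.hab, map_zero, mul_zero], LinearIndependent.pair_iff.2 fun s t hst => ?_⟩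
  have := LinearIndependent.pair_iff.1 hxw.hi (Φ.σ.symm s) (Φ.σ.symm t) (Φ.T.injective (by
    rw [map_add, Φ.smul, Φ.smul, Φ.σ.apply_symm_apply, Φ.σ.apply_symm_apply, hst, map_zero]))
  exact ⟨by simpa using congrArg Φ.σ this.1, by simpa using congrArg Φ.σ this.2⟩

/-- A semisimilitude inducing the identity is a scalar. -/
theorem scalar_of_osimAut_eq_one {Φ : OSim Q} (h : osimAut K Φ = 1) :
    ∃ a : F, a ≠ 0 ∧ ∀ v, Φ.T v = a • v := by
  have h5 := five_le K
  have hsing : ∀ x, Q x = 0 → ∃ a : F, Φ.T x = a • x := by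
    intro x hx
    by_cases hx0 : x = 0
    · exact ⟨1, by rw [hx0, map_zero, smul_zero]⟩
    refine point_of_star K hx0 hx fun c hc => ?_
    have hT := Φ.map_tsl K hc
    have he : rootO K x c 1 = rootO K (Φ.T x) (Φ.T c) (Φ.c⁻¹) := by
      calc rootO K x c 1 = osimAut K Φ (rootO K x c 1) := by rw [h, MulAut.one_apply]
        _ = _ := by rw [rootO, osimAut_mk, osimAut_siegel K Φ hx (hc.smul_ok 1), one_smul, rootO]
    exact (hc.mem_span_of_eq K hT (inv_ne_zero Φ.c_ne) he).1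
  obtain ⟨e, he0, he⟩ := exists_singular Q K.sep h5
  obtain ⟨f, hH⟩ := exists_hyp K.sep he0 he
  -- orthogonal independent singular vectors have the same scalar, and the field automorphism is trivial
  have step : ∀ {x y : V}, Q x = 0 → Q y = 0 → polar Q x y = 0 → LinearIndependent F ![x, y] →
      ∀ a b : F, Φ.T x = a • x → Φ.T y = b • y → ∀ t, Φ.σ t * b = t * a := by
    intro x y hx hy hxy hi a b ha hb t
    obtain ⟨c, hc⟩ := hsing (x + t • y) (by
      rw [quad_map_add_smul, hx, hy, hxy]; simp)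
    rw [map_add, Φ.smul, ha, hb, smul_add, smul_smul, smul_smul] at hc
    have := LinearIndependent.pair_iff.1 hi (a - c) (Φ.σ t * b - c * t)
      (by linear_combination (norm := module) hc)
    rw [sub_eq_zero, sub_eq_zero] at this
    rw [this.2, ← this.1, mul_comm]
  obtain ⟨u, hu0, hu, -, -, huQ⟩ := exists_singular_perp4 K hH 0 0
  obtain ⟨a, ha⟩ := hsing e he
  obtain ⟨b, hb⟩ := hsing u huQ
  have hst := step he huQ ((mem_operp Q).1 hu).1 (exists_singular_of_tsl K hH hu hu0 huQ).hi a b ha hb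
  have hba : b = a := by simpa using hst 1
  have ha0 : a ≠ 0 := by
    intro h0
    rw [h0, zero_smul] at ha
    exact he0 (Φ.T.injective (ha.trans (map_zero Φ.T).symm))
  have hσ : ∀ t, Φ.σ t = t := fun t => mul_right_cancel₀ ha0 (by rw [← hst t, hba])
  have hall : ∀ x, Q x = 0 → Φ.T x = a • x := by
    intro x hx
    by_cases hx0 : x = 0
    · rw [hx0, map_zero, smul_zero]
    obtain ⟨c, hc⟩ := hsing x hx
    by_cases hp : polar Q e x = 0
    · by_cases hi : LinearIndependent F ![e, x]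
      · have h1 : c = a := by simpa using step he hx hp hi a c ha hc 1
        rw [hc, h1]
      · rw [LinearIndependent.pair_iff' he0] at hi
        push Not at hi
        obtain ⟨s, rfl⟩ := hi
        rw [Φ.smul, hσ, ha, smul_comm]
    · obtain ⟨w, hw, hw0, hew, hxw, hind⟩ := exists_singular_perp_indep Q K.sep h5 he0 x
      obtain ⟨d, hd⟩ := hsing w hw
      obtain ⟨i1, i2⟩ := hind hp
      have h1 : a = d := by
        simpa using step hw he (by rw [QuadraticMap.polar_comm]; exact hew) i1 d a hd ha 1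
      have h2 : c = d := by
        simpa using step hw hx (by rw [QuadraticMap.polar_comm]; exact hxw) i2 d c hd hc 1
      rw [hc, h2, h1]
  exact ⟨a, ha0, fun v => hH.singular_induction (P := fun v => Φ.T v = a • v)
    (fun u v hu hv => by rw [map_add, hu, hv, smul_add]) hall v⟩

theorem osimAut_eq_one_of_scalar {Φ : OSim Q} {a : F} (h : ∀ v, Φ.T v = a • v) : osimAut K Φ = 1 := by
  refine MulEquiv.ext fun x => ?_
  obtain ⟨g, rfl⟩ := toOQ_surjective K x
  refine congrArg (toOQ K) (og_ext K fun w => ?_)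
  obtain ⟨v, rfl⟩ := Φ.T.surjective w
  show Φ.T (g.1.1 (Φ.T.symm (Φ.T v))) = g.1.1 (Φ.T v)
  rw [Φ.T.symm_apply_apply, h, h, map_smul]

theorem osimAut_eq_iff (Φ Ψ : OSim Q) :
    osimAut K Φ = osimAut K Ψ ↔ ∃ a : F, a ≠ 0 ∧ ∀ v, Φ.T v = a • Ψ.T v := by
  rw [← mul_inv_eq_one, ← osimAut_inv, ← osimAut_comp]
  constructor
  · intro h
    obtain ⟨a, ha0, ha⟩ := scalar_of_osimAut_eq_one K h
    exact ⟨a, ha0, fun v => by
      rw [← ha]; show _ = Φ.T (Ψ.T.symm (Ψ.T v)); rw [AddEquiv.symm_apply_apply]⟩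
  · rintro ⟨a, -, ha⟩
    refine osimAut_eq_one_of_scalar K (a := a) fun w => ?_
    show Φ.T (Ψ.T.symm w) = a • w
    rw [ha, AddEquiv.apply_symm_apply]

theorem osimAut_σ_eq {Φ Ψ : OSim Q} (h : osimAut K Φ = osimAut K Ψ) : Φ.σ = Ψ.σ := by
  obtain ⟨a, ha0, ha⟩ := (osimAut_eq_iff K Φ Ψ).1 h
  obtain ⟨e, he0, -⟩ := exists_singular Q K.sep (five_le K)
  refine RingEquiv.ext fun t => ?_
  have h1 := ha (t • e)
  rw [Φ.smul, Ψ.smul, ha, smul_comm a] at h1
  refine smul_left_injective F ?_ h1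
  exact smul_ne_zero ha0 fun h0 => he0 (Ψ.T.injective (h0.trans (map_zero Ψ.T).symm))

end Abstract

universe u

variable {F : Type u} [Field F] {ι : Type} [Fintype ι] [DecidableEq ι]
variable {Q : QuadraticForm F (ι → F)}

/-- The standard semisimilitude of a field automorphism fixing the form. -/
def OSim.std (σ : F ≃+* F) (hσ : ∀ v : ι → F, Q (fun i => σ (v i)) = σ (Q v)) : OSim Q where
  σ := σ
  c := 1
  T :=
    { toFun := fun v i => σ (v i)
      invFun := fun v i => σ.symm (v i)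
      left_inv := fun v => funext fun i => σ.symm_apply_apply _
      right_inv := fun v => funext fun i => σ.apply_symm_apply _
      map_add' := fun u v => funext fun i => map_add σ _ _ }
  c_ne := one_ne_zero
  smul a v := funext fun i => map_mul σ a (v i)
  quad v := (hσ v).trans (one_mul _).symm

/-- A semisimilarity pair as a semisimilitude. -/
noncomputable def OSim.ofPair (g : GL ι F) (σ : F ≃+* F) (h : Cfsg.IsSemisimilarityPair (⇑Q) g σ) :
    OSim Q where
  σ := σ
  c := h.choose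
  T :=
    { toFun := fun v => (g : Matrix ι ι F) *ᵥ fun i => σ (v i)
      invFun := fun v i => σ.symm ((((g⁻¹ : GL ι F) : Matrix ι ι F) *ᵥ v) i)
      left_inv := fun v => funext fun i => by
        simp [Matrix.mulVec_mulVec]
      right_inv := fun v => by
        simp [Matrix.mulVec_mulVec]
      map_add' := fun u v => by
        rw [← Matrix.mulVec_add]; exact congrArg _ (funext fun i => map_add σ _ _) }
  c_ne := h.choose.ne_zero
  smul a v := by
    show (g : Matrix ι ι F) *ᵥ _ = σ a • ((g : Matrix ι ι F) *ᵥ _)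
    rw [← Matrix.mulVec_smul]; exact congrArg _ (funext fun i => map_mul σ a (v i))
  quad v := h.choose_spec v

variable [Finite F] (K : OCtx Q)
include K

theorem osimPOmega_comp (Φ Ψ : OSim Q) :
    osimPOmega K (Φ.comp Ψ) = osimPOmega K Φ * osimPOmega K Ψ := by
  refine MulEquiv.ext fun x => ?_
  simp [osimPOmega, osimAut_comp]

theorem osimPOmega_inv (Φ : OSim Q) : osimPOmega K Φ.inv = (osimPOmega K Φ)⁻¹ := by
  refine eq_inv_of_mul_eq_one_left (MulEquiv.ext fun x => ?_)
  simp [osimPOmega, osimAut_inv]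

theorem osimPOmega_pow (Φ : OSim Q) (k : ℕ) : osimPOmega K (Φ.pow k) = osimPOmega K Φ ^ k := by
  induction k with
  | zero => exact MulEquiv.ext fun x => by simp [osimPOmega, OSim.pow, osimAut_one]
  | succ k ih => rw [pow_succ', ← ih, ← osimPOmega_comp]; rfl

theorem osimPOmega_eq_iff (Φ Ψ : OSim Q) :
    osimPOmega K Φ = osimPOmega K Ψ ↔ ∃ a : F, a ≠ 0 ∧ ∀ v, Φ.T v = a • Ψ.T v := by
  rw [← osimAut_eq_iff K]
  refine ⟨fun h => MulEquiv.ext fun x => ?_, fun h => by rw [osimPOmega, h]; rfl⟩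
  have := congrArg (fun β : MulAut (Cfsg.POmega F (⇑Q)) => β (oqEquiv K x)) h
  simpa [osimPOmega] using this

theorem osimPOmega_eq_one_iff (Φ : OSim Q) :
    osimPOmega K Φ = 1 ↔ ∃ a : F, a ≠ 0 ∧ ∀ v, Φ.T v = a • v := by
  rw [show (1 : MulAut (Cfsg.POmega F (⇑Q))) = osimPOmega K (OSim.one Q) from
    MulEquiv.ext fun x => by simp [osimPOmega, osimAut_one], osimPOmega_eq_iff]
  rfl

theorem osimPOmega_σ_eq {Φ Ψ : OSim Q} (h : osimPOmega K Φ = osimPOmega K Ψ) : Φ.σ = Ψ.σ := by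
  refine osimAut_σ_eq K ((osimAut_eq_iff K _ _).2 ((osimPOmega_eq_iff K _ _).1 h))

theorem OSim.ofPair_mat (g : GL ι F) (σ : F ≃+* F) (h : Cfsg.IsSemisimilarityPair (⇑Q) g σ) :
    (OSim.ofPair g σ h).mat = g := by
  refine Units.ext (Matrix.ext_iff_mulVec.2 fun v => ?_)
  rw [OSim.mat, glOfEquiv_mulVec]
  show (g : Matrix ι ι F) *ᵥ (fun i => σ (σ.symm (v i))) = _
  simp

/-- Automorphisms induced by a semisimilarity pair are determined by it. -/
theorem eq_osimPOmega_of_induced {g : GL ι F} {σ : F ≃+* F}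
    (h : Cfsg.IsSemisimilarityPair (⇑Q) g σ) {β : MulAut (Cfsg.POmega F (⇑Q))}
    (hβ : Cfsg.IsInducedBySemilinearPOmega (⇑Q) g σ β) : β = osimPOmega K (OSim.ofPair g σ h) := by
  refine MulEquiv.ext fun x => ?_
  obtain ⟨s, rfl⟩ := QuotientGroup.mk_surjective x
  obtain ⟨k, rfl⟩ := (omegaEquiv Q).surjective s
  have hmat : ((((omegaEquiv Q (osimOmega K (OSim.ofPair g σ h) k) : ↥(Cfsg.Omega F (⇑Q))) :
      ↥(Cfsg.isometryGroup F (⇑Q))) : GL ι F) : Matrix ι ι F) =
      (g : Matrix ι ι F) * ((((omegaEquiv Q k : ↥(Cfsg.Omega F (⇑Q))) :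
        ↥(Cfsg.isometryGroup F (⇑Q))) : GL ι F) : Matrix ι ι F).map σ *
          ((g⁻¹ : GL ι F) : Matrix ι ι F) := by
    refine Matrix.ext_iff_mulVec.2 fun w => ?_
    obtain ⟨v, rfl⟩ := (OSim.ofPair g σ h).T.surjective w
    rw [oq_mulVec K, osimOmega_apply, AddEquiv.symm_apply_apply, ← oq_mulVec K k]
    show (g : Matrix ι ι F) *ᵥ _ = _ *ᵥ ((g : Matrix ι ι F) *ᵥ _)
    rw [Matrix.mulVec_mulVec, mul_assoc, Units.inv_mul, mul_one, ← Matrix.mulVec_mulVec]
    exact congrArg _ (funext fun i => RingHom.map_mulVec (σ : F →+* F) _ v i)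
  rw [hβ _ _ hmat]
  refine ((isInduced_osimPOmega K (OSim.ofPair g σ h)) _ _ ?_).symm
  rw [OSim.ofPair_mat K]
  exact hmat

theorem eq_osimPOmega_std {σ : F ≃+* F} (hσ : ∀ v : ι → F, Q (fun i => σ (v i)) = σ (Q v))
    {β : MulAut (Cfsg.POmega F (⇑Q))} (hβ : Cfsg.IsFieldAutPOmegaOf (⇑Q) σ β) :
    β = osimPOmega K (OSim.std σ hσ) := by
  have hpair : Cfsg.IsSemisimilarityPair (⇑Q) 1 σ := ⟨1, fun v => by
    rw [Units.val_one, Units.val_one, Matrix.one_mulVec, one_mul]; exact hσ v⟩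
  rw [eq_osimPOmega_of_induced K hpair (β := β) (fun s s' hss => hβ s s' (by simpa using hss))]
  refine (osimPOmega_eq_iff K _ _).2 ⟨1, one_ne_zero, fun v => ?_⟩
  show ((1 : GL ι F) : Matrix ι ι F) *ᵥ _ = _
  rw [Units.val_one, Matrix.one_mulVec, one_smul]
  rfl

end CfsgLib.KnownC
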