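import Mathlib
import Cfsg.Agent.Lib.KnownC.FieldDescent

set_option autoImplicit false

/-!
Galois descent for semilinear maps of a finite-dimensional space over a finite field, and descent of
quadratic forms to a fixed field.
-/

namespace CfsgLib.KnownC

variable {F V : Type*} [Field F] [Finite F] [AddCommGroup V] [Module F V] [FiniteDimensional F V]
variable (σ : F ≃+* F) (T : V →+ V) (hT : ∀ (a : F) (v : V), T (a • v) = σ a • T v)

include hT

omit [Finite F] [FiniteDimensional F V] in
theorem iterate_semilinear (k : ℕ) (a : F) (v : V) :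
    T^[k] (a • v) = (σ ^ k : F ≃+* F) a • T^[k] v := by
  induction k with
  | zero => rfl
  | succ k ih => rw [Function.iterate_succ_apply', Function.iterate_succ_apply', ih, hT, pow_succ']; rfl

/-- A semilinear map of order dividing that of its field automorphism has a basis of fixed vectors. -/
theorem exists_fixed_frame {κ : Type*} [Fintype κ] [DecidableEq κ]
    (hκ : Fintype.card κ = Module.finrank F V) (hr : ∀ v, T^[orderOf σ] v = v) :
    ∃ H : (κ → F) ≃ₗ[F] V, ∀ v, T (H v) = H fun i => σ (v i) := by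
  classical
  haveI : Finite (F ≃+* F) :=
    Finite.of_injective (fun s : F ≃+* F => (s : F → F)) DFunLike.coe_injective
  let S : Set V := {v | T v = v}
  have hspan : Submodule.span F S = ⊤ := by
    by_contra hne
    obtain ⟨v, hv⟩ : ∃ v, v ∉ Submodule.span F S := by
      by_contra h
      exact hne (Submodule.eq_top_iff'.2 fun v => not_not.1 fun hv => h ⟨v, hv⟩)
    obtain ⟨φ, hφv, hφ⟩ := Submodule.exists_dual_map_eq_bot_of_notMem hv inferInstance
    have hzero : ∀ s ∈ S, φ s = 0 := fun s hs =>
      (Submodule.eq_bot_iff _).1 hφ _ (Submodule.mem_map_of_mem (Submodule.subset_span hs))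
    let χ : Fin (orderOf σ) → (F →* F) := fun i =>
      ((σ ^ (i : ℕ) : F ≃+* F) : F →+* F).toMonoidHom
    have hχ : Function.Injective χ := fun i j hij => by
      have : σ ^ (i : ℕ) = σ ^ (j : ℕ) := RingEquiv.ext fun x => DFunLike.congr_fun hij x
      exact Fin.ext (pow_injOn_Iio_orderOf i.2 j.2 this)
    have hli := (linearIndependent_monoidHom F F).comp χ hχ
    have hsum : ∀ c : F, ∑ i : Fin (orderOf σ), φ (T^[i] v) * (σ ^ (i : ℕ) : F ≃+* F) c = 0 := by
      intro c
      have hmem : (∑ i ∈ Finset.range (orderOf σ), T^[i] (c • v)) ∈ S := by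
        show T _ = _
        rw [map_sum]
        simp only [← Function.iterate_succ_apply' T]
        have h1 := Finset.sum_range_succ' (fun i => T^[i] (c • v)) (orderOf σ)
        rw [Finset.sum_range_succ, hr, Function.iterate_zero_apply] at h1
        exact (add_right_cancel h1).symm
      have h2 := hzero _ hmem
      rw [map_sum, Finset.sum_range] at h2
      rw [← h2]
      refine Finset.sum_congr rfl fun i _ => ?_
      rw [iterate_semilinear σ T hT, map_smul, smul_eq_mul, mul_comm]
    have hpos : 0 < orderOf σ := orderOf_pos σ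
    exact hφv (Fintype.linearIndependent_iff.1 hli (fun i => φ (T^[i] v))
      (funext fun c => by
        rw [Finset.sum_apply, Pi.zero_apply, ← hsum c]
        exact Finset.sum_congr rfl fun i _ => rfl) ⟨0, hpos⟩)
  obtain ⟨t, hts, htsp, hli⟩ := exists_linearIndependent F S
  let b0 : Module.Basis t F V :=
    Module.Basis.mk hli (by rw [Subtype.range_coe_subtype, Set.setOf_mem_eq, htsp]; exact hspan.ge)
  haveI := b0.fintypeIndexOfRankLtAleph0 (Module.rank_lt_aleph0 F V)
  have hcard : Fintype.card t = Fintype.card κ := by rw [hκ, Module.finrank_eq_card_basis b0]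
  let b := b0.reindex (Fintype.equivOfCardEq hcard)
  have hb : ∀ i, T (b i) = b i := fun i => by
    rw [Module.Basis.reindex_apply, Module.Basis.mk_apply]; exact hts (Subtype.prop _)
  refine ⟨b.equivFun.symm, fun v => ?_⟩
  rw [Module.Basis.equivFun_symm_apply, Module.Basis.equivFun_symm_apply, map_sum]
  exact Finset.sum_congr rfl fun i _ => by rw [hT, hb]

/-- The same up to a scalar. -/
theorem exists_fixed_frame_scalar {κ : Type*} [Fintype κ] [DecidableEq κ] [Nontrivial V]
    (hκ : Fintype.card κ = Module.finrank F V) {a : F} (ha : a ≠ 0)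
    (hr : ∀ v, T^[orderOf σ] v = a • v) :
    ∃ (m : F) (H : (κ → F) ≃ₗ[F] V), m ≠ 0 ∧ ∀ v, T (H v) = m • H fun i => σ (v i) := by
  have hfix : σ a = a := by
    by_contra hne
    obtain ⟨v, hv⟩ := exists_ne (0 : V)
    have h1 : T (T^[orderOf σ] v) = T^[orderOf σ] (T v) := by
      rw [← Function.iterate_succ_apply' T, Function.iterate_succ_apply]
    rw [hr, hr, hT, ← sub_eq_zero, ← sub_smul, smul_eq_zero] at h1
    have hTv : T v = 0 := h1.resolve_left (sub_ne_zero.2 hne)
    have h2 := hr v
    haveI : Finite (F ≃+* F) :=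
      Finite.of_injective (fun s : F ≃+* F => (s : F → F)) DFunLike.coe_injective
    obtain ⟨k, hk⟩ : ∃ k, orderOf σ = k + 1 := ⟨orderOf σ - 1, by have := orderOf_pos σ; omega⟩
    rw [hk, Function.iterate_succ_apply, hTv, iterate_map_zero] at h2
    exact hv ((smul_eq_zero.1 h2.symm).resolve_left ha)
  obtain ⟨m, hm⟩ : Units.mk0 a ha ∈ (unitNorm σ).range := by
    rw [unitNorm_range]; exact (mem_unitTwist_ker σ _).2 hfix
  let T' : V →+ V := AddMonoidHom.mk' (fun v => ((m⁻¹ : Fˣ) : F) • T v) fun u v => by
    rw [map_add, smul_add]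
  have hT' : ∀ (b : F) (v : V), T' (b • v) = σ b • T' v := fun b v => by
    show ((m⁻¹ : Fˣ) : F) • T (b • v) = σ b • (((m⁻¹ : Fˣ) : F) • T v)
    rw [hT, smul_comm]
  have hit : ∀ (k : ℕ) (v : V), T'^[k] v = ((∏ i ∈ Finset.range k,
      Units.map ((σ ^ i : F ≃+* F) : F →+* F).toMonoidHom m⁻¹ : Fˣ) : F) • T^[k] v := by
    intro k
    induction k with
    | zero => simp
    | succ k ih =>
      intro v
      rw [Function.iterate_succ_apply, ih, Finset.prod_range_succ, Units.val_mul, mul_smul]
      show ((_ : Fˣ) : F) • T^[k] (((m⁻¹ : Fˣ) : F) • T v) = _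
      rw [iterate_semilinear σ T hT, ← Function.iterate_succ_apply]
      rfl
  obtain ⟨H, hH⟩ := exists_fixed_frame σ T' hT' hκ fun v => by
    rw [hit, ← unitNorm_apply, map_inv, hm, hr, Units.val_inv_eq_inv_val, Units.val_mk0,
      inv_smul_smul₀ ha]
  refine ⟨m, H, m.ne_zero, fun v => ?_⟩
  rw [← hH v]
  show T (H v) = (m : F) • (((m⁻¹ : Fˣ) : F) • T (H v))
  rw [smul_smul, Units.mul_inv, one_smul]

end CfsgLib.KnownC
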