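import Mathlib
import Cfsg.Agent.Lib.KnownC.AutPOmegaSemi
import Cfsg.Agent.Lib.KnownC.SemilinearDescent

set_option autoImplicit false
set_option linter.unusedSectionVars false
set_option linter.style.haveILetI false

/-!
Descent of a quadratic form to a fixed field, and conjugacy of the semisimilitudes of finite order in the
coset of a standard field automorphism.
-/

namespace CfsgLib.KnownC

open CfsgLib.Geom CfsgLib.Classical
open QuadraticMap (polar)

universe u v

variable {F : Type u} [Field F] {F₀ : Type v} [Field F₀] (ι₀ : F₀ →+* F)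
variable {κ : Type} [Fintype κ] [DecidableEq κ]

/-- Two quadratic forms with the same values on the vectors over a subfield coincide. -/
theorem quad_ext_subfield {Q R : QuadraticForm F (κ → F)}
    (h : ∀ v : κ → F₀, Q (fun i => ι₀ (v i)) = R fun i => ι₀ (v i)) : Q = R := by
  obtain ⟨e, he⟩ : ∃ e : κ → (κ → F), ∀ i, e i = fun j => ι₀ ((Pi.single i (1 : F₀) : κ → F₀) j) :=
    ⟨fun i j => ι₀ ((Pi.single i (1 : F₀) : κ → F₀) j), fun _ => rfl⟩
  have hpol : ∀ i j, polar Q (e i) (e j) = polar R (e i) (e j) := by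
    intro i j
    have h1 := h (Pi.single i 1 + Pi.single j 1)
    rw [show (fun k => ι₀ ((Pi.single i (1 : F₀) + Pi.single j 1 : κ → F₀) k)) = e i + e j from
      funext fun k => by simp [he]] at h1
    simp only [QuadraticMap.polar, h1]
    rw [he, he, h, h]
  have hspan : Submodule.span F (Set.range e) = ⊤ := by
    rw [eq_top_iff, ← (Pi.basisFun F κ).span_eq, Submodule.span_le]
    rintro _ ⟨i, rfl⟩
    refine Submodule.subset_span ⟨i, ?_⟩
    rw [he, Pi.basisFun_apply]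
    funext j
    by_cases hij : j = i
    · subst hij; simp
    · simp [hij]
  refine QuadraticMap.ext fun v => sub_eq_zero.1 ?_
  rw [← QuadraticMap.sub_apply]
  have hv : v ∈ Submodule.span F (Set.range e) := hspan ▸ Submodule.mem_top
  have hp : ∀ i, ∀ w, polar (Q - R) (e i) w = 0 := by
    intro i w
    have hw : w ∈ Submodule.span F (Set.range e) := hspan ▸ Submodule.mem_top
    induction hw using Submodule.span_induction with
    | mem x hx =>
      obtain ⟨j, rfl⟩ := hx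
      have := hpol i j
      simp only [QuadraticMap.polar, QuadraticMap.sub_apply] at this ⊢
      linear_combination this
    | zero => exact QuadraticMap.polar_zero_right _ _
    | add x y _ _ hx hy => rw [QuadraticMap.polar_add_right, hx, hy, add_zero]
    | smul a x _ hx => rw [QuadraticMap.polar_smul_right, hx, smul_zero]
  suffices key : (Q - R) v = 0 ∧ ∀ w, polar (Q - R) v w = 0 from key.1
  induction hv using Submodule.span_induction with
  | mem x hx =>
    obtain ⟨i, rfl⟩ := hx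
    refine ⟨?_, hp i⟩
    rw [QuadraticMap.sub_apply, sub_eq_zero, he]; exact h _
  | zero => exact ⟨QuadraticMap.map_zero _, fun w => QuadraticMap.polar_zero_left _ _⟩
  | add x y _ _ hx hy =>
    exact ⟨by rw [QuadraticMap.map_add (Q - R : QuadraticMap F _ F), hx.1, hy.1, hx.2]; simp,
      fun w => by rw [QuadraticMap.polar_add_left, hx.2, hy.2, add_zero]⟩
  | smul a x _ hx =>
    exact ⟨by rw [QuadraticMap.map_smul, hx.1, smul_zero],
      fun w => by rw [QuadraticMap.polar_smul_left, hx.2, smul_zero]⟩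

/-- A form commuting with a field automorphism descends to the fixed field. -/
theorem exists_descend_quad (σ : F ≃+* F) (hι : ∀ x, σ x = x ↔ ∃ a, ι₀ a = x)
    (R : QuadraticForm F (κ → F)) (hR : ∀ v, R (fun i => σ (v i)) = σ (R v)) :
    ∃ R₀ : QuadraticForm F₀ (κ → F₀), ∀ v, ι₀ (R₀ v) = R fun i => ι₀ (v i) := by
  have hfix : ∀ v : κ → F₀, ∃ a, ι₀ a = R fun i => ι₀ (v i) := fun v => (hι _).1 (by
    rw [← hR]
    exact congrArg R (funext fun i => (hι _).2 ⟨v i, rfl⟩))
  choose R₀ hR₀ using hfix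
  have hsub : ∀ u v : κ → F₀, ι₀ (polar R₀ u v) = polar R (fun i => ι₀ (u i)) fun i => ι₀ (v i) := by
    intro u v
    simp only [QuadraticMap.polar, map_sub, hR₀]
    rw [show (fun i => ι₀ ((u + v) i)) = (fun i => ι₀ (u i)) + fun i => ι₀ (v i) from
      funext fun i => map_add ι₀ _ _]
  refine ⟨QuadraticMap.ofPolar R₀ (fun a x => ι₀.injective ?_) (fun x x' y => ι₀.injective ?_)
    (fun a x y => ι₀.injective ?_), hR₀⟩
  · rw [hR₀, show (fun i => ι₀ ((a • x) i)) = ι₀ a • fun i => ι₀ (x i) from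
      funext fun i => map_mul ι₀ a (x i), QuadraticMap.map_smul, smul_eq_mul, smul_eq_mul, map_mul,
      map_mul, hR₀]
  · rw [map_add, hsub, hsub, hsub, ← QuadraticMap.polar_add_left]
    exact congrArg (fun w => polar R w _) (funext fun i => map_add ι₀ _ _)
  · rw [smul_eq_mul, map_mul, hsub, hsub, ← smul_eq_mul, ← QuadraticMap.polar_smul_left]
    exact congrArg (fun w => polar R w _) (funext fun i => map_mul ι₀ _ _)

/-- A descended form is non-degenerate with the original. -/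
theorem sep_descend {R : QuadraticForm F (κ → F)} {R₀ : QuadraticForm F₀ (κ → F₀)}
    (hR₀ : ∀ v, ι₀ (R₀ v) = R fun i => ι₀ (v i)) (hR : ∀ x, (∀ y, polar R x y = 0) → x = 0)
    (x : κ → F₀) (hx : ∀ y, polar R₀ x y = 0) : x = 0 := by
  have h0 : (fun i => ι₀ (x i)) = (0 : κ → F) := hR _ fun y => by
    rw [pi_eq_sum_univ y, ← QuadraticMap.polarBilin_apply_apply, map_sum, Finset.sum_eq_zero]
    intro i _
    rw [map_smul, QuadraticMap.polarBilin_apply_apply, smul_eq_mul, mul_eq_zero]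
    refine Or.inr ?_
    have h1 := congrArg ι₀ (hx (Pi.single i 1))
    simp only [QuadraticMap.polar, map_sub, hR₀, map_zero] at h1
    have e1 : (fun k => ι₀ ((x + Pi.single i (1 : F₀) : κ → F₀) k)) = (fun k => ι₀ (x k)) + fun k =>
        (if i = k then (1 : F) else 0) := funext fun k => by
      by_cases hik : k = i
      · subst hik; simp
      · simp [hik, Ne.symm hik]
    have e2 : (fun k => ι₀ ((Pi.single i (1 : F₀) : κ → F₀) k)) = fun k => (if i = k then (1 : F) else 0) :=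
      funext fun k => by
        by_cases hik : k = i
        · subst hik; simp
        · simp [hik, Ne.symm hik]
    rw [e1, e2] at h1
    exact h1
  funext i
  exact ι₀.injective ((congrFun h0 i).trans (map_zero ι₀).symm)

variable [Finite F] {ι : Type} [Fintype ι] [DecidableEq ι] {Q : QuadraticForm F (ι → F)} (K : OCtx Q)
include K

/-- A semisimilitude inducing an automorphism of the order of its field automorphism has a frame in which
it is the standard one up to a scalar, and the form in that frame commutes with the field automorphism up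
to a scalar. -/
theorem exists_frame_of_pow (Φ : OSim Q) (h : osimPOmega K Φ ^ orderOf Φ.σ = 1) :
    ∃ (m d : F) (H : (ι → F) ≃ₗ[F] (ι → F)), m ≠ 0 ∧ d ≠ 0 ∧
      (∀ v, Φ.T (H v) = m • H fun i => Φ.σ (v i)) ∧
      ∀ v : ι → F, d * Q (H fun i => Φ.σ (v i)) = Φ.σ (d * Q (H v)) := by
  rw [← osimPOmega_pow, osimPOmega_eq_one_iff] at h
  obtain ⟨a, ha0, ha⟩ := h
  haveI : Nonempty ι := Fintype.card_pos_iff.1 (by
    have := K.seven; rw [Module.finrank_fintype_fun_eq_card] at this; omega)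
  obtain ⟨m, H, hm, hH⟩ := exists_fixed_frame_scalar Φ.σ Φ.T.toAddMonoidHom Φ.smul
    (Module.finrank_fintype_fun_eq_card F).symm ha0 (κ := ι) fun v => by
      rw [← ha, OSim.pow_T]; rfl
  obtain ⟨ν, hν⟩ : ∃ ν, ν = Φ.c / (m * m) := ⟨_, rfl⟩
  have hν0 : ν ≠ 0 := hν ▸ div_ne_zero Φ.c_ne (mul_ne_zero hm hm)
  have hP : ∀ v : ι → F, Q (H fun i => Φ.σ (v i)) = ν * Φ.σ (Q (H v)) := by
    intro v
    have h1 := Φ.quad (H v)
    rw [show Φ.T (H v) = m • H fun i => Φ.σ (v i) from hH v, quad_smul] at h1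
    rw [hν]; field_simp; linear_combination h1
  obtain ⟨v₀, hv₀⟩ : ∃ v₀, Q (H v₀) ≠ 0 := by
    obtain ⟨u, -, -, hu⟩ := exists_perp_anisotropic Q K.sep (five_le K) 0 0
    exact ⟨H.symm u, by rwa [LinearEquiv.apply_symm_apply]⟩
  have hiter : ∀ k : ℕ, Q (H fun i => (Φ.σ ^ k : F ≃+* F) (v₀ i)) = ((∏ i ∈ Finset.range k,
      Units.map ((Φ.σ ^ i : F ≃+* F) : F →+* F).toMonoidHom (Units.mk0 ν hν0) : Fˣ) : F) *
        (Φ.σ ^ k : F ≃+* F) (Q (H v₀)) := by
    intro k
    induction k with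
    | zero => simp
    | succ k ih =>
      have h1 := hP fun i => (Φ.σ ^ k : F ≃+* F) (v₀ i)
      rw [pow_succ']
      refine h1.trans ?_
      rw [ih, map_mul, Units.coe_prod, map_prod, Finset.prod_range_succ', Units.val_mul, Units.coe_prod]
      have e : ∀ i, Φ.σ ((Units.map ((Φ.σ ^ i : F ≃+* F) : F →+* F).toMonoidHom (Units.mk0 ν hν0) : Fˣ) : F) =
          ((Units.map ((Φ.σ ^ (i + 1) : F ≃+* F) : F →+* F).toMonoidHom (Units.mk0 ν hν0) : Fˣ) : F) :=
        fun i => by rw [pow_succ']; rfl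
      simp only [e]
      show ν * (_ * Φ.σ ((Φ.σ ^ k : F ≃+* F) (Q (H v₀)))) = _ * ν * Φ.σ ((Φ.σ ^ k : F ≃+* F) (Q (H v₀)))
      ring
  haveI : Finite (F ≃+* F) :=
    Finite.of_injective (fun s : F ≃+* F => (s : F → F)) DFunLike.coe_injective
  have hN : unitNorm Φ.σ (Units.mk0 ν hν0) = 1 := by
    have h1 := hiter (orderOf Φ.σ)
    rw [pow_orderOf_eq_one, ← unitNorm_apply] at h1
    refine Units.ext (mul_right_cancel₀ hv₀ ?_)
    rw [Units.val_one, one_mul]
    exact h1.symm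
  obtain ⟨w, hw⟩ : Units.mk0 ν hν0 ∈ (unitTwist Φ.σ).range := by
    rw [← unitNorm_ker]; exact MonoidHom.mem_ker.2 hN
  have hwν : (w : F) / Φ.σ (w : F) = ν := by rw [← coe_unitTwist, hw, Units.val_mk0]
  refine ⟨m, (w : F)⁻¹, H, hm, inv_ne_zero w.ne_zero, fun v => hH v, fun v => ?_⟩
  have hσw : Φ.σ (w : F) ≠ 0 := (map_ne_zero Φ.σ).2 w.ne_zero
  have hw0 := w.ne_zero
  rw [hP, map_mul, map_inv₀, ← hwν]
  field_simp

/-- If every non-degenerate form over the fixed field is similar to the given one, an element of the order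
of its field automorphism is conjugate to the standard field automorphism by a similitude. -/
theorem exists_conj_std (Φ : OSim Q) (hσ : ∀ v : ι → F, Q (fun i => Φ.σ (v i)) = Φ.σ (Q v))
    (hι : ∀ x, Φ.σ x = x ↔ ∃ a, ι₀ a = x) {Q₀ : QuadraticForm F₀ (ι → F₀)}
    (hQ₀ : ∀ v, ι₀ (Q₀ v) = Q fun i => ι₀ (v i))
    (hsim : ∀ R₀ : QuadraticForm F₀ (ι → F₀), (∀ x, (∀ y, polar R₀ x y = 0) → x = 0) →
      ∃ (M : (ι → F₀) ≃ₗ[F₀] (ι → F₀)) (e : F₀), e ≠ 0 ∧ ∀ v, R₀ (M v) = e * Q₀ v)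
    (h : osimPOmega K Φ ^ orderOf Φ.σ = 1) :
    ∃ Ψ : OSim Q, Ψ.σ = RingEquiv.refl F ∧
      osimPOmega K Φ = osimPOmega K Ψ * osimPOmega K (OSim.std Φ.σ hσ) * (osimPOmega K Ψ)⁻¹ := by
  obtain ⟨m, d, H, hm, hd, hH, hR⟩ := exists_frame_of_pow K Φ h
  obtain ⟨R, hRv⟩ : ∃ R : QuadraticForm F (ι → F), ∀ v, R v = d * Q (H v) :=
    ⟨d • Q.comp H.toLinearMap, fun v => rfl⟩
  obtain ⟨R₀, hR₀⟩ := exists_descend_quad ι₀ Φ.σ hι R fun v => by rw [hRv, hRv, hR]
  have hRsep : ∀ x, (∀ y, polar R x y = 0) → x = 0 := fun x hx => H.injective (by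
    rw [map_zero]
    refine K.sep _ fun y => ?_
    obtain ⟨z, rfl⟩ := H.surjective y
    have h1 := hx z
    simp only [QuadraticMap.polar, hRv, map_add] at h1 ⊢
    have h2 : d * (Q (H x + H z) - Q (H x) - Q (H z)) = 0 := by linear_combination h1
    exact (mul_eq_zero.1 h2).resolve_left hd)
  obtain ⟨M, e, he, hM⟩ := hsim R₀ (sep_descend ι₀ hR₀ hRsep)
  obtain ⟨L, hL, hLσ⟩ : ∃ L : (ι → F) ≃ₗ[F] (ι → F),
      (∀ v : ι → F₀, L (fun i => ι₀ (v i)) = fun i => ι₀ (M v i)) ∧
        ∀ v, L (fun i => Φ.σ (v i)) = fun i => Φ.σ (L v i) := by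
    obtain ⟨A, hA⟩ : ∃ A : Matrix.GeneralLinearGroup ι F₀, A = glOfEquiv M := ⟨_, rfl⟩
    obtain ⟨B, hB⟩ : ∃ B : Matrix.GeneralLinearGroup ι F, B = Matrix.GeneralLinearGroup.map ι₀ A := ⟨_, rfl⟩
    obtain ⟨L, hL⟩ := glOfEquiv_bijective.2 B
    refine ⟨L, fun v => ?_, fun v => ?_⟩
    · rw [← glOfEquiv_mulVec, hL, hB, ← glOfEquiv_mulVec M, ← hA]
      exact (funext fun i => RingHom.map_mulVec ι₀ A.1 v i).symm
    · rw [← glOfEquiv_mulVec L, ← glOfEquiv_mulVec L, hL]
      refine funext fun i => ?_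
      have h1 := RingHom.map_mulVec (Φ.σ : F →+* F) B.1 v i
      have h2 : B.1.map Φ.σ = B.1 := Matrix.ext fun r s => (hι _).2 ⟨A.1 r s, by rw [hB]; rfl⟩
      refine Eq.trans ?_ h1.symm
      show Matrix.mulVec B.1 _ i = Matrix.mulVec (B.1.map Φ.σ) _ i
      rw [h2]
      rfl
  have hRL : ∀ v, R (L v) = ι₀ e * Q v := by
    have : R.comp L.toLinearMap = ι₀ e • Q := quad_ext_subfield ι₀ fun v => by
      show R (L fun i => ι₀ (v i)) = ι₀ e * Q fun i => ι₀ (v i)
      rw [hL, ← hR₀, hM, map_mul, hQ₀]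
    intro v
    exact congrArg (fun P : QuadraticForm F (ι → F) => P v) this
  obtain ⟨Ψ, hΨσ, hΨT⟩ : ∃ Ψ : OSim Q, Ψ.σ = RingEquiv.refl F ∧ ∀ v, Ψ.T v = H (L v) :=
    ⟨⟨RingEquiv.refl F, ι₀ e / d, (L.trans H).toAddEquiv,
      div_ne_zero ((map_ne_zero ι₀).2 he) hd, fun a v => (L.trans H).map_smul a v, fun v => by
        show Q (H (L v)) = ι₀ e / d * Q v
        have := hRL v
        rw [hRv] at this
        field_simp
        linear_combination this⟩, rfl, fun v => rfl⟩
  refine ⟨Ψ, hΨσ, ?_⟩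
  rw [eq_mul_inv_iff_mul_eq, ← osimPOmega_comp, ← osimPOmega_comp, osimPOmega_eq_iff]
  refine ⟨m, hm, fun v => ?_⟩
  show Φ.T (Ψ.T v) = m • Ψ.T fun i => Φ.σ (v i)
  rw [hΨT, hΨT, hH, hLσ]

end CfsgLib.KnownC
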