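import Mathlib
import Cfsg.Agent.Lib.KnownC.AutPOmegaDescent
import Cfsg.Agent.Lib.Geom.FormClass

set_option autoImplicit false
set_option linter.unusedSectionVars false
set_option linter.style.haveILetI false

/-!
The automorphism group of the odd-dimensional orthogonal group: inner-diagonal automorphisms are those of
the special orthogonal group, and forms over subfields are similar to the standard one.
-/

namespace CfsgLib.KnownC

open CfsgLib.Geom CfsgLib.Classical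
open QuadraticMap (polar)

universe u

section General

variable {F : Type u} [Field F] {ι : Type} [Fintype ι] [DecidableEq ι] {Q : QuadraticForm F (ι → F)}

/-- An element of the special isometry group as a semisimilitude. -/
noncomputable def OSim.ofSO (g : Cfsg.specialIsometryGL F (⇑Q)) : OSim Q where
  σ := RingEquiv.refl F
  c := 1
  T := (Matrix.GeneralLinearGroup.toLin g.1).toLinearEquiv.toAddEquiv
  c_ne := one_ne_zero
  smul a v := (Matrix.GeneralLinearGroup.toLin g.1).toLinearEquiv.map_smul a v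
  quad v := by
    show Q ((g.1 : Matrix ι ι F).mulVec v) = _
    exact ((mem_isometryGroup_iff _ _).1 g.2.1 v).trans (one_mul _).symm

theorem OSim.ofSO_T (g : Cfsg.specialIsometryGL F (⇑Q)) (v : ι → F) :
    (OSim.ofSO g).T v = (g.1 : Matrix ι ι F).mulVec v := rfl

variable [Finite F] (K : OCtx Q)

/-- The action of the special orthogonal group. -/
noncomputable def soHom : Cfsg.specialIsometryGL F (⇑Q) →* MulAut (Cfsg.POmega F (⇑Q)) where
  toFun g := osimPOmega K (OSim.ofSO g)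
  map_one' := (osimPOmega_eq_one_iff K _).2 ⟨1, one_ne_zero, fun v => by
    rw [OSim.ofSO_T, OneMemClass.coe_one, Units.val_one, Matrix.one_mulVec, one_smul]⟩
  map_mul' g h := by
    rw [← osimPOmega_comp, osimPOmega_eq_iff]
    refine ⟨1, one_ne_zero, fun v => ?_⟩
    rw [one_smul]
    show ((g * h).1 : Matrix ι ι F).mulVec v = (g.1 : Matrix ι ι F).mulVec ((h.1 : Matrix ι ι F).mulVec v)
    rw [Subgroup.coe_mul, Units.val_mul, Matrix.mulVec_mulVec]

include K

theorem orderOf_osimPOmega_std (σ : F ≃+* F) (hσ : ∀ v : ι → F, Q (fun i => σ (v i)) = σ (Q v)) :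
    orderOf (osimPOmega K (OSim.std σ hσ)) = orderOf σ := by
  obtain ⟨e, he0, -⟩ := exists_singular Q K.sep (five_le K)
  obtain ⟨i, hi⟩ : ∃ i, e i ≠ 0 := by
    by_contra h; push Not at h; exact he0 (funext h)
  have hT : ∀ k (v : ι → F), ((OSim.std σ hσ).pow k).T v = fun j => (σ ^ k : F ≃+* F) (v j) := by
    intro k
    induction k with
    | zero => intro v; rfl
    | succ k ih =>
      intro v
      rw [pow_succ']
      show (OSim.std σ hσ).T (((OSim.std σ hσ).pow k).T v) = _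
      rw [ih]; rfl
  refine orderOf_eq_orderOf_iff.2 fun k => ?_
  rw [← osimPOmega_pow, osimPOmega_eq_one_iff]
  constructor
  · rintro ⟨a, -, ha⟩
    have h1 : ∀ t : F, (σ ^ k : F ≃+* F) t = a * t := fun t => by
      simpa [hT] using congrFun (ha (Pi.single i t)) i
    refine RingEquiv.ext fun t => ?_
    have h2 := h1 1
    rw [map_one, mul_one] at h2
    rw [h1, ← h2, one_mul]; rfl
  · intro h
    exact ⟨1, one_ne_zero, fun v => by rw [hT, h, one_smul]; rfl⟩

theorem soHom_injective (hodd : Odd (Fintype.card ι)) : Function.Injective (soHom K) := by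
  refine (injective_iff_map_eq_one _).2 fun g hg => ?_
  obtain ⟨a, -, ha⟩ := (osimPOmega_eq_one_iff K _).1 hg
  obtain ⟨u, -, -, hu⟩ := exists_perp_anisotropic Q K.sep (five_le K) 0 0
  have h1 : a ^ 2 = 1 := by
    have h2 := (OSim.ofSO g).quad u
    rw [ha, quad_smul, show (OSim.ofSO g).c = 1 from rfl, one_mul,
      show (OSim.ofSO g).σ (Q u) = Q u from rfl] at h2
    rw [sq]; exact mul_right_cancel₀ hu (h2.trans (one_mul _).symm)
  have hm : (g.1 : Matrix ι ι F) = Matrix.scalar ι a := Matrix.ext_iff_mulVec.2 fun v => by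
    rw [← OSim.ofSO_T, ha]
    funext j
    rw [Matrix.scalar_apply, Matrix.mulVec_diagonal]; rfl
  have hd : (g.1 : Matrix ι ι F).det = 1 := congrArg Units.val g.2.2
  rw [hm, Matrix.scalar_apply, Matrix.det_diagonal, Finset.prod_const, Finset.card_univ] at hd
  obtain ⟨k, hk⟩ := hodd
  rw [hk, pow_succ, pow_mul, h1, one_pow, one_mul] at hd
  refine Subtype.ext (Units.ext ?_)
  rw [hm, hd]; simp

omit [Finite F] in
theorem det_polar_ne_zero : (LinearMap.toMatrix₂' F Q.polarBilin).det ≠ 0 :=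
  Matrix.separatingLeft_iff_det_ne_zero.1 ((LinearMap.separatingLeft_toMatrix₂'_iff (B := Q.polarBilin)).2 K.sep)

/-- In odd dimension a similitude is a scalar multiple of a special isometry. -/
theorem exists_so_of_similitude (hodd : Odd (Fintype.card ι)) (Φ : OSim Q)
    (hΦ : Φ.σ = RingEquiv.refl F) : ∃ g, soHom K g = osimPOmega K Φ := by
  obtain ⟨k, hk⟩ := hodd
  obtain ⟨L, hL⟩ : ∃ L : (ι → F) →ₗ[F] (ι → F), ∀ v, L v = Φ.T v :=
    ⟨{ toFun := Φ.T, map_add' := map_add Φ.T, map_smul' := fun a v => by rw [Φ.smul, hΦ]; rfl },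
      fun v => rfl⟩
  have hG := det_polar_ne_zero K
  have hcong : (LinearMap.toMatrix' L).det ^ 2 = Φ.c ^ Fintype.card ι := by
    have h1 : Q.polarBilin.compl₁₂ L L = Φ.c • Q.polarBilin := LinearMap.ext₂ fun u v => by
      show polar Q (L u) (L v) = Φ.c * polar Q u v
      rw [hL, hL, Φ.polar_map, hΦ]; rfl
    have h2 := congrArg (fun B => (LinearMap.toMatrix₂' F B).det) h1
    simp only [LinearMap.toMatrix₂'_compl₁₂, map_smul, Matrix.det_mul, Matrix.det_transpose,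
      Matrix.det_smul] at h2
    refine mul_right_cancel₀ hG ?_
    linear_combination h2
  obtain ⟨s, hs⟩ : ∃ s, s = (LinearMap.toMatrix' L).det / Φ.c ^ k := ⟨_, rfl⟩
  have hck : Φ.c ^ k ≠ 0 := pow_ne_zero _ Φ.c_ne
  have hs2 : s * s = Φ.c := by
    rw [hs]; field_simp
    rw [hk] at hcong
    linear_combination hcong
  have hs0 : s ≠ 0 := fun h0 => Φ.c_ne (by rw [← hs2, h0, zero_mul])
  have hdet : (s⁻¹ • LinearMap.toMatrix' L).det = 1 := by
    have h3 : s ^ (2 * k + 1) = (LinearMap.toMatrix' L).det := by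
      rw [pow_succ, pow_mul, sq, hs2, hs]; field_simp
    rw [Matrix.det_smul, hk, inv_pow, h3]
    exact inv_mul_cancel₀ (h3 ▸ pow_ne_zero _ hs0)
  obtain ⟨A, hA⟩ : ∃ A : GL ι F, (A : Matrix ι ι F) = s⁻¹ • LinearMap.toMatrix' L :=
    ⟨Matrix.GeneralLinearGroup.mkOfDetNeZero _ (by rw [hdet]; exact one_ne_zero), rfl⟩
  have hAv : ∀ v, (A : Matrix ι ι F).mulVec v = s⁻¹ • Φ.T v := fun v => by
    rw [hA, Matrix.smul_mulVec, LinearMap.toMatrix'_mulVec, hL]
  have hAm : A ∈ Cfsg.specialIsometryGL F (⇑Q) := by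
    refine ⟨(mem_isometryGroup_iff _ _).2 fun v => ?_, Units.ext ?_⟩
    · rw [hAv, quad_smul, Φ.quad, hΦ, show (RingEquiv.refl F) (Q v) = Q v from rfl, ← hs2]
      field_simp
    · rw [Matrix.GeneralLinearGroup.val_det_apply, hA, hdet]; rfl
  refine ⟨⟨A, hAm⟩, (osimPOmega_eq_iff K _ _).2 ⟨s⁻¹, inv_ne_zero hs0, fun v => ?_⟩⟩
  rw [OSim.ofSO_T, hAv]

/-- The automorphisms induced by similitudes form a normal subgroup. -/
theorem normal_of_mem_iff (hn : 9 ≤ Fintype.card ι ∨ NoFour Q) (H : Subgroup (MulAut (Cfsg.POmega F (⇑Q))))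
    (hH : ∀ β, β ∈ H ↔ ∃ Φ : OSim Q, Φ.σ = RingEquiv.refl F ∧ osimPOmega K Φ = β) : H.Normal := by
  refine ⟨fun β hβ α => ?_⟩
  obtain ⟨Φ, hΦ, rfl⟩ := (hH β).1 hβ
  obtain ⟨Ψ, rfl⟩ := exists_osimPOmega K hn α
  refine (hH _).2 ⟨(Ψ.comp Φ).comp Ψ.inv, RingEquiv.ext fun x => ?_, ?_⟩
  · show Ψ.σ (Φ.σ (Ψ.σ.symm x)) = x
    rw [hΦ]
    simp
  · rw [osimPOmega_comp, osimPOmega_comp, osimPOmega_inv]

end General

section Odd

variable {F : Type u} [Field F] {m : ℕ}

theorem qfOdd_map {F₀ : Type*} [Field F₀] (f : F₀ →+* F) (v : Unit ⊕ (Fin m ⊕ Fin m) → F₀) :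
    f (qfOdd m F₀ v) = qfOdd m F fun i => f (v i) := by
  simp [qfOdd_apply, Cfsg.quadFormOdd, map_sum]

theorem qfOdd_equivariant (σ : F ≃+* F) (v : Unit ⊕ (Fin m ⊕ Fin m) → F) :
    qfOdd m F (fun i => σ (v i)) = σ (qfOdd m F v) :=
  (qfOdd_map (σ : F →+* F) v).symm

theorem octx_odd (h2 : (2 : F) ≠ 0) (hm : 3 ≤ m) : OCtx (qfOdd m F) :=
  ⟨qfOdd_sep h2 m, by rw [Module.finrank_fintype_fun_eq_card]; simp; omega⟩

theorem odd_card : Odd (Fintype.card (Unit ⊕ (Fin m ⊕ Fin m))) := ⟨m, by simp; omega⟩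

variable [Finite F]

theorem noFour_odd (K : OCtx (qfOdd m F)) :
    9 ≤ Fintype.card (Unit ⊕ (Fin m ⊕ Fin m)) ∨ NoFour (qfOdd m F) := by
  rcases Nat.lt_or_ge m 4 with h | h
  · exact Or.inr (noFour_of_lt K.sep (by simp; omega))
  · exact Or.inl (by simp; omega)

/-- Every non-degenerate form of odd dimension is similar to the standard one. -/
theorem similar_qfOdd (h2 : (2 : F) ≠ 0) (R : QuadraticForm F (Unit ⊕ (Fin m ⊕ Fin m) → F))
    (hR : ∀ x, (∀ y, polar R x y = 0) → x = 0) :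
    ∃ (M : (Unit ⊕ (Fin m ⊕ Fin m) → F) ≃ₗ[F] (Unit ⊕ (Fin m ⊕ Fin m) → F)) (e : F), e ≠ 0 ∧
      ∀ v, R (M v) = e * qfOdd m F v := by
  obtain ⟨D, hD⟩ : ∃ D, D = (LinearMap.toMatrix₂ (Pi.basisFun F _) (Pi.basisFun F _) R.polarBilin).det :=
    ⟨_, rfl⟩
  obtain ⟨D', hD'⟩ : ∃ D', D' =
      (LinearMap.toMatrix₂ (Pi.basisFun F _) (Pi.basisFun F _) (qfOdd m F).polarBilin).det := ⟨_, rfl⟩
  have hne : ∀ {P : QuadraticForm F (Unit ⊕ (Fin m ⊕ Fin m) → F)}, (∀ x, (∀ y, polar P x y = 0) → x = 0) →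
      (LinearMap.toMatrix₂ (Pi.basisFun F _) (Pi.basisFun F _) P.polarBilin).det ≠ 0 := fun {P} hP =>
    (LinearMap.separatingLeft_iff_det_ne_zero (B := P.polarBilin) (Pi.basisFun F _)).1 hP
  have hD0 : D ≠ 0 := hD ▸ hne hR
  have hD'0 : D' ≠ 0 := hD' ▸ hne (qfOdd_sep h2 m)
  obtain ⟨e, he⟩ : ∃ e, e = D / D' := ⟨_, rfl⟩
  have he0 : e ≠ 0 := he ▸ div_ne_zero hD0 hD'0
  obtain ⟨Q', hQ'⟩ : ∃ Q', Q' = e • qfOdd m F := ⟨_, rfl⟩
  have hpB : Q'.polarBilin = e • (qfOdd m F).polarBilin := LinearMap.ext₂ fun x y => by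
    rw [hQ']
    show polar (⇑(e • qfOdd m F)) x y = e * polar (qfOdd m F) x y
    simp only [QuadraticMap.polar, QuadraticMap.smul_apply, smul_eq_mul]; ring
  obtain ⟨M, hM⟩ := exists_isometry_of_disc Q' R h2 (fun x hx => qfOdd_sep h2 m x fun y => by
      have h1 := LinearMap.congr_fun₂ hpB x y
      rw [QuadraticMap.polarBilin_apply_apply, hx] at h1
      exact (mul_eq_zero.1 h1.symm).resolve_left he0)
    hR (Pi.basisFun F _) (Pi.basisFun F _) (by
      rw [hpB, map_smul, Matrix.det_smul, ← hD, ← hD', he]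
      obtain ⟨k, hk⟩ := odd_card (m := m)
      refine ⟨(D / D') ^ k * D, ?_⟩
      rw [hk, pow_succ, mul_assoc ((D / D') ^ (2 * k)), div_mul_cancel₀ D hD'0]; ring)
  exact ⟨M, e, he0, fun v => by rw [hM, hQ']; rfl⟩

theorem inndiagPOmegaOdd_mem_iff (K : OCtx (qfOdd m F)) (β : MulAut (Cfsg.POmega F (⇑(qfOdd m F)))) :
    β ∈ Subgroup.closure {β : MulAut (Cfsg.POmega F (⇑(qfOdd m F))) |
        Cfsg.IsSimilarityInducedAutPOmega (⇑(qfOdd m F)) β} ↔ ∃ g, soHom K g = β := by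
  constructor
  · intro hβ
    suffices h : β ∈ (soHom K).range from h
    refine (Subgroup.closure_le _).2 ?_ hβ
    rintro α ⟨g, ⟨c, hc⟩, hα⟩
    have hpair : Cfsg.IsSemisimilarityPair (⇑(qfOdd m F)) g (RingEquiv.refl F) := ⟨c, fun v => hc v⟩
    rw [eq_osimPOmega_of_induced K hpair hα]
    exact exists_so_of_similitude K odd_card _ rfl
  · rintro ⟨g, rfl⟩
    refine Subgroup.subset_closure ⟨(OSim.ofSO g).mat, ⟨1, fun v => ?_⟩,
      isInduced_osimPOmega K (OSim.ofSO g)⟩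
    exact ((congrArg (qfOdd m F) ((OSim.ofSO g).mat_mulVec K v)).trans ((OSim.ofSO g).quad v))

theorem inndiag_odd_mem_iff_sim (K : OCtx (qfOdd m F)) (β : MulAut (Cfsg.POmega F (⇑(qfOdd m F)))) :
    β ∈ (soHom K).range ↔ ∃ Φ : OSim (qfOdd m F), Φ.σ = RingEquiv.refl F ∧ osimPOmega K Φ = β := by
  constructor
  · rintro ⟨g, rfl⟩; exact ⟨OSim.ofSO g, rfl, rfl⟩
  · rintro ⟨Φ, hΦ, rfl⟩; exact exists_so_of_similitude K odd_card Φ hΦ

end Odd

end CfsgLib.KnownC
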