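import Mathlib
import Cfsg.Agent.Lib.KnownC.AutPOmegaOdd
import Cfsg.Agent.Lib.KnownC.FieldUnits
import Cfsg.Agent.Lib.KnownC.SplitClass

set_option autoImplicit false
set_option linter.unusedSectionVars false
set_option linter.style.haveILetI false

/-!
Field automorphisms of `Ω_{2m+1}(q)`: conjugacy in a coset of the inner-diagonal group.
-/

namespace CfsgLib.KnownC

open CfsgLib.Geom CfsgLib.Classical
open QuadraticMap (polar)

universe u

variable {F : Type u} [Field F] {m : ℕ}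

/-- The group generated by the automorphisms induced by similitudes. -/
abbrev simAut (Q' : (Unit ⊕ (Fin m ⊕ Fin m) → F) → F) : Subgroup (MulAut (Cfsg.POmega F Q')) :=
  Subgroup.closure {β : MulAut (Cfsg.POmega F Q') | Cfsg.IsSimilarityInducedAutPOmega Q' β}

variable [Fintype F]

theorem simAut_mem_iff (K : OCtx (qfOdd m F)) (β : MulAut (Cfsg.POmega F (⇑(qfOdd m F)))) :
    β ∈ simAut (⇑(qfOdd m F)) ↔ ∃ g, soHom K g = β :=
  inndiagPOmegaOdd_mem_iff K β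

theorem simAut_mem_iff_sim (K : OCtx (qfOdd m F)) (β : MulAut (Cfsg.POmega F (⇑(qfOdd m F)))) :
    β ∈ simAut (⇑(qfOdd m F)) ↔ ∃ Φ : OSim (qfOdd m F), Φ.σ = RingEquiv.refl F ∧ osimPOmega K Φ = β :=
  (inndiagPOmegaOdd_mem_iff K β).trans (inndiag_odd_mem_iff_sim K β)

theorem simAut_normal (K : OCtx (qfOdd m F)) : (simAut (⇑(qfOdd m F))).Normal :=
  normal_of_mem_iff K (noFour_odd K) _ (simAut_mem_iff_sim K)

/-- A field automorphism is conjugate to a standard one of the same order. -/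
theorem exists_std_of_class (K : OCtx (qfOdd m F)) {x : MulAut (Cfsg.POmega F (⇑(qfOdd m F)))}
    (hx : Cfsg.IsFieldAutClassPOmega (⇑(qfOdd m F)) x) :
    ∃ (α : MulAut (Cfsg.POmega F (⇑(qfOdd m F)))) (σ : F ≃+* F), σ ≠ RingEquiv.refl F ∧
      α * x * α⁻¹ = osimPOmega K (OSim.std σ (qfOdd_equivariant σ)) ∧ orderOf σ = orderOf x := by
  obtain ⟨α, φ₀, σ, hσ, hφ₀, hαx⟩ := hx
  have hstd : α * x * α⁻¹ = osimPOmega K (OSim.std σ (qfOdd_equivariant σ)) :=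
    hαx.trans (eq_osimPOmega_std K (qfOdd_equivariant σ) hφ₀)
  refine ⟨α, σ, hσ, hstd, ?_⟩
  rw [← orderOf_osimPOmega_std K σ (qfOdd_equivariant σ), ← hstd, ← MulAut.conj_apply,
    MulEquiv.orderOf_eq]

theorem odd_coset_conj (hodd : Odd (Fintype.card F)) (hm : 3 ≤ m)
    (Q' : (Unit ⊕ (Fin m ⊕ Fin m) → F) → F) (hQ' : Q' = ⇑(qfOdd m F))
    (x δ : MulAut (Cfsg.POmega F Q')) (hx : Cfsg.IsFieldAutClassPOmega Q' x) {r : ℕ} (hr : r.Prime)
    (hxr : orderOf x = r) (hδ : δ ∈ simAut Q') :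
    orderOf (δ * x) = r ↔ Cfsg.IsConjUnder (simAut Q') x (δ * x) := by
  subst hQ'
  have h2 := two_ne_zero_of_odd (F := F) hodd
  have K := octx_odd (F := F) h2 hm
  haveI := simAut_normal K
  constructor
  swap
  · rintro ⟨h, -, he⟩
    rw [he, ← MulAut.conj_apply, MulEquiv.orderOf_eq, hxr]
  intro hord
  obtain ⟨α, σ, -, hstd, hoσ⟩ := exists_std_of_class K hx
  rw [hxr] at hoσ
  rw [← isConjUnder_conj_iff (simAut (⇑(qfOdd m F))) α]
  obtain ⟨Φ₁, hΦ₁, hg⟩ := (simAut_mem_iff_sim K _).1 (Subgroup.Normal.conj_mem inferInstance δ hδ α)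
  obtain ⟨Φ, hΦσ, hy⟩ : ∃ Φ : OSim (qfOdd m F), Φ.σ = σ ∧ α * (δ * x) * α⁻¹ = osimPOmega K Φ :=
    ⟨Φ₁.comp (OSim.std σ (qfOdd_equivariant σ)), by
      show (RingEquiv.trans σ Φ₁.σ) = σ
      rw [hΦ₁]
      rfl, by rw [osimPOmega_comp, hg, ← hstd]; group⟩
  obtain ⟨p, hp⟩ := CharP.exists F
  haveI : Fact p.Prime :=
    ⟨(CharP.char_is_prime_or_zero F p).resolve_right (CharP.char_ne_zero_of_finite F p)⟩
  obtain ⟨f, -, hF⟩ := FiniteField.card F p
  obtain ⟨hdvd, -, hemb⟩ := exists_fixed_embedding σ hF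
  rw [hoσ] at hdvd hemb
  have hpos : 0 < (f : ℕ) / r := Nat.div_pos (Nat.le_of_dvd f.pos hdvd) hr.pos
  haveI : Fintype (GaloisField p ((f : ℕ) / r)) := Fintype.ofFinite _
  obtain ⟨ι, hι⟩ := hemb (GaloisField p ((f : ℕ) / r))
    (by rw [← Nat.card_eq_fintype_card, GaloisField.card p _ (by omega)])
  subst hΦσ
  have h20 : (2 : GaloisField p ((f : ℕ) / r)) ≠ 0 := fun h0 => h2 (by
    rw [← map_ofNat ι 2, h0, map_zero])
  obtain ⟨Ψ, hΨ, hΨe⟩ := exists_conj_std ι K Φ (qfOdd_equivariant Φ.σ) hι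
    (qfOdd_map ι) (similar_qfOdd h20) (by
      rw [← hy, hoσ, ← MulAut.conj_apply, ← map_pow, ← hord, pow_orderOf_eq_one, map_one])
  exact ⟨osimPOmega K Ψ, (simAut_mem_iff_sim K _).2 ⟨Ψ, hΨ, rfl⟩, by rw [hy, hΨe, hstd]⟩

end CfsgLib.KnownC
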