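import Mathlib
import Cfsg.Agent.Lib.KnownC.AutPOmegaOddConj
import Cfsg.Agent.Lib.Geom.OmegaIndex

set_option autoImplicit false
set_option linter.unusedSectionVars false
set_option linter.style.haveILetI false

/-!
The field part of an automorphism of `PΩ(Q)`; the outer automorphism group of `Ω_{2m+1}(q)`.
-/

namespace CfsgLib.KnownC

open CfsgLib.Geom CfsgLib.Classical
open QuadraticMap (polar)

universe u

section General

variable {F : Type u} [Field F] [Finite F] {ι : Type} [Fintype ι] [DecidableEq ι]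
variable {Q : QuadraticForm F (ι → F)} (K : OCtx Q)
include K

/-- The field part of an automorphism. -/
theorem exists_fieldPart_omega (hn : 9 ≤ Fintype.card ι ∨ NoFour Q) :
    ∃ ψ : MulAut (Cfsg.POmega F (⇑Q)) →* (F ≃+* F), ∀ Φ : OSim Q, ψ (osimPOmega K Φ) = Φ.σ := by
  choose P hP using exists_osimPOmega K hn
  refine ⟨MonoidHom.mk' (fun β => (P β).σ) fun a b => ?_, fun Φ => osimPOmega_σ_eq K (hP _).symm⟩
  exact osimPOmega_σ_eq K (Φ := P (a * b)) (Ψ := (P a).comp (P b))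
    (by rw [← hP, osimPOmega_comp, ← hP, ← hP])

/-- Inner automorphisms come from the isometries in `Ω`. -/
theorem conj_oqEquiv (g : OG K) :
    MulAut.conj (oqEquiv K (toOQ K g)) = osimPOmega K (OSim.ofIsom g.1) := by
  refine MulEquiv.ext fun x => ?_
  simp [osimPOmega, osimAut_ofIsom]

theorem conjHom_pOmega_injective :
    Function.Injective (MulAut.conj : Cfsg.POmega F (⇑Q) →* MulAut (Cfsg.POmega F (⇑Q))) := by
  refine (injective_iff_map_eq_one _).2 fun x hx => ?_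
  obtain ⟨y, rfl⟩ := (oqEquiv K).surjective x
  obtain ⟨g, rfl⟩ := toOQ_surjective K y
  rw [conj_oqEquiv, osimPOmega_eq_one_iff] at hx
  obtain ⟨a, -, ha⟩ := hx
  rw [toOQ_eq_one_of_scalar K (k := g) ha, map_one]

theorem card_inn_pOmega :
    Nat.card (Cfsg.Inn (Cfsg.POmega F (⇑Q))) = Nat.card (Cfsg.POmega F (⇑Q)) :=
  (Nat.card_congr (MonoidHom.ofInjective (conjHom_pOmega_injective K)).toEquiv).symm

omit K in
/-- The spinor norm on the special isometry group. -/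
noncomputable def soSpinor (hsep : ∀ x, (∀ y, polar Q x y = 0) → x = 0) (h2 : (2 : F) ≠ 0) :
    Cfsg.specialIsometryGL F (⇑Q) →* SqClass F :=
  (MonoidHom.snd _ _).comp ((spinorHom Q hsep (exGen_of_odd h2)).comp (Subgroup.inclusion inf_le_left))

theorem soSpinor_eq_one_iff (h2 : (2 : F) ≠ 0) (g : Cfsg.specialIsometryGL F (⇑Q)) :
    soSpinor K.sep h2 g = 1 ↔ (⟨g.1, g.2.1⟩ : Cfsg.isometryGroup F (⇑Q)) ∈ Cfsg.Omega F (⇑Q) := by
  rw [omega_eq_ker_spinorHom Q K.sep (exGen_of_odd h2), MonoidHom.mem_ker]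
  refine ⟨fun h => Prod.ext ?_ h, fun h => congrArg Prod.snd h⟩
  show (spinorHom Q K.sep (exGen_of_odd h2) ⟨g.1, g.2.1⟩).1 = 1
  have h01 : ∀ y : Multiplicative (ZMod 2), y = 1 ∨ y = Multiplicative.ofAdd (1 : ZMod 2) := by decide
  rcases h01 (spinorHom Q K.sep (exGen_of_odd h2) ⟨g.1, g.2.1⟩).1 with h1 | h1
  · exact h1
  exfalso
  obtain ⟨v, hv⟩ := exists_value Q h2 K.sep
    (le_trans (by norm_num) K.seven) 1 one_ne_zero
  have hv0 : Q v ≠ 0 := by rw [hv]; exact one_ne_zero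
  obtain ⟨r, hr⟩ : ∃ r : Cfsg.isometryGroup F (⇑Q), r = orEquiv Q ⟨reflEquiv Q v hv0, reflEquiv_mem Q v hv0⟩ :=
    ⟨_, rfl⟩
  have hrm : ((r : Matrix.GeneralLinearGroup ι F) : Matrix ι ι F) = Cfsg.reflectionMatrix (⇑Q) v := by
    rw [hr, orEquiv_coe, glOfEquiv_reflEquiv]
  have h2' : (⟨g.1, g.2.1⟩ : Cfsg.isometryGroup F (⇑Q)) * r ∈ Cfsg.Omega F (⇑Q) := by
    rw [omega_eq_ker_spinorHom Q K.sep (exGen_of_odd h2), MonoidHom.mem_ker, map_mul,
      spinorHom_refl Q K.sep _ r hv0 hrm]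
    refine Prod.ext ?_ ?_
    · rw [Prod.fst_mul, h1]
      show Multiplicative.ofAdd (1 : ZMod 2) * Multiplicative.ofAdd (1 : ZMod 2) = 1
      decide
    · rw [Prod.snd_mul]
      show soSpinor K.sep h2 g * sqClass hv0 = 1
      rw [h, one_mul, sqClass_eq_one_iff, hv]
      exact IsSquare.one
  have h3 : Matrix.GeneralLinearGroup.det (((⟨g.1, g.2.1⟩ : Cfsg.isometryGroup F (⇑Q)) * r :
      Cfsg.isometryGroup F (⇑Q)) : Matrix.GeneralLinearGroup ι F) = 1 := omega_le_special Q h2'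
  have h4 := congrArg Units.val h3
  rw [Subgroup.coe_mul, Matrix.GeneralLinearGroup.val_det_apply, Units.val_mul, Matrix.det_mul,
    hrm, det_reflectionMatrix Q hv0,
    show (g.1 : Matrix ι ι F).det = 1 from congrArg Units.val g.2.2, one_mul, Units.val_one] at h4
  exact h2 (by linear_combination -h4)

theorem soSpinor_surjective (h2 : (2 : F) ≠ 0) : Function.Surjective (soSpinor K.sep h2) := by
  intro c
  obtain ⟨⟨g, hg⟩, hge⟩ := spinorHom_surjective_odd Q K.sep (exGen_of_odd h2) h2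
    (by have := K.seven; rw [Module.finrank_fintype_fun_eq_card] at this; omega) (1, c)
  refine ⟨⟨g, hg, ?_⟩, congrArg Prod.snd hge⟩
  by_contra hdet
  have hm : (⟨g, hg⟩ : Cfsg.isometryGroup F (⇑Q)) ∉ Cfsg.specialIsometryGroup F (⇑Q) := hdet
  have hd : (g : Matrix ι ι F).det * (g : Matrix ι ι F).det = 1 := by
    have h1 : (Q.polarBilin).compl₁₂ (Matrix.toLin' (g : Matrix ι ι F))
        (Matrix.toLin' (g : Matrix ι ι F)) = Q.polarBilin := LinearMap.ext₂ fun a b => by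
      simp only [LinearMap.compl₁₂_apply, QuadraticMap.polarBilin_apply_apply, Matrix.toLin'_apply,
        QuadraticMap.polar, ← Matrix.mulVec_add, (mem_isometryGroup_iff _ _).1 hg]
    have h3 := congrArg (fun B => (LinearMap.toMatrix₂' F B).det) h1
    simp only [LinearMap.toMatrix₂'_compl₁₂, Matrix.det_mul, Matrix.det_transpose,
      LinearMap.toMatrix'_toLin'] at h3
    exact mul_right_cancel₀ (det_polar_ne_zero K) (by linear_combination h3)
  rcases mul_self_eq_one_iff.1 hd with h1 | h1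
  · exact hdet (Units.ext h1)
  -- a reflection times `g` then has trivial first component but determinant one
  obtain ⟨v, hv⟩ := exists_value Q h2 K.sep
    (le_trans (by norm_num) K.seven) 1 one_ne_zero
  have hv0 : Q v ≠ 0 := by rw [hv]; exact one_ne_zero
  obtain ⟨r, hr⟩ : ∃ r : Cfsg.isometryGroup F (⇑Q), r = orEquiv Q ⟨reflEquiv Q v hv0, reflEquiv_mem Q v hv0⟩ :=
    ⟨_, rfl⟩
  have hrm : ((r : Matrix.GeneralLinearGroup ι F) : Matrix ι ι F) = Cfsg.reflectionMatrix (⇑Q) v := by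
    rw [hr, orEquiv_coe, glOfEquiv_reflEquiv]
  obtain ⟨s, hs⟩ : ∃ s : Cfsg.specialIsometryGL F (⇑Q), s.1 = g * r.1 :=
    ⟨⟨g * r.1, mul_mem hg r.2, Units.ext (by
      rw [Matrix.GeneralLinearGroup.val_det_apply, Units.val_mul, Matrix.det_mul, hrm,
        det_reflectionMatrix Q hv0, h1]; simp)⟩, rfl⟩
  have h5 : spinorHom Q K.sep (exGen_of_odd h2) ⟨s.1, s.2.1⟩ =
      (Multiplicative.ofAdd (1 : ZMod 2), c * sqClass hv0) := by
    rw [show (⟨s.1, s.2.1⟩ : Cfsg.isometryGroup F (⇑Q)) = ⟨g, hg⟩ * r from Subtype.ext hs, map_mul, hge,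
      spinorHom_refl Q K.sep _ r hv0 hrm]
    exact Prod.ext (one_mul _) rfl
  obtain ⟨w, hw⟩ := sqProj_surjective F c
  obtain ⟨u, hu⟩ := exists_value Q h2 K.sep
    (le_trans (by norm_num) K.seven) (w : F) w.ne_zero
  have hu0 : Q u ≠ 0 := by rw [hu]; exact w.ne_zero
  obtain ⟨r', hr'⟩ : ∃ r' : Cfsg.isometryGroup F (⇑Q), r' = orEquiv Q ⟨reflEquiv Q u hu0, reflEquiv_mem Q u hu0⟩ :=
    ⟨_, rfl⟩
  have hrm' : ((r' : Matrix.GeneralLinearGroup ι F) : Matrix ι ι F) = Cfsg.reflectionMatrix (⇑Q) u := by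
    rw [hr', orEquiv_coe, glOfEquiv_reflEquiv]
  have h6 : (⟨s.1, s.2.1⟩ : Cfsg.isometryGroup F (⇑Q)) * r' ∈ Cfsg.Omega F (⇑Q) := by
    rw [omega_eq_ker_spinorHom Q K.sep (exGen_of_odd h2), MonoidHom.mem_ker, map_mul, h5,
      spinorHom_refl Q K.sep _ r' hu0 hrm']
    refine Prod.ext (by decide : Multiplicative.ofAdd (1 : ZMod 2) * Multiplicative.ofAdd (1 : ZMod 2) = 1) ?_
    show c * sqClass hv0 * sqClass hu0 = 1
    rw [(sqClass_eq_one_iff hv0).2 (by rw [hv]; exact IsSquare.one), mul_one,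
      show sqClass hu0 = c by rw [← hw]; simp [sqClass, hu], sqClass_mul_self]
  have h7 : Matrix.GeneralLinearGroup.det (((⟨s.1, s.2.1⟩ : Cfsg.isometryGroup F (⇑Q)) * r' :
      Cfsg.isometryGroup F (⇑Q)) : Matrix.GeneralLinearGroup ι F) = 1 := omega_le_special Q h6
  have h8 := congrArg Units.val h7
  rw [Subgroup.coe_mul, Matrix.GeneralLinearGroup.val_det_apply, Units.val_mul, Matrix.det_mul,
    hrm', det_reflectionMatrix Q hu0,
    show (s.1 : Matrix ι ι F).det = 1 from congrArg Units.val s.2.2, one_mul, Units.val_one] at h8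
  exact h2 (by linear_combination -h8)

/-- The inner automorphisms are the images of the elements of spinor norm one. -/
theorem inn_eq_map_soSpinor (h2 : (2 : F) ≠ 0) :
    Cfsg.Inn (Cfsg.POmega F (⇑Q)) = (soSpinor K.sep h2).ker.map (soHom K) := by
  have key : ∀ (g : Cfsg.specialIsometryGL F (⇑Q)) (k : OG K),
      g.1 = glOfEquiv k.1.1 → soHom K g = MulAut.conj (oqEquiv K (toOQ K k)) := by
    intro g k hgk
    rw [conj_oqEquiv]
    refine (osimPOmega_eq_iff K _ _).2 ⟨1, one_ne_zero, fun v => ?_⟩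
    rw [one_smul, OSim.ofSO_T, hgk, glOfEquiv_mulVec]
    rfl
  refine le_antisymm ?_ ?_
  · rintro _ ⟨x, rfl⟩
    obtain ⟨y, rfl⟩ := (oqEquiv K).surjective x
    obtain ⟨k, rfl⟩ := toOQ_surjective K y
    obtain ⟨s, hs⟩ : ∃ s : Cfsg.Omega F (⇑Q), s = omegaEquiv Q k := ⟨_, rfl⟩
    refine ⟨⟨s.1.1, s.1.2, omega_le_special Q s.2⟩, MonoidHom.mem_ker.2 ((soSpinor_eq_one_iff K h2 _).2 s.2),
      key _ k ?_⟩
    show s.1.1 = _
    rw [hs, omegaEquiv_coe]; exact orEquiv_coe Q k.1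
  · rintro _ ⟨g, hg, rfl⟩
    obtain ⟨k, hk⟩ := (omegaEquiv Q).surjective ⟨⟨g.1, g.2.1⟩, (soSpinor_eq_one_iff K h2 g).1 hg⟩
    refine ⟨oqEquiv K (toOQ K k), (key g k ?_).symm⟩
    have h1 := congrArg (fun s : Cfsg.Omega F (⇑Q) => ((s : Cfsg.isometryGroup F (⇑Q)) :
      Matrix.GeneralLinearGroup ι F)) hk
    rw [← orEquiv_coe, ← omegaEquiv_coe]
    exact h1.symm

theorem card_ker_soSpinor (hodd : Odd (Fintype.card ι)) (h2 : (2 : F) ≠ 0) :
    Nat.card (soSpinor K.sep h2).ker = Nat.card (Cfsg.POmega F (⇑Q)) := by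
  rw [← card_inn_pOmega K, inn_eq_map_soSpinor K h2]
  exact (Nat.card_congr ((soSpinor K.sep h2).ker.equivMapOfInjective _
    (soHom_injective K hodd)).toEquiv)

theorem card_range_soHom (hodd : Odd (Fintype.card ι)) (h2 : (2 : F) ≠ 0) :
    Nat.card (soHom K).range = 2 * Nat.card (Cfsg.POmega F (⇑Q)) := by
  rw [← Nat.card_congr (MonoidHom.ofInjective (soHom_injective K hodd)).toEquiv,
    ← Subgroup.index_mul_card (soSpinor K.sep h2).ker, Subgroup.index_ker,
    MonoidHom.range_eq_top.2 (soSpinor_surjective K h2), Subgroup.card_top, card_sqClass_odd h2,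
    card_ker_soSpinor K hodd h2]

/-- The spinor norm is invariant under all automorphisms. -/
theorem soSpinor_conj (hodd : Odd (Fintype.card ι)) (h2 : (2 : F) ≠ 0)
    (α : MulAut (Cfsg.POmega F (⇑Q))) {g g' : Cfsg.specialIsometryGL F (⇑Q)}
    (h : soHom K g' = α * soHom K g * α⁻¹) : soSpinor K.sep h2 g' = soSpinor K.sep h2 g := by
  have key : ∀ (γ : MulAut (Cfsg.POmega F (⇑Q))) {a a' : Cfsg.specialIsometryGL F (⇑Q)},
      soHom K a' = γ * soHom K a * γ⁻¹ → soSpinor K.sep h2 a = 1 → soSpinor K.sep h2 a' = 1 := by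
    intro γ a a' haa ha
    have h1 : soHom K a ∈ Cfsg.Inn (Cfsg.POmega F (⇑Q)) := by
      rw [inn_eq_map_soSpinor K h2]; exact ⟨a, MonoidHom.mem_ker.2 ha, rfl⟩
    have h3 : soHom K a' ∈ Cfsg.Inn (Cfsg.POmega F (⇑Q)) := by
      rw [haa]; exact (Cfsg.innNormal _).conj_mem _ h1 γ
    rw [inn_eq_map_soSpinor K h2] at h3
    obtain ⟨b, hb, hbe⟩ := h3
    exact soHom_injective K hodd hbe ▸ MonoidHom.mem_ker.1 hb
  have hcard := card_sqClass_odd (F := F) h2
  haveI : Finite (SqClass F) := Nat.finite_of_card_ne_zero (by omega)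
  by_cases hg : soSpinor K.sep h2 g = 1
  · rw [hg, key α h hg]
  · have hg' : soSpinor K.sep h2 g' ≠ 1 := fun h0 => hg (key α⁻¹ (by rw [h]; group) h0)
    obtain ⟨x, y, hxy, hset⟩ := Nat.card_eq_two_iff.1 hcard
    have hall : ∀ z : SqClass F, z = x ∨ z = y := fun z => by
      have : z ∈ ({x, y} : Set (SqClass F)) := hset.symm ▸ Set.mem_univ z
      simpa using this
    rcases hall 1 with h1 | h1 <;> rcases hall (soSpinor K.sep h2 g) with h3 | h3 <;>
      rcases hall (soSpinor K.sep h2 g') with h4 | h4 <;> simp_all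

end General

section Odd

variable {F : Type u} [Field F] [Fintype F] {m : ℕ} (K : OCtx (qfOdd m F))
include K

theorem exists_out_hom_odd (h2 : (2 : F) ≠ 0) :
    ∃ ψ : MulAut (Cfsg.POmega F (⇑(qfOdd m F))) →* SqClass F × (F ≃+* F),
      Function.Surjective ψ ∧ ψ.ker = Cfsg.Inn (Cfsg.POmega F (⇑(qfOdd m F))) := by
  obtain ⟨fp, hfp⟩ := exists_fieldPart_omega K (noFour_odd K)
  obtain ⟨S, hS⟩ : ∃ S : (F ≃+* F) → MulAut (Cfsg.POmega F (⇑(qfOdd m F))),
      ∀ σ, S σ = osimPOmega K (OSim.std σ (qfOdd_equivariant σ)) := ⟨_, fun σ => rfl⟩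
  have hSmul : ∀ σ τ, S (σ * τ) = S σ * S τ := fun σ τ => by
    rw [hS, hS, hS, ← osimPOmega_comp]
    exact (osimPOmega_eq_iff K _ _).2 ⟨1, one_ne_zero, fun v => by rw [one_smul]; rfl⟩
  have hfpS : ∀ σ, fp (S σ) = σ := fun σ => by rw [hS, hfp]; rfl
  have hdec : ∀ β, ∃ g, soHom K g = β * (S (fp β))⁻¹ := by
    intro β
    obtain ⟨Φ, rfl⟩ := exists_osimPOmega K (noFour_odd K) β
    rw [hfp, hS, ← osimPOmega_inv, ← osimPOmega_comp]
    refine exists_so_of_similitude K odd_card _ (RingEquiv.ext fun x => ?_)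
    show Φ.σ (Φ.σ.symm x) = x
    simp
  choose g hg using hdec
  have hinj := soHom_injective K (odd_card (m := m))
  have hmul : ∀ a b, soSpinor K.sep h2 (g (a * b)) =
      soSpinor K.sep h2 (g a) * soSpinor K.sep h2 (g b) := by
    intro a b
    have h1 : soHom K (g (a * b)) = soHom K (g a) * (S (fp a) * soHom K (g b) * (S (fp a))⁻¹) := by
      rw [hg, hg, hg, map_mul, hSmul]; group
    obtain ⟨c, hc⟩ : ∃ c, soHom K c = S (fp a) * soHom K (g b) * (S (fp a))⁻¹ :=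
      ⟨(g a)⁻¹ * g (a * b), by rw [map_mul, h1, map_inv, inv_mul_cancel_left]⟩
    rw [← hc, ← map_mul] at h1
    rw [hinj h1, map_mul, soSpinor_conj K odd_card h2 _ hc]
  refine ⟨MonoidHom.mk' (fun β => (soSpinor K.sep h2 (g β), fp β)) (fun a b =>
    Prod.ext (hmul a b) (map_mul fp a b)), ?_, ?_⟩
  · rintro ⟨c, σ⟩
    obtain ⟨s, hs⟩ := soSpinor_surjective K h2 c
    refine ⟨soHom K s * S σ, ?_⟩
    have hσ : fp (soHom K s * S σ) = σ := by
      rw [map_mul, hfpS, show fp (soHom K s) = 1 from hfp (OSim.ofSO s), one_mul]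
    refine Prod.ext ?_ hσ
    show soSpinor K.sep h2 (g _) = c
    have : g (soHom K s * S σ) = s := hinj (by rw [hg, hσ, mul_inv_cancel_right])
    rw [this, hs]
  · have hS1 : S 1 = 1 := mul_eq_left.1 ((hSmul 1 1).symm.trans (by rw [one_mul]))
    ext β
    rw [MonoidHom.mem_ker]
    constructor
    · intro h
      obtain ⟨h1, h3⟩ := Prod.mk.injEq .. ▸ (show (soSpinor K.sep h2 (g β), fp β) = ((1 : SqClass F), (1 : F ≃+* F)) from h)
      rw [inn_eq_map_soSpinor K h2]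
      refine ⟨g β, MonoidHom.mem_ker.2 h1, ?_⟩
      rw [hg, h3, hS1, inv_one, mul_one]
    · intro h
      rw [inn_eq_map_soSpinor K h2] at h
      obtain ⟨s, hs, rfl⟩ := h
      have h3 : fp (soHom K s) = 1 := hfp (OSim.ofSO s)
      refine Prod.ext ?_ h3
      show soSpinor K.sep h2 (g _) = 1
      have : g (soHom K s) = s := hinj (by rw [hg, h3, hS1, inv_one, mul_one])
      rw [this]; exact hs

theorem card_mulAut_omega_odd (h2 : (2 : F) ≠ 0) :
    Nat.card (MulAut (Cfsg.POmega F (⇑(qfOdd m F)))) =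
      2 * Nat.card (F ≃+* F) * Nat.card (Cfsg.POmega F (⇑(qfOdd m F))) := by
  obtain ⟨ψ, hψ, hker⟩ := exists_out_hom_odd K h2
  rw [← ψ.ker.index_mul_card, Subgroup.index_ker, MonoidHom.range_eq_top.2 hψ, Subgroup.card_top,
    Nat.card_prod, card_sqClass_odd h2, hker, card_inn_pOmega K]

end Odd

end CfsgLib.KnownC
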