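import Mathlib
import Cfsg.Agent.Lib.KnownC.AutPOmegaOut
import Cfsg.Agent.Lib.KnownC.AutPOmegaDescent

set_option autoImplicit false
set_option linter.unusedSectionVars false

/-!
Base change of isometries along a field embedding, and functoriality of the spinor norm.
-/

namespace CfsgLib.KnownC

open CfsgLib.Geom CfsgLib.Classical
open QuadraticMap (polar)
open Matrix

universe u v

variable {F : Type u} [Field F] {F₀ : Type v} [Field F₀] (ι₀ : F₀ →+* F)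
variable {κ : Type} [Fintype κ] [DecidableEq κ]
variable {Q : QuadraticForm F (κ → F)} {Q₀ : QuadraticForm F₀ (κ → F₀)}
variable (hQ₀ : ∀ v, ι₀ (Q₀ v) = Q fun i => ι₀ (v i))

/-- The induced map on square classes. -/
def sqMap : SqClass F₀ →* SqClass F :=
  QuotientGroup.lift _ ((sqProj F).comp (Units.map ι₀.toMonoidHom)) fun a ha => by
    obtain ⟨b, rfl⟩ := ha
    rw [MonoidHom.mem_ker, MonoidHom.comp_apply, powMonoidHom_apply, map_pow, map_pow, sq,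
      sqClass_mul_self]

theorem sqMap_sqClass {a : F₀} (ha : a ≠ 0) :
    sqMap ι₀ (sqClass ha) = sqClass ((map_ne_zero ι₀).2 ha) := by
  show sqProj F (Units.map ι₀.toMonoidHom (Units.mk0 a ha)) = sqProj F (Units.mk0 _ _)
  exact congrArg _ (Units.ext rfl)

include hQ₀ in
theorem map_mem_isometry {g : Matrix.GeneralLinearGroup κ F₀}
    (hg : g ∈ Cfsg.isometryGroup F₀ (⇑Q₀)) :
    Matrix.GeneralLinearGroup.map ι₀ g ∈ Cfsg.isometryGroup F (⇑Q) := by
  rw [mem_isometryGroup_iff] at hg ⊢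
  have h : Q.comp ((g.1.map ι₀).mulVecLin) = Q := quad_ext_subfield ι₀ fun v => by
    rw [QuadraticMap.comp_apply, mulVecLin_apply,
      show g.1.map ι₀ *ᵥ (fun i => ι₀ (v i)) = fun i => ι₀ ((g.1 *ᵥ v) i) from
        funext fun i => (RingHom.map_mulVec ι₀ g.1 v i).symm, ← hQ₀, hg, hQ₀]
  intro u
  exact congrArg (fun R : QuadraticForm F (κ → F) => R u) h

/-- Base change of isometries. -/
def isoMap : Cfsg.isometryGroup F₀ (⇑Q₀) →* Cfsg.isometryGroup F (⇑Q) :=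
  ((Matrix.GeneralLinearGroup.map ι₀).comp (Cfsg.isometryGroup F₀ (⇑Q₀)).subtype).codRestrict _
    fun g => map_mem_isometry ι₀ hQ₀ g.2

theorem isoMap_coe (g : Cfsg.isometryGroup F₀ (⇑Q₀)) :
    (isoMap ι₀ hQ₀ g).1.1 = g.1.1.map ι₀ := rfl

/-- Base change of special isometries. -/
def soMap : Cfsg.specialIsometryGL F₀ (⇑Q₀) →* Cfsg.specialIsometryGL F (⇑Q) :=
  ((Matrix.GeneralLinearGroup.map ι₀).comp (Cfsg.specialIsometryGL F₀ (⇑Q₀)).subtype).codRestrict _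
    fun g => ⟨map_mem_isometry ι₀ hQ₀ g.2.1, by
      have h := congrArg Units.val (g.2.2 : Matrix.GeneralLinearGroup.det g.1 = 1)
      refine (Units.ext ?_ : Matrix.GeneralLinearGroup.det (Matrix.GeneralLinearGroup.map ι₀ g.1) = 1)
      rw [Matrix.GeneralLinearGroup.val_det_apply] at h ⊢
      rw [show (Matrix.GeneralLinearGroup.map ι₀ g.1 : Matrix κ κ F) = (g.1.1).map ι₀ from rfl]
      rw [show ((g.1.1).map ι₀).det = ι₀ g.1.1.det from (RingHom.map_det ι₀ g.1.1).symm, h,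
        Units.val_one, map_one, Units.val_one]⟩

theorem soMap_coe (g : Cfsg.specialIsometryGL F₀ (⇑Q₀)) :
    (soMap ι₀ hQ₀ g).1.1 = g.1.1.map ι₀ := rfl

theorem soMap_injective : Function.Injective (soMap ι₀ hQ₀) := fun a b h =>
  Subtype.ext (Units.ext (Matrix.map_injective ι₀.injective
    (congrArg (fun g : Cfsg.specialIsometryGL F (⇑Q) => g.1.1) h)))

/-- The special isometries with entries in the subfield are those coming from it. -/
theorem exists_soMap_eq_iff (σ : F ≃+* F) (hι : ∀ x, σ x = x ↔ ∃ a, ι₀ a = x)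
    (g : Cfsg.specialIsometryGL F (⇑Q)) :
    (∀ i j, σ (g.1.1 i j) = g.1.1 i j) ↔ ∃ g₀, soMap ι₀ hQ₀ g₀ = g := by
  constructor
  · intro h
    choose M hM using fun i j => (hι _).1 (h i j)
    have hMmap : (Matrix.of M).map ι₀ = g.1.1 := Matrix.ext hM
    have hdet : (Matrix.of M).det = 1 := ι₀.injective (by
      rw [RingHom.map_det, map_one]
      show ((Matrix.of M).map ι₀).det = 1
      rw [hMmap]
      exact congrArg Units.val (g.2.2 : Matrix.GeneralLinearGroup.det g.1 = 1))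
    refine ⟨⟨Matrix.GeneralLinearGroup.mkOfDetNeZero _ (by rw [hdet]; exact one_ne_zero),
      ⟨?_, Units.ext hdet⟩⟩, Subtype.ext (Units.ext hMmap)⟩
    refine (mem_isometryGroup_iff _ _).2 ?_
    intro v
    refine ι₀.injective ?_
    rw [hQ₀, hQ₀]
    show Q (fun i => ι₀ ((Matrix.of M *ᵥ v) i)) = _
    rw [show (fun i => ι₀ ((Matrix.of M *ᵥ v) i)) = g.1.1 *ᵥ fun i => ι₀ (v i) from
      funext fun i => (RingHom.map_mulVec ι₀ _ v i).trans (by rw [hMmap]; rfl)]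
    exact (mem_isometryGroup_iff _ _).1 g.2.1 _
  · rintro ⟨g₀, rfl⟩ i j
    exact (hι _).2 ⟨_, rfl⟩

theorem map_polar (hQ₀ : ∀ v, ι₀ (Q₀ v) = Q fun i => ι₀ (v i)) (x y : κ → F₀) :
    ι₀ (polar Q₀ x y) = polar Q (fun i => ι₀ (x i)) fun i => ι₀ (y i) := by
  simp only [QuadraticMap.polar, map_sub, hQ₀]
  rw [show (fun i => ι₀ ((x + y) i)) = (fun i => ι₀ (x i)) + fun i => ι₀ (y i) from
    funext fun i => map_add ι₀ _ _]

include hQ₀ in
theorem map_reflectionMatrix (v : κ → F₀) :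
    (Cfsg.reflectionMatrix (⇑Q₀) v).map ι₀ = Cfsg.reflectionMatrix (⇑Q) fun i => ι₀ (v i) := by
  ext i j
  simp only [Cfsg.reflectionMatrix, Cfsg.polarVec, Matrix.map_apply, Matrix.sub_apply,
    Matrix.smul_apply, Matrix.vecMulVec_apply, smul_eq_mul, map_sub, map_mul, map_inv₀, hQ₀,
    map_polar ι₀ hQ₀]
  have e : (fun k => ι₀ ((Pi.single j (1 : F₀) : κ → F₀) k)) = (Pi.single j (1 : F) : κ → F) :=
    funext fun k => by by_cases h : k = j <;> simp [h]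
  rw [e]
  by_cases h : i = j <;> simp [h, Matrix.one_apply]

/-- The spinor norm commutes with base change. -/
theorem spinorHom_isoMap (hsep : ∀ x, (∀ y, polar Q x y = 0) → x = 0)
    (hsep₀ : ∀ x, (∀ y, polar Q₀ x y = 0) → x = 0)
    (hex : (∃ t : F, t ≠ 0 ∧ t ≠ 1) ∨ Module.finrank F (κ → F) ≠ 4)
    (hex₀ : (∃ t : F₀, t ≠ 0 ∧ t ≠ 1) ∨ Module.finrank F₀ (κ → F₀) ≠ 4)
    (g : Cfsg.isometryGroup F₀ (⇑Q₀)) :
    spinorHom Q hsep hex (isoMap ι₀ hQ₀ g) =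
      ((spinorHom Q₀ hsep₀ hex₀ g).1, sqMap ι₀ (spinorHom Q₀ hsep₀ hex₀ g).2) := by
  obtain ⟨e, he⟩ : ∃ e, e = reflGroupEquiv Q₀ hsep₀ hex₀ := ⟨_, rfl⟩
  suffices h : ∀ (x : (κ → F₀) ≃ₗ[F₀] (κ → F₀)) (hx : x ∈ Subgroup.closure (reflSet Q₀)),
      spinorHom Q hsep hex (isoMap ι₀ hQ₀ (e.symm ⟨x, hx⟩)) =
        ((spinorHom Q₀ hsep₀ hex₀ (e.symm ⟨x, hx⟩)).1,
          sqMap ι₀ (spinorHom Q₀ hsep₀ hex₀ (e.symm ⟨x, hx⟩)).2) by
    have := h (e g).1 (e g).2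
    rwa [show (⟨(e g).1, (e g).2⟩ : Subgroup.closure (reflSet Q₀)) = e g from rfl,
      e.symm_apply_apply] at this
  intro x hx
  induction hx using Subgroup.closure_induction with
  | mem x hx =>
    obtain ⟨v, hv, rfl⟩ := hx
    have hmat : ((e.symm ⟨reflEquiv Q₀ v hv, Subgroup.subset_closure ⟨v, hv, rfl⟩⟩).1 :
        Matrix κ κ F₀) = Cfsg.reflectionMatrix (⇑Q₀) v := by
      subst he
      rw [← glOfEquiv_reflEquiv Q₀ v hv]
      exact congrArg Units.val (orEquiv_coe Q₀ _)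
    have hv' : Q (fun i => ι₀ (v i)) ≠ 0 := by rw [← hQ₀]; exact (map_ne_zero ι₀).2 hv
    rw [spinorHom_refl Q hsep hex _ hv' (by rw [isoMap_coe, hmat, map_reflectionMatrix ι₀ hQ₀]),
      spinorHom_refl Q₀ hsep₀ hex₀ _ hv hmat, sqMap_sqClass]
    refine Prod.ext rfl ?_
    show sqProj F (Units.mk0 _ _) = sqProj F (Units.mk0 _ _)
    exact congrArg _ (Units.ext (hQ₀ v).symm)
  | one =>
    rw [show (⟨1, one_mem _⟩ : Subgroup.closure (reflSet Q₀)) = 1 from rfl]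
    simp [Prod.ext_iff]
  | mul a b ha hb iha ihb =>
    rw [show (⟨a * b, mul_mem ha hb⟩ : Subgroup.closure (reflSet Q₀)) = ⟨a, ha⟩ * ⟨b, hb⟩ from rfl,
      map_mul, map_mul, map_mul, map_mul, iha, ihb]
    simp
  | inv a ha iha =>
    rw [show (⟨a⁻¹, inv_mem ha⟩ : Subgroup.closure (reflSet Q₀)) = ⟨a, ha⟩⁻¹ from rfl,
      map_inv, map_inv, map_inv, map_inv, iha]
    simp

theorem soSpinor_soMap (hsep : ∀ x, (∀ y, polar Q x y = 0) → x = 0)
    (hsep₀ : ∀ x, (∀ y, polar Q₀ x y = 0) → x = 0) (h2 : (2 : F) ≠ 0) (h20 : (2 : F₀) ≠ 0)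
    (g : Cfsg.specialIsometryGL F₀ (⇑Q₀)) :
    soSpinor hsep h2 (soMap ι₀ hQ₀ g) = sqMap ι₀ (soSpinor hsep₀ h20 g) :=
  congrArg Prod.snd (spinorHom_isoMap ι₀ hQ₀ hsep hsep₀ (exGen_of_odd h2) (exGen_of_odd h20)
    ⟨g.1, g.2.1⟩)

end CfsgLib.KnownC
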