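import Mathlib
import Cfsg.Agent.Lib.KnownC.AutPOmegaOut

set_option autoImplicit false
set_option linter.unusedSectionVars false
set_option linter.style.haveILetI false

/-!
Isometries and inner automorphisms of `PΩ(Q)`, in any dimension.
-/

namespace CfsgLib.KnownC

open CfsgLib.Geom CfsgLib.Classical
open QuadraticMap (polar)
open Matrix

universe u

variable {F : Type u} [Field F] {ι : Type} [Fintype ι] [DecidableEq ι] {Q : QuadraticForm F (ι → F)}

/-- An element of the isometry group as a semisimilitude. -/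
noncomputable def OSim.ofIsometry (g : Cfsg.isometryGroup F (⇑Q)) : OSim Q :=
  OSim.ofIsom ((orEquiv Q).symm g)

theorem OSim.ofIsometry_T (g : Cfsg.isometryGroup F (⇑Q)) (v : ι → F) :
    (OSim.ofIsometry g).T v = g.1.1 *ᵥ v := by
  obtain ⟨h, rfl⟩ := (orEquiv Q).surjective g
  rw [orEquiv_coe, glOfEquiv_mulVec]
  show ((orEquiv Q).symm (orEquiv Q h)).1 v = h.1 v
  rw [MulEquiv.symm_apply_apply]

variable [Finite F]

/-- The determinant and the first component of the spinor norm. -/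
theorem det_eq_of_spinorHom (hsep : ∀ x, (∀ y, polar Q x y = 0) → x = 0) (h2 : (2 : F) ≠ 0)
    (hn : 2 ≤ Fintype.card ι) (g : Cfsg.isometryGroup F (⇑Q)) :
    ((spinorHom Q hsep (exGen_of_odd h2) g).1 = 1 → g.1.1.det = 1) ∧
      ((spinorHom Q hsep (exGen_of_odd h2) g).1 ≠ 1 → g.1.1.det = -1) := by
  obtain ⟨χ, hχ⟩ : ∃ χ, χ = spinorHom Q hsep (exGen_of_odd h2) := ⟨_, rfl⟩
  rw [← hχ]
  have href : ∀ c : SqClass F, ∃ r : Cfsg.isometryGroup F (⇑Q),
      χ r = (Multiplicative.ofAdd 1, c) ∧ r.1.1.det = -1 := by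
    intro c
    obtain ⟨w, rfl⟩ := sqProj_surjective F c
    obtain ⟨v, hv⟩ := exists_value Q h2 hsep (by rwa [Module.finrank_fintype_fun_eq_card]) (w : F)
      w.ne_zero
    have hv0 : Q v ≠ 0 := by rw [hv]; exact w.ne_zero
    refine ⟨orEquiv Q ⟨reflEquiv Q v hv0, reflEquiv_mem Q v hv0⟩, ?_, ?_⟩
    · rw [hχ, spinorHom_refl Q hsep _ _ hv0 (by rw [orEquiv_coe, glOfEquiv_reflEquiv])]
      exact Prod.ext rfl (congrArg (sqProj F) (Units.ext hv))
    · rw [orEquiv_coe, glOfEquiv_reflEquiv, det_reflectionMatrix Q hv0]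
  have hker : ∀ h : Cfsg.isometryGroup F (⇑Q), χ h = 1 → h.1.1.det = 1 := by
    intro h hh
    have h1 : h ∈ Cfsg.Omega F (⇑Q) := by
      rw [omega_eq_ker_spinorHom Q hsep (exGen_of_odd h2)]; exact MonoidHom.mem_ker.2 (hχ ▸ hh)
    exact congrArg Units.val (omega_le_special Q h1 : Matrix.GeneralLinearGroup.det h.1 = 1)
  have h11 : Multiplicative.ofAdd (1 : ZMod 2) * Multiplicative.ofAdd (1 : ZMod 2) = 1 := by decide
  have hne : ∀ x : Multiplicative (ZMod 2), x ≠ 1 → x = Multiplicative.ofAdd 1 := by decide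
  have heven : ∀ h : Cfsg.isometryGroup F (⇑Q), (χ h).1 = 1 → h.1.1.det = 1 := by
    intro h hh
    obtain ⟨r, hr, hrd⟩ := href 1
    obtain ⟨r', hr', hrd'⟩ := href (χ h).2
    have h1 := hker (h * r * r') (by
      rw [map_mul, map_mul, hr, hr']
      refine Prod.ext ?_ ?_
      · show (χ h).1 * _ * _ = 1
        rw [hh, one_mul, h11]
      · show (χ h).2 * 1 * (χ h).2 = 1
        rw [mul_one, sqClass_mul_self])
    simp only [Subgroup.coe_mul, Units.val_mul, det_mul, hrd, hrd'] at h1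
    linear_combination h1
  refine ⟨heven g, fun hg => ?_⟩
  obtain ⟨r, hr, hrd⟩ := href 1
  have h1 := heven (g * r) (by rw [map_mul, hr]; show (χ g).1 * _ = 1; rw [hne _ hg, h11])
  simp only [Subgroup.coe_mul, Units.val_mul, det_mul, hrd] at h1
  linear_combination -h1

theorem spinorHom_fst_eq_one_iff (hsep : ∀ x, (∀ y, polar Q x y = 0) → x = 0) (h2 : (2 : F) ≠ 0)
    (hn : 2 ≤ Fintype.card ι) (g : Cfsg.isometryGroup F (⇑Q)) :
    (spinorHom Q hsep (exGen_of_odd h2) g).1 = 1 ↔ g.1.1.det = 1 := by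
  obtain ⟨h1, h3⟩ := det_eq_of_spinorHom hsep h2 hn g
  refine ⟨h1, fun h => by_contra fun hne => h2 ?_⟩
  have := (h3 hne).symm.trans h
  linear_combination -this

variable (K : OCtx Q)
include K

/-- Isometries act on `PΩ`. -/
noncomputable def isoHom : Cfsg.isometryGroup F (⇑Q) →* MulAut (Cfsg.POmega F (⇑Q)) where
  toFun g := osimPOmega K (OSim.ofIsometry g)
  map_one' := (osimPOmega_eq_one_iff K _).2 ⟨1, one_ne_zero, fun v => by
    rw [OSim.ofIsometry_T, OneMemClass.coe_one, Units.val_one, one_mulVec, one_smul]⟩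
  map_mul' g h := by
    rw [← osimPOmega_comp]
    refine (osimPOmega_eq_iff K _ _).2 ⟨1, one_ne_zero, fun v => ?_⟩
    rw [one_smul, OSim.ofIsometry_T, Subgroup.coe_mul, Units.val_mul, ← mulVec_mulVec]
    show _ = (OSim.ofIsometry g).T ((OSim.ofIsometry h).T v)
    rw [OSim.ofIsometry_T, OSim.ofIsometry_T]

theorem isoHom_apply (g : Cfsg.isometryGroup F (⇑Q)) :
    isoHom K g = osimPOmega K (OSim.ofIsometry g) := rfl

theorem isoHom_omega (g : Cfsg.isometryGroup F (⇑Q)) (hg : g ∈ Cfsg.Omega F (⇑Q)) :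
    isoHom K g ∈ Cfsg.Inn (Cfsg.POmega F (⇑Q)) := by
  obtain ⟨k, hk⟩ := (omegaEquiv Q).surjective ⟨g, hg⟩
  refine ⟨oqEquiv K (toOQ K k), ?_⟩
  show MulAut.conj (oqEquiv K (toOQ K k)) = _
  rw [conj_oqEquiv, isoHom_apply]
  refine (osimPOmega_eq_iff K _ _).2 ⟨1, one_ne_zero, fun v => ?_⟩
  rw [one_smul, OSim.ofIsometry_T, show g = orEquiv Q k.1 from
    ((omegaEquiv_coe Q k).symm.trans (congrArg Subtype.val hk)).symm, orEquiv_coe, glOfEquiv_mulVec]
  rfl

/-- An automorphism induced by a semisimilitude is inner iff this is a multiple of an element of `Ω`. -/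
theorem osimPOmega_mem_inn_iff (Φ : OSim Q) :
    osimPOmega K Φ ∈ Cfsg.Inn (Cfsg.POmega F (⇑Q)) ↔
      ∃ (a : F) (g : Cfsg.isometryGroup F (⇑Q)), a ≠ 0 ∧ g ∈ Cfsg.Omega F (⇑Q) ∧
        ∀ v, Φ.T v = a • g.1.1 *ᵥ v := by
  constructor
  · rintro ⟨x, hx⟩
    obtain ⟨y, rfl⟩ := (oqEquiv K).surjective x
    obtain ⟨k, rfl⟩ := toOQ_surjective K y
    rw [show MulAut.conj (oqEquiv K (toOQ K k)) = _ from conj_oqEquiv K k] at hx
    obtain ⟨a, ha, hav⟩ := (osimPOmega_eq_iff K _ _).1 hx.symm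
    refine ⟨a, orEquiv Q k.1, ha, ?_, fun v => ?_⟩
    · rw [← omegaEquiv_coe]; exact (omegaEquiv Q k).2
    · rw [hav, orEquiv_coe, glOfEquiv_mulVec]; rfl
  · rintro ⟨a, g, ha, hg, hgv⟩
    rw [show osimPOmega K Φ = isoHom K g from (osimPOmega_eq_iff K _ _).2 ⟨a, ha, fun v => by
      rw [OSim.ofIsometry_T, hgv]⟩]
    exact isoHom_omega K g hg

theorem isoHom_mem_inn_iff (g : Cfsg.isometryGroup F (⇑Q)) :
    isoHom K g ∈ Cfsg.Inn (Cfsg.POmega F (⇑Q)) ↔
      g ∈ Cfsg.Omega F (⇑Q) ∨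
        ∃ h : Cfsg.isometryGroup F (⇑Q), h ∈ Cfsg.Omega F (⇑Q) ∧ g.1.1 = -h.1.1 := by
  rw [isoHom_apply, osimPOmega_mem_inn_iff]
  constructor
  · rintro ⟨a, h, -, hh, hv⟩
    simp only [OSim.ofIsometry_T] at hv
    obtain ⟨v, hv0⟩ : ∃ v, Q v ≠ 0 := by
      obtain ⟨u, -, -, hu⟩ := exists_perp_anisotropic Q K.sep (five_le K) 0 0
      exact ⟨u, hu⟩
    have hsq : a * a = 1 := by
      have h1 := congrArg Q (hv v)
      rw [quad_smul, (mem_isometryGroup_iff _ _).1 g.2 v, (mem_isometryGroup_iff _ _).1 h.2 v] at h1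
      exact mul_right_cancel₀ hv0 (by linear_combination -h1)
    rcases mul_self_eq_one_iff.1 hsq with rfl | rfl
    · refine Or.inl ?_
      rwa [show g = h from Subtype.ext (Units.ext (Matrix.ext_iff_mulVec.2 fun v => by rw [hv, one_smul]))]
    · exact Or.inr ⟨h, hh, Matrix.ext_iff_mulVec.2 fun v => by rw [hv, neg_mulVec, neg_one_smul]⟩
  · rintro (hg | ⟨h, hh, hgh⟩)
    · exact ⟨1, g, one_ne_zero, hg, fun v => by rw [OSim.ofIsometry_T, one_smul]⟩
    · exact ⟨-1, h, neg_ne_zero.2 one_ne_zero, hh, fun v => by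
        rw [OSim.ofIsometry_T, hgh, neg_mulVec, neg_one_smul]⟩

end CfsgLib.KnownC
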