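import Mathlib
import Cfsg.Prelude.Def_Classical
import Cfsg.Prelude.Def_KGroupFacts
import Cfsg.Agent.Lib.Classical.OrthOmega

set_option autoImplicit false
set_option linter.unusedSectionVars false

/-!
Transport of `PΩ` along a similitude of forms, and of `Out` along isomorphisms.
-/

namespace CfsgLib.KnownC

open Matrix CfsgLib.Classical

universe u

variable {F : Type u} [Field F] {ι : Type} [Fintype ι] [DecidableEq ι]

theorem conj_mem_isometryGroup {Q R : (ι → F) → F} {M g : GL ι F} {c : F}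
    (h : ∀ v, R (M.1 *ᵥ v) = c * Q v) (hg : g ∈ Cfsg.isometryGroup F Q) :
    M * g * M⁻¹ ∈ Cfsg.isometryGroup F R := by
  intro u _
  show R ((M * g * M⁻¹ : GL ι F).1 *ᵥ u) = R u
  obtain ⟨w, rfl⟩ : ∃ w, M.1 *ᵥ w = u := ⟨(M⁻¹).1 *ᵥ u, by
    rw [mulVec_mulVec, Units.mul_inv, one_mulVec]⟩
  rw [mulVec_mulVec, ← Units.val_mul, inv_mul_cancel_right, Units.val_mul, ← mulVec_mulVec, h, h]
  exact congrArg (c * ·) (hg w w)

/-- Conjugation by a similitude of forms. -/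
noncomputable def isometryConj {Q R : (ι → F) → F} (M : GL ι F) {c : F} (hc : c ≠ 0)
    (h : ∀ v, R (M.1 *ᵥ v) = c * Q v) : Cfsg.isometryGroup F Q ≃* Cfsg.isometryGroup F R where
  toFun g := ⟨M * g.1 * M⁻¹, conj_mem_isometryGroup h g.2⟩
  invFun g := ⟨M⁻¹ * g.1 * M⁻¹⁻¹, conj_mem_isometryGroup (c := c⁻¹) (fun v => by
    obtain ⟨w, rfl⟩ : ∃ w, M.1 *ᵥ w = v := ⟨(M⁻¹).1 *ᵥ v, by
      rw [mulVec_mulVec, Units.mul_inv, one_mulVec]⟩
    rw [mulVec_mulVec, Units.inv_mul, one_mulVec, h, inv_mul_cancel_left₀ hc]) g.2⟩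
  left_inv g := Subtype.ext (by simp [mul_assoc])
  right_inv g := Subtype.ext (by simp [mul_assoc])
  map_mul' a b := Subtype.ext (by simp [mul_assoc])

/-- The isomorphism of `PΩ` induced by a similitude of forms. -/
theorem exists_pOmega_congr {Q R : (ι → F) → F} (M : GL ι F) {c : F} (hc : c ≠ 0)
    (h : ∀ v, R (M.1 *ᵥ v) = c * Q v) :
    ∃ e : Cfsg.POmega F Q ≃* Cfsg.POmega F R, ∀ (s : Cfsg.Omega F Q) (s' : Cfsg.Omega F R),
      (s'.1.1 : Matrix ι ι F) = M.1 * s.1.1.1 * (M⁻¹).1 → e (QuotientGroup.mk s) = QuotientGroup.mk s' := by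
  obtain ⟨Φ, hΦ⟩ : ∃ Φ, Φ = isometryConj M hc h := ⟨_, rfl⟩
  obtain ⟨ψ, hψ⟩ : ∃ ψ : Cfsg.Omega F Q ≃* Cfsg.Omega F R, ∀ s, (ψ s).1 = Φ s.1 :=
    ⟨(Φ.subgroupMap (commutator _)).trans (MulEquiv.subgroupCongr (by
      show (commutator (Cfsg.isometryGroup F Q)).map Φ.toMonoidHom = commutator _
      rw [commutator_def, Subgroup.map_commutator,
        Subgroup.map_top_of_surjective Φ.toMonoidHom Φ.surjective, ← commutator_def])),
      fun s => rfl⟩
  refine ⟨centerQuotCongr ψ, fun s s' hs => ?_⟩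
  show QuotientGroup.mk (ψ s) = QuotientGroup.mk s'
  congr 1
  refine Subtype.ext (Subtype.ext (Units.ext ?_))
  rw [hψ, hΦ, hs]
  rfl

/-- Isomorphic groups have isomorphic outer automorphism groups. -/
theorem exists_out_congr {G H : Type*} [Group G] [Group H] (e : G ≃* H) :
    Nonempty (MulAut G ≃* MulAut H) ∧ Nonempty (Cfsg.Out G ≃* Cfsg.Out H) := by
  let E : MulAut G ≃* MulAut H :=
    { toFun := fun β => e.symm.trans (β.trans e)
      invFun := fun β => e.trans (β.trans e.symm)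
      left_inv := fun β => MulEquiv.ext fun x => by simp
      right_inv := fun β => MulEquiv.ext fun x => by simp
      map_mul' := fun a b => MulEquiv.ext fun x => by simp }
  refine ⟨⟨E⟩, ⟨QuotientGroup.congr _ _ E ?_⟩⟩
  ext β
  constructor
  · rintro ⟨_, ⟨g, rfl⟩, rfl⟩
    exact ⟨e g, MulEquiv.ext fun x => by simp [E]⟩
  · rintro ⟨g, rfl⟩
    exact ⟨MulAut.conj (e.symm g), ⟨_, rfl⟩, MulEquiv.ext fun x => by simp [E]⟩

end CfsgLib.KnownC
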