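import Mathlib
import Cfsg.Agent.Lib.KnownC.AutPOmegaEven
import Cfsg.Agent.Lib.KnownC.AutPOmegaTransport
import Cfsg.Agent.Lib.Geom.StdForms
import Cfsg.Agent.Lib.Geom.NegOne

set_option autoImplicit false
set_option linter.unusedSectionVars false
set_option linter.style.haveILetI false

/-!
Semisimilitudes of `quadFormMinus` adapted to the decomposition into hyperbolic and binary parts.
-/

namespace CfsgLib.KnownC

open CfsgLib.Geom CfsgLib.Classical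
open QuadraticMap (polar)
open Matrix

universe u

variable {F : Type u} [Field F] {ι : Type} [Fintype ι] [DecidableEq ι]

/-- A semisimilitude given by a matrix. -/
noncomputable def OSim.ofMat {Q : QuadraticForm F (ι → F)} (g : GL ι F) (σ : F ≃+* F) (d : F) (hd : d ≠ 0)
    (h : ∀ v : ι → F, Q ((g : Matrix ι ι F) *ᵥ fun i => σ (v i)) = d * σ (Q v)) : OSim Q where
  σ := σ
  c := d
  T := (OSim.ofPair g σ ⟨Units.mk0 d hd, h⟩).T
  c_ne := hd
  smul := (OSim.ofPair g σ ⟨Units.mk0 d hd, h⟩).smul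
  quad := h

theorem OSim.ofMat_T {Q : QuadraticForm F (ι → F)} (g : GL ι F) (σ : F ≃+* F) (d : F) (hd : d ≠ 0)
    (h : ∀ v : ι → F, Q ((g : Matrix ι ι F) *ᵥ fun i => σ (v i)) = d * σ (Q v)) (v : ι → F) :
    (OSim.ofMat g σ d hd h).T v = (g : Matrix ι ι F) *ᵥ fun i => σ (v i) := rfl

/-- Automorphisms induced by similitudes of square multiplier are induced by isometries. -/
theorem exists_isoHom_of_square [Finite F] {Q : QuadraticForm F (ι → F)} (K : OCtx Q) (Φ : OSim Q)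
    (hσ : Φ.σ = RingEquiv.refl F) {s : F} (hc : Φ.c = s * s) (M : Matrix ι ι F)
    (hM : ∀ v, Φ.T v = M *ᵥ v) :
    ∃ g : Cfsg.isometryGroup F (⇑Q), isoHom K g = osimPOmega K Φ ∧ M = s • g.1.1 := by
  classical
  have hs : s ≠ 0 := fun h => Φ.c_ne (by rw [hc, h, mul_zero])
  have hQ : ∀ v, Q ((s⁻¹ • M) *ᵥ v) = Q v := fun v => by
    rw [smul_mulVec, quad_smul, ← hM, Φ.quad, hσ, hc, RingEquiv.refl_apply]
    field_simp
  have hu : IsUnit (s⁻¹ • M) := Matrix.mulVec_injective_iff_isUnit.1 fun v w hvw => by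
    rw [smul_mulVec, smul_mulVec] at hvw
    exact Φ.T.injective (by rw [hM, hM]; exact smul_right_injective _ (inv_ne_zero hs) hvw)
  refine ⟨⟨hu.unit, (mem_isometryGroup_iff _ _).2 hQ⟩, (osimPOmega_eq_iff K _ _).2
    ⟨s⁻¹, inv_ne_zero hs, fun v => ?_⟩, ?_⟩
  · rw [OSim.ofIsometry_T, hM, ← smul_mulVec]; rfl
  · show M = s • (s⁻¹ • M)
    rw [smul_inv_smul₀ hs]

/-- The matrix of a similitude acting separately on the hyperbolic and the binary part. -/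
def minusMat (m : ℕ) (d : F) (A : Matrix (Fin 2) (Fin 2) F) :
    Matrix ((Fin m ⊕ Fin m) ⊕ Fin 2) ((Fin m ⊕ Fin m) ⊕ Fin 2) F :=
  Matrix.fromBlocks (Matrix.diagonal (Sum.elim (fun _ => d) fun _ => 1)) 0 0 A

theorem minusMat_det (m : ℕ) (d : F) (A : Matrix (Fin 2) (Fin 2) F) :
    (minusMat m d A).det = d ^ m * A.det := by
  simp [minusMat, Matrix.det_fromBlocks_zero₂₁, Fintype.prod_sum_type]

theorem minusMat_mulVec (m : ℕ) (d : F) (A : Matrix (Fin 2) (Fin 2) F)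
    (v : (Fin m ⊕ Fin m) ⊕ Fin 2 → F) :
    minusMat m d A *ᵥ v = Sum.elim (fun k => Sum.elim (fun _ => d) (fun _ => (1 : F)) k * v (Sum.inl k))
      (A *ᵥ fun j => v (Sum.inr j)) := by
  rw [minusMat, Matrix.fromBlocks_mulVec]
  simp only [Matrix.zero_mulVec, add_zero, zero_add]
  congr 1
  funext k
  exact Matrix.mulVec_diagonal _ _ k

theorem qfMinus_eq (m : ℕ) (a b : F) (v : (Fin m ⊕ Fin m) ⊕ Fin 2 → F) :
    qfMinus m F a b v = (∑ i : Fin m, v (.inl (.inl i)) * v (.inl (.inr i))) +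
      binForm a b (fun j => v (.inr j)) := by
  rw [qfMinus_apply, binForm_apply]; rfl

theorem qfMinus_minusMat (m : ℕ) {a b a' b' d : F} {A : Matrix (Fin 2) (Fin 2) F}
    (hA : ∀ z, binForm a b (A *ᵥ z) = d * binForm a' b' z) (v : (Fin m ⊕ Fin m) ⊕ Fin 2 → F) :
    qfMinus m F a b (minusMat m d A *ᵥ v) = d * qfMinus m F a' b' v := by
  rw [qfMinus_eq, qfMinus_eq, minusMat_mulVec, mul_add, Finset.mul_sum]
  simp only [Sum.elim_inl, Sum.elim_inr, one_mul]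
  rw [hA]
  congr 1
  exact Finset.sum_congr rfl fun i _ => by ring

theorem qfMinus_map (m : ℕ) (a b : F) (σ : F ≃+* F) (v : (Fin m ⊕ Fin m) ⊕ Fin 2 → F) :
    qfMinus m F (σ a) (σ b) (fun i => σ (v i)) = σ (qfMinus m F a b v) := by
  simp [qfMinus_eq, binForm_apply, map_sum]

/-- A semisimilitude acting separately on the hyperbolic and the binary part. -/
theorem exists_minusSim (m : ℕ) (a b : F) (σ : F ≃+* F) (d : F) (hd : d ≠ 0)
    (A : Matrix (Fin 2) (Fin 2) F) (hdet : A.det ≠ 0)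
    (hA : ∀ z, binForm a b (A *ᵥ z) = d * binForm (σ a) (σ b) z) :
    ∃ Φ : OSim (qfMinus m F a b), Φ.σ = σ ∧ Φ.c = d ∧
      ∀ v, Φ.T v = minusMat m d A *ᵥ fun i => σ (v i) :=
  ⟨OSim.ofMat (Matrix.GeneralLinearGroup.mkOfDetNeZero (minusMat m d A)
      (by rw [minusMat_det]; exact mul_ne_zero (pow_ne_zero _ hd) hdet)) σ d hd
    (fun v => (qfMinus_minusMat m hA _).trans (by rw [qfMinus_map])), rfl, rfl, fun v => rfl⟩

/-- A similitude of the binary parts gives an isomorphism of the groups. -/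
theorem nonempty_pOmega_minus_congr (m : ℕ) {a b a' b' d : F} (hd : d ≠ 0)
    (A : Matrix (Fin 2) (Fin 2) F) (hdet : A.det ≠ 0)
    (hA : ∀ z, binForm a b (A *ᵥ z) = d * binForm a' b' z) :
    Nonempty (Cfsg.POmega F (⇑(qfMinus m F a' b')) ≃* Cfsg.POmega F (⇑(qfMinus m F a b))) :=
  let ⟨e, _⟩ := exists_pOmega_congr (Q := ⇑(qfMinus m F a' b')) (R := ⇑(qfMinus m F a b))
    (Matrix.GeneralLinearGroup.mkOfDetNeZero (minusMat m d A)
      (by rw [minusMat_det]; exact mul_ne_zero (pow_ne_zero _ hd) hdet)) hd (qfMinus_minusMat m hA)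
  ⟨e⟩

/-- In odd characteristic the binary part is `z₁² - ν z₂²` for any non-square `ν`. -/
theorem minus_normal_odd [Finite F] (m : ℕ) (h2 : (2 : F) ≠ 0) {a b ν : F} (hν : ¬ IsSquare ν)
    (hab : ∀ z₁ z₂ : F, z₁ ^ 2 + a * z₁ * z₂ + b * z₂ ^ 2 = 0 → z₁ = 0 ∧ z₂ = 0) :
    Nonempty (Cfsg.POmega F (⇑(qfMinus m F 0 (-ν))) ≃* Cfsg.POmega F (⇑(qfMinus m F a b))) := by
  haveI := Fintype.ofFinite F
  have hD := not_isSquare_disc h2 a b hab
  have hD0 : a * a - 4 * b ≠ 0 := fun h => hD (h ▸ IsSquare.zero)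
  have hν0 : ν ≠ 0 := fun h => hν (h ▸ IsSquare.zero)
  obtain ⟨t, ht, he⟩ := (sqClass_eq_iff hν0 hD0).1 (sqClass_two _ _
    (by rwa [Ne, sqClass_eq_one_iff]) (by rwa [Ne, sqClass_eq_one_iff]))
  refine nonempty_pOmega_minus_congr m one_ne_zero !![1, -(a * t); 0, 2 * t]
    (by simp [Matrix.det_fin_two_of, h2, ht]) fun z => ?_
  simp only [binForm_apply, Matrix.mulVec, dotProduct, Fin.sum_univ_two]
  simp
  linear_combination (z 1) ^ 2 * he

/-- In characteristic two the binary part is `z₁² + z₁ z₂ + b z₂²`. -/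
theorem minus_normal_two [Finite F] (m : ℕ) (h2 : (2 : F) = 0) {a b : F}
    (hab : ∀ z₁ z₂ : F, z₁ ^ 2 + a * z₁ * z₂ + b * z₂ ^ 2 = 0 → z₁ = 0 ∧ z₂ = 0) :
    ∃ b' : F, (∀ z₁ z₂ : F, z₁ ^ 2 + 1 * z₁ * z₂ + b' * z₂ ^ 2 = 0 → z₁ = 0 ∧ z₂ = 0) ∧
    Nonempty (Cfsg.POmega F (⇑(qfMinus m F 1 b')) ≃* Cfsg.POmega F (⇑(qfMinus m F a b))) := by
  haveI := Fintype.ofFinite F
  have ha : a ≠ 0 := (two_ne_zero_or_ne_zero hab).resolve_left (not_not.2 h2)
  refine ⟨b / (a * a), fun z₁ z₂ h => ?_, nonempty_pOmega_minus_congr m one_ne_zero !![1, 0; 0, a⁻¹]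
    (by simp [Matrix.det_fin_two_of, ha]) fun z => ?_⟩
  · obtain ⟨h1, h3⟩ := hab z₁ (z₂ / a) (by field_simp at h ⊢; linear_combination h)
    exact ⟨h1, (div_eq_zero_iff.1 h3).resolve_right ha⟩
  · simp only [binForm_apply, Matrix.mulVec, dotProduct, Fin.sum_univ_two]
    simp
    field_simp

theorem octx_minus [Finite F] {m : ℕ} (hm : 3 ≤ m) {a b : F}
    (hab : ∀ z₁ z₂ : F, z₁ ^ 2 + a * z₁ * z₂ + b * z₂ ^ 2 = 0 → z₁ = 0 ∧ z₂ = 0) :
    OCtx (qfMinus m F a b) := by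
  haveI := Fintype.ofFinite F
  exact ⟨qfMinus_sep m hab, by rw [Module.finrank_fintype_fun_eq_card]; simp; omega⟩

theorem noFour_minus [Finite F] {m : ℕ} (hm : 3 ≤ m) {a b : F}
    (hab : ∀ z₁ z₂ : F, z₁ ^ 2 + a * z₁ * z₂ + b * z₂ ^ 2 = 0 → z₁ = 0 ∧ z₂ = 0) :
    9 ≤ Fintype.card ((Fin m ⊕ Fin m) ⊕ Fin 2) ∨ NoFour (qfMinus m F a b) := by
  rcases Nat.lt_or_ge 3 m with h | h
  · left; simp; omega
  · right
    obtain rfl : m = 3 := by omega
    exact noFour_minus_three hab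

end CfsgLib.KnownC
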