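import Mathlib
import Cfsg.Agent.Lib.KnownC.AutPOmegaBaseChange
import Cfsg.Agent.Lib.KnownC.AutPOmegaOddConj
import Cfsg.Agent.Lib.KnownC.SplitClass

set_option autoImplicit false
set_option linter.unusedSectionVars false
set_option linter.style.haveILetI false

/-!
Centralisers in `Inndiag` of field automorphisms of `Ω_{2m+1}(q)`, and the splitting of their classes.
-/

namespace CfsgLib.KnownC

open CfsgLib.Geom CfsgLib.Classical
open QuadraticMap (polar)
open Matrix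

universe u v

variable {F : Type u} [Field F] [Fintype F] {F₀ : Type v} [Field F₀] [Fintype F₀]

/-- Elements of the subfield become squares in an extension of even degree. -/
theorem isSquare_map_of_even (ι₀ : F₀ →+* F) {r : ℕ} (hr : Even r)
    (hcard : Fintype.card F = Fintype.card F₀ ^ r) (h2 : (2 : F) ≠ 0) (a : F₀) : IsSquare (ι₀ a) := by
  by_cases ha : a = 0
  · rw [ha, map_zero]; exact IsSquare.zero
  have hc : ringChar F ≠ 2 := fun h => h2 (by exact_mod_cast (ringChar.spec F 2).2 (h ▸ dvd_rfl))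
  rw [FiniteField.isSquare_iff hc ((map_ne_zero ι₀).2 ha), ← map_pow]
  obtain ⟨k, rfl⟩ := hr
  have hq : 1 ≤ Fintype.card F₀ := Fintype.card_pos
  obtain ⟨c, hc'⟩ : Fintype.card F₀ - 1 ∣ Fintype.card F / 2 := by
    have hodd : Odd (Fintype.card F₀ ^ k) := by
      have h1 : Odd (Fintype.card F) :=
        Nat.odd_iff.2 (FiniteField.odd_card_of_char_ne_two hc)
      rw [hcard, Nat.odd_pow_iff] at h1
      · exact h1.pow
      · intro h0; rw [h0, pow_zero] at hcard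
        exact absurd hcard (Fintype.one_lt_card (α := F)).ne'
    have h1 : Fintype.card F₀ - 1 ∣ Fintype.card F₀ ^ k - 1 := by
      simpa using Nat.sub_dvd_pow_sub_pow (Fintype.card F₀) 1 k
    obtain ⟨t, ht⟩ := hodd
    obtain ⟨d, hd⟩ := h1
    refine ⟨d * (t + 1), ?_⟩
    rw [hcard, pow_add, ← mul_assoc, ← hd, ht, Nat.add_sub_cancel]
    have : (2 * t + 1) * (2 * t + 1) = 1 + 2 * (2 * t * (t + 1)) := by ring
    rw [this, Nat.add_mul_div_left _ _ two_pos]
    simp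
  rw [hc', pow_mul, FiniteField.pow_card_sub_one_eq_one a ha, one_pow, map_one]

/-- A non-square of the subfield stays a non-square in an extension of odd degree. -/
theorem not_isSquare_map_of_odd (ι₀ : F₀ →+* F) {r : ℕ} (hr : Odd r)
    (hcard : Fintype.card F = Fintype.card F₀ ^ r) (h2 : (2 : F) ≠ 0) {a : F₀} (ha : ¬ IsSquare a) :
    ¬ IsSquare (ι₀ a) := by
  have ha0 : a ≠ 0 := by rintro rfl; exact ha IsSquare.zero
  have hc : ringChar F ≠ 2 := fun h => h2 (by exact_mod_cast (ringChar.spec F 2).2 (h ▸ dvd_rfl))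
  have hc0 : ringChar F₀ ≠ 2 := fun h => h2 (by
    rw [← map_ofNat ι₀ 2,
      show (2 : F₀) = 0 from by exact_mod_cast (ringChar.spec F₀ 2).2 (h ▸ dvd_rfl), map_zero])
  rw [FiniteField.isSquare_iff hc ((map_ne_zero ι₀).2 ha0), ← map_pow, ← map_one ι₀,
    ι₀.injective.eq_iff]
  rw [FiniteField.isSquare_iff hc0 ha0] at ha
  have hodd0 : Odd (Fintype.card F₀) := Nat.odd_iff.2 (FiniteField.odd_card_of_char_ne_two hc0)
  have hneg : a ^ (Fintype.card F₀ / 2) = -1 := (FiniteField.pow_dichotomy hc0 ha0).resolve_left ha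
  obtain ⟨t, ht⟩ := hodd0
  have hs : ∃ s, (2 * t + 1) ^ r = 1 + 2 * (t * s) ∧ Odd s := by
    obtain ⟨k, rfl⟩ := hr
    clear hcard
    induction k with
    | zero => exact ⟨1, by ring, odd_one⟩
    | succ k ih =>
      obtain ⟨s, hs, hsodd⟩ := ih
      refine ⟨s * (2 * t + 1) ^ 2 + 2 * (t + 1), ?_, ?_⟩
      · rw [show 2 * (k + 1) + 1 = 2 * k + 1 + 2 from by ring, pow_add, hs]; ring
      · exact (hsodd.mul ((odd_two_mul_add_one t).pow)).add_even (even_two_mul _)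
  obtain ⟨s, hs, hsodd⟩ := hs
  have h1 : Fintype.card F / 2 = Fintype.card F₀ / 2 * s := by
    rw [hcard, ht, hs, Nat.add_mul_div_left _ _ two_pos,
      show (2 * t + 1) / 2 = t by omega]
    simp
  rw [h1, pow_mul, hneg, hsodd.neg_one_pow]
  exact Ring.neg_one_ne_one_of_char_ne_two hc0

variable {m : ℕ}

theorem soSpinor_range_sqMap (K : OCtx (qfOdd m F)) (K₀ : OCtx (qfOdd m F₀)) (ι₀ : F₀ →+* F)
    (h2 : (2 : F) ≠ 0) (h20 : (2 : F₀) ≠ 0) :
    (soMap ι₀ (Q := qfOdd m F) (Q₀ := qfOdd m F₀) (qfOdd_map ι₀)).range.map (soSpinor K.sep h2) =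
      (sqMap ι₀).range := by
  rw [MonoidHom.map_range]
  have h : (soSpinor K.sep h2).comp (soMap ι₀ (Q := qfOdd m F) (Q₀ := qfOdd m F₀) (qfOdd_map ι₀)) =
      (sqMap ι₀).comp (soSpinor K₀.sep h20) :=
    MonoidHom.ext fun g => soSpinor_soMap ι₀ _ K.sep K₀.sep h2 h20 g
  rw [h, ← MonoidHom.map_range, MonoidHom.range_eq_top.2 (soSpinor_surjective K₀ h20),
    ← MonoidHom.range_eq_map]

theorem index_range_sqMap_even (ι₀ : F₀ →+* F) {r : ℕ} (hr : Even r)
    (hcard : Fintype.card F = Fintype.card F₀ ^ r) (h2 : (2 : F) ≠ 0) :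
    (sqMap ι₀).range.index = 2 := by
  have h : (sqMap ι₀).range = ⊥ := by
    rw [eq_bot_iff]
    rintro _ ⟨c, rfl⟩
    obtain ⟨w, rfl⟩ := sqProj_surjective F₀ c
    rw [Subgroup.mem_bot, show sqProj F₀ w = sqClass w.ne_zero by simp [sqClass], sqMap_sqClass,
      sqClass_eq_one_iff]
    exact isSquare_map_of_even ι₀ hr hcard h2 _
  rw [h, Subgroup.index_bot, card_sqClass_odd h2]

theorem index_range_sqMap_odd (ι₀ : F₀ →+* F) {r : ℕ} (hr : Odd r)
    (hcard : Fintype.card F = Fintype.card F₀ ^ r) (h2 : (2 : F) ≠ 0) (h20 : (2 : F₀) ≠ 0) :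
    (sqMap ι₀).range.index = 1 := by
  rw [Subgroup.index_eq_one]
  haveI : Fact (Nat.card (SqClass F)).Prime := ⟨by rw [card_sqClass_odd h2]; exact Nat.prime_two⟩
  refine (sqMap ι₀).range.eq_bot_or_eq_top_of_prime_card.resolve_left fun h => ?_
  obtain ⟨a, ha0, ha⟩ := exists_not_square h20
  have : sqMap ι₀ (sqClass ha0) ∈ (sqMap ι₀).range := ⟨_, rfl⟩
  rw [h, Subgroup.mem_bot, sqMap_sqClass, sqClass_eq_one_iff] at this
  exact not_isSquare_map_of_odd ι₀ hr hcard h2 ha this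

/-- The fixed special isometries of a standard field automorphism. -/
theorem simAut_inf_centralizer_std (K : OCtx (qfOdd m F)) (σ : F ≃+* F) (ι₀ : F₀ →+* F)
    (hι : ∀ x, σ x = x ↔ ∃ a, ι₀ a = x) :
    simAut (⇑(qfOdd m F)) ⊓ Subgroup.centralizer {osimPOmega K (OSim.std σ (qfOdd_equivariant σ))} =
      (soMap ι₀ (Q := qfOdd m F) (Q₀ := qfOdd m F₀) (qfOdd_map ι₀)).range.map (soHom K) := by
  obtain ⟨S, hS⟩ : ∃ S, S = soMap (σ : F →+* F) (Q := qfOdd m F) (Q₀ := qfOdd m F)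
      (qfOdd_map (σ : F →+* F)) := ⟨_, rfl⟩
  obtain ⟨φ, hφ⟩ : ∃ φ, φ = osimPOmega K (OSim.std σ (qfOdd_equivariant σ)) := ⟨_, rfl⟩
  have hcomm : ∀ g, φ * soHom K g = soHom K (S g) * φ := fun g => by
    rw [hφ, show soHom K g = osimPOmega K (OSim.ofSO g) from rfl,
      show soHom K (S g) = osimPOmega K (OSim.ofSO (S g)) from rfl, ← osimPOmega_comp,
      ← osimPOmega_comp]
    refine (osimPOmega_eq_iff K _ _).2 ⟨1, one_ne_zero, fun v => ?_⟩
    rw [one_smul, hS]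
    exact funext fun i => RingHom.map_mulVec (σ : F →+* F) g.1.1 v i
  have hfix : ∀ g, S g = g ↔ ∀ i j, σ (g.1.1 i j) = g.1.1 i j := fun g => by
    rw [hS]
    refine ⟨fun h i j => congrArg (fun s : Cfsg.specialIsometryGL F (⇑(qfOdd m F)) => s.1.1 i j) h,
      fun h => Subtype.ext (Units.ext (Matrix.ext h))⟩
  rw [← hφ]
  ext β
  constructor
  · rintro ⟨hβ, hc⟩
    obtain ⟨g, rfl⟩ := (simAut_mem_iff K β).1 hβ
    have h1 := Subgroup.mem_centralizer_singleton_iff.1 hc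
    rw [hcomm, mul_left_inj] at h1
    obtain ⟨g₀, rfl⟩ := (exists_soMap_eq_iff ι₀ (qfOdd_map ι₀) σ hι g).1
      ((hfix g).1 (soHom_injective K odd_card h1).symm)
    exact ⟨_, ⟨g₀, rfl⟩, rfl⟩
  · rintro ⟨_, ⟨g₀, rfl⟩, rfl⟩
    refine ⟨(simAut_mem_iff K _).2 ⟨_, rfl⟩, Subgroup.mem_centralizer_singleton_iff.2 ?_⟩
    rw [hcomm, (hfix _).2 ((exists_soMap_eq_iff ι₀ (qfOdd_map ι₀) σ hι _).2 ⟨g₀, rfl⟩)]

theorem simAut_eq_range (K : OCtx (qfOdd m F)) : simAut (⇑(qfOdd m F)) = (soHom K).range :=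
  Subgroup.ext fun β => simAut_mem_iff K β

theorem inn_le_simAut (K : OCtx (qfOdd m F)) (h2 : (2 : F) ≠ 0) :
    Cfsg.Inn (Cfsg.POmega F (⇑(qfOdd m F))) ≤ simAut (⇑(qfOdd m F)) := by
  rw [inn_eq_map_soSpinor K h2, simAut_eq_range]
  exact Subgroup.map_le_range _ _

/-- The centraliser in `Inndiag` and the splitting of the class of a field automorphism. -/
theorem odd_field_centralizer {p f : ℕ} [Fact p.Prime] (hF : Fintype.card F = p ^ f) (hf : 1 ≤ f)
    (hodd : Odd (Fintype.card F)) (hm : 3 ≤ m)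
    (Q' : (Unit ⊕ (Fin m ⊕ Fin m) → F) → F) (hQ' : Q' = ⇑(qfOdd m F))
    (x : MulAut (Cfsg.POmega F Q')) (hx : Cfsg.IsFieldAutClassPOmega Q' x) {r : ℕ} (hr : r.Prime)
    (hxr : orderOf x = r) (hF₀ : Fintype.card F₀ = p ^ (f / r))
    (Q₀' : (Unit ⊕ (Fin m ⊕ Fin m) → F₀) → F₀) (hQ₀' : Q₀' = ⇑(qfOdd m F₀)) :
    r ∣ f ∧ Nonempty (↥(simAut Q' ⊓ Subgroup.centralizer {x}) ≃* ↥(simAut Q₀')) ∧
      (Odd r → Cfsg.splitClassCount (simAut Q') (Cfsg.Inn (Cfsg.POmega F Q')) x = 1) ∧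
      (r = 2 → Cfsg.splitClassCount (simAut Q') (Cfsg.Inn (Cfsg.POmega F Q')) x = 2) := by
  subst hQ' hQ₀'
  have h2 := two_ne_zero_of_odd (F := F) hodd
  have K := octx_odd (F := F) h2 hm
  haveI := simAut_normal K
  haveI : (Cfsg.Inn (Cfsg.POmega F (⇑(qfOdd m F)))).Normal := Cfsg.innNormal _
  obtain ⟨α, σ, -, hstd, hoσ⟩ := exists_std_of_class K hx
  rw [hxr] at hoσ
  obtain ⟨hdvd, -, hemb⟩ := exists_fixed_embedding σ hF
  rw [hoσ] at hdvd hemb
  obtain ⟨ι₀, hι⟩ := hemb F₀ hF₀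
  have h20 : (2 : F₀) ≠ 0 := fun h0 => h2 (by rw [← map_ofNat ι₀ 2, h0, map_zero])
  have K₀ := octx_odd (F := F₀) h20 hm
  have hcard : Fintype.card F = Fintype.card F₀ ^ r := by
    rw [hF, hF₀, ← pow_mul, Nat.div_mul_cancel hdvd]
  have hC := simAut_inf_centralizer_std K σ ι₀ hι
  refine ⟨hdvd, ?_, ?_⟩
  · obtain ⟨e⟩ := centralizer_conj_equiv (simAut (⇑(qfOdd m F))) α x
    rw [hstd] at e
    exact ⟨e.trans ((MulEquiv.subgroupCongr hC).trans
      (((Subgroup.equivMapOfInjective _ _ (soHom_injective K odd_card)).symm.trans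
        (MonoidHom.ofInjective (soMap_injective ι₀ _)).symm).trans
        ((MonoidHom.ofInjective (soHom_injective K₀ odd_card)).trans
          (MulEquiv.subgroupCongr (simAut_eq_range K₀).symm))))⟩
  have key : Cfsg.splitClassCount (simAut (⇑(qfOdd m F))) (Cfsg.Inn (Cfsg.POmega F (⇑(qfOdd m F)))) x =
      (sqMap ι₀).range.index := by
    rw [← splitClassCount_conj _ _ (inn_le_simAut K h2) α x, hstd,
      splitClassCount_eq _ _ (inn_le_simAut K h2), hC, inn_eq_map_soSpinor K h2, ← Subgroup.map_sup,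
      simAut_eq_range K, MonoidHom.range_eq_map (soHom K),
      Subgroup.relIndex_map_map_of_injective _ _ (soHom_injective K odd_card), Subgroup.relIndex_top_right,
      ← Subgroup.index_map_eq _ (soSpinor_surjective K h2) le_sup_left, Subgroup.map_sup,
      (Subgroup.map_eq_bot_iff _).2 le_rfl, bot_sup_eq, soSpinor_range_sqMap K K₀ ι₀ h2 h20]
  exact ⟨fun h => key.trans (index_range_sqMap_odd ι₀ h hcard h2 h20),
    fun h => key.trans (index_range_sqMap_even ι₀ (h ▸ even_two) hcard h2)⟩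

end CfsgLib.KnownC
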