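import Mathlib
import Cfsg.Prelude.Def_LieTypeDatum
import Cfsg.Agent.Lib.Geom.MaxTS
import Cfsg.Agent.Lib.Geom.OmegaIndex

set_option autoImplicit false
set_option linter.unusedSectionVars false
set_option linter.style.haveILetI false

/-!
The parity of a similitude on the two classes of maximal totally singular subspaces.
-/

namespace CfsgLib.KnownC

open CfsgLib.Geom
open QuadraticMap (polar)
open Matrix

universe u

theorem ofAdd_one_ne_one : (Multiplicative.ofAdd (1 : ZMod 2)) ≠ 1 := by decide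

variable {F : Type u} [Field F] {ι : Type} [Fintype ι] [DecidableEq ι]

/-- The data of a split quadratic space of dimension `2n`. -/
structure SplitCtx (Q : QuadraticForm F (ι → F)) (n : ℕ) (U₀ : Submodule F (ι → F)) : Prop where
  nd : Q.polarBilin.Nondegenerate
  dim : Module.finrank F (ι → F) = 2 * n
  max : IsMaxTS Q n U₀
  pos : 0 < n

variable {Q : QuadraticForm F (ι → F)} {n : ℕ} {U₀ : Submodule F (ι → F)}

theorem splitCtx_of_sep (hsep : ∀ x, (∀ y, polar Q x y = 0) → x = 0)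
    (hdim : Fintype.card ι = 2 * n) (hU : IsMaxTS Q n U₀) (hn : 0 < n) : SplitCtx Q n U₀ :=
  ⟨⟨fun x hx => hsep x hx, fun y hy => hsep y fun x => by rw [QuadraticMap.polar_comm]; exact hy x⟩,
    by rw [Module.finrank_fintype_fun_eq_card, hdim], hU, hn⟩

theorem isMaxTS_of_isMax (S : SplitCtx Q n U₀) {U : Submodule F (ι → F)}
    (hU : Cfsg.IsMaxTotallySingular (⇑Q) U) : IsMaxTS Q n U := by
  refine ⟨?_, hU.1⟩
  by_contra hne
  have hk := finrank_ts_le Q S.nd S.dim (S := U) hU.1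
  obtain ⟨z, ⟨hz0, hzP⟩, hzU⟩ : ∃ z, z ∈ U₀ ⊓ tsPerp Q U ∧ z ∉ U := by
    by_contra h
    push Not at h
    have h1 : tsPerp Q (U₀ ⊔ U) ≤ U₀ ⊓ U := by
      intro x hx
      have hx0 : x ∈ U₀ := by
        rw [← tsPerp_maxTS Q S.nd S.dim S.max]
        exact mem_tsPerp.2 fun s hs => mem_tsPerp.1 hx s (Submodule.mem_sup_left hs)
      exact ⟨hx0, h x ⟨hx0, mem_tsPerp.2 fun s hs => mem_tsPerp.1 hx s (Submodule.mem_sup_right hs)⟩⟩
    have h2 := Submodule.finrank_mono h1
    have h3 := Submodule.finrank_sup_add_finrank_inf_eq U₀ U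
    rw [finrank_tsPerp Q S.nd S.dim] at h2
    have h4 := Submodule.finrank_le (U₀ ⊔ U)
    rw [S.dim] at h4
    have := S.max.1
    omega
  have h := hU.2 (U ⊔ Submodule.span F {z}) (ts_sup_span Q S.nd S.dim hU.1 (S.max.2 z hz0) hzP) le_sup_left
  exact hzU (h.le (Submodule.mem_sup_right (Submodule.mem_span_singleton_self z)))

theorem isMax_of_isMaxTS (S : SplitCtx Q n U₀) {U : Submodule F (ι → F)} (hU : IsMaxTS Q n U) :
    Cfsg.IsMaxTotallySingular (⇑Q) U := by
  refine ⟨hU.2, fun W hW hUW => (Submodule.eq_of_le_of_finrank_le hUW ?_).symm⟩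
  rw [hU.1]
  exact finrank_ts_le Q S.nd S.dim hW

theorem imageSubmodule_mul (g h : Matrix ι ι F) (U : Submodule F (ι → F)) :
    Cfsg.imageSubmodule (g * h) U = Cfsg.imageSubmodule g (Cfsg.imageSubmodule h U) := by
  rw [Cfsg.imageSubmodule, Cfsg.imageSubmodule, Cfsg.imageSubmodule, Matrix.toLin'_mul, Submodule.map_comp]

theorem imageSubmodule_smul {a : F} (ha : a ≠ 0) (g : Matrix ι ι F) (U : Submodule F (ι → F)) :
    Cfsg.imageSubmodule (a • g) U = Cfsg.imageSubmodule g U := by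
  rw [Cfsg.imageSubmodule, Cfsg.imageSubmodule, map_smul]
  exact Submodule.map_smul _ _ _ ha

theorem toLin'_gl_injective (g : GL ι F) : Function.Injective (Matrix.toLin' g.1) := fun v w h => by
  simp only [Matrix.toLin'_apply] at h
  have := congrArg ((g⁻¹).1 *ᵥ ·) h
  simpa [mulVec_mulVec] using this

theorem finrank_inf_image (g : GL ι F) (U W : Submodule F (ι → F)) :
    Module.finrank F (Cfsg.imageSubmodule g.1 U ⊓ Cfsg.imageSubmodule g.1 W : Submodule F (ι → F)) =
      Module.finrank F (U ⊓ W : Submodule F (ι → F)) := by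
  rw [Cfsg.imageSubmodule, Cfsg.imageSubmodule, ← Submodule.map_inf _ (toLin'_gl_injective g)]
  exact (Submodule.equivMapOfInjective _ (toLin'_gl_injective g) _).finrank_eq.symm

theorem isMaxTS_image {g : GL ι F} {μ : F} (hg : ∀ v, Q (g.1 *ᵥ v) = μ * Q v) {U : Submodule F (ι → F)}
    (hU : IsMaxTS Q n U) : IsMaxTS Q n (Cfsg.imageSubmodule g.1 U) := by
  refine ⟨?_, fun w hw => ?_⟩
  · rw [Cfsg.imageSubmodule, ← (Submodule.equivMapOfInjective _ (toLin'_gl_injective g) _).finrank_eq, hU.1]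
  · obtain ⟨u, hu, rfl⟩ := hw
    rw [Matrix.toLin'_apply, hg, hU.2 u hu, mul_zero]

theorem sameParityClass_iff {U W : Submodule F (ι → F)} (hU : IsMaxTS Q n U) :
    Cfsg.SameParityClass U W ↔ Even (n - Module.finrank F (U ⊓ W : Submodule F (ι → F))) := by
  rw [Cfsg.SameParityClass, hU.1]

/-- It is enough to test one subspace. -/
theorem preserves_iff_base (S : SplitCtx Q n U₀) {g : GL ι F} {μ : F}
    (hg : ∀ v, Q (g.1 *ᵥ v) = μ * Q v) :
    Cfsg.PreservesSingularClasses (⇑Q) g.1 ↔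
      Cfsg.SameParityClass U₀ (Cfsg.imageSubmodule g.1 U₀) := by
  refine ⟨fun h => h U₀ (isMax_of_isMaxTS S S.max), fun h U hU => ?_⟩
  have hU' := isMaxTS_of_isMax S hU
  rw [sameParityClass_iff hU']
  rw [sameParityClass_iff S.max] at h
  have h0 := isMaxTS_image hg S.max
  have hgU := isMaxTS_image hg hU'
  have h1 := even_sum_codim Q S.nd S.dim hU' S.max hgU
  have h2 := even_sum_codim Q S.nd S.dim S.max h0 hgU
  rw [finrank_inf_image g U₀ U, inf_comm U₀ U] at h2
  rw [Nat.even_iff] at h h1 h2 ⊢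
  omega

theorem preserves_mul_iff (S : SplitCtx Q n U₀) {g h : GL ι F} {μ ν : F}
    (hg : ∀ v, Q (g.1 *ᵥ v) = μ * Q v) (hh : ∀ v, Q (h.1 *ᵥ v) = ν * Q v) :
    Cfsg.PreservesSingularClasses (⇑Q) (g * h).1 ↔
      (Cfsg.PreservesSingularClasses (⇑Q) g.1 ↔ Cfsg.PreservesSingularClasses (⇑Q) h.1) := by
  have hgh : ∀ v, Q ((g * h).1 *ᵥ v) = μ * ν * Q v := fun v => by
    rw [Units.val_mul, ← mulVec_mulVec, hg, hh, mul_assoc]
  rw [preserves_iff_base S hgh, preserves_iff_base S hg, preserves_iff_base S hh,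
    sameParityClass_iff S.max, sameParityClass_iff S.max, sameParityClass_iff S.max, Units.val_mul,
    imageSubmodule_mul]
  have h1 := isMaxTS_image hg S.max
  have h3 := isMaxTS_image hg (isMaxTS_image hh S.max)
  have h4 := even_sum_codim Q S.nd S.dim S.max h1 h3
  rw [finrank_inf_image g U₀ (Cfsg.imageSubmodule h.1 U₀)] at h4
  rw [Nat.even_iff] at h4
  rw [Nat.even_iff, Nat.even_iff, Nat.even_iff]
  omega

theorem preserves_smul_iff {a : F} (ha : a ≠ 0) (g : Matrix ι ι F) :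
    Cfsg.PreservesSingularClasses (⇑Q) (a • g) ↔ Cfsg.PreservesSingularClasses (⇑Q) g := by
  simp only [Cfsg.PreservesSingularClasses, imageSubmodule_smul ha]

theorem preserves_of_fix (S : SplitCtx Q n U₀) {g : GL ι F} {μ : F}
    (hg : ∀ v, Q (g.1 *ᵥ v) = μ * Q v) (hfix : ∀ u ∈ U₀, g.1 *ᵥ u ∈ U₀) :
    Cfsg.PreservesSingularClasses (⇑Q) g.1 := by
  rw [preserves_iff_base S hg, sameParityClass_iff S.max]
  have hle : Cfsg.imageSubmodule g.1 U₀ ≤ U₀ := by
    rintro _ ⟨u, hu, rfl⟩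
    rw [Matrix.toLin'_apply]; exact hfix u hu
  rw [inf_eq_right.2 hle, (isMaxTS_image hg S.max).1, Nat.sub_self]
  exact ⟨0, rfl⟩

/-- A reflection interchanges the classes. -/
theorem not_preserves_reflection (S : SplitCtx Q n U₀) {r : GL ι F} {v : ι → F} (hv : Q v ≠ 0)
    (hr : r.1 = Cfsg.reflectionMatrix (⇑Q) v) (hrQ : ∀ x, Q (r.1 *ᵥ x) = Q x) :
    ¬ Cfsg.PreservesSingularClasses (⇑Q) r.1 := by
  have hg : ∀ x, Q (r.1 *ᵥ x) = 1 * Q x := fun x => by rw [hrQ, one_mul]
  rw [preserves_iff_base S hg, sameParityClass_iff S.max]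
  obtain ⟨H, hH⟩ : ∃ H, H = U₀ ⊓ LinearMap.ker (Q.polarBilin v) := ⟨_, rfl⟩
  have hfix : H ≤ U₀ ⊓ Cfsg.imageSubmodule r.1 U₀ := by
    intro x hx
    rw [hH] at hx
    refine ⟨hx.1, x, hx.1, ?_⟩
    rw [Matrix.toLin'_apply, hr, reflectionMatrix_mulVec, show polar Q v x = 0 from hx.2, mul_zero,
      zero_smul, sub_zero]
  have hlt : Module.finrank F (U₀ ⊓ Cfsg.imageSubmodule r.1 U₀ : Submodule F (ι → F)) < n := by
    refine lt_of_le_of_ne ((Submodule.finrank_mono inf_le_left).trans S.max.1.le) fun he => hv ?_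
    have h1 : U₀ ⊓ Cfsg.imageSubmodule r.1 U₀ = U₀ :=
      Submodule.eq_of_le_of_finrank_le inf_le_left (by rw [he, S.max.1])
    have h2 : U₀ = Cfsg.imageSubmodule r.1 U₀ := Submodule.eq_of_le_of_finrank_le (inf_eq_left.1 h1)
      (by rw [(isMaxTS_image hg S.max).1, S.max.1])
    by_contra hv0
    have hperp : ∀ u ∈ U₀, polar Q v u = 0 := by
      intro u hu
      by_contra hne
      have h3 : r.1 *ᵥ u ∈ U₀ := h2.symm.le ⟨u, hu, Matrix.toLin'_apply _ _⟩
      rw [hr, reflectionMatrix_mulVec] at h3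
      have h4 := (U₀.sub_mem_iff_right hu).1 h3
      have h5 := (U₀.smul_mem_iff (mul_ne_zero (inv_ne_zero hv) hne)).1 h4
      exact hv (S.max.2 v h5)
    exact hv0 (S.max.2 v ((tsPerp_maxTS Q S.nd S.dim S.max).le
      (mem_tsPerp.2 fun s hs => by rw [QuadraticMap.polar_comm]; exact hperp s hs)))
  have hge : n ≤ Module.finrank F H + 1 := by
    obtain ⟨L, hL⟩ : ∃ L : U₀ →ₗ[F] F, L = (Q.polarBilin v).comp U₀.subtype := ⟨_, rfl⟩
    have h1 := L.finrank_range_add_finrank_ker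
    have h2 := (Submodule.finrank_le (LinearMap.range L)).trans_eq (Module.finrank_self F)
    have h3 : Module.finrank F (LinearMap.ker L) ≤ Module.finrank F H := by
      rw [← (Submodule.equivMapOfInjective U₀.subtype U₀.injective_subtype (LinearMap.ker L)).symm.finrank_eq]
      refine Submodule.finrank_mono ?_
      rintro _ ⟨x, hx, rfl⟩
      rw [hH]
      exact ⟨x.2, by simpa [hL] using hx⟩
    rw [S.max.1] at h1
    omega
  have := Submodule.finrank_mono hfix
  rw [show n - Module.finrank F (U₀ ⊓ Cfsg.imageSubmodule r.1 U₀ : Submodule F (ι → F)) = 1 by omega]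
  exact Nat.not_even_one

/-- Isometries preserve the classes iff their Dickson invariant vanishes. -/
theorem preserves_isometry_iff (S : SplitCtx Q n U₀) (hsep : ∀ x, (∀ y, polar Q x y = 0) → x = 0)
    (hex : (∃ t : F, t ≠ 0 ∧ t ≠ 1) ∨ Module.finrank F (ι → F) ≠ 4)
    (g : Cfsg.isometryGroup F (⇑Q)) :
    Cfsg.PreservesSingularClasses (⇑Q) g.1.1 ↔ (spinorHom Q hsep hex g).1 = 1 := by
  obtain ⟨e, he⟩ : ∃ e, e = reflGroupEquiv Q hsep hex := ⟨_, rfl⟩
  have hiso : ∀ h : Cfsg.isometryGroup F (⇑Q), ∀ v, Q (h.1.1 *ᵥ v) = 1 * Q v := fun h v => by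
    rw [one_mul]; exact (mem_isometryGroup_iff _ _).1 h.2 v
  have hone : Cfsg.PreservesSingularClasses (⇑Q) (1 : Matrix ι ι F) := by
    have := preserves_of_fix S (g := 1) (μ := 1) (fun v => by simp) (fun u hu => by simpa using hu)
    simpa using this
  suffices h : ∀ (x : (ι → F) ≃ₗ[F] (ι → F)) (hx : x ∈ Subgroup.closure (reflSet Q)),
      Cfsg.PreservesSingularClasses (⇑Q) (e.symm ⟨x, hx⟩).1.1 ↔
        (spinorHom Q hsep hex (e.symm ⟨x, hx⟩)).1 = 1 by
    have := h (e g).1 (e g).2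
    rwa [show (⟨(e g).1, (e g).2⟩ : Subgroup.closure (reflSet Q)) = e g from rfl,
      e.symm_apply_apply] at this
  intro x hx
  induction hx using Subgroup.closure_induction with
  | mem x hx =>
    obtain ⟨v, hv, rfl⟩ := hx
    have hmat : ((e.symm ⟨reflEquiv Q v hv, Subgroup.subset_closure ⟨v, hv, rfl⟩⟩).1 :
        Matrix ι ι F) = Cfsg.reflectionMatrix (⇑Q) v := by
      subst he
      rw [← glOfEquiv_reflEquiv Q v hv]
      exact congrArg Units.val (orEquiv_coe Q _)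
    rw [spinorHom_refl Q hsep hex _ hv hmat]
    exact iff_of_false (not_preserves_reflection S hv hmat fun y => (hiso _ y).trans (one_mul _))
      ofAdd_one_ne_one
  | one =>
    rw [show (⟨1, one_mem _⟩ : Subgroup.closure (reflSet Q)) = 1 from rfl, map_one, map_one]
    exact iff_of_true hone rfl
  | mul a b ha hb iha ihb =>
    rw [show (⟨a * b, mul_mem ha hb⟩ : Subgroup.closure (reflSet Q)) = ⟨a, ha⟩ * ⟨b, hb⟩ from rfl,
      map_mul, map_mul, Subgroup.coe_mul, preserves_mul_iff S (hiso _) (hiso _), iha, ihb, Prod.fst_mul]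
    generalize (spinorHom Q hsep hex (e.symm ⟨a, ha⟩)).1 = y
    generalize (spinorHom Q hsep hex (e.symm ⟨b, hb⟩)).1 = z
    revert y z
    decide
  | inv a ha iha =>
    rw [show (⟨a⁻¹, inv_mem ha⟩ : Subgroup.closure (reflSet Q)) = ⟨a, ha⟩⁻¹ from rfl,
      map_inv, map_inv, Prod.fst_inv, inv_eq_one, ← iha]
    have h := preserves_mul_iff S (hiso (e.symm ⟨a, ha⟩)) (hiso (e.symm ⟨a, ha⟩)⁻¹)
    rw [← Subgroup.coe_mul, mul_inv_cancel, OneMemClass.coe_one, Units.val_one] at h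
    exact (h.1 hone).symm

end CfsgLib.KnownC
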