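import Mathlib
import Cfsg.Agent.Lib.KnownC.AutPOmegaParity
import Cfsg.Agent.Lib.KnownC.AutPOmegaBaseChange
import Cfsg.Agent.Lib.KnownC.AutPOmegaEven
import Cfsg.Agent.Lib.KnownC.AutPOmegaMinusBasic
import Cfsg.Agent.Lib.KnownC.AutPOmegaOddField
import Cfsg.Agent.Lib.Geom.PlusTS

set_option autoImplicit false
set_option linter.unusedSectionVars false
set_option linter.style.haveILetI false

/-!
Similitudes preserving the classes of maximal totally singular subspaces, intrinsically.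
-/

namespace CfsgLib.KnownC

open CfsgLib.Geom CfsgLib.Classical
open QuadraticMap (polar)
open Matrix

universe u

variable {F : Type u} [Field F] {ι : Type} [Fintype ι] [DecidableEq ι]

/-- A proper similitude: determinant `μ ^ n` in odd characteristic, a multiple of an element of `Ω` in
characteristic two. -/
def IsProperSim (Q : QuadraticForm F (ι → F)) (n : ℕ) (g : GL ι F) : Prop :=
  ∃ μ : F, μ ≠ 0 ∧ (∀ v, Q (g.1 *ᵥ v) = μ * Q v) ∧ ((2 : F) ≠ 0 → g.1.det = μ ^ n) ∧
    ((2 : F) = 0 → ∃ (s : F) (h : Cfsg.isometryGroup F (⇑Q)), h ∈ Cfsg.Omega F (⇑Q) ∧ g.1 = s • h.1.1)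

theorem multiplier_unique {Q : QuadraticForm F (ι → F)} {g : GL ι F} {μ ν : F} {v : ι → F}
    (hv : Q v ≠ 0) (h1 : ∀ v, Q (g.1 *ᵥ v) = μ * Q v) (h2 : ∀ v, Q (g.1 *ᵥ v) = ν * Q v) : μ = ν :=
  mul_right_cancel₀ hv ((h1 v).symm.trans (h2 v))

variable [Finite F]

theorem exists_scaled_isometry {Q : QuadraticForm F (ι → F)} {g : GL ι F} {μ s : F} (hμ : μ ≠ 0)
    (hg : ∀ v, Q (g.1 *ᵥ v) = μ * Q v) (hs : μ = s * s) :
    ∃ h : Cfsg.isometryGroup F (⇑Q), g.1 = s • h.1.1 := by
  have hs0 : s ≠ 0 := fun h => hμ (by rw [hs, h, mul_zero])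
  have hu : IsUnit (s⁻¹ • g.1) := ⟨⟨s⁻¹ • g.1, s • (g⁻¹).1, by
      rw [smul_mul_smul_comm, inv_mul_cancel₀ hs0, one_smul, Units.mul_inv], by
      rw [smul_mul_smul_comm, mul_inv_cancel₀ hs0, one_smul, Units.inv_mul]⟩, rfl⟩
  refine ⟨⟨hu.unit, (mem_isometryGroup_iff _ _).2 fun v => ?_⟩, ?_⟩
  · rw [IsUnit.unit_spec, smul_mulVec, quad_smul, hg, hs]
    field_simp
  · show g.1 = s • (s⁻¹ • g.1)
    rw [smul_inv_smul₀ hs0]

theorem mem_omega_iff_of_two (h2 : (2 : F) = 0) {Q : QuadraticForm F (ι → F)}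
    (hsep : ∀ x, (∀ y, polar Q x y = 0) → x = 0)
    (hex : (∃ t : F, t ≠ 0 ∧ t ≠ 1) ∨ Module.finrank F (ι → F) ≠ 4) (g : Cfsg.isometryGroup F (⇑Q)) :
    g ∈ Cfsg.Omega F (⇑Q) ↔ (spinorHom Q hsep hex g).1 = 1 := by
  rw [omega_eq_ker_spinorHom Q hsep hex, MonoidHom.mem_ker]
  refine ⟨fun h => congrArg Prod.fst h, fun h => Prod.ext h ?_⟩
  obtain ⟨w, hw⟩ := sqProj_surjective F (spinorHom Q hsep hex g).2
  rw [← hw, show sqProj F w = sqClass w.ne_zero by simp [sqClass]]
  exact (sqClass_eq_one_iff _).2 (isSquare_of_two_eq_zero h2 _)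

/-- In characteristic two properness is the vanishing of the Dickson invariant of a scaled similitude. -/
theorem isProperSim_iff_two (h2 : (2 : F) = 0) {Q : QuadraticForm F (ι → F)} {n : ℕ}
    (hsep : ∀ x, (∀ y, polar Q x y = 0) → x = 0)
    (hex : (∃ t : F, t ≠ 0 ∧ t ≠ 1) ∨ Module.finrank F (ι → F) ≠ 4) {g : GL ι F} {μ : F} {v : ι → F}
    (hv : Q v ≠ 0) (hμ : μ ≠ 0) (hg : ∀ v, Q (g.1 *ᵥ v) = μ * Q v) {s : F} (hs : μ = s * s)
    {h : Cfsg.isometryGroup F (⇑Q)} (hh : g.1 = s • h.1.1) :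
    IsProperSim Q n g ↔ (spinorHom Q hsep hex h).1 = 1 := by
  rw [← mem_omega_iff_of_two h2 hsep hex]
  refine ⟨fun ⟨ν, _, hν, _, h4⟩ => ?_, fun hm => ⟨μ, hμ, hg, fun h0 => absurd h2 h0,
    fun _ => ⟨s, h, hm, hh⟩⟩⟩
  obtain ⟨t, k, hk, hgk⟩ := h4 h2
  have ht : t * t = μ := by
    refine (multiplier_unique hv hg fun w => ?_).symm
    rw [hgk, smul_mulVec, quad_smul, (mem_isometryGroup_iff _ _).1 k.2]
  have hts : t = s := by
    have h5 : (t - s) * (t - s) = 0 := by linear_combination ht + hs + (s * s - t * s) * h2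
    exact sub_eq_zero.1 (mul_self_eq_zero.1 h5)
  have hs0 : s ≠ 0 := fun h0 => hμ (by rw [hs, h0, mul_zero])
  rwa [show h = k from Subtype.ext (Units.ext (smul_right_injective _ hs0
    (show s • h.1.1 = s • k.1.1 by rw [← hh, hgk, hts])))]

theorem det_scaled (h2 : (2 : F) ≠ 0) {Q : QuadraticForm F (ι → F)} {n : ℕ}
    (hsep : ∀ x, (∀ y, polar Q x y = 0) → x = 0) (hn : 0 < n) (hdim : Fintype.card ι = 2 * n)
    {s : F} (hs : s ≠ 0) (h : Cfsg.isometryGroup F (⇑Q)) :
    (spinorHom Q hsep (exGen_of_odd h2) h).1 = 1 ↔ (s • h.1.1).det = (s * s) ^ n := by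
  rw [spinorHom_fst_eq_one_iff hsep h2 (by omega), Matrix.det_smul, hdim, pow_mul, pow_two,
    mul_eq_left₀ (pow_ne_zero _ (mul_ne_zero hs hs))]

/-- A quadratic extension of a finite field splits every quadratic. -/
theorem exists_root_of_degree_two {K : Type u} [Field K] [Algebra F K] (hK : Module.finrank F K = 2)
    (P : Polynomial F) (hP : P.natDegree = 2) (hroot : ∀ x : F, ¬ P.IsRoot x) :
    ∃ u : K, Polynomial.aeval u P = 0 := by
  classical
  haveI := Fintype.ofFinite F
  haveI : FiniteDimensional F K := Module.finite_of_finrank_eq_succ hK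
  haveI : Finite K := Module.finite_of_finite F
  haveI := Fintype.ofFinite K
  have hP0 : P ≠ 0 := fun h => by rw [h] at hP; simp at hP
  have hirr : Irreducible P :=
    (Polynomial.irreducible_iff_roots_eq_zero_of_degree_le_three (by omega) (by omega)).2
      (Multiset.eq_zero_of_forall_notMem fun x hx => hroot x (Polynomial.mem_roots'.1 hx).2)
  haveI := Fact.mk hirr
  haveI : FiniteDimensional F (AdjoinRoot P) := (AdjoinRoot.powerBasis hP0).finite
  haveI : Finite (AdjoinRoot P) := Module.finite_of_finite F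
  haveI := Fintype.ofFinite (AdjoinRoot P)
  obtain ⟨N, hN⟩ : ∃ N, N = Fintype.card F ^ 2 := ⟨_, rfl⟩
  have hcardL : Fintype.card (AdjoinRoot P) = N := by
    rw [Module.card_eq_pow_finrank (K := F) (V := AdjoinRoot P), (AdjoinRoot.powerBasis hP0).finrank,
      AdjoinRoot.powerBasis_dim, hP, hN]
  have hcardK : Fintype.card K = N := by rw [Module.card_eq_pow_finrank (K := F) (V := K), hK, hN]
  have hN2 : 2 ≤ N := hcardK ▸ Fintype.one_lt_card
  obtain ⟨R, hR⟩ : P ∣ (Polynomial.X ^ N - Polynomial.X : Polynomial F) := by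
    rw [← AdjoinRoot.mk_eq_zero, map_sub, map_pow, AdjoinRoot.mk_X, ← hcardL, FiniteField.pow_card,
      sub_self]
  by_contra hno
  push Not at hno
  have hdeg : (Polynomial.X ^ N - Polynomial.X : Polynomial F).natDegree = N :=
    FiniteField.X_pow_card_sub_X_natDegree_eq F (by omega)
  have hR0 : R ≠ 0 := fun h => by rw [h, mul_zero] at hR; rw [hR] at hdeg; simp at hdeg; omega
  have hRdeg : R.natDegree < N := by
    rw [hR, Polynomial.natDegree_mul hP0 hR0, hP] at hdeg; omega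
  refine hR0 (Polynomial.map_injective (algebraMap F K) (algebraMap F K).injective ?_)
  rw [Polynomial.map_zero]
  refine Polynomial.eq_zero_of_natDegree_lt_card_of_eval_eq_zero _ (f := id) Function.injective_id
    (fun x => ?_) (by rw [Polynomial.natDegree_map, hcardK]; exact hRdeg)
  have h1 : Polynomial.aeval x (Polynomial.X ^ N - Polynomial.X : Polynomial F) = 0 := by
    rw [map_sub, map_pow, Polynomial.aeval_X, ← hcardK, FiniteField.pow_card, sub_self]
  rw [hR, map_mul] at h1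
  rw [Polynomial.eval_map, ← Polynomial.aeval_def, id_eq]
  exact (mul_eq_zero.1 h1).resolve_left (hno x)

/-- `PreservesSingularClasses` for a similitude with a square multiplier of a split form. -/
theorem preserves_iff_of_square {Q : QuadraticForm F (ι → F)} {n : ℕ} {U₀ : Submodule F (ι → F)}
    (S : SplitCtx Q n U₀) (hsep : ∀ x, (∀ y, polar Q x y = 0) → x = 0)
    (hex : (∃ t : F, t ≠ 0 ∧ t ≠ 1) ∨ Module.finrank F (ι → F) ≠ 4) {g : Matrix ι ι F} {s : F}
    (hs : s ≠ 0) {h : Cfsg.isometryGroup F (⇑Q)} (hh : g = s • h.1.1) :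
    Cfsg.PreservesSingularClasses (⇑Q) g ↔ (spinorHom Q hsep hex h).1 = 1 := by
  rw [hh, preserves_smul_iff hs, preserves_isometry_iff S hsep hex]

/-- The class preserving similitudes of the plus form. -/
theorem preservesPlus_iff {m : ℕ} (hm : 3 ≤ m) {g : GL (Fin m ⊕ Fin m) F} {μ : F} (hμ : μ ≠ 0)
    (hg : ∀ v, qfPlus m F (g.1 *ᵥ v) = μ * qfPlus m F v)
    (Q' : (Fin m ⊕ Fin m → F) → F) (hQ' : Q' = ⇑(qfPlus m F)) :
    Cfsg.PreservesSingularClasses Q' g.1 ↔ IsProperSim (qfPlus m F) m g := by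
  subst hQ'
  obtain ⟨U₀, hU₀⟩ : ∃ U₀, U₀ = coordTS (F := F) m (fun _ => false) := ⟨_, rfl⟩
  have hmax : IsMaxTS (qfPlus m F) m U₀ := by
    rw [hU₀]
    obtain ⟨h1, h2⟩ := isMaxTS_coordTS (F := F) m (fun _ => false)
    refine ⟨h1, fun u hu => ?_⟩
    rw [qfPlus_apply, ← plusForm_coe]; exact h2 u hu
  have hsep := qfPlus_sep (F := F) m
  have hcard : Fintype.card (Fin m ⊕ Fin m) = 2 * m := by simp; omega
  have S := splitCtx_of_sep hsep hcard hmax (by omega)
  have hex : (∃ t : F, t ≠ 0 ∧ t ≠ 1) ∨ Module.finrank F (Fin m ⊕ Fin m → F) ≠ 4 :=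
    Or.inr (by rw [Module.finrank_fintype_fun_eq_card, hcard]; omega)
  obtain ⟨v, hv⟩ : ∃ v, qfPlus m F v ≠ 0 :=
    ⟨Pi.single (.inl ⟨0, by omega⟩) 1 + Pi.single (.inr ⟨0, by omega⟩) 1, by
      simp [qfPlus_apply, Cfsg.quadFormPlus, Pi.single_apply]⟩
  by_cases h2 : (2 : F) = 0
  · haveI := Fintype.ofFinite F
    obtain ⟨s, hs⟩ := isSquare_of_two_eq_zero h2 μ
    have hs0 : s ≠ 0 := fun h => hμ (by rw [hs, h, mul_zero])
    obtain ⟨h, hh⟩ := exists_scaled_isometry hμ hg hs
    rw [preserves_iff_of_square S hsep hex hs0 hh, isProperSim_iff_two h2 hsep hex hv hμ hg hs hh]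
  · have key : IsProperSim (qfPlus m F) m g ↔ g.1.det = μ ^ m :=
      ⟨fun ⟨ν, _, hν, h3, _⟩ => multiplier_unique hv hν hg ▸ h3 h2,
        fun h => ⟨μ, hμ, hg, fun _ => h, fun h0 => absurd h0 h2⟩⟩
    rw [key]
    obtain ⟨D, hD⟩ : ∃ D : GL (Fin m ⊕ Fin m) F,
        D.1 = Matrix.diagonal (Sum.elim (fun _ => μ) fun _ => 1) :=
      ⟨Matrix.GeneralLinearGroup.mkOfDetNeZero
        (Matrix.diagonal (Sum.elim (fun _ : Fin m => μ) fun _ : Fin m => (1 : F)))
        (by simp [Fintype.prod_sum_type, hμ]), rfl⟩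
    have hDv : ∀ w k, (D.1 *ᵥ w) k = Sum.elim (fun _ => μ) (fun _ => (1 : F)) k * w k := fun w k => by
      rw [hD]; exact Matrix.mulVec_diagonal _ _ k
    have hDQ : ∀ w, qfPlus m F (D.1 *ᵥ w) = μ * qfPlus m F w := fun w => by
      simp only [qfPlus_apply, Cfsg.quadFormPlus, hDv, Sum.elim_inl, Sum.elim_inr, one_mul, mul_assoc,
        Finset.mul_sum]
    have hDP : Cfsg.PreservesSingularClasses (⇑(qfPlus m F)) D.1 := preserves_of_fix S hDQ fun u hu => by
      rw [hU₀, mem_coordTS] at hu ⊢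
      intro i
      simpa [hDv] using hu i
    have hiso : D⁻¹ * g ∈ Cfsg.isometryGroup F (⇑(qfPlus m F)) :=
      (mem_isometryGroup_iff _ _).2 fun w => mul_left_cancel₀ hμ (by
        rw [← hDQ, mulVec_mulVec, ← Units.val_mul, mul_inv_cancel_left, hg])
    have hgD : g = D * (⟨_, hiso⟩ : Cfsg.isometryGroup F (⇑(qfPlus m F))).1 :=
      (mul_inv_cancel_left D g).symm
    generalize (⟨_, hiso⟩ : Cfsg.isometryGroup F (⇑(qfPlus m F))) = k at hgD
    subst hgD
    rw [preserves_mul_iff S hDQ (fun w => ((mem_isometryGroup_iff _ _).1 k.2 w).trans (one_mul _).symm),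
      iff_true_left hDP, preserves_isometry_iff S hsep (exGen_of_odd h2),
      spinorHom_fst_eq_one_iff hsep h2 (by omega), Units.val_mul, Matrix.det_mul, hD,
      Matrix.det_diagonal]
    simp [Fintype.prod_sum_type, hμ]

/-- The class preserving similitudes of the minus form. -/
theorem preservesMinus_iff {m : ℕ} (hm : 3 ≤ m) {a b : F}
    (hab : ∀ z₁ z₂ : F, z₁ ^ 2 + a * z₁ * z₂ + b * z₂ ^ 2 = 0 → z₁ = 0 ∧ z₂ = 0)
    {g : GL ((Fin m ⊕ Fin m) ⊕ Fin 2) F} {μ : F} (hμ : μ ≠ 0)
    (hg : ∀ v, qfMinus m F a b (g.1 *ᵥ v) = μ * qfMinus m F a b v) :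
    Cfsg.PreservesSingularClassesMinus m a b g.1 ↔ IsProperSim (qfMinus m F a b) (m + 1) g := by
  classical
  haveI := Fintype.ofFinite F
  have key : ∀ (K : Type u) [Field K] [Algebra F K], Module.finrank F K = 2 →
      (Cfsg.PreservesSingularClasses (Cfsg.quadFormMinus m K (algebraMap F K a) (algebraMap F K b))
        (g.1.map (algebraMap F K)) ↔ IsProperSim (qfMinus m F a b) (m + 1) g) := by
    intro K _ _ hK
    haveI : FiniteDimensional F K := Module.finite_of_finrank_eq_succ hK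
    haveI : Finite K := Module.finite_of_finite F
    haveI := Fintype.ofFinite K
    have hcardK : Fintype.card K = Fintype.card F ^ 2 := by
      rw [← hK]; exact Module.card_eq_pow_finrank
    obtain ⟨ι₀, hι₀⟩ : ∃ ι₀, ι₀ = algebraMap F K := ⟨_, rfl⟩
    rw [← hι₀, ← qfMinus_coe]
    obtain ⟨a', ha'⟩ : ∃ a', a' = ι₀ a := ⟨_, rfl⟩
    obtain ⟨b', hb'⟩ : ∃ b', b' = ι₀ b := ⟨_, rfl⟩
    rw [← ha', ← hb']
    have hQ₀ : ∀ v, ι₀ (qfMinus m F a b v) = qfMinus m K a' b' fun i => ι₀ (v i) := fun v => by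
      simp [qfMinus_apply, Cfsg.quadFormMinus, ha', hb', map_sum]
    have hd : (4 : K) * b' - a' ^ 2 ≠ 0 := fun h => by
      refine anisotropic_disc hab (ι₀.injective ?_)
      rw [map_sub, map_mul, map_pow, map_ofNat, map_zero, ← ha', ← hb']
      exact h
    have hsep : ∀ x, (∀ y, polar (qfMinus m K a' b') x y = 0) → x = 0 := by
      intro x hx
      have h1 : ∀ (k : (Fin m ⊕ Fin m) ⊕ Fin 2), polar (qfMinus m K a' b') x (Pi.single k 1) = 0 :=
        fun k => hx _
      simp only [polar_qfMinus] at h1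
      have e0 := h1 (.inr 0)
      have e1 := h1 (.inr 1)
      simp [Pi.single_apply] at e0 e1
      have z0 : x (.inr 0) = 0 := (mul_eq_zero.1 (show (4 * b' - a' ^ 2) * x (.inr 0) = 0 by
        linear_combination (2 * b') * e0 - a' * e1)).resolve_left hd
      have z1 : x (.inr 1) = 0 := (mul_eq_zero.1 (show (4 * b' - a' ^ 2) * x (.inr 1) = 0 by
        linear_combination 2 * e1 - a' * e0)).resolve_left hd
      funext k
      rcases k with (i | i) | i
      · have := h1 (.inl (.inr i))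
        simpa [Pi.single_apply] using this
      · have := h1 (.inl (.inl i))
        simpa [Pi.single_apply] using this
      · fin_cases i
        · exact z0
        · exact z1
    -- the two roots
    obtain ⟨ω, hω⟩ : ∃ ω : K, ω ^ 2 + a' * ω + b' = 0 := by
      by_cases h2 : (2 : F) = 0
      · by_contra hno
        push Not at hno
        have h2K : (2 : K) = 0 := by rw [← map_ofNat ι₀ 2, h2, map_zero]
        have ha0 : a ≠ 0 := (two_ne_zero_or_ne_zero hab).resolve_left (not_not.2 h2)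
        obtain ⟨u, hu⟩ : ∃ u : K, Polynomial.aeval u
            (Polynomial.X ^ 2 + Polynomial.C a * Polynomial.X + Polynomial.C b : Polynomial F) = 0 :=
          exists_root_of_degree_two hK _ (by compute_degree!) fun x hx => by
            simp at hx
            exact absurd (hab x 1 (by linear_combination hx)).2 one_ne_zero
        refine hno u ?_
        rw [ha', hb', hι₀]
        simpa using hu
      · obtain ⟨t, ht⟩ := isSquare_map_of_even ι₀ (r := 2) even_two hcardK
          (fun h => h2 (ι₀.injective (by rw [map_ofNat, map_zero]; exact h))) (a * a - 4 * b)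
        have h2K : (2 : K) ≠ 0 := fun h => h2 (ι₀.injective (by rw [map_ofNat, map_zero]; exact h))
        refine ⟨(-a' + t) / 2, ?_⟩
        rw [map_sub, map_mul, map_mul, map_ofNat, ← ha', ← hb'] at ht
        field_simp
        linear_combination -ht
    obtain ⟨L, hL⟩ : ∃ L : ((Fin m → K) × K) →ₗ[K] ((Fin m ⊕ Fin m) ⊕ Fin 2 → K),
        ∀ p, L p = Sum.elim (Sum.elim p.1 fun _ => 0) ![ω * p.2, p.2] :=
      ⟨{ toFun := fun p => Sum.elim (Sum.elim p.1 fun _ => 0) ![ω * p.2, p.2]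
         map_add' := fun p q => funext fun k => by
          rcases k with (i | i) | i <;> try simp
          fin_cases i <;> simp [mul_add]
         map_smul' := fun c p => funext fun k => by
          rcases k with (i | i) | i <;> try simp
          fin_cases i <;> simp [mul_left_comm] }, fun p => rfl⟩
    have hLinj : Function.Injective L := (injective_iff_map_eq_zero L).2 fun p hp => by
      rw [hL] at hp
      exact Prod.ext (funext fun i => congrFun hp (.inl (.inl i))) (congrFun hp (.inr 1))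
    have hmax : IsMaxTS (qfMinus m K a' b') (m + 1) (LinearMap.range L) := by
      refine ⟨by rw [LinearMap.finrank_range_of_inj hLinj]; simp, ?_⟩
      rintro _ ⟨p, rfl⟩
      rw [hL, qfMinus_apply]
      simp only [Cfsg.quadFormMinus, Sum.elim_inl, Sum.elim_inr, mul_zero, Finset.sum_const_zero,
        Matrix.cons_val_zero, Matrix.cons_val_one, zero_add]
      linear_combination (p.2 ^ 2) * hω
    have hcard : Fintype.card ((Fin m ⊕ Fin m) ⊕ Fin 2) = 2 * (m + 1) := by simp; omega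
    have S := splitCtx_of_sep hsep hcard hmax (by omega)
    have hex : ∀ (E : Type u) [Field E], (∃ t : E, t ≠ 0 ∧ t ≠ 1) ∨
        Module.finrank E ((Fin m ⊕ Fin m) ⊕ Fin 2 → E) ≠ 4 := fun E _ =>
      Or.inr (by rw [Module.finrank_fintype_fun_eq_card, hcard]; omega)
    have hsepF := qfMinus_sep m hab
    obtain ⟨v, hv⟩ : ∃ v, qfMinus m F a b v ≠ 0 := ⟨Pi.single (.inr 0) 1, by
      simp [qfMinus_apply, Cfsg.quadFormMinus, Pi.single_apply]⟩
    by_cases h2 : (2 : F) = 0
    · obtain ⟨s, hs⟩ := isSquare_of_two_eq_zero h2 μ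
      have hs0 : s ≠ 0 := fun h => hμ (by rw [hs, h, mul_zero])
      obtain ⟨h, hh⟩ := exists_scaled_isometry hμ hg hs
      rw [isProperSim_iff_two h2 hsepF (hex F) hv hμ hg hs hh,
        preserves_iff_of_square S hsep (hex K) ((map_ne_zero ι₀).2 hs0) (h := isoMap ι₀ hQ₀ h) (by
          rw [isoMap_coe, hh]; ext i j; simp),
        spinorHom_isoMap ι₀ hQ₀ hsep hsepF (hex K) (hex F)]
    · have h2K : (2 : K) ≠ 0 := fun h => h2 (ι₀.injective (by rw [map_ofNat, map_zero]; exact h))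
      have key : IsProperSim (qfMinus m F a b) (m + 1) g ↔ g.1.det = μ ^ (m + 1) :=
        ⟨fun ⟨ν, _, hν, h3, _⟩ => multiplier_unique hv hν hg ▸ h3 h2,
          fun h => ⟨μ, hμ, hg, fun _ => h, fun h0 => absurd h0 h2⟩⟩
      obtain ⟨s, hs⟩ := isSquare_map_of_even ι₀ (r := 2) even_two hcardK h2K μ
      have hs0 : s ≠ 0 := fun h => (map_ne_zero ι₀).2 hμ (by rw [hs, h, mul_zero])
      obtain ⟨G, hG⟩ : ∃ G, G = Matrix.GeneralLinearGroup.map ι₀ g := ⟨_, rfl⟩
      have hGQ : ∀ w, qfMinus m K a' b' (G.1 *ᵥ w) = ι₀ μ * qfMinus m K a' b' w := by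
        have h : (qfMinus m K a' b').comp ((g.1.map ι₀).mulVecLin) = ι₀ μ • qfMinus m K a' b' :=
          quad_ext_subfield ι₀ fun v => by
            rw [QuadraticMap.comp_apply, mulVecLin_apply, QuadraticMap.smul_apply, smul_eq_mul,
              show g.1.map ι₀ *ᵥ (fun i => ι₀ (v i)) = fun i => ι₀ ((g.1 *ᵥ v) i) from
                funext fun i => (RingHom.map_mulVec ι₀ g.1 v i).symm, ← hQ₀, hg, map_mul, hQ₀]
        intro w
        rw [hG]
        exact congrArg (fun R : QuadraticForm K _ => R w) h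
      obtain ⟨h, hh⟩ := exists_scaled_isometry ((map_ne_zero ι₀).2 hμ) hGQ hs
      have hG' : g.1.map ι₀ = s • h.1.1 := by rw [← hh, hG]; rfl
      rw [key, preserves_iff_of_square S hsep (exGen_of_odd h2K) hs0 hG',
        det_scaled h2K hsep (by omega : 0 < m + 1) hcard hs0, ← hG', ← hs, ← map_pow]
      rw [show (g.1.map ι₀).det = ι₀ g.1.det from (RingHom.map_det ι₀ g.1).symm, ι₀.injective.eq_iff]
  constructor
  · rintro ⟨K, hF, hA, hK, h⟩
    exact (key K hK).1 h
  · intro h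
    have hnd : (Polynomial.X ^ 2 + Polynomial.C a * Polynomial.X + Polynomial.C b : Polynomial F).natDegree = 2 := by
      compute_degree!
    have hirr : Irreducible (Polynomial.X ^ 2 + Polynomial.C a * Polynomial.X + Polynomial.C b : Polynomial F) :=
      (Polynomial.irreducible_iff_roots_eq_zero_of_degree_le_three
        (by omega) (by omega)).2 (Multiset.eq_zero_of_forall_notMem fun x hx => by
          rw [Polynomial.mem_roots'] at hx
          have := hx.2
          simp at this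
          exact one_ne_zero (hab x 1 (by linear_combination this)).2)
    haveI := Fact.mk hirr
    have hK : Module.finrank F (AdjoinRoot (Polynomial.X ^ 2 + Polynomial.C a * Polynomial.X +
        Polynomial.C b : Polynomial F)) = 2 := by
      rw [(AdjoinRoot.powerBasis hirr.ne_zero).finrank, AdjoinRoot.powerBasis_dim]
      exact hnd
    exact ⟨_, _, _, hK, (key _ hK).2 h⟩

end CfsgLib.KnownC
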