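import Mathlib
import Cfsg.Agent.Lib.KnownC.AutPOmegaEven

set_option autoImplicit false
set_option linter.unusedSectionVars false
set_option linter.style.haveILetI false

/-!
Tools for the computation of `Out (PΩ(Q))`.
-/

namespace CfsgLib.KnownC

open CfsgLib.Geom CfsgLib.Classical
open QuadraticMap (polar)
open Matrix

universe u

variable {F : Type u} [Field F] {ι : Type} [Fintype ι] [DecidableEq ι] {Q : QuadraticForm F (ι → F)}

/-- A reflection as an element of the isometry group. -/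
noncomputable def reflIsom (Q : QuadraticForm F (ι → F)) (v : ι → F) (hv : Q v ≠ 0) :
    Cfsg.isometryGroup F (⇑Q) :=
  orEquiv Q ⟨reflEquiv Q v hv, reflEquiv_mem Q v hv⟩

theorem reflIsom_coe (v : ι → F) (hv : Q v ≠ 0) :
    (reflIsom Q v hv).1.1 = Cfsg.reflectionMatrix (⇑Q) v := by
  rw [reflIsom, orEquiv_coe, glOfEquiv_reflEquiv]

theorem reflIsom_mulVec (v : ι → F) (hv : Q v ≠ 0) (x : ι → F) :
    (reflIsom Q v hv).1.1 *ᵥ x = x - ((Q v)⁻¹ * polar Q v x) • v := by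
  rw [reflIsom_coe, reflectionMatrix_mulVec]

theorem spinorHom_reflIsom (hsep : ∀ x, (∀ y, polar Q x y = 0) → x = 0)
    (hex : (∃ t : F, t ≠ 0 ∧ t ≠ 1) ∨ Module.finrank F (ι → F) ≠ 4) (v : ι → F) (hv : Q v ≠ 0) :
    spinorHom Q hsep hex (reflIsom Q v hv) = (Multiplicative.ofAdd 1, sqClass hv) :=
  spinorHom_refl Q hsep hex _ hv (reflIsom_coe v hv)

theorem reflIsom_mul_self (v : ι → F) (hv : Q v ≠ 0) : reflIsom Q v hv * reflIsom Q v hv = 1 := by
  rw [reflIsom, ← map_mul,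
    show (⟨reflEquiv Q v hv, reflEquiv_mem Q v hv⟩ * ⟨reflEquiv Q v hv, reflEquiv_mem Q v hv⟩ :
      quadIsoms Q) = 1 from Subtype.ext (reflEquiv_mul_self Q v hv), map_one]

variable [Finite F] (K : OCtx Q)
include K

/-- Composition of semisimilitudes, on vectors. -/
theorem osimPOmega_eq_mul {Φ Ψ Χ : OSim Q} (h : ∀ v, Χ.T v = Φ.T (Ψ.T v)) :
    osimPOmega K Χ = osimPOmega K Φ * osimPOmega K Ψ := by
  rw [← osimPOmega_comp]
  exact (osimPOmega_eq_iff K _ _).2 ⟨1, one_ne_zero, fun v => by rw [one_smul, h]; rfl⟩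

theorem osimPOmega_congr {Φ Ψ : OSim Q} (h : ∀ v, Φ.T v = Ψ.T v) :
    osimPOmega K Φ = osimPOmega K Ψ :=
  (osimPOmega_eq_iff K _ _).2 ⟨1, one_ne_zero, fun v => by rw [one_smul, h]⟩

/-- A power as an isometry. -/
theorem osimPOmega_pow_eq_isoHom {Φ : OSim Q} {g : Cfsg.isometryGroup F (⇑Q)} {k : ℕ}
    (h : ∀ v, (⇑Φ.T)^[k] v = g.1.1 *ᵥ v) : osimPOmega K Φ ^ k = isoHom K g := by
  rw [← osimPOmega_pow, isoHom_apply]
  exact osimPOmega_congr K fun v => by rw [OSim.pow_T, h, OSim.ofIsometry_T]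

theorem osimPOmega_pow_eq_one {Φ : OSim Q} {k : ℕ} (h : ∀ v, (⇑Φ.T)^[k] v = v) :
    osimPOmega K Φ ^ k = 1 := by
  rw [← osimPOmega_pow]
  exact (osimPOmega_eq_one_iff K _).2 ⟨1, one_ne_zero, fun v => by rw [OSim.pow_T, h, one_smul]⟩

/-- Inner automorphisms have trivial field part and square multiplier. -/
theorem of_osimPOmega_mem_inn {Φ : OSim Q} (h : osimPOmega K Φ ∈ Cfsg.Inn (Cfsg.POmega F (⇑Q))) :
    Φ.σ = RingEquiv.refl F ∧ ∃ a : F, Φ.c = a * a := by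
  obtain ⟨a, g, ha, hg, hv⟩ := (osimPOmega_mem_inn_iff K Φ).1 h
  have hσ : Φ.σ = RingEquiv.refl F :=
    osimPOmega_σ_eq K (Ψ := OSim.ofIsometry g) ((osimPOmega_eq_iff K _ _).2
      ⟨a, ha, fun v => by rw [OSim.ofIsometry_T, hv]⟩)
  obtain ⟨v, -, -, hv0⟩ := exists_perp_anisotropic Q K.sep (five_le K) 0 0
  refine ⟨hσ, a, mul_right_cancel₀ hv0 ?_⟩
  have h1 := Φ.quad v
  rw [hv, quad_smul, (mem_isometryGroup_iff _ _).1 g.2, hσ, RingEquiv.refl_apply] at h1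
  linear_combination -h1

/-- Splitting off the field part. -/
theorem exists_eq_mul_pow (hn : 9 ≤ Fintype.card ι ∨ NoFour Q) (Y : OSim Q)
    (hY : ∀ σ : F ≃+* F, σ ∈ Subgroup.zpowers Y.σ) (β : MulAut (Cfsg.POmega F (⇑Q))) :
    ∃ (Φ : OSim Q) (k : ℕ), Φ.σ = RingEquiv.refl F ∧ β = osimPOmega K Φ * osimPOmega K Y ^ k := by
  obtain ⟨X, rfl⟩ := exists_osimPOmega K hn β
  haveI : Finite (F ≃+* F) :=
    Finite.of_injective (fun s : F ≃+* F => (s : F → F)) DFunLike.coe_injective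
  obtain ⟨k, hk⟩ := (Submonoid.mem_powers_iff _ _).1 (mem_powers_iff_mem_zpowers.2 (hY X.σ))
  refine ⟨X.comp (Y.pow k).inv, k, ?_, ?_⟩
  · refine RingEquiv.ext fun x => ?_
    show X.σ ((Y.pow k).σ.symm x) = x
    rw [OSim.pow_σ, hk]
    exact X.σ.apply_symm_apply x
  · rw [osimPOmega_comp, osimPOmega_inv, osimPOmega_pow, inv_mul_cancel_right]

/-- The matrix of a similitude. -/
theorem exists_matrix_of_sim {Φ : OSim Q} (hσ : Φ.σ = RingEquiv.refl F) :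
    ∃ M : Matrix ι ι F, ∀ v, Φ.T v = M *ᵥ v :=
  ⟨Φ.mat.1, fun v => by
    have h := Φ.mat_mulVec K v
    rw [hσ] at h
    exact h.symm⟩

end CfsgLib.KnownC
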