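import Mathlib
import Cfsg.Agent.Lib.KnownC.AutPOmegaProper
import Cfsg.Agent.Lib.KnownC.AutPOmegaOutTools

set_option autoImplicit false
set_option linter.unusedSectionVars false
set_option linter.style.haveILetI false

/-!
`Inndiag (PΩ^±(Q))` as the image of the proper similitudes.
-/

namespace CfsgLib.KnownC

open CfsgLib.Geom CfsgLib.Classical
open QuadraticMap (polar)
open Matrix

universe u

variable {F : Type u} [Field F] {ι : Type} [Fintype ι] [DecidableEq ι]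

/-- The proper similitudes. -/
def properSub (Q : QuadraticForm F (ι → F)) (n : ℕ) : Subgroup (GL ι F) where
  carrier := {g | IsProperSim Q n g}
  one_mem' := ⟨1, one_ne_zero, fun v => by simp, fun _ => by simp,
    fun _ => ⟨1, 1, one_mem _, by simp⟩⟩
  mul_mem' := by
    rintro g h ⟨μ, hμ, hg, hdg, htg⟩ ⟨ν, hν, hh, hdh, hth⟩
    refine ⟨μ * ν, mul_ne_zero hμ hν, fun v => by rw [Units.val_mul, ← mulVec_mulVec, hg, hh, mul_assoc],
      fun h2 => by rw [Units.val_mul, det_mul, hdg h2, hdh h2, mul_pow], fun h2 => ?_⟩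
    obtain ⟨s, a, ha, hga⟩ := htg h2
    obtain ⟨t, b, hb, hhb⟩ := hth h2
    exact ⟨s * t, a * b, mul_mem ha hb, by
      rw [Units.val_mul, hga, hhb, smul_mul_smul_comm]; rfl⟩
  inv_mem' := by
    rintro g ⟨μ, hμ, hg, hdg, htg⟩
    refine ⟨μ⁻¹, inv_ne_zero hμ, fun v => ?_, fun h2 => ?_, fun h2 => ?_⟩
    · conv_rhs => rw [show v = g.1 *ᵥ ((g⁻¹).1 *ᵥ v) by rw [mulVec_mulVec, Units.mul_inv, one_mulVec]]
      rw [hg, inv_mul_cancel_left₀ hμ]
    · have h1 : (g⁻¹).1.det * g.1.det = 1 := by rw [← det_mul, Units.inv_mul, det_one]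
      rw [hdg h2] at h1
      rw [inv_pow, eq_inv_of_mul_eq_one_left h1]
    · obtain ⟨s, a, ha, hga⟩ := htg h2
      rcases isEmpty_or_nonempty ι with hι | hι
      · exact ⟨1, 1, one_mem _, Matrix.ext fun i => (hι.false i).elim⟩
      have hs : s ≠ 0 := fun h => g.ne_zero (by rw [hga, h, zero_smul])
      refine ⟨s⁻¹, a⁻¹, inv_mem ha, ?_⟩
      have h1 : g.1 * (s⁻¹ • (a⁻¹).1.1) = 1 := by
        rw [hga, smul_mul_smul_comm, mul_inv_cancel₀ hs, one_smul, Subgroup.coe_inv, Units.mul_inv]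
      exact Units.inv_eq_of_mul_eq_one_right h1

theorem mem_properSub {Q : QuadraticForm F (ι → F)} {n : ℕ} {g : GL ι F} :
    g ∈ properSub Q n ↔ IsProperSim Q n g := Iff.rfl

theorem properSub_le (Q : QuadraticForm F (ι → F)) (n : ℕ) :
    properSub Q n ≤ Cfsg.Geo.quadSimilarityGroup (F := F) (⇑Q) :=
  fun _ ⟨μ, hμ, hg, _⟩ => ⟨Units.mk0 μ hμ, hg⟩

theorem isSemisimilarityPair_of_sim {Q : QuadraticForm F (ι → F)} {g : GL ι F}
    (h : g ∈ Cfsg.Geo.quadSimilarityGroup (F := F) (⇑Q)) :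
    Cfsg.IsSemisimilarityPair (⇑Q) g (RingEquiv.refl F) := by
  obtain ⟨c, hc⟩ := h; exact ⟨c, fun v => hc v⟩

variable [Finite F] {Q : QuadraticForm F (ι → F)} (K : OCtx Q)
include K

/-- Similitudes act on `PΩ`. -/
noncomputable def simHom : Cfsg.Geo.quadSimilarityGroup (F := F) (⇑Q) →* MulAut (Cfsg.POmega F (⇑Q)) where
  toFun g := osimPOmega K (OSim.ofPair g.1 (RingEquiv.refl F) (isSemisimilarityPair_of_sim g.2))
  map_one' := (osimPOmega_eq_one_iff K _).2 ⟨1, one_ne_zero, fun v => by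
    rw [one_smul]; exact one_mulVec v⟩
  map_mul' g h := osimPOmega_eq_mul K fun v => (mulVec_mulVec v g.1.1 h.1.1).symm

theorem simHom_apply (g : Cfsg.Geo.quadSimilarityGroup (F := F) (⇑Q)) :
    simHom K g = osimPOmega K (OSim.ofPair g.1 (RingEquiv.refl F) (isSemisimilarityPair_of_sim g.2)) := rfl

/-- The automorphisms induced by proper similitudes. -/
noncomputable def properAut (n : ℕ) : Subgroup (MulAut (Cfsg.POmega F (⇑Q))) :=
  ((properSub Q n).subgroupOf (Cfsg.Geo.quadSimilarityGroup (F := F) (⇑Q))).map (simHom K)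

theorem mem_properAut {n : ℕ} {β : MulAut (Cfsg.POmega F (⇑Q))} :
    β ∈ properAut K n ↔ ∃ g : Cfsg.Geo.quadSimilarityGroup (F := F) (⇑Q),
      IsProperSim Q n g.1 ∧ simHom K g = β := Iff.rfl

/-- The automorphism induced by a semisimilitude is proper iff its matrix is. -/
theorem osimPOmega_mem_properAut_of {n : ℕ} {Φ : OSim Q} {g : GL ι F}
    (hg : IsProperSim Q n g) (hT : ∀ v, Φ.T v = g.1 *ᵥ v) : osimPOmega K Φ ∈ properAut K n :=
  ⟨⟨g, properSub_le Q n hg⟩, hg, osimPOmega_congr K fun v => (hT v).symm⟩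

theorem inn_le_properAut (n : ℕ) : Cfsg.Inn (Cfsg.POmega F (⇑Q)) ≤ properAut K n := by
  rintro β ⟨x, rfl⟩
  obtain ⟨y, rfl⟩ := (oqEquiv K).surjective x
  obtain ⟨k, rfl⟩ := toOQ_surjective K y
  rw [show MulAut.conj (oqEquiv K (toOQ K k)) = _ from conj_oqEquiv K k]
  refine osimPOmega_mem_properAut_of K (g := (omegaEquiv Q k).1.1) ⟨1, one_ne_zero,
    fun v => by rw [one_mul]; exact (mem_isometryGroup_iff _ _).1 (omegaEquiv Q k).1.2 v, fun _ => ?_,
    fun _ => ⟨1, (omegaEquiv Q k).1, (omegaEquiv Q k).2, (one_smul _ _).symm⟩⟩ fun v => (oq_mulVec K k v).symm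
  rw [one_pow]
  exact congrArg Units.val
    (omega_le_special Q (omegaEquiv Q k).2 : Matrix.GeneralLinearGroup.det (omegaEquiv Q k).1.1 = 1)

theorem properAut_eq_inn (h2 : (2 : F) = 0) (n : ℕ) :
    properAut K n = Cfsg.Inn (Cfsg.POmega F (⇑Q)) := by
  refine le_antisymm ?_ (inn_le_properAut K n)
  rintro _ ⟨g, ⟨μ, hμ, hg, -, ht⟩, rfl⟩
  obtain ⟨s, h, hh, hgh⟩ := ht h2
  rw [simHom_apply, osimPOmega_mem_inn_iff]
  have hgh' : (g : GL ι F).1 = s • h.1.1 := hgh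
  refine ⟨s, h, fun hs => ?_, hh, fun v => ?_⟩
  · obtain ⟨v, -, -, hv⟩ := exists_perp_anisotropic Q K.sep (five_le K) 0 0
    have h1 : (g : GL ι F).1 = 0 := by rw [hgh', hs, zero_smul]
    have h3 : Q ((g : GL ι F).1 *ᵥ v) = μ * Q v := hg v
    rw [show ((g : GL ι F).1 *ᵥ v) = 0 by rw [h1, zero_mulVec], QuadraticMap.map_zero] at h3
    exact mul_ne_zero hμ hv h3.symm
  · show (g : GL ι F).1 *ᵥ (fun i => v i) = _
    rw [hgh', smul_mulVec]

theorem properAut_normal (hn : 9 ≤ Fintype.card ι ∨ NoFour Q) (n : ℕ) : (properAut K n).Normal := by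
  by_cases h2 : (2 : F) = 0
  · rw [properAut_eq_inn K h2]; exact Cfsg.innNormal _
  refine ⟨fun β hβ α => ?_⟩
  obtain ⟨g, ⟨μ, hμ, hg, hd, -⟩, rfl⟩ := hβ
  obtain ⟨X, rfl⟩ := exists_osimPOmega K hn α
  have hg' : ∀ v, Q ((g : GL ι F).1 *ᵥ v) = μ * Q v := hg
  obtain ⟨A, hA⟩ : ∃ A : GL ι F, ∀ v, A.1 *ᵥ (fun i => X.σ (v i)) = X.T v := ⟨X.mat, X.mat_mulVec K⟩
  obtain ⟨G, hG⟩ : ∃ G : GL ι F, G = A * Matrix.GeneralLinearGroup.map (X.σ : F →+* F) g.1 * A⁻¹ := ⟨_, rfl⟩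
  have hGT : ∀ w, G.1 *ᵥ X.T w = X.T ((g : GL ι F).1 *ᵥ w) := fun w => by
    rw [← hA, ← hA, hG, mulVec_mulVec, Units.val_mul, Units.val_mul, Matrix.mul_assoc, Units.inv_mul,
      Matrix.mul_one, ← mulVec_mulVec]
    exact congrArg _ (funext fun i => (RingHom.map_mulVec (X.σ : F →+* F) (g : GL ι F).1 w i).symm)
  have hGQ : ∀ v, Q (G.1 *ᵥ v) = X.σ μ * Q v := fun v => by
    obtain ⟨w, rfl⟩ := X.T.surjective v
    rw [hGT, X.quad, X.quad, hg', map_mul]; ring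
  have hGp : IsProperSim Q n G := ⟨X.σ μ, (map_ne_zero X.σ).2 hμ, hGQ, fun _ => by
    rw [hG, Units.val_mul, Units.val_mul, det_mul_right_comm, ← Units.val_mul, mul_inv_cancel,
      Units.val_one, one_mul,
      show (Matrix.GeneralLinearGroup.map (X.σ : F →+* F) g.1 : Matrix ι ι F) = (g : GL ι F).1.map X.σ from rfl,
      show ((g : GL ι F).1.map X.σ).det = X.σ (g : GL ι F).1.det from (RingEquiv.map_det X.σ _).symm,
      show (g : GL ι F).1.det = μ ^ n from hd h2, map_pow], fun h0 => absurd h0 h2⟩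
  refine ⟨⟨G, properSub_le Q n hGp⟩, hGp, ?_⟩
  rw [eq_mul_inv_iff_mul_eq, simHom_apply, simHom_apply, ← osimPOmega_comp, ← osimPOmega_comp]
  refine osimPOmega_congr K fun v => ?_
  show G.1 *ᵥ (fun i => X.T v i) = X.T ((g : GL ι F).1 *ᵥ fun i => v i)
  exact hGT v

omit K in
theorem closure_proper_eq (K : OCtx Q) (n : ℕ) (P : GL ι F → Prop)
    (hP : ∀ g : Cfsg.Geo.quadSimilarityGroup (F := F) (⇑Q), P g.1 ↔ IsProperSim Q n g.1) :
    Subgroup.closure {β : MulAut (Cfsg.POmega F (⇑Q)) | ∃ g : GL ι F,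
      g ∈ Cfsg.Geo.quadSimilarityGroup (F := F) (⇑Q) ∧ P g ∧
        Cfsg.IsInducedBySemilinearPOmega (⇑Q) g (RingEquiv.refl F) β} = properAut K n := by
  refine le_antisymm ((Subgroup.closure_le _).2 ?_) ?_
  · rintro β ⟨g, hg, hPg, hβ⟩
    exact ⟨⟨g, hg⟩, (hP ⟨g, hg⟩).1 hPg,
      (eq_osimPOmega_of_induced K (isSemisimilarityPair_of_sim hg) hβ).symm⟩
  · rintro _ ⟨g, hg, rfl⟩
    refine Subgroup.subset_closure ⟨g.1, g.2, (hP g).2 hg, ?_⟩
    have h := isInduced_osimPOmega K (OSim.ofPair g.1 (RingEquiv.refl F) (isSemisimilarityPair_of_sim g.2))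
    rw [OSim.ofPair_mat K] at h
    exact h

theorem octx_plus {m : ℕ} (hm : 4 ≤ m) : OCtx (qfPlus m F) :=
  ⟨qfPlus_sep m, by rw [Module.finrank_fintype_fun_eq_card]; simp; omega⟩

end CfsgLib.KnownC
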