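import Mathlib
import Cfsg.Agent.Lib.KnownC.AutPOmegaInndiag

set_option autoImplicit false
set_option linter.unusedSectionVars false
set_option linter.style.haveILetI false

/-!
Transfer of `Aut (PΩ)` along a similarity of quadratic forms.
-/

namespace CfsgLib.KnownC

open CfsgLib.Geom CfsgLib.Classical
open QuadraticMap (polar)
open Matrix

universe u

variable {F : Type u} [Field F] {ι κ : Type} [Fintype ι] [DecidableEq ι] [Fintype κ] [DecidableEq κ]
variable {Q : QuadraticForm F (ι → F)} {R : QuadraticForm F (κ → F)}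

/-- Push a semisimilitude along a similarity of forms. -/
noncomputable def OSim.push (e : (ι → F) ≃ₗ[F] (κ → F)) {d : F} (hd : d ≠ 0)
    (he : ∀ v, R (e v) = d * Q v) (Φ : OSim Q) : OSim R where
  σ := Φ.σ
  c := d * Φ.c / Φ.σ d
  T := e.symm.toAddEquiv.trans (Φ.T.trans e.toAddEquiv)
  c_ne := div_ne_zero (mul_ne_zero hd Φ.c_ne) ((map_ne_zero Φ.σ).2 hd)
  smul a v := by
    show e (Φ.T (e.symm (a • v))) = Φ.σ a • e (Φ.T (e.symm v))
    rw [map_smul, Φ.smul, map_smul]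
  quad v := by
    obtain ⟨w, rfl⟩ := e.surjective v
    show R (e (Φ.T (e.symm (e w)))) = _
    rw [e.symm_apply_apply, he, he, Φ.quad, map_mul]
    have := (map_ne_zero Φ.σ).2 hd
    field_simp

theorem OSim.push_T (e : (ι → F) ≃ₗ[F] (κ → F)) {d : F} (hd : d ≠ 0)
    (he : ∀ v, R (e v) = d * Q v) (Φ : OSim Q) (v : ι → F) :
    (Φ.push e hd he).T (e v) = e (Φ.T v) := by
  show e (Φ.T (e.symm (e v))) = _
  rw [e.symm_apply_apply]

/-- Conjugation by an isomorphism, on automorphism groups. -/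
def autCongr {G H : Type*} [Group G] [Group H] (P : G ≃* H) : MulAut G ≃* MulAut H where
  toFun β := P.symm.trans (β.trans P)
  invFun β := P.trans (β.trans P.symm)
  left_inv β := MulEquiv.ext fun x => by simp
  right_inv β := MulEquiv.ext fun x => by simp
  map_mul' a b := MulEquiv.ext fun x => by simp

theorem autCongr_apply {G H : Type*} [Group G] [Group H] (P : G ≃* H) (β : MulAut G) (x : G) :
    autCongr P β (P x) = P (β x) := by simp [autCongr]

theorem autCongr_map_inn {G H : Type*} [Group G] [Group H] (P : G ≃* H) :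
    (Cfsg.Inn G).map (autCongr P).toMonoidHom = Cfsg.Inn H := by
  ext β
  constructor
  · rintro ⟨_, ⟨x, rfl⟩, rfl⟩
    refine ⟨P x, MulEquiv.ext fun y => ?_⟩
    obtain ⟨z, rfl⟩ := P.surjective y
    show MulAut.conj (P x) (P z) = autCongr P (MulAut.conj x) (P z)
    rw [autCongr_apply, MulAut.conj_apply, MulAut.conj_apply, map_mul, map_mul, map_inv]
  · rintro ⟨y, rfl⟩
    obtain ⟨x, rfl⟩ := P.surjective y
    refine ⟨MulAut.conj x, ⟨x, rfl⟩, MulEquiv.ext fun z => ?_⟩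
    obtain ⟨w, rfl⟩ := P.surjective z
    show autCongr P (MulAut.conj x) (P w) = MulAut.conj (P x) (P w)
    rw [autCongr_apply, MulAut.conj_apply, MulAut.conj_apply, map_mul, map_mul, map_inv]

variable [Finite F] (K : OCtx Q) (K' : OCtx R)
include K K'

/-- The isomorphism of automorphism groups induced by a similarity. -/
theorem exists_transfer (e : (ι → F) ≃ₗ[F] (κ → F)) {d : F} (hd : d ≠ 0)
    (he : ∀ v, R (e v) = d * Q v) :
    ∃ P : Cfsg.POmega F (⇑Q) ≃* Cfsg.POmega F (⇑R),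
      ∀ Φ : OSim Q, autCongr P (osimPOmega K Φ) = osimPOmega K' (Φ.push e hd he) := by
  have hmem : ∀ g : (ι → F) ≃ₗ[F] (ι → F), g ∈ quadIsoms Q → e.symm.trans (g.trans e) ∈ quadIsoms R := by
    intro g hg v
    obtain ⟨w, rfl⟩ := e.surjective v
    show R (e (g (e.symm (e w)))) = _
    rw [e.symm_apply_apply, he, he, hg]
  have hmem' : ∀ g : (κ → F) ≃ₗ[F] (κ → F), g ∈ quadIsoms R → e.trans (g.trans e.symm) ∈ quadIsoms Q := by
    intro g hg v
    refine mul_left_cancel₀ hd ?_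
    rw [← he, ← he]
    show R (e (e.symm (g (e v)))) = _
    rw [e.apply_symm_apply, hg]
  obtain ⟨ψ, hψ⟩ : ∃ ψ : quadIsoms Q ≃* quadIsoms R, ∀ g v, (ψ g).1 (e v) = e (g.1 v) :=
    ⟨{ toFun := fun g => ⟨e.symm.trans (g.1.trans e), hmem g.1 g.2⟩
       invFun := fun g => ⟨e.trans (g.1.trans e.symm), hmem' g.1 g.2⟩
       left_inv := fun g => Subtype.ext (LinearEquiv.ext fun v => by simp)
       right_inv := fun g => Subtype.ext (LinearEquiv.ext fun v => by simp)
       map_mul' := fun g h => Subtype.ext (LinearEquiv.ext fun v => by simp) }, fun g v => by simp⟩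
  obtain ⟨θ, hθ⟩ : ∃ θ : OG K ≃* OG K', ∀ g v, (θ g).1.1 (e v) = e (g.1.1 v) :=
    ⟨(ψ.subgroupMap (commutator (quadIsoms Q))).trans (MulEquiv.subgroupCongr (by
      show (commutator (quadIsoms Q)).map ψ.toMonoidHom = commutator _
      rw [commutator_def, Subgroup.map_commutator,
        Subgroup.map_top_of_surjective ψ.toMonoidHom ψ.surjective, ← commutator_def])),
      fun g v => hψ g.1 v⟩
  obtain ⟨τ, hτ⟩ : ∃ τ : OQ K ≃* OQ K', ∀ g, τ (toOQ K g) = toOQ K' (θ g) :=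
    ⟨centerQuotCongr θ, fun g => rfl⟩
  obtain ⟨P, hP⟩ : ∃ P : Cfsg.POmega F (⇑Q) ≃* Cfsg.POmega F (⇑R),
      ∀ x, P (oqEquiv K x) = oqEquiv K' (τ x) :=
    ⟨(oqEquiv K).symm.trans (τ.trans (oqEquiv K')), fun x => by simp⟩
  refine ⟨P, fun Φ => MulEquiv.ext fun y => ?_⟩
  obtain ⟨x, rfl⟩ := P.surjective y
  obtain ⟨z, rfl⟩ := (oqEquiv K).surjective x
  obtain ⟨g, rfl⟩ := toOQ_surjective K z
  rw [autCongr_apply]
  simp only [osimPOmega, MulEquiv.trans_apply, MulEquiv.symm_apply_apply]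
  rw [osimAut_mk, hP, hP, hτ, hτ, MulEquiv.symm_apply_apply, osimAut_mk]
  refine congrArg (oqEquiv K') (congrArg (toOQ K') (og_ext K' fun v => ?_))
  obtain ⟨w, rfl⟩ := e.surjective v
  rw [hθ, osimOmega_apply, osimOmega_apply]
  show e (Φ.T (g.1.1 (Φ.T.symm w))) = e (Φ.T (e.symm ((θ g).1.1 (e (Φ.T.symm (e.symm (e w)))))))
  rw [e.symm_apply_apply, hθ, e.symm_apply_apply]

/-- The transfer respects the proper similitudes. -/
theorem transfer_properAut (e : (ι → F) ≃ₗ[F] (κ → F)) {d : F} (hd : d ≠ 0)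
    (he : ∀ v, R (e v) = d * Q v) (P : Cfsg.POmega F (⇑Q) ≃* Cfsg.POmega F (⇑R))
    (hE : ∀ Φ : OSim Q, autCongr P (osimPOmega K Φ) = osimPOmega K' (Φ.push e hd he)) (n : ℕ) :
    (properAut K n).map (autCongr P).toMonoidHom = properAut K' n := by
  by_cases h2 : (2 : F) = 0
  · rw [properAut_eq_inn K h2, properAut_eq_inn K' h2, autCongr_map_inn]
  have key : ∀ g : GL ι F, ∀ μ : F, μ ≠ 0 → (∀ v, Q (g.1 *ᵥ v) = μ * Q v) → g.1.det = μ ^ n →
      ∃ G : GL κ F, IsProperSim R n G ∧ ∀ v, G.1 *ᵥ e v = e (g.1 *ᵥ v) := by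
    intro g μ hμ hg hd'
    obtain ⟨L, hL⟩ := glOfEquiv_bijective.2 g
    refine ⟨glOfEquiv (e.symm.trans (L.trans e)), ⟨μ, hμ, fun v => ?_, fun _ => ?_, fun h0 => absurd h0 h2⟩,
      fun v => ?_⟩
    · obtain ⟨w, rfl⟩ := e.surjective v
      rw [glOfEquiv_mulVec]
      show R (e (L (e.symm (e w)))) = _
      rw [e.symm_apply_apply, he, he, ← glOfEquiv_mulVec L, hL, hg]; ring
    · rw [← Matrix.GeneralLinearGroup.val_det_apply, det_glOfEquiv, LinearEquiv.coe_det,
        show ((e.symm.trans (L.trans e)) : (κ → F) →ₗ[F] (κ → F)) =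
          (e : (ι → F) →ₗ[F] (κ → F)) ∘ₗ (L : (ι → F) →ₗ[F] (ι → F)) ∘ₗ (e.symm : (κ → F) →ₗ[F] (ι → F))
          from rfl, LinearMap.det_conj, ← LinearEquiv.coe_det, ← det_glOfEquiv, hL,
        Matrix.GeneralLinearGroup.val_det_apply]
      exact hd'
    · rw [glOfEquiv_mulVec]
      show e (L (e.symm (e v))) = _
      rw [e.symm_apply_apply, ← glOfEquiv_mulVec L, hL]
  apply le_antisymm
  · rintro _ ⟨_, ⟨g, ⟨μ, hμ, hg, hdet, -⟩, rfl⟩, rfl⟩
    obtain ⟨G, hG, hGe⟩ := key g.1 μ hμ hg (hdet h2)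
    show autCongr P (simHom K g) ∈ _
    rw [simHom_apply, hE]
    refine osimPOmega_mem_properAut_of K' hG fun v => ?_
    obtain ⟨w, rfl⟩ := e.surjective v
    rw [OSim.push_T, hGe]
    rfl
  · rintro _ ⟨G, ⟨μ, hμ, hG, hdet, -⟩, rfl⟩
    obtain ⟨L, hL⟩ := glOfEquiv_bijective.2 (G : GL κ F)
    have hG' : ∀ v, R ((G : GL κ F).1 *ᵥ v) = μ * R v := hG
    refine ⟨osimPOmega K (OSim.ofPair (glOfEquiv (e.trans (L.trans e.symm))) (RingEquiv.refl F)
      ⟨Units.mk0 μ hμ, fun v => mul_left_cancel₀ hd ?_⟩), ?_, ?_⟩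
    · rw [← he, glOfEquiv_mulVec]
      show R (e (e.symm (L (e fun i => v i)))) = _
      rw [e.apply_symm_apply, ← glOfEquiv_mulVec L, hL, hG', he, RingEquiv.refl_apply, Units.val_mk0]
      ring
    · refine osimPOmega_mem_properAut_of K (g := glOfEquiv (e.trans (L.trans e.symm)))
        ⟨μ, hμ, fun v => ?_, fun _ => ?_, fun h0 => absurd h0 h2⟩ fun v => rfl
      · rw [glOfEquiv_mulVec]
        refine mul_left_cancel₀ hd ?_
        rw [← he]
        show R (e (e.symm (L (e v)))) = _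
        rw [e.apply_symm_apply, ← glOfEquiv_mulVec L, hL, hG', he]; ring
      · rw [← Matrix.GeneralLinearGroup.val_det_apply, det_glOfEquiv, LinearEquiv.coe_det,
          show ((e.trans (L.trans e.symm)) : (ι → F) →ₗ[F] (ι → F)) =
            (e.symm : (κ → F) →ₗ[F] (ι → F)) ∘ₗ (L : (κ → F) →ₗ[F] (κ → F)) ∘ₗ
              ((e.symm.symm : (ι → F) ≃ₗ[F] (κ → F)) : (ι → F) →ₗ[F] (κ → F)) from rfl,
          LinearMap.det_conj, ← LinearEquiv.coe_det, ← det_glOfEquiv, hL,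
          Matrix.GeneralLinearGroup.val_det_apply]
        exact hdet h2
    · show autCongr P (osimPOmega K _) = simHom K' G
      rw [simHom_apply, hE]
      refine osimPOmega_congr K' fun v => ?_
      obtain ⟨w, rfl⟩ := e.surjective v
      rw [OSim.push_T]
      show e (glOfEquiv (e.trans (L.trans e.symm)) *ᵥ fun i => w i) = (G : GL κ F).1 *ᵥ fun i => e w i
      rw [glOfEquiv_mulVec]
      show e (e.symm (L (e w))) = _
      rw [e.apply_symm_apply, ← glOfEquiv_mulVec L, hL]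

/-- Any isomorphism between the groups of two similar forms respects the proper similitudes. -/
theorem autCongr_properAut (hn : 9 ≤ Fintype.card κ ∨ NoFour R) (e : (ι → F) ≃ₗ[F] (κ → F)) {d : F}
    (hd : d ≠ 0) (he : ∀ v, R (e v) = d * Q v)
    (ψ : Cfsg.POmega F (⇑Q) ≃* Cfsg.POmega F (⇑R)) (n : ℕ) :
    (properAut K n).map (autCongr ψ).toMonoidHom = properAut K' n := by
  obtain ⟨P, hP⟩ := exists_transfer K K' e hd he
  obtain ⟨γ, hγ⟩ : ∃ γ : MulAut (Cfsg.POmega F (⇑R)), γ = P.symm.trans ψ := ⟨_, rfl⟩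
  have hcomp : (autCongr ψ).toMonoidHom =
      (MulAut.conj γ).toMonoidHom.comp (autCongr P).toMonoidHom :=
    MonoidHom.ext fun β => MulEquiv.ext fun y => by
      show autCongr ψ β y = γ (autCongr P β (γ.symm y))
      simp [hγ, autCongr]
  haveI := properAut_normal K' hn n
  rw [hcomp, ← Subgroup.map_map, transfer_properAut K K' e hd he P hP n]
  exact (Subgroup.normal_iff_map_conj_eq.1 (properAut_normal K' hn n)) γ

end CfsgLib.KnownC
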