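import Mathlib
import Cfsg.Agent.Lib.KnownC.AutPOmegaTransfer
import Cfsg.Agent.Lib.KnownC.AutPOmegaBaseChange

set_option autoImplicit false
set_option linter.unusedSectionVars false
set_option linter.style.haveILetI false

/-!
Proper similitudes against reflections, and the centraliser of a standard field automorphism in `Inndiag`.
-/

namespace CfsgLib.KnownC

open CfsgLib.Geom CfsgLib.Classical
open QuadraticMap (polar)
open Matrix

universe u v

section General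

variable {F : Type u} [Field F] {ι : Type} [Fintype ι] [DecidableEq ι]
variable {Q : QuadraticForm F (ι → F)}

theorem isProperSim_smul {n : ℕ} (hdim : Fintype.card ι = 2 * n) {a : F} (ha : a ≠ 0) {g g' : GL ι F}
    (hg : IsProperSim Q n g) (h : g'.1 = a • g.1) : IsProperSim Q n g' := by
  obtain ⟨μ, hμ, hq, hd, ht⟩ := hg
  refine ⟨a * a * μ, mul_ne_zero (mul_ne_zero ha ha) hμ, fun v => ?_, fun h2 => ?_, fun h2 => ?_⟩
  · rw [h, smul_mulVec, quad_smul, hq]; ring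
  · rw [h, det_smul, hd h2, hdim, pow_mul, pow_two, ← mul_pow]
  · obtain ⟨s, k, hk, hgk⟩ := ht h2
    exact ⟨a * s, k, hk, by rw [h, hgk, smul_smul]⟩

theorem multiplicative_zmod_two : ∀ x : Multiplicative (ZMod 2), x = 1 ∨ x = Multiplicative.ofAdd 1 := by
  decide

theorem multiplicative_zmod_two_mul :
    Multiplicative.ofAdd (1 : ZMod 2) * Multiplicative.ofAdd (1 : ZMod 2) = 1 := by decide

theorem matrix_eq_smul_one {M : Matrix ι ι F} {a : F} (h : ∀ v, M *ᵥ v = a • v) : M = a • 1 :=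
  Matrix.ext_iff_mulVec.2 fun v => by rw [h, smul_mulVec, one_mulVec]

variable [Finite F] (K : OCtx Q)
include K

theorem exGen_of_seven : (∃ t : F, t ≠ 0 ∧ t ≠ 1) ∨ Module.finrank F (ι → F) ≠ 4 :=
  Or.inr (by have := K.seven; omega)

omit [Finite F] in
theorem det_sq_of_similitude {g : GL ι F} {μ : F} (hg : ∀ v, Q (g.1 *ᵥ v) = μ * Q v) :
    g.1.det ^ 2 = μ ^ Fintype.card ι := by
  have h1 : Q.polarBilin.compl₁₂ (Matrix.toLin' g.1) (Matrix.toLin' g.1) = μ • Q.polarBilin :=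
    LinearMap.ext₂ fun u v => by
      show polar Q (Matrix.toLin' g.1 u) (Matrix.toLin' g.1 v) = μ * polar Q u v
      simp only [QuadraticMap.polar, Matrix.toLin'_apply, ← mulVec_add, hg]; ring
  have h2 := congrArg (fun B => (LinearMap.toMatrix₂' F B).det) h1
  simp only [LinearMap.toMatrix₂'_compl₁₂, map_smul, Matrix.det_mul, Matrix.det_transpose,
    Matrix.det_smul, LinearMap.toMatrix'_toLin'] at h2
  refine mul_right_cancel₀ (det_polar_ne_zero K) ?_
  linear_combination h2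

theorem not_isProperSim_refl {n : ℕ} (v : ι → F) (hv : Q v ≠ 0) :
    ¬ IsProperSim Q n (reflIsom Q v hv).1 := by
  rintro ⟨μ, hμ, hq, hd, ht⟩
  have hμ1 : μ = 1 := multiplier_unique (g := (reflIsom Q v hv).1) hv hq fun w => by
    rw [one_mul]; exact (mem_isometryGroup_iff _ _).1 (reflIsom Q v hv).2 w
  by_cases h2 : (2 : F) = 0
  · have h := (isProperSim_iff_two h2 K.sep (exGen_of_seven K) hv hμ hq
      (n := n) (s := 1) (by rw [hμ1, mul_one]) (h := reflIsom Q v hv) (one_smul _ _).symm).1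
      ⟨μ, hμ, hq, hd, ht⟩
    rw [spinorHom_reflIsom] at h
    exact ofAdd_one_ne_one h
  · have h := hd h2
    rw [reflIsom_coe, det_reflectionMatrix Q hv, hμ1, one_pow] at h
    exact h2 (by linear_combination -h)

/-- A similitude is proper, or becomes so after a reflection. -/
theorem proper_or_mul_refl {n : ℕ} (hdim : Fintype.card ι = 2 * n) {g : GL ι F} {μ : F} (hμ : μ ≠ 0)
    (hg : ∀ v, Q (g.1 *ᵥ v) = μ * Q v) (v : ι → F) (hv : Q v ≠ 0) :
    IsProperSim Q n g ∨ IsProperSim Q n (g * (reflIsom Q v hv).1) := by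
  have hgr : ∀ w, Q ((g * (reflIsom Q v hv).1).1 *ᵥ w) = μ * Q w := fun w => by
    rw [Units.val_mul, ← mulVec_mulVec, hg, (mem_isometryGroup_iff _ _).1 (reflIsom Q v hv).2 w]
  by_cases h2 : (2 : F) = 0
  · obtain ⟨s, hs⟩ := isSquare_of_two_eq_zero h2 μ
    obtain ⟨h, hh⟩ := exists_scaled_isometry hμ hg hs
    have hh' : (g * (reflIsom Q v hv).1).1 = s • (h * reflIsom Q v hv).1.1 := by
      rw [Units.val_mul, hh, smul_mul]; rfl
    rw [isProperSim_iff_two h2 K.sep (exGen_of_seven K) hv hμ hg hs hh,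
      isProperSim_iff_two h2 K.sep (exGen_of_seven K) hv hμ hgr hs hh', map_mul, spinorHom_reflIsom]
    generalize (spinorHom Q K.sep (exGen_of_seven K) h) = x
    rcases multiplicative_zmod_two x.1 with h1 | h1
    · exact Or.inl h1
    · exact Or.inr (by rw [Prod.fst_mul, h1]; exact multiplicative_zmod_two_mul)
  · have h := det_sq_of_similitude K hg
    rw [hdim, mul_comm 2 n, pow_mul, sq_eq_sq_iff_eq_or_eq_neg] at h
    rcases h with h | h
    · exact Or.inl ⟨μ, hμ, hg, fun _ => h, fun h0 => absurd h0 h2⟩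
    · refine Or.inr ⟨μ, hμ, hgr, fun _ => ?_, fun h0 => absurd h0 h2⟩
      rw [Units.val_mul, det_mul, reflIsom_coe, det_reflectionMatrix Q hv, h]; ring

/-- An automorphism induced by a similitude is proper iff the similitude is. -/
theorem osimPOmega_mem_properAut_iff {n : ℕ} (hdim : Fintype.card ι = 2 * n) {Φ : OSim Q} {g : GL ι F}
    (hT : ∀ v, Φ.T v = g.1 *ᵥ v) : osimPOmega K Φ ∈ properAut K n ↔ IsProperSim Q n g := by
  refine ⟨?_, fun h => osimPOmega_mem_properAut_of K h hT⟩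
  rintro ⟨k, hk, he⟩
  rw [simHom_apply] at he
  obtain ⟨a, ha, hav⟩ := (osimPOmega_eq_iff K _ _).1 he.symm
  refine isProperSim_smul hdim ha hk (Matrix.ext_iff_mulVec.2 fun w => ?_)
  rw [← hT, hav, smul_mulVec]
  rfl

theorem isoHom_refl_not_mem_properAut {n : ℕ} (hdim : Fintype.card ι = 2 * n) (v : ι → F)
    (hv : Q v ≠ 0) : isoHom K (reflIsom Q v hv) ∉ properAut K n := by
  rw [isoHom_apply, osimPOmega_mem_properAut_iff K hdim (OSim.ofIsometry_T _)]
  exact not_isProperSim_refl K v hv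

theorem isoHom_refl_mul_self (v : ι → F) (hv : Q v ≠ 0) :
    isoHom K (reflIsom Q v hv) * isoHom K (reflIsom Q v hv) = 1 := by
  rw [← map_mul, reflIsom_mul_self, map_one]

/-- The proper similitudes have index at most two among all. -/
theorem sim_split {n : ℕ} (hdim : Fintype.card ι = 2 * n) {Ψ : OSim Q} (hΨ : Ψ.σ = RingEquiv.refl F)
    (v : ι → F) (hv : Q v ≠ 0) :
    osimPOmega K Ψ ∈ properAut K n ∨ osimPOmega K Ψ * isoHom K (reflIsom Q v hv) ∈ properAut K n := by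
  obtain ⟨g, hg⟩ : ∃ g : GL ι F, ∀ w, Ψ.T w = g.1 *ᵥ w := ⟨Ψ.mat, fun w => by
    have h := Ψ.mat_mulVec K w; rw [hΨ] at h; exact h.symm⟩
  rcases proper_or_mul_refl K hdim Ψ.c_ne (g := g) (fun w => by rw [← hg, Ψ.quad, hΨ]; rfl) v hv with h | h
  · exact Or.inl (osimPOmega_mem_properAut_of K h hg)
  · refine Or.inr ?_
    rw [isoHom_apply, ← osimPOmega_comp]
    refine osimPOmega_mem_properAut_of K h fun w => ?_
    show Ψ.T ((OSim.ofIsometry (reflIsom Q v hv)).T w) = _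
    rw [OSim.ofIsometry_T, hg, mulVec_mulVec]
    rfl

/-- A reflection in a fixed vector commutes with the field automorphism. -/
theorem commute_refl_std (σ : F ≃+* F) (hσ : ∀ w : ι → F, Q (fun i => σ (w i)) = σ (Q w))
    (v : ι → F) (hv : Q v ≠ 0) (hfix : ∀ i, σ (v i) = v i) :
    Commute (isoHom K (reflIsom Q v hv)) (osimPOmega K (OSim.std σ hσ)) := by
  show _ = _
  rw [isoHom_apply, ← osimPOmega_comp, ← osimPOmega_comp]
  refine osimPOmega_congr K fun w => ?_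
  show (OSim.ofIsometry (reflIsom Q v hv)).T (fun i => σ (w i)) =
    fun i => σ ((OSim.ofIsometry (reflIsom Q v hv)).T w i)
  rw [OSim.ofIsometry_T, OSim.ofIsometry_T, reflIsom_mulVec, reflIsom_mulVec]
  have hv' : (fun i => σ (v i)) = v := funext hfix
  have e1 : polar Q v (fun i => σ (w i)) = σ (polar Q v w) := by
    simp only [QuadraticMap.polar, map_sub, ← hσ]
    rw [show (fun i => σ ((v + w) i)) = v + fun i => σ (w i) from
      funext fun i => by rw [Pi.add_apply, map_add, hfix]; rfl, hv']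
  have e2 : σ (Q v) = Q v := by rw [← hσ, hv']
  funext i
  simp only [Pi.sub_apply, Pi.smul_apply, smul_eq_mul, map_sub, map_mul, map_inv₀, e1, e2, hfix]

end General

section Descent

variable {F : Type u} [Field F] [Finite F] {F₀ : Type v} [Field F₀] [Finite F₀] (ι₀ : F₀ →+* F)
variable {ι : Type} [Fintype ι] [DecidableEq ι]
variable {Q : QuadraticForm F (ι → F)} {Q₀ : QuadraticForm F₀ (ι → F₀)}
variable (hQ₀ : ∀ v, ι₀ (Q₀ v) = Q fun i => ι₀ (v i))

include hQ₀ in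
theorem map_sim {g : GL ι F₀} {μ : F₀} (hg : ∀ v, Q₀ (g.1 *ᵥ v) = μ * Q₀ v) (w : ι → F) :
    Q ((Matrix.GeneralLinearGroup.map ι₀ g).1 *ᵥ w) = ι₀ μ * Q w := by
  have h : Q.comp ((g.1.map ι₀).mulVecLin) = ι₀ μ • Q := quad_ext_subfield ι₀ fun v => by
    rw [QuadraticMap.comp_apply, mulVecLin_apply, QuadraticMap.smul_apply, smul_eq_mul,
      show g.1.map ι₀ *ᵥ (fun i => ι₀ (v i)) = fun i => ι₀ ((g.1 *ᵥ v) i) from
        funext fun i => (RingHom.map_mulVec ι₀ g.1 v i).symm, ← hQ₀, hg, map_mul, hQ₀]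
  exact congrArg (fun R : QuadraticForm F _ => R w) h

variable (K : OCtx Q) (K₀ : OCtx Q₀)

include hQ₀ K K₀ in
theorem isProperSim_map_iff {n : ℕ} {g : GL ι F₀} {μ : F₀} (hμ : μ ≠ 0)
    (hg : ∀ v, Q₀ (g.1 *ᵥ v) = μ * Q₀ v) :
    IsProperSim Q n (Matrix.GeneralLinearGroup.map ι₀ g) ↔ IsProperSim Q₀ n g := by
  obtain ⟨v, -, -, hv⟩ := exists_perp_anisotropic Q₀ K₀.sep (five_le K₀) 0 0
  have hv' : Q (fun i => ι₀ (v i)) ≠ 0 := by rw [← hQ₀]; exact (map_ne_zero ι₀).2 hv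
  have hG := map_sim ι₀ hQ₀ hg
  have hμ' := (map_ne_zero ι₀).2 hμ
  by_cases h2 : (2 : F₀) = 0
  · have h2F : (2 : F) = 0 := by rw [← map_ofNat ι₀ 2, h2, map_zero]
    obtain ⟨s, hs⟩ := isSquare_of_two_eq_zero h2 μ
    obtain ⟨h, hh⟩ := exists_scaled_isometry hμ hg hs
    rw [isProperSim_iff_two h2F K.sep (exGen_of_seven K) hv' hμ' hG (s := ι₀ s) (by rw [hs, map_mul])
        (h := isoMap ι₀ hQ₀ h) (by
          rw [isoMap_coe]
          show g.1.map ι₀ = _
          rw [hh]; ext i j; simp),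
      isProperSim_iff_two h2 K₀.sep (exGen_of_seven K₀) hv hμ hg hs hh,
      spinorHom_isoMap ι₀ hQ₀ K.sep K₀.sep (exGen_of_seven K) (exGen_of_seven K₀)]
  · have h2F : (2 : F) ≠ 0 := fun h => h2 (ι₀.injective (by rw [map_ofNat, h, map_zero]))
    have hdet : (Matrix.GeneralLinearGroup.map ι₀ g).1.det = ι₀ g.1.det := (RingHom.map_det ι₀ g.1).symm
    constructor
    · rintro ⟨ν, -, hν, hd, -⟩
      refine ⟨μ, hμ, hg, fun _ => ι₀.injective ?_, fun h0 => absurd h0 h2⟩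
      rw [← hdet, hd h2F, multiplier_unique hv' hν hG, map_pow]
    · rintro ⟨ν, -, hν, hd, -⟩
      refine ⟨ι₀ μ, hμ', hG, fun _ => ?_, fun h0 => absurd h0 h2F⟩
      rw [hdet, hd h2, multiplier_unique hv hν hg, map_pow]

/-- Base change of proper similitudes, as automorphisms. -/
noncomputable def baseHom (n : ℕ) : properSub Q₀ n →* MulAut (Cfsg.POmega F (⇑Q)) :=
  (simHom K).comp (((Matrix.GeneralLinearGroup.map ι₀).comp (properSub Q₀ n).subtype).codRestrict _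
    fun g => by
      obtain ⟨μ, hμ, hg, -⟩ := g.2
      exact ⟨Units.mk0 (ι₀ μ) ((map_ne_zero ι₀).2 hμ), map_sim ι₀ hQ₀ hg⟩)

theorem baseHom_apply {n : ℕ} (g : properSub Q₀ n)
    (h : Matrix.GeneralLinearGroup.map ι₀ g.1 ∈ Cfsg.Geo.quadSimilarityGroup (F := F) (⇑Q)) :
    baseHom ι₀ hQ₀ K n g = simHom K ⟨_, h⟩ := rfl

include hQ₀ K₀ in
/-- The centraliser of a standard field automorphism among the proper similitudes. -/
theorem properAut_inf_centralizer_std {n : ℕ} (hdim : Fintype.card ι = 2 * n) (σ : F ≃+* F)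
    (hι : ∀ x, σ x = x ↔ ∃ a, ι₀ a = x) (hσ : ∀ v : ι → F, Q (fun i => σ (v i)) = σ (Q v)) :
    properAut K n ⊓ Subgroup.centralizer {osimPOmega K (OSim.std σ hσ)} =
      (baseHom ι₀ hQ₀ K n).range := by
  ext β
  constructor
  · rintro ⟨⟨g, hg, rfl⟩, hc⟩
    have hcomm := Subgroup.mem_centralizer_singleton_iff.1 hc
    rw [simHom_apply, ← osimPOmega_comp, ← osimPOmega_comp] at hcomm
    obtain ⟨a, ha, hav⟩ := (osimPOmega_eq_iff K _ _).1 hcomm
    have hag : ∀ i j, (g : GL ι F).1 i j = a * σ ((g : GL ι F).1 i j) := by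
      intro i j
      have h1 : (g : GL ι F).1 *ᵥ (fun k => σ ((Pi.single j (1 : F) : ι → F) k)) =
          a • fun k => σ (((g : GL ι F).1 *ᵥ (Pi.single j (1 : F) : ι → F)) k) := hav (Pi.single j 1)
      have e : (fun k => σ ((Pi.single j (1 : F) : ι → F) k)) = Pi.single j (1 : F) :=
        funext fun k => by by_cases h : k = j <;> simp [h]
      rw [e, mulVec_single_one] at h1
      have h2 := congrFun h1 i
      simp at h2
      exact h2
    obtain ⟨i, j, hij⟩ : ∃ i j, (g : GL ι F).1 i j ≠ 0 := by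
      by_contra h
      push Not at h
      haveI : Nonempty ι := Fintype.card_pos_iff.1 (by
        have := K.seven; rw [Module.finrank_fintype_fun_eq_card] at this; omega)
      exact (g : GL ι F).ne_zero (Matrix.ext h)
    obtain ⟨e, he⟩ : ∃ e, e = (g : GL ι F).1 i j := ⟨_, rfl⟩
    have he0 : e ≠ 0 := he ▸ hij
    have hfix : ∀ k l, ∃ b, ι₀ b = e⁻¹ * (g : GL ι F).1 k l := fun k l => (hι _).1 (by
      have h1 := hag k l
      have h2 := hag i j
      rw [← he] at h2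
      have hσe := (map_ne_zero σ).2 he0
      rw [map_mul, map_inv₀]
      field_simp
      linear_combination (σ ((g : GL ι F).1 k l)) * h2 - (σ e) * h1)
    choose M hM using hfix
    have hMmap : (Matrix.of M).map ι₀ = e⁻¹ • (g : GL ι F).1 := Matrix.ext fun k l => hM k l
    have hdet : (Matrix.of M).det ≠ 0 := fun h => by
      have h1 : ((Matrix.of M).map ι₀).det = ι₀ (Matrix.of M).det := (RingHom.map_det ι₀ _).symm
      rw [hMmap, det_smul, h, map_zero, mul_eq_zero] at h1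
      exact h1.elim (pow_ne_zero _ (inv_ne_zero he0)) (Matrix.GeneralLinearGroup.det_ne_zero _)
    obtain ⟨g₀, hg₀⟩ : ∃ g₀ : GL ι F₀, g₀.1 = Matrix.of M :=
      ⟨Matrix.GeneralLinearGroup.mkOfDetNeZero _ hdet, rfl⟩
    have hG : (Matrix.GeneralLinearGroup.map ι₀ g₀).1 = e⁻¹ • (g : GL ι F).1 := by
      rw [← hMmap, ← hg₀]; rfl
    obtain ⟨μ, hμ, hgq, hd, ht⟩ := hg
    obtain ⟨v₀, -, -, hv₀⟩ := exists_perp_anisotropic Q₀ K₀.sep (five_le K₀) 0 0
    have hq : ∀ v, ι₀ (Q₀ (g₀.1 *ᵥ v)) = e⁻¹ * e⁻¹ * μ * ι₀ (Q₀ v) := fun v => by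
      rw [hQ₀, show (fun k => ι₀ ((g₀.1 *ᵥ v) k)) =
          (Matrix.GeneralLinearGroup.map ι₀ g₀).1 *ᵥ fun k => ι₀ (v k) from
        funext fun k => RingHom.map_mulVec ι₀ g₀.1 v k, hG, smul_mulVec, quad_smul,
        show ∀ w, Q ((g : GL ι F).1 *ᵥ w) = μ * Q w from hgq, ← hQ₀]
      ring
    obtain ⟨μ₀, hμ₀⟩ : ∃ μ₀, μ₀ = Q₀ (g₀.1 *ᵥ v₀) / Q₀ v₀ := ⟨_, rfl⟩
    have hιμ : ι₀ μ₀ = e⁻¹ * e⁻¹ * μ := by
      rw [hμ₀, map_div₀, hq, mul_div_assoc, div_self ((map_ne_zero ι₀).2 hv₀), mul_one]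
    have hq₀ : ∀ v, Q₀ (g₀.1 *ᵥ v) = μ₀ * Q₀ v := fun v => ι₀.injective (by rw [map_mul, hιμ, hq])
    have hμ₀' : μ₀ ≠ 0 := fun h => by
      rw [h, map_zero] at hιμ
      exact mul_ne_zero (mul_ne_zero (inv_ne_zero he0) (inv_ne_zero he0)) hμ hιμ.symm
    have hg₀p : IsProperSim Q₀ n g₀ := (isProperSim_map_iff ι₀ hQ₀ K K₀ hμ₀' hq₀).1
      (isProperSim_smul hdim (inv_ne_zero he0) ⟨μ, hμ, hgq, hd, ht⟩ hG)
    refine ⟨⟨g₀, hg₀p⟩, ?_⟩
    rw [baseHom_apply ι₀ hQ₀ K _ ⟨Units.mk0 (ι₀ μ₀) ((map_ne_zero ι₀).2 hμ₀'), map_sim ι₀ hQ₀ hq₀⟩,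
      simHom_apply, simHom_apply]
    refine (osimPOmega_eq_iff K _ _).2 ⟨e⁻¹, inv_ne_zero he0, fun w => ?_⟩
    show (Matrix.GeneralLinearGroup.map ι₀ g₀).1 *ᵥ (fun k => w k) = e⁻¹ • (g : GL ι F).1 *ᵥ fun k => w k
    rw [hG, smul_mulVec]
  · rintro ⟨g₀, rfl⟩
    obtain ⟨μ, hμ, hg, -⟩ := g₀.2
    have hm : Matrix.GeneralLinearGroup.map ι₀ g₀.1 ∈ Cfsg.Geo.quadSimilarityGroup (F := F) (⇑Q) :=
      ⟨Units.mk0 (ι₀ μ) ((map_ne_zero ι₀).2 hμ), map_sim ι₀ hQ₀ hg⟩
    rw [baseHom_apply ι₀ hQ₀ K g₀ hm]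
    refine ⟨⟨⟨_, hm⟩, (isProperSim_map_iff ι₀ hQ₀ K K₀ hμ hg).2 g₀.2, rfl⟩,
      Subgroup.mem_centralizer_singleton_iff.2 ?_⟩
    rw [simHom_apply, ← osimPOmega_comp, ← osimPOmega_comp]
    refine osimPOmega_congr K fun w => funext fun i => ?_
    show ((Matrix.GeneralLinearGroup.map ι₀ g₀.1).1 *ᵥ fun k => σ (w k)) i =
      σ (((Matrix.GeneralLinearGroup.map ι₀ g₀.1).1 *ᵥ fun k => w k) i)
    refine Eq.trans ?_ (RingHom.map_mulVec (σ : F →+* F) _ _ i).symm
    rw [show (Matrix.GeneralLinearGroup.map ι₀ g₀.1).1.map (σ : F →+* F) =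
      (Matrix.GeneralLinearGroup.map ι₀ g₀.1).1 from Matrix.ext fun r s => (hι _).2 ⟨_, rfl⟩]
    rfl

include hQ₀ K₀ in
/-- It is the inner-diagonal group over the fixed field. -/
theorem centralizer_std_equiv {n : ℕ} (hdim : Fintype.card ι = 2 * n) (σ : F ≃+* F)
    (hι : ∀ x, σ x = x ↔ ∃ a, ι₀ a = x) (hσ : ∀ v : ι → F, Q (fun i => σ (v i)) = σ (Q v)) :
    Nonempty (↥(properAut K n ⊓ Subgroup.centralizer {osimPOmega K (OSim.std σ hσ)}) ≃*
      ↥(properAut K₀ n)) := by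
  obtain ⟨f₀, hf₀⟩ : ∃ f₀ : properSub Q₀ n →* MulAut (Cfsg.POmega F₀ (⇑Q₀)),
      f₀ = (simHom K₀).comp (Subgroup.inclusion (properSub_le Q₀ n)) := ⟨_, rfl⟩
  haveI : Nonempty ι := Fintype.card_pos_iff.1 (by
    have := K.seven; rw [Module.finrank_fintype_fun_eq_card] at this; omega)
  obtain ⟨j⟩ := ‹Nonempty ι›
  have hker : (baseHom ι₀ hQ₀ K n).ker = f₀.ker := by
    ext g
    obtain ⟨μ, hμ, hg, -⟩ := g.2
    rw [MonoidHom.mem_ker, MonoidHom.mem_ker,
      baseHom_apply ι₀ hQ₀ K g ⟨Units.mk0 (ι₀ μ) ((map_ne_zero ι₀).2 hμ), map_sim ι₀ hQ₀ hg⟩,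
      hf₀, MonoidHom.comp_apply, simHom_apply, simHom_apply, osimPOmega_eq_one_iff, osimPOmega_eq_one_iff]
    constructor
    · rintro ⟨a, ha, hav⟩
      have h1 : g.1.1.map ι₀ = a • 1 := matrix_eq_smul_one (M := g.1.1.map ι₀) hav
      have h2 : ∀ i k, ι₀ (g.1.1 i k) = a * (1 : Matrix ι ι F) i k := fun i k =>
        congrFun (congrFun h1 i) k
      have hj := h2 j j
      rw [one_apply_eq, mul_one] at hj
      refine ⟨g.1.1 j j, fun h => ha (by rw [← hj, h, map_zero]), fun w => ?_⟩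
      have h3 : g.1.1 = g.1.1 j j • (1 : Matrix ι ι F₀) := Matrix.ext fun i k => ι₀.injective (by
        rw [h2, Matrix.smul_apply, smul_eq_mul, map_mul, hj]
        by_cases hik : i = k
        · subst hik; simp
        · simp [hik])
      show g.1.1 *ᵥ w = g.1.1 j j • w
      conv_lhs => rw [h3]
      rw [smul_mulVec, one_mulVec]
    · rintro ⟨a, ha, hav⟩
      refine ⟨ι₀ a, (map_ne_zero ι₀).2 ha, fun w => ?_⟩
      have h1 : g.1.1 = a • 1 := matrix_eq_smul_one (M := g.1.1) hav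
      show g.1.1.map ι₀ *ᵥ w = ι₀ a • w
      rw [h1, show (a • (1 : Matrix ι ι F₀)).map ι₀ = ι₀ a • (1 : Matrix ι ι F) from
        Matrix.ext fun i k => by by_cases hik : i = k <;> simp [hik], smul_mulVec, one_mulVec]
  have hrange : f₀.range = properAut K₀ n := by
    rw [hf₀]
    ext β
    exact ⟨fun ⟨g, hg⟩ => ⟨⟨g.1, properSub_le Q₀ n g.2⟩, g.2, hg⟩, fun ⟨g, hg, he⟩ => ⟨⟨g.1, hg⟩, he⟩⟩
  exact ⟨(MulEquiv.subgroupCongr (properAut_inf_centralizer_std ι₀ hQ₀ K K₀ hdim σ hι hσ)).trans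
    ((QuotientGroup.quotientKerEquivRange _).symm.trans ((QuotientGroup.quotientMulEquivOfEq hker).trans
      ((QuotientGroup.quotientKerEquivRange _).trans (MulEquiv.subgroupCongr hrange))))⟩

end Descent

end CfsgLib.KnownC
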