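import Mathlib
import Cfsg.Agent.Lib.KnownC.AutPOmegaMinusBasic
import Cfsg.Agent.Lib.KnownC.AutPOmegaOutTools

set_option autoImplicit false
set_option linter.unusedSectionVars false
set_option linter.style.haveILetI false

/-!
The algebra of block semisimilitudes of `quadFormMinus` in odd characteristic.
-/

namespace CfsgLib.KnownC

open CfsgLib.Geom CfsgLib.Classical
open QuadraticMap (polar)
open Matrix

universe u

variable {F : Type u} [Field F] {m : ℕ}

theorem minusMat_mul (d d' : F) (A A' : Matrix (Fin 2) (Fin 2) F) :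
    minusMat m d A * minusMat m d' A' = minusMat m (d * d') (A * A') := by
  rw [minusMat, minusMat, minusMat, Matrix.fromBlocks_multiply]
  simp only [Matrix.zero_mul, Matrix.mul_zero, add_zero, zero_add, Matrix.diagonal_mul_diagonal]
  congr 2
  funext k
  rcases k with k | k <;> simp

theorem minusMat_one : minusMat m (1 : F) 1 = 1 := by
  rw [minusMat, show (Sum.elim (fun _ => (1 : F)) fun _ => 1 : Fin m ⊕ Fin m → F) = fun _ => 1 from
    funext fun k => by rcases k with k | k <;> rfl, Matrix.diagonal_one, Matrix.fromBlocks_one]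

theorem minusMat_map (φ : F ≃+* F) (d : F) (A : Matrix (Fin 2) (Fin 2) F)
    (v : (Fin m ⊕ Fin m) ⊕ Fin 2 → F) :
    (fun i => φ ((minusMat m d A *ᵥ v) i)) = minusMat m (φ d) (A.map φ) *ᵥ fun i => φ (v i) := by
  rw [minusMat_mulVec, minusMat_mulVec]
  funext i
  rcases i with i | i
  · rcases i with i | i <;> simp
  · fin_cases i <;> simp [Matrix.mulVec, dotProduct, Fin.sum_univ_two]

/-- A vector of the binary part. -/
def minusVec (m : ℕ) (z : Fin 2 → F) : (Fin m ⊕ Fin m) ⊕ Fin 2 → F := Sum.elim (fun _ => 0) z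

theorem qfMinus_minusVec (a b : F) (z : Fin 2 → F) :
    qfMinus m F a b (minusVec m z) = binForm a b z := by
  simp [qfMinus_eq, minusVec]

theorem polar_minusVec (a b : F) (z : Fin 2 → F) (x : (Fin m ⊕ Fin m) ⊕ Fin 2 → F) :
    polar (qfMinus m F a b) (minusVec m z) x = polar (binForm a b) z fun j => x (Sum.inr j) := by
  simp [polar_qfMinus, binForm_polar, minusVec]
  ring

theorem reflIsom_minusVec (a b : F) (z : Fin 2 → F) (hz : qfMinus m F a b (minusVec m z) ≠ 0) :
    (reflIsom (qfMinus m F a b) (minusVec m z) hz).1.1 =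
      minusMat m 1 (Cfsg.reflectionMatrix (⇑(binForm a b)) z) := by
  refine Matrix.ext_iff_mulVec.2 fun x => ?_
  rw [reflIsom_mulVec, polar_minusVec, qfMinus_minusVec, minusMat_mulVec, reflectionMatrix_mulVec]
  funext i
  rcases i with i | i
  · rcases i with i | i <;> simp [minusVec]
  · simp [minusVec]

theorem two_reflection_e0 (h2 : (2 : F) ≠ 0) (b : F) :
    Cfsg.reflectionMatrix (⇑(binForm (0 : F) b)) ![1, 0] = !![-1, 0; 0, 1] := by
  refine Matrix.ext_iff_mulVec.2 fun x => ?_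
  rw [reflectionMatrix_mulVec]
  funext i
  fin_cases i <;>
    simp [binForm_polar, binForm_apply, Matrix.mulVec, dotProduct, Fin.sum_univ_two]
  ring

theorem two_reflection_e1 (h2 : (2 : F) ≠ 0) {b : F} (hb : b ≠ 0) :
    Cfsg.reflectionMatrix (⇑(binForm (0 : F) b)) ![0, 1] = !![1, 0; 0, -1] := by
  refine Matrix.ext_iff_mulVec.2 fun x => ?_
  rw [reflectionMatrix_mulVec]
  funext i
  fin_cases i <;>
    simp [binForm_polar, binForm_apply, Matrix.mulVec, dotProduct, Fin.sum_univ_two]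
  field_simp
  ring

theorem binForm_twist (ν u t : F) (z : Fin 2 → F) :
    binForm 0 (-ν) (!![u, ν * t; t, u] *ᵥ z) = (u ^ 2 - ν * t ^ 2) * binForm 0 (-ν) z := by
  simp [binForm_apply, Matrix.mulVec, dotProduct, Fin.sum_univ_two]
  ring

theorem twist_det (ν u t : F) : (!![u, ν * t; t, u]).det = u ^ 2 - ν * t ^ 2 := by
  rw [Matrix.det_fin_two_of]; ring

variable [Fintype F]

theorem anisotropic_normal {ν : F} (hν : ¬ IsSquare ν) :
    ∀ z₁ z₂ : F, z₁ ^ 2 + 0 * z₁ * z₂ + -ν * z₂ ^ 2 = 0 → z₁ = 0 ∧ z₂ = 0 := by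
  intro z₁ z₂ h
  by_cases h0 : z₂ = 0
  · subst h0
    exact ⟨pow_eq_zero_iff two_ne_zero |>.1 (by linear_combination h), rfl⟩
  · exact absurd ⟨z₁ / z₂, by field_simp; linear_combination -h⟩ hν

/-- When `-1` lies in `Ω` is decided by `q mod 4` and the parity of the Witt index. -/
theorem minus_disc_isSquare_iff (h2 : (2 : F) ≠ 0) {ν : F} (hν : ¬ IsSquare ν) :
    IsSquare (LinearMap.toMatrix₂' F (qfMinus m F 0 (-ν)).polarBilin).det ↔
      Fintype.card F % 4 = 3 ∧ Odd (m + 1) := by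
  have hν0 : ν ≠ 0 := fun h => hν (h ▸ IsSquare.zero)
  have hε0 : (-1 : F) ^ (m + 1) ≠ 0 := pow_ne_zero _ (neg_ne_zero.2 one_ne_zero)
  rw [show qfMinus m F 0 (-ν) = minusForm m F 0 (-ν) from QuadraticMap.ext fun v =>
      (qfMinus_eq m 0 (-ν) v).trans (by rw [minusForm_apply, plusForm_apply]),
    minusForm_disc, show (-1 : F) ^ m * (4 * -ν - 0 * 0) = (2 * 2) * ((-1) ^ (m + 1) * ν) by
      rw [pow_succ]; ring,
    ← sqClass_eq_one_iff (mul_ne_zero (mul_ne_zero h2 h2) (mul_ne_zero hε0 hν0)),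
    sqClass_mul (mul_ne_zero h2 h2) (mul_ne_zero hε0 hν0), sqClass_mul h2 h2, sqClass_mul_self, one_mul,
    sqClass_mul hε0 hν0]
  have hνc : sqClass hν0 ≠ 1 := by rwa [Ne, sqClass_eq_one_iff]
  have hiff : sqClass hε0 = 1 ↔ ¬ (Fintype.card F % 4 = 3 ∧ Odd (m + 1)) := by
    rw [sqClass_eq_one_iff]
    rcases Nat.even_or_odd (m + 1) with he | ho
    · rw [he.neg_one_pow]
      exact iff_of_true IsSquare.one fun h => Nat.not_even_iff_odd.2 h.2 he
    · rw [ho.neg_one_pow, FiniteField.isSquare_neg_one_iff]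
      exact ⟨fun h h' => h h'.1, fun h h' => h ⟨h', ho⟩⟩
  constructor
  · intro h
    by_contra hc
    rw [hiff.2 hc, one_mul] at h
    exact hνc h
  · intro h
    rw [sqClass_two (sqClass hε0) (sqClass hν0) (fun h' => hiff.1 h' h) hνc, sqClass_mul_self]

variable {a b : F} (K : OCtx (qfMinus m F a b))
include K

/-- When `-1 ∉ Ω`, every isometry of determinant one induces an inner automorphism. -/
theorem isoHom_mem_inn_of_det (h2 : (2 : F) ≠ 0)
    (hd : ¬ IsSquare (LinearMap.toMatrix₂' F (qfMinus m F a b).polarBilin).det)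
    {g : Cfsg.isometryGroup F (⇑(qfMinus m F a b))} (hg : g.1.1.det = 1) :
    isoHom K g ∈ Cfsg.Inn (Cfsg.POmega F (⇑(qfMinus m F a b))) := by
  obtain ⟨z, hz⟩ : ∃ z : Cfsg.isometryGroup F (⇑(qfMinus m F a b)), z.1.1 = -1 :=
    ⟨⟨-1, (mem_isometryGroup_iff _ _).2 fun u => by
      rw [Units.val_neg, Units.val_one, neg_mulVec, one_mulVec, QuadraticMap.map_neg]⟩,
      by rw [Units.val_neg, Units.val_one]⟩
  have hn : 2 ≤ Fintype.card ((Fin m ⊕ Fin m) ⊕ Fin 2) := by simp
  have heven : Even (Fintype.card ((Fin m ⊕ Fin m) ⊕ Fin 2)) := ⟨m + 1, by simp; omega⟩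
  have hnd : (QuadraticMap.polarBilin (qfMinus m F a b)).Nondegenerate :=
    LinearMap.nondegenerate_toMatrix₂'_iff.1
      (Matrix.nondegenerate_iff_det_ne_zero.2 (det_polar_ne_zero K))
  have hzn : z ∉ Cfsg.Omega F (⇑(qfMinus m F a b)) := fun h =>
    hd ((neg_one_mem_omega_iff _ hnd h2 heven).1 ⟨z, h, hz⟩)
  have hz1 : (spinorHom _ K.sep (exGen_of_odd h2) z).1 = 1 := by
    rw [spinorHom_fst_eq_one_iff K.sep h2 hn, hz, Matrix.det_neg, Matrix.det_one, mul_one, heven.neg_one_pow]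
  have hg1 := (spinorHom_fst_eq_one_iff K.sep h2 hn g).2 hg
  rw [omega_eq_ker_spinorHom _ K.sep (exGen_of_odd h2), MonoidHom.mem_ker] at hzn
  rw [isoHom_mem_inn_iff, omega_eq_ker_spinorHom _ K.sep (exGen_of_odd h2)]
  by_cases h : (spinorHom _ K.sep (exGen_of_odd h2) g).2 = 1
  · exact Or.inl (MonoidHom.mem_ker.2 (Prod.ext hg1 h))
  · refine Or.inr ⟨g * z, MonoidHom.mem_ker.2 ?_, ?_⟩
    · rw [map_mul]
      refine Prod.ext (by rw [Prod.fst_mul, hg1, hz1, one_mul]; rfl) ?_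
      rw [Prod.snd_mul, sqClass_two _ _ h fun h' => hzn (Prod.ext hz1 h'), sqClass_mul_self]
      rfl
    · rw [Subgroup.coe_mul, Units.val_mul, hz, mul_neg, mul_one, neg_neg]

end CfsgLib.KnownC
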