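import Mathlib

set_option autoImplicit false
set_option linter.unusedSectionVars false

/-!
The fundamental theorem of projective geometry over a finite field: a bijection of the points of a
projective space of dimension at least two which preserves collinearity is semilinear.
-/

namespace CfsgLib.KnownC

open Matrix
open scoped LinearAlgebra.Projectivization

variable {κ : Type*} [Fintype κ] [DecidableEq κ] {F : Type*} [Field F]

/-- A map of points preserving collinearity, stated on representatives. -/
def PreservesLines (π : ℙ F (κ → F) → ℙ F (κ → F)) : Prop :=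
  ∀ u v w : κ → F, ∀ (hu : u ≠ 0) (hv : v ≠ 0) (hw : w ≠ 0),
    (∃ a b : F, w = a • u + b • v) →
      (π (Projectivization.mk F w hw)).submodule ≤
        (π (Projectivization.mk F u hu)).submodule ⊔ (π (Projectivization.mk F v hv)).submodule

variable {π : ℙ F (κ → F) → ℙ F (κ → F)}

/-- `π` sends the point of `u` to the point of `u'`. -/
def SendsPt (π : ℙ F (κ → F) → ℙ F (κ → F)) (u u' : κ → F) : Prop :=
  ∃ (hu : u ≠ 0) (hu' : u' ≠ 0), π (Projectivization.mk F u hu) = Projectivization.mk F u' hu'

theorem PreservesLines.exists_comb (hl : PreservesLines π) {u u' v v' w w' : κ → F}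
    (h1 : SendsPt π u u') (h2 : SendsPt π v v') (h3 : SendsPt π w w')
    (h : ∃ a b : F, w = a • u + b • v) : ∃ a b : F, w' = a • u' + b • v' := by
  obtain ⟨hu, hu', e1⟩ := h1
  obtain ⟨hv, hv', e2⟩ := h2
  obtain ⟨hw, hw', e3⟩ := h3
  have := hl u v w hu hv hw h
  rw [e1, e2, e3, Projectivization.submodule_mk, Projectivization.submodule_mk,
    Projectivization.submodule_mk, Submodule.span_singleton_le_iff_mem, Submodule.mem_sup] at this
  obtain ⟨x, hx, y, hy, hxy⟩ := this
  obtain ⟨a, rfl⟩ := Submodule.mem_span_singleton.1 hx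
  obtain ⟨b, rfl⟩ := Submodule.mem_span_singleton.1 hy
  exact ⟨a, b, hxy.symm⟩

theorem exists_sendsPt (π : ℙ F (κ → F) → ℙ F (κ → F)) {u : κ → F} (hu : u ≠ 0) :
    ∃ u', SendsPt π u u' :=
  ⟨_, hu, Projectivization.rep_nonzero _, (Projectivization.mk_rep _).symm⟩

theorem SendsPt.smul {u u' : κ → F} (h : SendsPt π u u') {c : F} (hc : c ≠ 0) :
    SendsPt π u (c • u') := by
  obtain ⟨hu, hu', e⟩ := h
  refine ⟨hu, smul_ne_zero hc hu', e.trans ?_⟩
  exact (Projectivization.mk_eq_mk_iff' F _ _ _ _).2 ⟨c⁻¹, inv_smul_smul₀ hc u'⟩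

theorem SendsPt.smul_left {u u' : κ → F} (h : SendsPt π u u') {c : F} (hc : c ≠ 0) :
    SendsPt π (c • u) u' := by
  obtain ⟨hu, hu', e⟩ := h
  refine ⟨smul_ne_zero hc hu, hu', ?_⟩
  rwa [(Projectivization.mk_eq_mk_iff' F _ _ (smul_ne_zero hc hu) hu).2 ⟨c, rfl⟩]

theorem SendsPt.eq_smul (hπ : Function.Injective π) {u u' v v' : κ → F} (h1 : SendsPt π u u')
    (h2 : SendsPt π v v') {c : F} (h : v' = c • u') : ∃ d : F, v = d • u := by
  obtain ⟨hu, hu', e1⟩ := h1
  obtain ⟨hv, hv', e2⟩ := h2
  have : π (Projectivization.mk F v hv) = π (Projectivization.mk F u hu) := by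
    rw [e1, e2]
    exact (Projectivization.mk_eq_mk_iff' F _ _ _ _).2 ⟨c, h.symm⟩
  obtain ⟨d, hd⟩ := (Projectivization.mk_eq_mk_iff' F _ _ _ _).1 (hπ this)
  exact ⟨d, hd.symm⟩

/-- The normalised case. -/
theorem exists_ringAut_of_frame [Finite F] (hπ : Function.Injective π) (hl : PreservesLines π)
    (o : κ) (h3 : 3 ≤ Fintype.card κ) (he : ∀ i, SendsPt π (Pi.single i 1) (Pi.single i 1))
    (he1 : ∀ i, i ≠ o →
      SendsPt π (Pi.single o 1 + Pi.single i 1) (Pi.single o 1 + Pi.single i 1)) :
    ∃ σ : F ≃+* F, ∀ v : κ → F, v ≠ 0 → SendsPt π v fun k => σ (v k) := by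
  classical
  have hne : ∀ i : κ, (Pi.single i 1 : κ → F) ≠ 0 := fun i h => by
    simpa using congrFun h i
  -- the maps of the coordinate axes
  have haxis : ∀ i, i ≠ o → ∀ x : F, ∃ y : F,
      SendsPt π (Pi.single o 1 + x • Pi.single i 1) (Pi.single o 1 + y • Pi.single i 1) := by
    intro i hi x
    have hv : (Pi.single o 1 + x • Pi.single i 1 : κ → F) ≠ 0 := fun h => by
      simpa [Ne.symm hi] using congrFun h o
    obtain ⟨v', hv'⟩ := exists_sendsPt π hv
    obtain ⟨a, b, hab⟩ := hl.exists_comb (he o) (he i) hv' ⟨1, x, by rw [one_smul]⟩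
    have ha : a ≠ 0 := by
      rintro rfl
      rw [zero_smul, zero_add] at hab
      obtain ⟨d, hd⟩ := (he i).eq_smul hπ hv' hab
      simpa [Ne.symm hi] using congrFun hd o
    refine ⟨a⁻¹ * b, ?_⟩
    have := hv'.smul (inv_ne_zero ha)
    rwa [hab, smul_add, inv_smul_smul₀ ha, smul_smul] at this
  choose s hs using haxis
  -- the coordinate maps
  let S : κ → F → F := fun k x => if h : k = o then 1 else s k h x
  have hSo : ∀ x, S o x = 1 := fun x => dif_pos rfl
  have hSi : ∀ i (hi : i ≠ o) (x : F), S i x = s i hi x := fun i hi x => dif_neg hi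
  have haff : ∀ w : κ → F, w o = 1 → ∀ y : F, y = 1 → SendsPt π w fun k => if k = o then y else
      if w k = 0 then 0 else S k (w k) := by
    intro w
    generalize hn : (Finset.univ.filter fun k => k ≠ o ∧ w k ≠ 0).card = n
    induction n using Nat.strong_induction_on generalizing w with
    | _ n ih =>
    intro hw y hy
    subst hy
    rcases Nat.lt_or_ge n 2 with hn2 | hn2
    · rcases Nat.eq_zero_or_pos n with h0 | h0
      · have hwe : w = Pi.single o 1 := funext fun k => by
          by_cases hk : k = o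
          · subst hk; simp [hw]
          · rw [Pi.single_apply, if_neg hk]
            by_contra hk0
            subst h0
            rw [Finset.card_eq_zero, Finset.filter_eq_empty_iff] at hn
            exact hn (Finset.mem_univ k) ⟨hk, hk0⟩
        convert he o using 1
        funext k
        by_cases hk : k = o
        · subst hk; simp
        · simp [hk, hwe]
      · obtain ⟨i, hi⟩ := Finset.card_eq_one.1 (hn.trans (by omega : n = 1))
        have hmem : ∀ k, (k ≠ o ∧ w k ≠ 0) ↔ k = i := fun k => by
          have := Finset.ext_iff.1 hi k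
          simpa using this
        obtain ⟨hio, hwi⟩ := (hmem i).2 rfl
        have hwe : w = Pi.single o 1 + w i • Pi.single i 1 := funext fun k => by
          by_cases hk : k = o
          · subst hk; simp [hw, Ne.symm hio]
          · by_cases hki : k = i
            · subst hki; simp [hk]
            · have : w k = 0 := by
                by_contra h
                exact hki ((hmem k).1 ⟨hk, h⟩)
              simp [hk, hki, this]
        have h1 := hs i hio (w i)
        rw [← hwe] at h1
        convert h1 using 1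
        funext k
        by_cases hk : k = o
        · subst hk; simp [Ne.symm hio]
        · by_cases hki : k = i
          · subst hki; simp [hk, hwi, hSi k hk]
          · have : w k = 0 := by
              by_contra h
              exact hki ((hmem k).1 ⟨hk, h⟩)
            simp [hk, hki, this]
    · obtain ⟨i, hi, j, hj, hij⟩ := Finset.one_lt_card.1 (hn ▸ hn2)
      simp only [Finset.mem_filter, Finset.mem_univ, true_and] at hi hj
      have hupd : ∀ k, k ≠ o → w k ≠ 0 →
          SendsPt π (Function.update w k 0) (fun l => if l = o then 1 else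
            if Function.update w k 0 l = 0 then 0 else S l (Function.update w k 0 l)) := by
        intro k hk hwk
        refine ih _ ?_ _ rfl (by rw [Function.update_of_ne hk.symm]; exact hw) 1 rfl
        rw [← hn]
        refine Finset.card_lt_card ⟨fun l hl => ?_, fun hsub => ?_⟩
        · simp only [Finset.mem_filter, Finset.mem_univ, true_and] at hl ⊢
          refine ⟨hl.1, ?_⟩
          by_cases hlk : l = k
          · subst hlk; simp at hl
          · simpa [Function.update_of_ne hlk] using hl.2
        · have := hsub (Finset.mem_filter.2 ⟨Finset.mem_univ k, hk, hwk⟩)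
          simp at this
      have hw0 : w ≠ 0 := fun h => by rw [h] at hw; exact zero_ne_one hw
      obtain ⟨w', hw'⟩ := exists_sendsPt π hw0
      obtain ⟨a, b, hab⟩ := hl.exists_comb (hupd i hi.1 hi.2) (he i) hw' ⟨1, w i, funext fun l => by
        by_cases hli : l = i
        · subst hli; simp
        · simp [Function.update_of_ne hli, hli]⟩
      obtain ⟨c, d, hcd⟩ := hl.exists_comb (hupd j hj.1 hj.2) (he j) hw' ⟨1, w j, funext fun l => by
        by_cases hlj : l = j
        · subst hlj; simp
        · simp [Function.update_of_ne hlj, hlj]⟩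
      have hac : a = c := by
        have h1 := congrFun hab o
        have h2 := congrFun hcd o
        simp [Ne.symm hi.1, Ne.symm hj.1] at h1 h2
        exact h1.symm.trans h2
      have hww : w' = a • fun k => if k = o then (1 : F) else if w k = 0 then 0 else S k (w k) := by
        funext k
        by_cases hki : k = i
        · subst hki
          rw [hcd, hac]
          simp [hij, hi.1, Function.update_of_ne hij]
        · rw [hab]
          simp [hki, Function.update_of_ne hki]
      have ha : a ≠ 0 := by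
        rintro rfl
        exact hw'.2.1 (by rw [hww, zero_smul])
      have := hw'.smul (inv_ne_zero ha)
      rwa [hww, inv_smul_smul₀ ha] at this
  have hs0 : ∀ i (hi : i ≠ o), s i hi 0 = 0 := by
    intro i hi
    by_contra h0
    have h1 := hs i hi 0
    rw [zero_smul, add_zero] at h1
    obtain ⟨hu, hu', e⟩ := h1
    obtain ⟨_, _, e2⟩ := he o
    obtain ⟨c, hc⟩ := (Projectivization.mk_eq_mk_iff' F _ _ _ _).1 (e.symm.trans e2)
    have := congrFun hc i
    simp [hi] at this
    exact h0 this.symm
  have haff' : ∀ w : κ → F, w o = 1 →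
      SendsPt π w fun k => if h : k = o then 1 else s k h (w k) := by
    intro w hw
    convert haff w hw 1 rfl using 1
    funext k
    by_cases hk : k = o
    · simp [hk]
    · by_cases hwk : w k = 0
      · simp [hk, hwk, hs0]
      · simp [hk, hwk, hSi k hk]
  -- directions in coordinate planes
  have hdir : ∀ i j (hi : i ≠ o) (hj : j ≠ o), i ≠ j → ∀ t : F, ∃ τ : F, ∀ x y : F,
      s j hj (y + t * x) = s j hj y + τ * s i hi x := by
    intro i j hi hj hij t
    have hd : (Pi.single i 1 + t • Pi.single j 1 : κ → F) ≠ 0 := fun h => by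
      simpa [hij, Ne.symm hij] using congrFun h i
    obtain ⟨d', hd'⟩ := exists_sendsPt π hd
    obtain ⟨a, b, hab⟩ := hl.exists_comb (he i) (he j) hd' ⟨1, t, by rw [one_smul]⟩
    have ha : a ≠ 0 := by
      rintro rfl
      rw [zero_smul, zero_add] at hab
      obtain ⟨e, he'⟩ := (he j).eq_smul hπ hd' hab
      simpa [hij, Ne.symm hij] using congrFun he' i
    refine ⟨b / a, fun x y => ?_⟩
    by_cases hx : x = 0
    · simp [hx, hs0]
    let w1 : κ → F := Pi.single o 1 + y • Pi.single j 1
    let w2 : κ → F := Pi.single o 1 + x • Pi.single i 1 + (y + t * x) • Pi.single j 1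
    have hw1o : w1 o = 1 := by simp [w1, Ne.symm hj]
    have hw2o : w2 o = 1 := by simp [w2, Ne.symm hi, Ne.symm hj]
    obtain ⟨p, q, hpq⟩ := hl.exists_comb (haff' w1 hw1o) (haff' w2 hw2o) hd'
      ⟨-x⁻¹, x⁻¹, funext fun k => by
        simp only [w1, w2, Pi.add_apply, Pi.smul_apply, smul_eq_mul]
        field_simp
        ring⟩
    have ho := congrFun hpq o
    have hii := congrFun hpq i
    have hjj := congrFun hpq j
    rw [hab] at ho hii hjj
    simp [w1, w2, Ne.symm hi, Ne.symm hj, hi, hj, hij, Ne.symm hij, hs0] at ho hii hjj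
    have hp : p = -q := by linear_combination -ho
    have hxne : s i hi x ≠ 0 := by
      intro h0
      exact ha (by rw [hii, h0, mul_zero])
    rw [hp] at hjj
    have hq : q ≠ 0 := fun h => ha (by rw [hii, h, zero_mul])
    rw [hjj, hii]
    field_simp
    ring
  have hone : ∀ i (hi : i ≠ o), s i hi 1 = 1 := by
    intro i hi
    obtain ⟨_, _, e1⟩ := hs i hi 1
    obtain ⟨_, _, e2⟩ := he1 i hi
    simp only [one_smul] at e1
    obtain ⟨c, hc⟩ := (Projectivization.mk_eq_mk_iff' F _ _ _ _).1 (e1.symm.trans e2)
    have h1 := congrFun hc o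
    have h2 := congrFun hc i
    simp [hi, Ne.symm hi] at h1 h2
    rw [← h2, h1]
  have hmul : ∀ i j (hi : i ≠ o) (hj : j ≠ o), i ≠ j → ∀ t x : F,
      s j hj (t * x) = s j hj t * s i hi x := by
    intro i j hi hj hij t x
    obtain ⟨τ, hτ⟩ := hdir i j hi hj hij t
    have h1 := hτ 1 0
    have h2 := hτ x 0
    rw [zero_add, mul_one, hs0, zero_add, hone, mul_one] at h1
    rw [zero_add, hs0, zero_add, ← h1] at h2
    exact h2
  have hcard : 1 < (Finset.univ.erase o).card := by
    rw [Finset.card_erase_of_mem (Finset.mem_univ o), Finset.card_univ]; omega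
  obtain ⟨i0, hi0, i1, hi1, hi01⟩ := Finset.one_lt_card.1 hcard
  simp only [Finset.mem_erase, Finset.mem_univ, and_true] at hi0 hi1
  let f : F → F := s i0 hi0
  have hsame : ∀ k (hk : k ≠ o) (x : F), s k hk x = f x := by
    intro k hk x
    by_cases hki : k = i0
    · subst hki; rfl
    · have := hmul i0 k hi0 hk (Ne.symm hki) 1 x
      rwa [one_mul, hone, one_mul] at this
  have hadd : ∀ x y : F, f (y + x) = f y + f x := by
    intro x y
    obtain ⟨τ, hτ⟩ := hdir i1 i0 hi1 hi0 (Ne.symm hi01) 1
    have h1 := hτ x 0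
    have h2 := hτ x y
    rw [one_mul, zero_add, hs0, zero_add] at h1
    rw [one_mul, ← h1] at h2
    exact h2
  have hfmul : ∀ x y : F, f (x * y) = f x * f y := fun x y => by
    have := hmul i1 i0 hi1 hi0 (Ne.symm hi01) x y
    rwa [hsame i1 hi1] at this
  let fh : F →+* F :=
    { toFun := f
      map_one' := hone i0 hi0
      map_mul' := hfmul
      map_zero' := hs0 i0 hi0
      map_add' := fun x y => hadd y x }
  let σ : F ≃+* F := RingEquiv.ofBijective fh
    ⟨fh.injective, Finite.injective_iff_surjective.1 fh.injective⟩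
  have hσ : ∀ k (hk : k ≠ o) (x : F), s k hk x = σ x := hsame
  refine ⟨σ, ?_⟩
  have haff2 : ∀ w : κ → F, w o = 1 → SendsPt π w fun k => σ (w k) := by
    intro w hw
    convert haff' w hw using 1
    funext k
    by_cases hk : k = o
    · subst hk; simp [hw]
    · simp [hk, hσ k hk]
  intro v hv
  by_cases hvo : v o = 0
  swap
  · have h1 := (haff2 ((v o)⁻¹ • v) (by simp [inv_mul_cancel₀ hvo])).smul_left hvo
    rw [smul_inv_smul₀ hvo] at h1
    have h2 := h1.smul ((map_ne_zero σ).2 hvo)
    convert h2 using 1
    funext k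
    simp [map_mul, mul_inv_cancel_left₀ ((map_ne_zero σ).2 hvo)]
  · obtain ⟨v', hv'⟩ := exists_sendsPt π hv
    have hvk : ∃ k, k ≠ o ∧ ∀ c : F, Pi.single k 1 ≠ c • v := by
      by_contra hcon
      simp only [not_exists, not_and, not_forall, not_not] at hcon
      obtain ⟨c, hc⟩ := hcon i0 hi0
      obtain ⟨d, hd⟩ := hcon i1 hi1
      have h1 := congrFun hc i0
      have h2 := congrFun hd i0
      simp [hi01] at h1 h2
      rcases h2 with h2 | h2
      · simpa [h2] using congrFun hd i1
      · simp [h2] at h1
    obtain ⟨k, hk, hkv⟩ := hvk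
    obtain ⟨x, y, hxy⟩ := hl.exists_comb (he o) (haff2 (Pi.single o 1 + v) (by simp [hvo])) hv'
      ⟨-1, 1, by module⟩
    obtain ⟨p, q, hpq⟩ := hl.exists_comb
      (haff2 (Pi.single o 1 + Pi.single k 1) (by simp [Ne.symm hk]))
      (haff2 (Pi.single o 1 + Pi.single k 1 + v) (by simp [Ne.symm hk, hvo])) hv'
      ⟨-1, 1, by module⟩
    have hxy0 : x + y = p + q := by
      have := congrFun (hxy.symm.trans hpq) o
      simpa [hvo, Ne.symm hk] using this
    have hσv : v' = (x + y) • Pi.single o 1 + y • fun l => σ (v l) := by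
      rw [hxy]; funext l
      by_cases hl : l = o
      · subst hl; simp [hvo]
      · simp [hl]
    have hz : x + y = 0 := by
      by_contra hne0
      refine hkv (σ.symm ((y - q) / (p + q))) (σ.injective.comp_left (funext fun l => ?_))
      have e := congrFun (hσv.symm.trans hpq) l
      by_cases hl : l = o
      · subst hl; simp [hvo, Ne.symm hk]
      · simp only [Function.comp_apply, Pi.smul_apply, smul_eq_mul, map_mul, RingEquiv.apply_symm_apply]
        by_cases hlk : l = k
        · subst hlk
          simp [hl] at e ⊢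
          rw [hxy0] at hne0
          field_simp
          linear_combination -e
        · simp [hl, hlk] at e ⊢
          rcases e with h | h <;> simp [h]
    rw [hz, zero_smul, zero_add] at hσv
    have hy : y ≠ 0 := fun h => hv'.2.1 (by rw [hσv, h, zero_smul])
    have := hv'.smul (inv_ne_zero hy)
    rwa [hσv, inv_smul_smul₀ hy] at this

/-- The fundamental theorem of projective geometry. -/
theorem exists_semilinear_of_collineation [Finite F] (hπ : Function.Bijective π)
    (hl : PreservesLines π) (h3 : 3 ≤ Fintype.card κ) :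
    ∃ (g : GL κ F) (σ : F ≃+* F),
      ∀ v : κ → F, v ≠ 0 → SendsPt π v (g.1 *ᵥ fun k => σ (v k)) := by
  classical
  have hne : ∀ i : κ, (Pi.single i 1 : κ → F) ≠ 0 := fun i h => by simpa using congrFun h i
  choose u hu using fun i => exists_sendsPt π (hne i)
  have hspan : ∀ (T : Finset κ) (w : κ → F), (∀ k ∉ T, w k = 0) → ∀ w', SendsPt π w w' →
      w' ∈ Submodule.span F (Set.range u) := by
    intro T
    induction T using Finset.induction with
    | empty =>
      intro w hw w' hw'
      exact absurd (funext fun k => hw k (Finset.notMem_empty k)) hw'.1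
    | insert i T hi ih =>
      intro w hw w' hw'
      by_cases hr : Function.update w i 0 = 0
      · have : w = w i • Pi.single i 1 := funext fun k => by
          by_cases hk : k = i
          · subst hk; simp
          · simpa [Function.update_of_ne hk, hk] using congrFun hr k
        obtain ⟨a, b, hab⟩ := hl.exists_comb (hu i) (hu i) hw' ⟨w i, 0, by simpa using this⟩
        rw [hab]
        exact Submodule.add_mem _ (Submodule.smul_mem _ _ (Submodule.subset_span ⟨i, rfl⟩))
          (Submodule.smul_mem _ _ (Submodule.subset_span ⟨i, rfl⟩))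
      · obtain ⟨r', hr'⟩ := exists_sendsPt π hr
        obtain ⟨a, b, hab⟩ := hl.exists_comb hr' (hu i) hw' ⟨1, w i, funext fun k => by
          by_cases hk : k = i
          · subst hk; simp
          · simp [Function.update_of_ne hk, hk]⟩
        rw [hab]
        refine Submodule.add_mem _ (Submodule.smul_mem _ _ (ih _ (fun k hk => ?_) r' hr'))
          (Submodule.smul_mem _ _ (Submodule.subset_span ⟨i, rfl⟩))
        by_cases hki : k = i
        · subst hki; simp
        · rw [Function.update_of_ne hki]; exact hw k (by simp [hki, hk])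
  have htop : ⊤ ≤ Submodule.span F (Set.range u) := by
    intro w _
    by_cases hw : w = 0
    · rw [hw]; exact Submodule.zero_mem _
    obtain ⟨P, hP⟩ := hπ.2 (Projectivization.mk F w hw)
    induction P using Projectivization.ind with
    | _ v hv =>
    exact hspan Finset.univ v (fun k hk => absurd (Finset.mem_univ k) hk) w ⟨hv, hw, hP⟩
  have hli : LinearIndependent F u :=
    linearIndependent_of_top_le_span_of_card_eq_finrank htop
      (Module.finrank_fintype_fun_eq_card F).symm
  obtain ⟨o⟩ : Nonempty κ := Fintype.card_pos_iff.1 (by omega)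
  have hfr : ∀ i, i ≠ o → ∃ c : F, c ≠ 0 ∧
      SendsPt π (Pi.single o 1 + Pi.single i 1) (u o + c • u i) := by
    intro i hi
    have hv : (Pi.single o 1 + Pi.single i 1 : κ → F) ≠ 0 := fun h => by
      simpa [Ne.symm hi] using congrFun h o
    obtain ⟨v', hv'⟩ := exists_sendsPt π hv
    obtain ⟨a, b, hab⟩ := hl.exists_comb (hu o) (hu i) hv' ⟨1, 1, by simp⟩
    have ha : a ≠ 0 := by
      rintro rfl
      rw [zero_smul, zero_add] at hab
      obtain ⟨d, hd⟩ := (hu i).eq_smul hπ.1 hv' hab
      simpa [Ne.symm hi] using congrFun hd o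
    have hb : b ≠ 0 := by
      rintro rfl
      rw [zero_smul, add_zero] at hab
      obtain ⟨d, hd⟩ := (hu o).eq_smul hπ.1 hv' hab
      simpa [hi] using congrFun hd i
    refine ⟨a⁻¹ * b, mul_ne_zero (inv_ne_zero ha) hb, ?_⟩
    have := hv'.smul (inv_ne_zero ha)
    rwa [hab, smul_add, inv_smul_smul₀ ha, smul_smul] at this
  choose c hc0 hc using hfr
  let d : κ → F := fun i => if h : i = o then 1 else c i h
  have hd0 : ∀ i, d i ≠ 0 := fun i => by
    by_cases h : i = o
    · simp [d, h]
    · simp [d, h, hc0]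
  let M : Matrix κ κ F := Matrix.of fun k i => d i * u i k
  have hMcol : ∀ i, M *ᵥ Pi.single i 1 = d i • u i := fun i => funext fun k => by
    simp [M]
  have hMu : IsUnit M := by
    rw [← Matrix.linearIndependent_cols_iff_isUnit]
    show LinearIndependent F fun i => d i • u i
    exact hli.units_smul fun i => Units.mk0 (d i) (hd0 i)
  let g : GL κ F := hMu.unit
  have hg : g.1 = M := hMu.unit_spec
  have hginv : ∀ v : κ → F, v ≠ 0 → (g⁻¹).1 *ᵥ v ≠ 0 := fun v hv =>
    (map_ne_zero_iff (Matrix.mulVecLin (g⁻¹).1) (Matrix.mulVec_injective_of_isUnit (g⁻¹).isUnit)).2 hv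
  have hgv : ∀ v : κ → F, v ≠ 0 → g.1 *ᵥ v ≠ 0 := fun v hv =>
    (map_ne_zero_iff (Matrix.mulVecLin g.1) (Matrix.mulVec_injective_of_isUnit g.isUnit)).2 hv
  let ρ : ℙ F (κ → F) → ℙ F (κ → F) := fun P =>
    Projectivization.mk F ((g⁻¹).1 *ᵥ (π P).rep) (hginv _ (Projectivization.rep_nonzero _))
  have hρiff : ∀ v v' : κ → F, SendsPt ρ v v' ↔ SendsPt π v (g.1 *ᵥ v') := by
    intro v v'
    constructor
    · rintro ⟨hv, hv', e⟩
      refine ⟨hv, hgv _ hv', ?_⟩
      rw [← Projectivization.mk_rep (π (Projectivization.mk F v hv))]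
      obtain ⟨a, ha⟩ := (Projectivization.mk_eq_mk_iff' F _ _ _ _).1 e
      refine (Projectivization.mk_eq_mk_iff' F _ _ _ _).2 ⟨a, ?_⟩
      rw [← Matrix.mulVec_smul, ha, Matrix.mulVec_mulVec, ← Units.val_mul, mul_inv_cancel,
        Units.val_one, Matrix.one_mulVec]
    · rintro ⟨hv, hgv', e⟩
      have hv' : v' ≠ 0 := fun h => hgv' (by rw [h, Matrix.mulVec_zero])
      refine ⟨hv, hv', ?_⟩
      rw [← Projectivization.mk_rep (π (Projectivization.mk F v hv))] at e
      obtain ⟨a, ha⟩ := (Projectivization.mk_eq_mk_iff' F _ _ _ _).1 e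
      refine (Projectivization.mk_eq_mk_iff' F _ _ _ _).2 ⟨a, ?_⟩
      rw [← ha, Matrix.mulVec_smul, Matrix.mulVec_mulVec, ← Units.val_mul, inv_mul_cancel,
        Units.val_one, Matrix.one_mulVec]
  have hρinj : Function.Injective ρ := by
    intro P Q e
    refine hπ.1 ?_
    rw [← Projectivization.mk_rep (π P), ← Projectivization.mk_rep (π Q)]
    obtain ⟨a, ha⟩ := (Projectivization.mk_eq_mk_iff' F _ _ _ _).1 e
    refine (Projectivization.mk_eq_mk_iff' F _ _ _ _).2 ⟨a, ?_⟩
    refine Matrix.mulVec_injective_of_isUnit (g⁻¹).isUnit ?_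
    show (g⁻¹).1 *ᵥ (a • (π Q).rep) = (g⁻¹).1 *ᵥ (π P).rep
    rw [Matrix.mulVec_smul, ha]
  have hρl : PreservesLines ρ := by
    intro x y z hx hy hz h
    obtain ⟨z', hz'⟩ := exists_sendsPt ρ hz
    obtain ⟨x', hx'⟩ := exists_sendsPt ρ hx
    obtain ⟨y', hy'⟩ := exists_sendsPt ρ hy
    obtain ⟨a, b, hab⟩ := hl.exists_comb ((hρiff _ _).1 hx') ((hρiff _ _).1 hy')
      ((hρiff _ _).1 hz') h
    rw [← Matrix.mulVec_smul, ← Matrix.mulVec_smul, ← Matrix.mulVec_add] at hab
    have hab' := Matrix.mulVec_injective_of_isUnit g.isUnit hab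
    obtain ⟨_, _, ex⟩ := hx'
    obtain ⟨_, _, ey⟩ := hy'
    obtain ⟨_, _, ez⟩ := hz'
    rw [ex, ey, ez, Projectivization.submodule_mk, Projectivization.submodule_mk,
      Projectivization.submodule_mk, Submodule.span_singleton_le_iff_mem, Submodule.mem_sup]
    exact ⟨a • x', Submodule.smul_mem _ _ (Submodule.mem_span_singleton_self x'), b • y',
      Submodule.smul_mem _ _ (Submodule.mem_span_singleton_self y'), hab'.symm⟩
  obtain ⟨σ, hσ⟩ := exists_ringAut_of_frame hρinj hρl o h3
    (fun i => (hρiff _ _).2 (by rw [hg, hMcol]; exact (hu i).smul (hd0 i)))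
    (fun i hi => (hρiff _ _).2 (by
      rw [hg, Matrix.mulVec_add, hMcol, hMcol]
      simpa [d, hi] using hc i hi))
  exact ⟨g, σ, fun v hv => (hρiff _ _).1 (hσ v hv)⟩

end CfsgLib.KnownC
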