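import Mathlib
import Cfsg.Agent.Lib.Classical.StdQuad
import Cfsg.Agent.Lib.Geom.FiniteField
import Cfsg.Agent.Lib.Geom.FormClass

set_option autoImplicit false
set_option linter.unusedSectionVars false
set_option linter.style.haveILetI false

/-!
Non-degenerate quadratic forms of even dimension over a finite field, in any characteristic: plus or minus type.
-/

namespace CfsgLib.KnownC

open CfsgLib.Geom CfsgLib.Classical
open QuadraticMap (polar)

universe u v

variable {F : Type u} [Field F] [Finite F]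

/-- In dimension at least three there is a non-zero singular vector. -/
theorem exists_singular_ge_three {V : Type v} [AddCommGroup V] [Module F V] [FiniteDimensional F V]
    (Q : QuadraticForm F V) (hQ : ∀ x, (∀ y, polar Q x y = 0) → x = 0)
    (h3 : 3 ≤ Module.finrank F V) : ∃ x, x ≠ 0 ∧ Q x = 0 := by
  haveI := Fintype.ofFinite F
  by_contra hcon
  push Not at hcon
  obtain ⟨a, ha⟩ : ∃ a : V, a ≠ 0 := by
    haveI : Nontrivial V := Module.nontrivial_of_finrank_pos (R := F) (by omega)
    exact exists_ne 0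
  have hQa := hcon a ha
  have hk := (Q.polarBilin a).finrank_range_add_finrank_ker
  have hr := (Submodule.finrank_le (LinearMap.range (Q.polarBilin a))).trans_eq (Module.finrank_self F)
  by_cases h2 : (2 : F) = 0
  · obtain ⟨b, hb, hba⟩ : ∃ b ∈ LinearMap.ker (Q.polarBilin a), b ∉ Submodule.span F {a} := by
      by_contra h
      push Not at h
      have := Submodule.finrank_mono (show LinearMap.ker (Q.polarBilin a) ≤ Submodule.span F {a} from h)
      rw [finrank_span_singleton ha] at this
      omega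
    obtain ⟨s, hs⟩ := isSquare_of_two_eq_zero h2 (Q b)
    obtain ⟨t, ht⟩ := isSquare_of_two_eq_zero h2 (Q a)
    have hab : polar Q a b = 0 := hb
    refine hcon (s • a + t • b) (fun h0 => ?_) ?_
    · have ht0 : t ≠ 0 := fun h => hQa (by rw [ht, h, mul_zero])
      refine hba (Submodule.mem_span_singleton.2 ⟨-(s / t), ?_⟩)
      have hb' : t • b = -(s • a) := eq_neg_of_add_eq_zero_right h0
      rw [← inv_smul_smul₀ ht0 b, hb', smul_neg, smul_smul, neg_smul, div_eq_inv_mul]
    · rw [QuadraticMap.map_add Q, QuadraticMap.map_smul, QuadraticMap.map_smul,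
        QuadraticMap.polar_smul_left, QuadraticMap.polar_smul_right, hab, hs, ht]
      simp only [smul_eq_mul]
      linear_combination (s * t * s * t) * h2
  · have hW := sep_comp_ker Q h2 hQ hQa
    have hf := finrank_ker_polar_add_one Q h2 hQa
    obtain ⟨u, hu⟩ := exists_value (Q.comp (LinearMap.ker (Q.polarBilin a)).subtype) h2 hW
      (by omega) (-(Q a)) (neg_ne_zero.2 hQa)
    rw [QuadraticMap.comp_apply] at hu
    have hau : polar Q a u.1 = 0 := u.2
    refine hcon (a + u.1) (fun h0 => ?_) ?_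
    · have h1 : polar Q a a = 0 := by
        rw [eq_neg_of_add_eq_zero_right h0, QuadraticMap.polar_neg_right] at hau
        exact neg_eq_zero.1 hau
      rw [polar_self_two] at h1
      exact hQa ((mul_eq_zero.1 h1).resolve_left h2)
    · rw [QuadraticMap.map_add Q, hau, add_zero]
      show Q a + Q u.1 = 0
      rw [show Q u.1 = -(Q a) from hu, add_neg_cancel]

/-- Splitting off a hyperbolic plane. -/
theorem exists_hyperbolic_split {V : Type v} [AddCommGroup V] [Module F V] [FiniteDimensional F V]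
    (Q : QuadraticForm F V) (hQ : ∀ x, (∀ y, polar Q x y = 0) → x = 0) {x : V} (hx : x ≠ 0)
    (hQx : Q x = 0) {n : ℕ} (hn : Module.finrank F V = n + 2) :
    ∃ (W : Submodule F V) (Ψ : (F × F × W) ≃ₗ[F] V), Module.finrank F W = n ∧
      (∀ y : W, (∀ z, polar (Q.comp W.subtype) y z = 0) → y = 0) ∧
      ∀ p, Q (Ψ p) = p.1 * p.2.1 + Q p.2.2 := by
  obtain ⟨y₀, hy₀⟩ : ∃ y, polar Q x y ≠ 0 := by
    by_contra h; push Not at h; exact hx (hQ x h)
  obtain ⟨y, hy⟩ : ∃ y, polar Q x y = 1 := ⟨(polar Q x y₀)⁻¹ • y₀, by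
    rw [QuadraticMap.polar_smul_right, smul_eq_mul, inv_mul_cancel₀ hy₀]⟩
  obtain ⟨f, hxf, hf⟩ : ∃ f, polar Q x f = 1 ∧ Q f = 0 := ⟨y + (-(Q y)) • x, by
    rw [QuadraticMap.polar_add_right, QuadraticMap.polar_smul_right, hy, polar_self_two, hQx, mul_zero,
      smul_zero, add_zero], by
    rw [quad_map_add_smul, hQx, QuadraticMap.polar_comm Q y x, hy]; ring⟩
  have hxx : polar Q x x = 0 := by rw [polar_self_two, hQx, mul_zero]
  have hff : polar Q f f = 0 := by rw [polar_self_two, hf, mul_zero]
  have hfx : polar Q f x = 1 := by rw [QuadraticMap.polar_comm, hxf]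
  obtain ⟨W, hW⟩ : ∃ W : Submodule F V, ∀ w, w ∈ W ↔ polar Q x w = 0 ∧ polar Q f w = 0 :=
    ⟨LinearMap.ker (Q.polarBilin x) ⊓ LinearMap.ker (Q.polarBilin f), fun w => Iff.rfl⟩
  let L : (F × F × W) →ₗ[F] V := (LinearMap.id.smulRight x).coprod
    ((LinearMap.id.smulRight f).coprod W.subtype)
  have hL : ∀ p, L p = p.1 • x + (p.2.1 • f + p.2.2.1) := fun p => rfl
  have hbij : Function.Bijective L := by
    refine ⟨(injective_iff_map_eq_zero L).2 fun p hp => ?_, fun v => ?_⟩
    · rw [hL] at hp
      have h1 := congrArg (polar Q x) hp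
      have h3 := congrArg (polar Q f) hp
      simp [QuadraticMap.polar_add_right, QuadraticMap.polar_smul_right, hxx, hxf, hfx, hff,
        ((hW _).1 p.2.2.2).1, ((hW _).1 p.2.2.2).2] at h1 h3
      refine Prod.ext h3 (Prod.ext h1 (Subtype.ext ?_))
      rw [h1, h3, zero_smul, zero_smul, zero_add, zero_add] at hp
      exact hp
    · refine ⟨(polar Q f v, polar Q x v, ⟨v - (polar Q f v • x + polar Q x v • f), (hW _).2 ⟨?_, ?_⟩⟩), ?_⟩
      · simp [QuadraticMap.polar_sub_right, QuadraticMap.polar_add_right, QuadraticMap.polar_smul_right,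
          hxx, hxf]
      · simp [QuadraticMap.polar_sub_right, QuadraticMap.polar_add_right, QuadraticMap.polar_smul_right,
          hff, hfx]
      · rw [hL]; simp only; abel
  obtain ⟨Ψ, hΨ⟩ : ∃ Ψ : (F × F × W) ≃ₗ[F] V, ∀ p, Ψ p = p.1 • x + (p.2.1 • f + p.2.2.1) :=
    ⟨LinearEquiv.ofBijective L hbij, hL⟩
  refine ⟨W, Ψ, ?_, fun z hz => Subtype.ext (hQ _ fun v => ?_), fun p => ?_⟩
  · have := Ψ.finrank_eq
    rw [Module.finrank_prod, Module.finrank_prod, Module.finrank_self, hn] at this
    omega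
  · obtain ⟨p, rfl⟩ := Ψ.surjective v
    rw [hΨ, QuadraticMap.polar_add_right, QuadraticMap.polar_add_right, QuadraticMap.polar_smul_right,
      QuadraticMap.polar_smul_right, QuadraticMap.polar_comm Q _ x, QuadraticMap.polar_comm Q _ f,
      ((hW _).1 z.2).1, ((hW _).1 z.2).2, smul_zero, smul_zero, zero_add, zero_add]
    exact hz p.2.2
  · rw [hΨ, QuadraticMap.map_add Q, QuadraticMap.map_add Q (p.2.1 • f), QuadraticMap.map_smul,
      QuadraticMap.map_smul, hQx, hf, QuadraticMap.polar_add_right, QuadraticMap.polar_smul_left,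
      QuadraticMap.polar_smul_left, QuadraticMap.polar_smul_left, QuadraticMap.polar_smul_right,
      hxf, ((hW _).1 p.2.2.2).1, ((hW _).1 p.2.2.2).2]
    simp only [smul_eq_mul]
    ring

/-- A form of even dimension is the plus form or similar to a minus form. -/
theorem even_form_std (n : ℕ) : ∀ (V : Type v) [AddCommGroup V] [Module F V] [FiniteDimensional F V]
    (Q : QuadraticForm F V), (∀ x, (∀ y, polar Q x y = 0) → x = 0) → Module.finrank F V = 2 * n →
    (∃ e : (Fin n ⊕ Fin n → F) ≃ₗ[F] V, ∀ v, Q (e v) = qfPlus n F v) ∨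
    ∃ (k : ℕ) (a b c : F), n = k + 1 ∧ c ≠ 0 ∧
      (∀ z₁ z₂ : F, z₁ ^ 2 + a * z₁ * z₂ + b * z₂ ^ 2 = 0 → z₁ = 0 ∧ z₂ = 0) ∧
      ∃ e : ((Fin k ⊕ Fin k) ⊕ Fin 2 → F) ≃ₗ[F] V, ∀ v, Q (e v) = c * qfMinus k F a b v := by
  haveI := Fintype.ofFinite F
  induction n with
  | zero =>
    intro V _ _ _ Q hQ hn
    refine Or.inl ⟨LinearEquiv.ofFinrankEq _ _ (by rw [hn]; simp), fun v => ?_⟩
    have hv : v = 0 := funext fun i => Sum.elim (fun j => Fin.elim0 j) (fun j => Fin.elim0 j) i
    rw [hv, map_zero, QuadraticMap.map_zero, QuadraticMap.map_zero]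
  | succ n ih =>
    intro V _ _ _ Q hQ hn
    by_cases hs : ∃ x, x ≠ 0 ∧ Q x = 0
    · obtain ⟨x, hx, hQx⟩ := hs
      obtain ⟨W, Ψ, hW, hWsep, hΨ⟩ := exists_hyperbolic_split Q hQ hx hQx (n := 2 * n) (by omega)
      rcases ih W (Q.comp W.subtype) hWsep hW with ⟨e, he⟩ | ⟨k, a, b, c, rfl, hc, hab, e, he⟩
      · obtain ⟨P, hP⟩ : ∃ P : (Fin (n + 1) ⊕ Fin (n + 1) → F) ≃ₗ[F] (F × F × (Fin n ⊕ Fin n → F)),
            ∀ v, P v = (v (.inl 0), v (.inr 0), fun i => v (Sum.map Fin.succ Fin.succ i)) :=
          ⟨{ toFun := fun v => (v (.inl 0), v (.inr 0), fun i => v (Sum.map Fin.succ Fin.succ i))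
             map_add' := fun _ _ => rfl
             map_smul' := fun _ _ => rfl
             invFun := fun p => Sum.elim (Fin.cons p.1 fun i => p.2.2 (.inl i))
              (Fin.cons p.2.1 fun i => p.2.2 (.inr i))
             left_inv := fun v => funext fun i => by
              rcases i with i | i <;> refine Fin.cases ?_ ?_ i <;> simp
             right_inv := fun p => Prod.ext (by simp) (Prod.ext (by simp) (funext fun i => by
              rcases i with i | i <;> simp)) }, fun v => rfl⟩
        refine Or.inl ⟨P.trans (((LinearEquiv.refl F F).prodCongr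
          ((LinearEquiv.refl F F).prodCongr e)).trans Ψ), fun v => ?_⟩
        simp only [LinearEquiv.trans_apply, LinearEquiv.prodCongr_apply, LinearEquiv.refl_apply, hΨ, hP]
        have h1 := he fun i => v (Sum.map Fin.succ Fin.succ i)
        rw [QuadraticMap.comp_apply, Submodule.coe_subtype] at h1
        rw [h1, qfPlus_apply, qfPlus_apply, Cfsg.quadFormPlus, Cfsg.quadFormPlus, Fin.sum_univ_succ]
        rfl
      · obtain ⟨P, hP⟩ : ∃ P : ((Fin (k + 1 : ℕ) ⊕ Fin (k + 1)) ⊕ Fin 2 → F) ≃ₗ[F]
              (F × F × ((Fin k ⊕ Fin k) ⊕ Fin 2 → F)),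
            ∀ v, P v = (c * v (.inl (.inl 0)), v (.inl (.inr 0)),
              fun i => v (Sum.map (Sum.map Fin.succ Fin.succ) id i)) :=
          ⟨{ toFun := fun v => (c * v (.inl (.inl 0)), v (.inl (.inr 0)),
              fun i => v (Sum.map (Sum.map Fin.succ Fin.succ) id i))
             map_add' := fun u v => Prod.ext (mul_add c _ _) rfl
             map_smul' := fun t v => Prod.ext (mul_left_comm c t _) rfl
             invFun := fun p => Sum.elim (Sum.elim (Fin.cons (c⁻¹ * p.1) fun i => p.2.2 (.inl (.inl i)))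
              (Fin.cons p.2.1 fun i => p.2.2 (.inl (.inr i)))) fun j => p.2.2 (.inr j)
             left_inv := fun v => funext fun i => by
              rcases i with (i | i) | j
              · refine Fin.cases ?_ ?_ i <;> simp [hc]
              · refine Fin.cases ?_ ?_ i <;> simp
              · simp
             right_inv := fun p => Prod.ext (by simp [hc]) (Prod.ext (by simp) (funext fun i => by
              rcases i with (i | i) | i <;> simp)) }, fun v => rfl⟩
        refine Or.inr ⟨k + 1, a, b, c, rfl, hc, hab, P.trans (((LinearEquiv.refl F F).prodCongr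
          ((LinearEquiv.refl F F).prodCongr e)).trans Ψ), fun v => ?_⟩
        simp only [LinearEquiv.trans_apply, LinearEquiv.prodCongr_apply, LinearEquiv.refl_apply, hΨ, hP]
        have h1 := he fun i => v (Sum.map (Sum.map Fin.succ Fin.succ) id i)
        rw [QuadraticMap.comp_apply, Submodule.coe_subtype] at h1
        rw [h1, qfMinus_apply, qfMinus_apply, Cfsg.quadFormMinus, Cfsg.quadFormMinus, Fin.sum_univ_succ]
        simp only [Sum.map_inl, Sum.map_inr, id_eq]
        ring
    · push Not at hs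
      obtain rfl : n = 0 := by
        by_contra h
        obtain ⟨x, hx, hQx⟩ := exists_singular_ge_three Q hQ (by omega)
        exact hs x hx hQx
      let B := Module.finBasisOfFinrankEq F V (show Module.finrank F V = 2 by omega)
      obtain ⟨c, hc⟩ : ∃ c, c = Q (B 0) := ⟨_, rfl⟩
      have hc0 : c ≠ 0 := hc ▸ hs _ (B.ne_zero 0)
      obtain ⟨P, hP⟩ : ∃ P : ((Fin 0 ⊕ Fin 0) ⊕ Fin 2 → F) ≃ₗ[F] V,
          ∀ v, P v = v (.inr 0) • B 0 + v (.inr 1) • B 1 :=
        ⟨(LinearEquiv.funCongrLeft F F (Equiv.emptySum (Fin 0 ⊕ Fin 0) (Fin 2)).symm).trans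
          B.equivFun.symm, fun v => by
            simp [Module.Basis.equivFun_symm_apply, Fin.sum_univ_two, LinearEquiv.funCongrLeft,
              LinearMap.funLeft]⟩
      have hQP : ∀ z₀ z₁ : F, Q (z₀ • B 0 + z₁ • B 1) =
          c * (z₀ ^ 2 + polar Q (B 0) (B 1) / c * z₀ * z₁ + Q (B 1) / c * z₁ ^ 2) := fun z₀ z₁ => by
        rw [QuadraticMap.map_add Q, QuadraticMap.map_smul, QuadraticMap.map_smul,
          QuadraticMap.polar_smul_left, QuadraticMap.polar_smul_right, ← hc]
        simp only [smul_eq_mul]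
        field_simp
        ring
      refine Or.inr ⟨0, polar Q (B 0) (B 1) / c, Q (B 1) / c, c, rfl, hc0, fun z₁ z₂ h => ?_, P, fun v => ?_⟩
      · have h0 : z₁ • B 0 + z₂ • B 1 = 0 := by
          by_contra h0
          exact hs _ h0 (by rw [hQP, h, mul_zero])
        have := Fintype.linearIndependent_iff.1 B.linearIndependent ![z₁, z₂]
          (by simpa [Fin.sum_univ_two] using h0)
        exact ⟨this 0, this 1⟩
      · rw [hP, hQP, qfMinus_apply, Cfsg.quadFormMinus]
        simp

end CfsgLib.KnownC
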