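import Mathlib
import Cfsg.Agent.Lib.KnownC.AutPOmegaInndiag
import Cfsg.Agent.Lib.KnownC.AutPOmegaDescent

set_option autoImplicit false
set_option linter.unusedSectionVars false
set_option linter.style.haveILetI false

/-!
Frames of semisimilitudes of the order of their field automorphism, and their conjugacy.
-/

namespace CfsgLib.KnownC

open CfsgLib.Geom CfsgLib.Classical
open QuadraticMap (polar)
open Matrix

universe u v

variable {F : Type u} [Field F] {F₀ : Type v} [Field F₀] (ι₀ : F₀ →+* F)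
variable {ι κ : Type} [Fintype ι] [DecidableEq ι] [Fintype κ] [DecidableEq κ]

/-- Base change of a linear equivalence. -/
theorem exists_baseChange (M : (κ → F₀) ≃ₗ[F₀] (ι → F₀)) :
    ∃ L : (κ → F) ≃ₗ[F] (ι → F), (∀ v : κ → F₀, L (fun i => ι₀ (v i)) = fun i => ι₀ (M v i)) ∧
      ∀ σ : F ≃+* F, (∀ a, σ (ι₀ a) = ι₀ a) → ∀ v, L (fun i => σ (v i)) = fun i => σ (L v i) := by
  obtain ⟨A, hA⟩ : ∃ A, A = LinearMap.toMatrix' M.toLinearMap := ⟨_, rfl⟩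
  obtain ⟨B, hB⟩ : ∃ B, B = LinearMap.toMatrix' M.symm.toLinearMap := ⟨_, rfl⟩
  have hAB : A.map ι₀ * B.map ι₀ = 1 := by
    rw [← Matrix.map_mul, hA, hB, ← LinearMap.toMatrix'_comp,
      show M.toLinearMap ∘ₗ M.symm.toLinearMap = LinearMap.id from LinearMap.ext M.apply_symm_apply,
      LinearMap.toMatrix'_id, Matrix.map_one ι₀ (map_zero ι₀) (map_one ι₀)]
  have hBA : B.map ι₀ * A.map ι₀ = 1 := by
    rw [← Matrix.map_mul, hA, hB, ← LinearMap.toMatrix'_comp,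
      show M.symm.toLinearMap ∘ₗ M.toLinearMap = LinearMap.id from LinearMap.ext M.symm_apply_apply,
      LinearMap.toMatrix'_id, Matrix.map_one ι₀ (map_zero ι₀) (map_one ι₀)]
  refine ⟨LinearEquiv.ofLinearMap (Matrix.toLin' (A.map ι₀)) (Matrix.toLin' (B.map ι₀))
    (by rw [← Matrix.toLin'_mul, hAB, Matrix.toLin'_one])
    (by rw [← Matrix.toLin'_mul, hBA, Matrix.toLin'_one]), fun v => ?_, fun σ hσ v => ?_⟩
  · show A.map ι₀ *ᵥ (fun i => ι₀ (v i)) = _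
    refine funext fun i => (RingHom.map_mulVec ι₀ A v i).symm.trans ?_
    rw [hA, LinearMap.toMatrix'_mulVec]; rfl
  · show A.map ι₀ *ᵥ (fun i => σ (v i)) = fun i => σ ((A.map ι₀ *ᵥ v) i)
    refine funext fun i => ?_
    refine Eq.trans ?_ (RingHom.map_mulVec (σ : F →+* F) (A.map ι₀) v i).symm
    rw [show (A.map ι₀).map (σ : F →+* F) = A.map ι₀ from Matrix.ext fun r s => hσ _]
    rfl

variable {Q : QuadraticForm F (ι → F)}

/-- A frame of a semisimilitude in which it is the standard one, with the descended form. -/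
def IsFrame (Φ : OSim Q) (R₀ : QuadraticForm F₀ (ι → F₀)) : Prop :=
  ∃ (m d : F) (H : (ι → F) ≃ₗ[F] (ι → F)), m ≠ 0 ∧ d ≠ 0 ∧
    (∀ v, Φ.T (H v) = m • H fun i => Φ.σ (v i)) ∧
    ∀ v : ι → F₀, ι₀ (R₀ v) = d * Q (H fun i => ι₀ (v i))

variable [Finite F] (K : OCtx Q)
include K

theorem exists_isFrame (Φ : OSim Q) (hι : ∀ x, Φ.σ x = x ↔ ∃ a, ι₀ a = x)
    (h : osimPOmega K Φ ^ orderOf Φ.σ = 1) :
    ∃ R₀ : QuadraticForm F₀ (ι → F₀), IsFrame ι₀ Φ R₀ ∧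
      (∀ x, (∀ y, polar R₀ x y = 0) → x = 0) := by
  obtain ⟨m, d, H, hm, hd, hH, hR⟩ := exists_frame_of_pow K Φ h
  obtain ⟨R, hRv⟩ : ∃ R : QuadraticForm F (ι → F), ∀ v, R v = d * Q (H v) :=
    ⟨d • Q.comp H.toLinearMap, fun v => rfl⟩
  obtain ⟨R₀, hR₀⟩ := exists_descend_quad ι₀ Φ.σ hι R fun v => by rw [hRv, hRv, hR]
  refine ⟨R₀, ⟨m, d, H, hm, hd, hH, fun v => (hR₀ v).trans (hRv _)⟩, sep_descend ι₀ hR₀ ?_⟩
  intro x hx
  refine H.injective ?_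
  rw [map_zero]
  refine K.sep _ fun y => ?_
  obtain ⟨z, rfl⟩ := H.surjective y
  have h1 := hx z
  simp only [QuadraticMap.polar, hRv, map_add] at h1 ⊢
  have h2 : d * (Q (H x + H z) - Q (H x) - Q (H z)) = 0 := by linear_combination h1
  exact (mul_eq_zero.1 h2).resolve_left hd

omit K in
theorem isFrame_std (σ : F ≃+* F) (hσ : ∀ v : ι → F, Q (fun i => σ (v i)) = σ (Q v))
    {Q₀ : QuadraticForm F₀ (ι → F₀)} (hQ₀ : ∀ v, ι₀ (Q₀ v) = Q fun i => ι₀ (v i)) :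
    IsFrame ι₀ (OSim.std σ hσ) Q₀ :=
  ⟨1, 1, LinearEquiv.refl F _, one_ne_zero, one_ne_zero,
    fun v => by rw [one_smul]; rfl, fun v => by rw [one_mul, hQ₀]; rfl⟩

omit K in
/-- The form of a frame is similar to the given one after base change. -/
theorem exists_similarity_of_frame {Φ : OSim Q} {R₀ : QuadraticForm F₀ (ι → F₀)} (hR : IsFrame ι₀ Φ R₀)
    {S₀ : QuadraticForm F₀ (κ → F₀)} {S : QuadraticForm F (κ → F)}
    (hS : ∀ v, ι₀ (S₀ v) = S fun i => ι₀ (v i))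
    (M : (κ → F₀) ≃ₗ[F₀] (ι → F₀)) {e₀ : F₀} (he₀ : e₀ ≠ 0) (hM : ∀ v, R₀ (M v) = e₀ * S₀ v) :
    ∃ (e : (κ → F) ≃ₗ[F] (ι → F)) (c : F), c ≠ 0 ∧ ∀ v, Q (e v) = c * S v := by
  obtain ⟨m, d, H, hm, hd, hH, hRv⟩ := hR
  obtain ⟨L, hL, -⟩ := exists_baseChange ι₀ M
  refine ⟨L.trans H, ι₀ e₀ / d, div_ne_zero ((map_ne_zero ι₀).2 he₀) hd, fun v => ?_⟩
  have h : d • Q.comp (L.trans H).toLinearMap = ι₀ e₀ • S := quad_ext_subfield ι₀ fun w => by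
    show d * Q (H (L fun i => ι₀ (w i))) = ι₀ e₀ * S fun i => ι₀ (w i)
    rw [hL, ← hRv, hM, map_mul, hS]
  have h1 : d * Q (H (L v)) = ι₀ e₀ * S v := congrArg (fun P : QuadraticForm F (κ → F) => P v) h
  show Q (H (L v)) = _
  field_simp
  linear_combination h1

/-- Semisimilitudes with similar frames are conjugate. -/
theorem exists_conj_of_frames {Φ Φ' : OSim Q} (hσ : Φ'.σ = Φ.σ)
    (hι : ∀ a, Φ.σ (ι₀ a) = ι₀ a)
    {R₀ R₀' : QuadraticForm F₀ (ι → F₀)} (hR : IsFrame ι₀ Φ R₀) (hR' : IsFrame ι₀ Φ' R₀')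
    (M : (ι → F₀) ≃ₗ[F₀] (ι → F₀)) {e₀ : F₀} (he₀ : e₀ ≠ 0) (hM : ∀ v, R₀ (M v) = e₀ * R₀' v) :
    ∃ Ψ : OSim Q, Ψ.σ = RingEquiv.refl F ∧
      osimPOmega K Φ = osimPOmega K Ψ * osimPOmega K Φ' * (osimPOmega K Ψ)⁻¹ := by
  obtain ⟨m, d, H, hm, hd, hH, hRv⟩ := hR
  obtain ⟨m', d', H', hm', hd', hH', hRv'⟩ := hR'
  obtain ⟨L, hL, hLσ⟩ := exists_baseChange ι₀ M
  have key : ∀ v, d * Q (H (L v)) = ι₀ e₀ * (d' * Q (H' v)) := by
    have h : d • Q.comp (L.trans H).toLinearMap = ι₀ e₀ • (d' • Q.comp H'.toLinearMap) :=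
      quad_ext_subfield ι₀ fun w => by
        show d * Q (H (L fun i => ι₀ (w i))) = ι₀ e₀ * (d' * Q (H' fun i => ι₀ (w i)))
        rw [hL, ← hRv, ← hRv', hM, map_mul]
    exact fun v => congrArg (fun P : QuadraticForm F (ι → F) => P v) h
  obtain ⟨Ψ, hΨσ, hΨT⟩ : ∃ Ψ : OSim Q, Ψ.σ = RingEquiv.refl F ∧ ∀ v, Ψ.T (H' v) = H (L v) :=
    ⟨⟨RingEquiv.refl F, ι₀ e₀ * d' / d, ((H'.symm.trans L).trans H).toAddEquiv,
      div_ne_zero (mul_ne_zero ((map_ne_zero ι₀).2 he₀) hd') hd,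
      fun a v => ((H'.symm.trans L).trans H).map_smul a v, fun v => by
        obtain ⟨w, rfl⟩ := H'.surjective v
        show Q (H (L (H'.symm (H' w)))) = ι₀ e₀ * d' / d * Q (H' w)
        rw [H'.symm_apply_apply]
        have := key w
        field_simp
        linear_combination this⟩, rfl, fun v => by
        show H (L (H'.symm (H' v))) = _
        rw [H'.symm_apply_apply]⟩
  refine ⟨Ψ, hΨσ, ?_⟩
  rw [eq_mul_inv_iff_mul_eq, ← osimPOmega_comp, ← osimPOmega_comp, osimPOmega_eq_iff]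
  refine ⟨m / m', div_ne_zero hm hm', fun v => ?_⟩
  obtain ⟨w, rfl⟩ := H'.surjective v
  show Φ.T (Ψ.T (H' w)) = (m / m') • Ψ.T (Φ'.T (H' w))
  rw [hH', Ψ.smul, hΨσ, RingEquiv.refl_apply, hΨT, hΨT, hH, smul_smul, div_mul_cancel₀ m hm', hσ,
    hLσ Φ.σ hι]

end CfsgLib.KnownC
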