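import Mathlib
import Cfsg.Agent.Lib.KnownC.AutPOmegaMinusBasic
import Cfsg.Agent.Lib.KnownC.AutPOmegaOutTools
import Cfsg.Agent.Lib.KnownC.FieldAut

set_option autoImplicit false
set_option linter.unusedSectionVars false
set_option linter.style.haveILetI false

/-!
`Out (PΩ⁻(q))` for even `q` is cyclic of order `2f`.
-/

namespace CfsgLib.KnownC

open CfsgLib.Geom CfsgLib.Classical
open QuadraticMap (polar)
open Matrix

universe u

theorem ofAdd_one_zmod_two :
    Multiplicative.ofAdd (1 : ZMod 2) * Multiplicative.ofAdd (1 : ZMod 2) = 1 ∧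
      Multiplicative.ofAdd (1 : ZMod 2) ≠ 1 ∧
      ∀ y : Multiplicative (ZMod 2), y ≠ 1 → y = Multiplicative.ofAdd 1 := by decide

variable {F : Type u} [Field F] [Fintype F]

/-- The absolute trace of the coefficient of an anisotropic form is one. -/
theorem artinSchreier_sum_eq_one {f : ℕ} (hf : 1 ≤ f) (hF : Fintype.card F = 2 ^ f) (b : F)
    (hb : ∀ z : F, z ^ 2 + z + b ≠ 0) : ∑ i ∈ Finset.range f, b ^ (2 ^ i) = 1 := by
  classical
  haveI : CharP F 2 := charP_of_card_eq_prime_pow hF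
  obtain ⟨g, rfl⟩ : ∃ g, f = g + 1 := ⟨f - 1, by omega⟩
  obtain ⟨C, hC⟩ : ∃ C : F →+ F, ∀ x, C x = ∑ i ∈ Finset.range (g + 1), x ^ (2 ^ i) :=
    ⟨AddMonoidHom.mk' (fun x => ∑ i ∈ Finset.range (g + 1), x ^ (2 ^ i)) (fun x y => by
      rw [← Finset.sum_add_distrib]
      exact Finset.sum_congr rfl fun i _ => add_pow_char_pow x y (p := 2) i), fun x => rfl⟩
  obtain ⟨W, hW⟩ : ∃ W : F →+ F, ∀ x, W x = x ^ 2 + x :=
    ⟨AddMonoidHom.mk' (fun x => x ^ 2 + x) (fun x y => by
      show (x + y) ^ 2 + (x + y) = _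
      rw [CharTwo.add_sq]; ring), fun x => rfl⟩
  have hsq : ∀ x, (C x) ^ 2 + C x = 0 := by
    intro x
    have h1 : (C x) ^ 2 = C x + (x ^ (2 ^ (g + 1)) - x) := by
      rw [hC, CharTwo.sum_sq]
      have := Finset.sum_range_succ' (fun i => x ^ (2 ^ i)) (g + 1)
      rw [Finset.sum_range_succ] at this
      simp only [pow_zero, pow_one] at this
      simp only [← pow_mul, ← pow_succ]
      linear_combination -this
    rw [h1, ← hF, FiniteField.pow_card, sub_self, add_zero, CharTwo.add_self_eq_zero]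
  have hCW : W.range ≤ C.ker := by
    rintro _ ⟨x, rfl⟩
    have h1 : C (x ^ 2) = (C x) ^ 2 := by
      rw [hC, hC, CharTwo.sum_sq]
      exact Finset.sum_congr rfl fun i _ => by rw [← pow_mul, ← pow_mul, mul_comm]
    rw [AddMonoidHom.mem_ker, hW, map_add, h1, hsq]
  have hker : Nat.card W.ker ≤ 2 := by
    rw [Nat.card_eq_fintype_card, ← Fintype.card_bool]
    refine Fintype.card_le_of_injective (fun x => decide (x.1 = 0)) fun x y h => Subtype.ext ?_
    have hx : ∀ z : W.ker, z.1 = 0 ∨ z.1 = 1 := fun z => by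
      have h0 : z.1 ^ 2 + z.1 = 0 := by rw [← hW]; exact z.2
      rcases mul_eq_zero.1 (show z.1 * (z.1 + 1) = 0 by linear_combination h0) with h0 | h0
      · exact Or.inl h0
      · exact Or.inr (CharTwo.add_eq_zero.1 h0)
    rcases hx x with h1 | h1 <;> rcases hx y with h3 | h3 <;> simp_all
  have hCne : C.ker ≠ ⊤ := by
    intro h
    let P : Polynomial F := ∑ i ∈ Finset.range (g + 1), Polynomial.X ^ (2 ^ i)
    have hP1 : P.natDegree ≤ 2 ^ g := Polynomial.natDegree_sum_le_of_forall_le _ _ fun i hi => by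
      rw [Polynomial.natDegree_X_pow]
      exact Nat.pow_le_pow_right two_pos (by have := Finset.mem_range.1 hi; omega)
    have hP0 : P ≠ 0 := fun h0 => by
      have h1 := congrArg (fun q : Polynomial F => q.coeff 1) h0
      simp only [P, Polynomial.finset_sum_coeff, Polynomial.coeff_X_pow, Polynomial.coeff_zero] at h1
      rw [Finset.sum_eq_single 0] at h1
      · simp at h1
      · intro i _ hi
        rw [if_neg]
        exact (Nat.one_lt_two_pow hi).ne
      · intro hg; exact absurd (Finset.mem_range.2 (by omega)) hg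
    refine hP0 (Polynomial.eq_zero_of_natDegree_lt_card_of_eval_eq_zero P (f := id)
      Function.injective_id (fun x => ?_) ?_)
    · have : C x = 0 := AddMonoidHom.mem_ker.1 (h ▸ AddSubgroup.mem_top x)
      rw [hC] at this
      simpa [P, Polynomial.eval_finset_sum] using this
    · rw [hF, pow_succ]; have := Nat.one_le_two_pow (n := g); omega
  have hWC : C.ker ≤ W.range := by
    by_contra hcon
    have h1 : W.range < C.ker := lt_of_le_not_ge hCW hcon
    have h3 : Nat.card W.range * Nat.card W.ker = Nat.card F := by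
      rw [← AddSubgroup.index_ker, mul_comm, AddSubgroup.card_mul_index]
    have h4 : Nat.card W.range < Nat.card C.ker := by
      refine (AddSubgroup.card_le_of_le h1.le).lt_of_ne fun h => h1.ne ?_
      exact AddSubgroup.eq_of_le_of_card_ge h1.le h.ge
    have h5 : Nat.card C.ker * 2 ≤ Nat.card F := by
      rw [← C.ker.card_mul_index]
      refine Nat.mul_le_mul_left _ ?_
      have h6 : C.ker.index ≠ 0 := AddSubgroup.index_ne_zero_of_finite
      have h7 : C.ker.index ≠ 1 := fun h => hCne (AddSubgroup.index_eq_one.1 h)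
      omega
    have : Nat.card F ≤ Nat.card W.range * 2 := h3.symm ▸ Nat.mul_le_mul_left _ hker
    omega
  rw [← hC]
  rcases mul_eq_zero.1 (show C b * (C b + 1) = 0 by linear_combination hsq b) with h | h
  · obtain ⟨x, hx⟩ := hWC (AddMonoidHom.mem_ker.2 h)
    exact absurd (by rw [← hx, hW]; exact CharTwo.add_self_eq_zero _) (hb x)
  · exact CharTwo.add_eq_zero.1 h

/-- The outer automorphism group of `PΩ⁻` in characteristic two, for a normalised binary part. -/
theorem out_minus_two_std {f m : ℕ} (hf : 1 ≤ f) (hF : Fintype.card F = 2 ^ f) (hm : 3 ≤ m) {b : F}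
    (hb : ∀ z₁ z₂ : F, z₁ ^ 2 + 1 * z₁ * z₂ + b * z₂ ^ 2 = 0 → z₁ = 0 ∧ z₂ = 0) :
    IsCyclic (Cfsg.Out (Cfsg.POmega F (⇑(qfMinus m F 1 b)))) ∧
      Nat.card (Cfsg.Out (Cfsg.POmega F (⇑(qfMinus m F 1 b)))) = 2 * f := by
  haveI : CharP F 2 := charP_of_card_eq_prime_pow hF
  haveI : Fact (Nat.Prime 2) := ⟨Nat.prime_two⟩
  have h2 : (2 : F) = 0 := CharTwo.two_eq_zero
  have K := octx_minus hm hb
  obtain ⟨φ, hφ, hφo, hφg⟩ := exists_ringAut_generator hF
  obtain ⟨Y, hYσ, -, hYT⟩ := exists_minusSim m 1 b φ 1 one_ne_zero !![1, b; 0, 1]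
    (by simp [Matrix.det_fin_two_of]) fun z => by
      simp [binForm_apply, Matrix.mulVec, dotProduct, Fin.sum_univ_two, map_one, hφ]
      linear_combination (b * z 0 * z 1 + b * (z 1) ^ 2) * h2
  have hiter : ∀ (k : ℕ) (v : (Fin m ⊕ Fin m) ⊕ Fin 2 → F), (⇑Y.T)^[k] v =
      minusMat m 1 !![1, ∑ i ∈ Finset.range k, b ^ (2 ^ i); 0, 1] *ᵥ fun i => v i ^ (2 ^ k) := by
    intro k
    induction k with
    | zero =>
      intro v
      rw [minusMat_mulVec]
      funext i
      rcases i with i | i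
      · rcases i with i | i <;> simp
      · fin_cases i <;> simp [Matrix.mulVec, dotProduct, Fin.sum_univ_two]
    | succ k ih =>
      intro v
      rw [Function.iterate_succ_apply', ih, hYT, minusMat_mulVec, minusMat_mulVec, minusMat_mulVec]
      funext i
      rcases i with i | i
      · rcases i with i | i <;> simp [hφ, pow_succ (2 : ℕ), pow_mul]
      · fin_cases i <;>
          simp [hφ, Matrix.mulVec, dotProduct, Fin.sum_univ_two, pow_succ (2 : ℕ), pow_mul,
            CharTwo.add_sq, CharTwo.sum_sq, mul_pow, Finset.sum_range_succ']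
        ring
  obtain ⟨e, he⟩ : ∃ e : (Fin m ⊕ Fin m) ⊕ Fin 2 → F, e = Sum.elim (0 : Fin m ⊕ Fin m → F) ![1, 0] := ⟨_, rfl⟩
  have hQe : qfMinus m F 1 b e = 1 := by rw [he, qfMinus_eq, binForm_apply]; simp
  have hQe0 : qfMinus m F 1 b e ≠ 0 := by rw [hQe]; exact one_ne_zero
  obtain ⟨r, hr⟩ : ∃ r, r = reflIsom (qfMinus m F 1 b) e hQe0 := ⟨_, rfl⟩
  have hYf : osimPOmega K Y ^ f = isoHom K r := by
    refine osimPOmega_pow_eq_isoHom K fun v => ?_
    rw [hiter, artinSchreier_sum_eq_one hf hF b fun z h =>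
      one_ne_zero (hb z 1 (by linear_combination h)).2, ← hF, hr, reflIsom_mulVec, hQe,
      polar_qfMinus, he]
    simp only [FiniteField.pow_card, Sum.elim_inl, Sum.elim_inr, Pi.zero_apply, minusMat_mulVec]
    funext i
    rcases i with i | i
    · rcases i with i | i <;> simp
    · fin_cases i <;> simp [Matrix.mulVec, dotProduct, Fin.sum_univ_two]
      linear_combination (v (Sum.inr 0) + v (Sum.inr 1)) * h2
  have hex : (∃ t : F, t ≠ 0 ∧ t ≠ 1) ∨
      Module.finrank F ((Fin m ⊕ Fin m) ⊕ Fin 2 → F) ≠ 4 := Or.inr (by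
    rw [Module.finrank_fintype_fun_eq_card]; simp; omega)
  have hsq : ∀ c : SqClass F, c = 1 := fun c => by
    obtain ⟨w, rfl⟩ := sqProj_surjective F c
    rw [show sqProj F w = sqClass w.ne_zero by simp [sqClass], sqClass_eq_one_iff]
    exact isSquare_of_two_eq_zero h2 _
  have homega : ∀ g, g ∈ Cfsg.Omega F (⇑(qfMinus m F 1 b)) ↔ (spinorHom _ K.sep hex g).1 = 1 :=
    fun g => by
      rw [omega_eq_ker_spinorHom _ K.sep hex, MonoidHom.mem_ker]
      exact ⟨fun h => congrArg Prod.fst h, fun h => Prod.ext h (hsq _)⟩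
  have hr1 : (spinorHom _ K.sep hex r).1 = Multiplicative.ofAdd (1 : ZMod 2) := by
    rw [hr, spinorHom_reflIsom K.sep hex e hQe0]
  obtain ⟨h11, hone, hall⟩ := ofAdd_one_zmod_two
  obtain ⟨π, hπ⟩ : ∃ π, π = QuotientGroup.mk' (Cfsg.Inn (Cfsg.POmega F (⇑(qfMinus m F 1 b)))) :=
    ⟨_, rfl⟩
  have hπ1 : ∀ x, π x = 1 ↔ x ∈ Cfsg.Inn (Cfsg.POmega F (⇑(qfMinus m F 1 b))) := fun x => by
    rw [hπ, QuotientGroup.mk'_apply, QuotientGroup.eq_one_iff]
  have hr_not : isoHom K r ∉ Cfsg.Inn (Cfsg.POmega F (⇑(qfMinus m F 1 b))) := by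
    intro h
    rcases (isoHom_mem_inn_iff K r).1 h with h | ⟨g, hg, hgr⟩
    · rw [homega, hr1] at h; exact hone h
    · rw [show (-g.1.1) = g.1.1 from Matrix.ext fun i j => CharTwo.neg_eq _] at hgr
      rw [homega, ← show r = g from Subtype.ext (Units.ext hgr), hr1] at hg
      exact hone hg
  have hgen : ∀ x, x ∈ Subgroup.zpowers (π (osimPOmega K Y)) := by
    intro x
    obtain ⟨β, rfl⟩ := QuotientGroup.mk'_surjective _ x
    rw [← hπ]
    obtain ⟨Φ, k, hΦ, rfl⟩ := exists_eq_mul_pow K (noFour_minus hm hb) Y (by rw [hYσ]; exact hφg) β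
    rw [map_mul, map_pow]
    refine mul_mem ?_ (pow_mem (Subgroup.mem_zpowers _) k)
    obtain ⟨s, hs⟩ := isSquare_of_two_eq_zero h2 Φ.c
    obtain ⟨M, hM⟩ := exists_matrix_of_sim K hΦ
    obtain ⟨g, hg, -⟩ := exists_isoHom_of_square K Φ hΦ hs M hM
    rw [← hg]
    by_cases h : (spinorHom _ K.sep hex g).1 = 1
    · rw [(hπ1 _).2 (isoHom_omega K g ((homega g).2 h))]; exact one_mem _
    · have h1 : g * r ∈ Cfsg.Omega F (⇑(qfMinus m F 1 b)) := by
        rw [homega, map_mul, Prod.fst_mul, hr1, hall _ h, h11]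
      have h3 := (hπ1 _).2 (isoHom_omega K _ h1)
      rw [map_mul, map_mul] at h3
      rw [eq_inv_of_mul_eq_one_left h3, ← hYf, map_pow]
      exact inv_mem (pow_mem (Subgroup.mem_zpowers _) f)
  refine ⟨⟨⟨π (osimPOmega K Y), hgen⟩⟩, ?_⟩
  rw [← orderOf_eq_card_of_forall_mem_zpowers hgen]
  have hpow : π (osimPOmega K Y) ^ (2 * f) = 1 := by
    rw [← map_pow, mul_comm, pow_mul, hYf, ← map_pow, pow_two, hr, reflIsom_mul_self, map_one, map_one]
  refine (orderOf_eq_iff (by omega)).2 ⟨hpow, fun k hk hk0 h => ?_⟩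
  rw [← map_pow, hπ1, ← osimPOmega_pow] at h
  obtain ⟨hσ, -⟩ := of_osimPOmega_mem_inn K h
  rw [OSim.pow_σ, hYσ] at hσ
  obtain ⟨j, rfl⟩ : f ∣ k := hφo ▸ orderOf_dvd_of_pow_eq_one hσ
  obtain rfl : j = 1 := by
    rcases j with _ | _ | j
    · omega
    · rfl
    · exact absurd hk (by rw [Nat.mul_comm 2 f]; exact not_lt.2 (Nat.mul_le_mul_left f (by omega)))
  rw [mul_one, osimPOmega_pow, hYf] at h
  exact hr_not h

/-- The outer automorphism group of `PΩ⁻` in characteristic two. -/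
theorem out_minus_two {f m : ℕ} (hf : 1 ≤ f) (hF : Fintype.card F = 2 ^ f) (hm : 3 ≤ m) {a b : F}
    (hab : ∀ z₁ z₂ : F, z₁ ^ 2 + a * z₁ * z₂ + b * z₂ ^ 2 = 0 → z₁ = 0 ∧ z₂ = 0)
    (Q' : ((Fin m ⊕ Fin m) ⊕ Fin 2 → F) → F) (hQ' : Q' = ⇑(qfMinus m F a b)) :
    IsCyclic (Cfsg.Out (Cfsg.POmega F Q')) ∧ Nat.card (Cfsg.Out (Cfsg.POmega F Q')) = 2 * f := by
  subst hQ'
  haveI : CharP F 2 := charP_of_card_eq_prime_pow (hp := ⟨Nat.prime_two⟩) hF
  obtain ⟨b', hb', ⟨e⟩⟩ := minus_normal_two m CharTwo.two_eq_zero hab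
  obtain ⟨h1, h3⟩ := out_minus_two_std hf hF hm hb'
  obtain ⟨E⟩ := (exists_out_congr e).2
  exact ⟨isCyclic_of_surjective E E.surjective, (Nat.card_congr E.toEquiv).symm.trans h3⟩

end CfsgLib.KnownC
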