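import Mathlib
import Cfsg.Agent.Lib.KnownC.AutPOmegaEvenClass
import Cfsg.Agent.Lib.KnownC.AutPOmegaMinusBasic
import Cfsg.Agent.Lib.KnownC.AutPOmegaMinusTwo
import Cfsg.Agent.Lib.KnownC.AutPOmegaOddField
import Cfsg.Agent.Lib.KnownC.AutPOmegaFrames
import Cfsg.Agent.Lib.Classical.OrthAutFrames
import Cfsg.Agent.Lib.Geom.PlusTS

set_option autoImplicit false
set_option linter.unusedSectionVars false
set_option linter.style.haveILetI false

/-!
Plus and minus type: uniqueness, base change.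
-/

namespace CfsgLib.KnownC

open CfsgLib.Geom CfsgLib.Classical
open QuadraticMap (polar)
open Matrix

universe u v

variable {F : Type u} [Field F] [Fintype F]

/-- A minus form is not similar to the plus form. -/
theorem not_similar_plus_minus {m : ℕ} {a b : F}
    (hab : ∀ z₁ z₂ : F, z₁ ^ 2 + a * z₁ * z₂ + b * z₂ ^ 2 = 0 → z₁ = 0 ∧ z₂ = 0)
    (e : (Fin (m + 1) ⊕ Fin (m + 1) → F) ≃ₗ[F] ((Fin m ⊕ Fin m) ⊕ Fin 2 → F)) {c : F}
    (he : ∀ v, qfMinus m F a b (e v) = c * qfPlus (m + 1) F v) : False := by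
  obtain ⟨U, hU⟩ : ∃ U, U = coordTS (F := F) (m + 1) (fun _ => false) := ⟨_, rfl⟩
  obtain ⟨hUd, hUq⟩ := isMaxTS_coordTS (F := F) (m + 1) (fun _ => false)
  obtain ⟨W, hWd, hWq⟩ : ∃ W : Submodule F ((Fin m ⊕ Fin m) ⊕ Fin 2 → F),
      Module.finrank F W = m + 1 ∧ ∀ w ∈ W, qfMinus m F a b w = 0 := by
    refine ⟨U.map e.toLinearMap, by rw [LinearEquiv.finrank_map_eq, hU, hUd], ?_⟩
    rintro _ ⟨u, hu, rfl⟩
    show qfMinus m F a b (e u) = 0
    rw [he, qfPlus_apply, ← plusForm_coe, hUq u (hU ▸ hu), mul_zero]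
  obtain ⟨L, hL⟩ : ∃ L : W →ₗ[F] (Fin m → F), ∀ w i, L w i = w.1 (.inl (.inr i)) :=
    ⟨LinearMap.pi fun i => (LinearMap.proj (Sum.inl (Sum.inr i) : (Fin m ⊕ Fin m) ⊕ Fin 2)).comp W.subtype,
      fun w i => rfl⟩
  have hker : ∀ w ∈ LinearMap.ker L, ∀ j, (w : (Fin m ⊕ Fin m) ⊕ Fin 2 → F) (.inr j) = 0 := by
    intro w hw j
    have h1 := hWq _ w.2
    rw [qfMinus_apply, Cfsg.quadFormMinus, Finset.sum_eq_zero fun i _ => by
      rw [← hL w i, show L w = 0 from hw]; simp, zero_add] at h1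
    obtain ⟨h2, h3⟩ := hab _ _ h1
    fin_cases j
    · exact h2
    · exact h3
  have hpol : ∀ k ∈ LinearMap.ker L, ∀ w : W,
      ∑ i, (k : (Fin m ⊕ Fin m) ⊕ Fin 2 → F) (.inl (.inl i)) * L w i = 0 := by
    intro k hk w
    have h1 := polar_eq_zero_of_ts (qfMinus m F a b) hWq k.2 w.2
    rw [polar_qfMinus, hker k hk 0, hker k hk 1] at h1
    simp only [zero_mul, add_zero] at h1
    rw [← h1]
    refine Finset.sum_congr rfl fun i _ => ?_
    rw [← hL k i, show L k = 0 from hk, hL w i]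
    simp
  obtain ⟨Jx, hJx⟩ : ∃ Jx : W →ₗ[F] (Fin m ⊕ Fin m → F), ∀ w,
      Jx w = Sum.elim (fun i => (w : (Fin m ⊕ Fin m) ⊕ Fin 2 → F) (.inl (.inl i))) (0 : Fin m → F) :=
    ⟨{ toFun := fun w => Sum.elim (fun i => (w : (Fin m ⊕ Fin m) ⊕ Fin 2 → F) (.inl (.inl i))) (0 : Fin m → F)
       map_add' := fun p q => funext fun k => by rcases k with i | i <;> simp
       map_smul' := fun t p => funext fun k => by rcases k with i | i <;> simp }, fun w => rfl⟩
  obtain ⟨Jy, hJy⟩ : ∃ Jy : (Fin m → F) →ₗ[F] (Fin m ⊕ Fin m → F), ∀ y, Jy y = Sum.elim (0 : Fin m → F) y :=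
    ⟨{ toFun := fun y => Sum.elim (0 : Fin m → F) y
       map_add' := fun p q => funext fun k => by rcases k with i | i <;> simp
       map_smul' := fun t p => funext fun k => by rcases k with i | i <;> simp }, fun y => rfl⟩
  obtain ⟨A, hA⟩ : ∃ A, A = (LinearMap.ker L).map Jx := ⟨_, rfl⟩
  obtain ⟨B, hB⟩ : ∃ B, B = (LinearMap.range L).map Jy := ⟨_, rfl⟩
  have hAd : Module.finrank F A = Module.finrank F (LinearMap.ker L) := by
    rw [hA, ← LinearMap.range_domRestrict]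
    refine LinearMap.finrank_range_of_inj ((injective_iff_map_eq_zero _).2 fun p hp => ?_)
    have hp' : Sum.elim (fun i => (p.1 : (Fin m ⊕ Fin m) ⊕ Fin 2 → F) (.inl (.inl i))) (0 : Fin m → F) =
        (0 : Fin m ⊕ Fin m → F) := (hJx _).symm.trans hp
    refine Subtype.ext (Subtype.ext (funext fun k => ?_))
    rcases k with (i | i) | j
    · exact congrFun hp' (.inl i)
    · rw [← hL, show L p.1 = 0 from p.2]; rfl
    · exact hker _ p.2 j
  have hBd : Module.finrank F B = Module.finrank F (LinearMap.range L) := by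
    rw [hB]
    exact (Submodule.equivMapOfInjective Jy (fun x y h => funext fun i => by
      have := congrFun h (.inr i); simpa [hJy] using this) _).finrank_eq.symm
  have hAB : A ⊓ B = ⊥ := by
    rw [Submodule.eq_bot_iff, hA, hB]
    rintro _ ⟨⟨x, -, rfl⟩, ⟨y, -, hy⟩⟩
    funext k
    rcases k with i | i
    · rw [← hy, hJy]; rfl
    · rw [hJx]; rfl
  have hS : ∀ u ∈ A ⊔ B, plusForm m F u = 0 := by
    intro u hu
    rw [hA, hB] at hu
    obtain ⟨_, ⟨x, hx, rfl⟩, _, ⟨_, ⟨w, rfl⟩, rfl⟩, rfl⟩ := Submodule.mem_sup.1 hu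
    rw [plusForm_apply]
    simp only [hJx, hJy, Pi.add_apply, Sum.elim_inl, Sum.elim_inr, Pi.zero_apply, add_zero, zero_add]
    exact hpol x hx w
  have h1 := finrank_ts_le (plusForm m F) (plusForm_nondeg m) (m := m)
    (by rw [Module.finrank_fintype_fun_eq_card]; simp; omega) hS
  have h2 := Submodule.finrank_sup_add_finrank_inf_eq A B
  have h3 := L.finrank_range_add_finrank_ker
  rw [hAB, finrank_bot, hAd, hBd] at h2
  rw [hWd] at h3
  omega

theorem sum_pow_two_eq_zero_of_root {f : ℕ} (hF : Fintype.card F = 2 ^ f) {b z : F}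
    (hz : z ^ 2 + z + b = 0) : ∑ i ∈ Finset.range f, b ^ (2 ^ i) = 0 := by
  haveI : Fact (Nat.Prime 2) := ⟨Nat.prime_two⟩
  haveI : CharP F 2 := charP_of_card_eq_prime_pow hF
  have hb : b = z ^ 2 + z := by linear_combination hz - (z ^ 2 + z) * (CharTwo.two_eq_zero (R := F))
  have h1 : ∀ k, ∑ i ∈ Finset.range k, b ^ (2 ^ i) = z ^ (2 ^ k) + z := by
    intro k
    induction k with
    | zero => simp [CharTwo.add_self_eq_zero]
    | succ k ih =>
      rw [Finset.sum_range_succ, ih, hb, add_pow_char_pow, ← pow_mul, ← pow_succ']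
      linear_combination (z ^ (2 ^ k)) * (CharTwo.two_eq_zero (R := F))
  rw [h1, ← hF, FiniteField.pow_card, CharTwo.add_self_eq_zero]

/-- Minus forms over the same field are isometric. -/
theorem exists_minus_isometry (m : ℕ) {a b a' b' : F}
    (hab : ∀ z₁ z₂ : F, z₁ ^ 2 + a * z₁ * z₂ + b * z₂ ^ 2 = 0 → z₁ = 0 ∧ z₂ = 0)
    (hab' : ∀ z₁ z₂ : F, z₁ ^ 2 + a' * z₁ * z₂ + b' * z₂ ^ 2 = 0 → z₁ = 0 ∧ z₂ = 0) :
    ∃ e : ((Fin m ⊕ Fin m) ⊕ Fin 2 → F) ≃ₗ[F] ((Fin m ⊕ Fin m) ⊕ Fin 2 → F),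
      ∀ v, qfMinus m F a b (e v) = qfMinus m F a' b' v := by
  obtain ⟨t, r, hr, ha, hb⟩ := exists_binary_subst hab hab'
  have hdet : (minusMat m (1 : F) !![1, t; 0, r]).det ≠ 0 := by
    rw [minusMat_det, one_pow, one_mul, Matrix.det_fin_two_of]; simpa using hr
  obtain ⟨L, hL⟩ := glOfEquiv_bijective.2 (Matrix.GeneralLinearGroup.mkOfDetNeZero _ hdet)
  refine ⟨L, fun v => ?_⟩
  rw [← glOfEquiv_mulVec L, hL]
  show qfMinus m F a b (minusMat m 1 !![1, t; 0, r] *ᵥ v) = _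
  rw [qfMinus_minusMat m (a' := a') (b' := b') (fun z => ?_), one_mul]
  simp [binForm_apply, Matrix.mulVec, dotProduct, Fin.sum_univ_two]
  linear_combination (z 0 * z 1) * ha + (z 1) ^ 2 * hb

variable {F₀ : Type v} [Field F₀] [Fintype F₀] (ι₀ : F₀ →+* F)

/-- An anisotropic form stays so in an extension of odd degree, and becomes isotropic in degree two. -/
theorem anisotropic_map_iff {r : ℕ} (hcard : Fintype.card F = Fintype.card F₀ ^ r) {a b : F₀}
    (hab : ∀ z₁ z₂ : F₀, z₁ ^ 2 + a * z₁ * z₂ + b * z₂ ^ 2 = 0 → z₁ = 0 ∧ z₂ = 0) :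
    (Odd r → ∀ z₁ z₂ : F, z₁ ^ 2 + ι₀ a * z₁ * z₂ + ι₀ b * z₂ ^ 2 = 0 → z₁ = 0 ∧ z₂ = 0) ∧
    (Even r → ∃ z₁ z₂ : F, z₁ ^ 2 + ι₀ a * z₁ * z₂ + ι₀ b * z₂ ^ 2 = 0 ∧ z₂ ≠ 0) := by
  by_cases h2 : (2 : F₀) = 0
  · have h2F : (2 : F) = 0 := by rw [← map_ofNat ι₀ 2, h2, map_zero]
    haveI : Fact (Nat.Prime 2) := ⟨Nat.prime_two⟩
    haveI : CharP F₀ 2 := CharTwo.of_one_ne_zero_of_two_eq_zero one_ne_zero h2
    obtain ⟨g, hg, hF₀⟩ := FiniteField.card F₀ 2
    have hF : Fintype.card F = 2 ^ ((g : ℕ) * r) := by rw [hcard, hF₀, ← pow_mul]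
    have ha : a ≠ 0 := (two_ne_zero_or_ne_zero hab).resolve_left (not_not.2 h2)
    have hb0 : ∀ z : F₀, z ^ 2 + z + b / (a * a) ≠ 0 := fun z hz =>
      one_ne_zero ((hab (a * z) 1 (by field_simp at hz; linear_combination hz)).2)
    have h1 := artinSchreier_sum_eq_one g.pos hF₀ _ hb0
    have hsum : ∑ i ∈ Finset.range ((g : ℕ) * r), (ι₀ (b / (a * a))) ^ (2 ^ i) = (r : F) := by
      clear hcard hF
      induction r with
      | zero => simp
      | succ k ih =>
        rw [Nat.mul_succ, Finset.sum_range_add, ih, Nat.cast_succ]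
        congr 1
        rw [← map_one ι₀, ← h1, map_sum]
        refine Finset.sum_congr rfl fun i _ => ?_
        rw [map_pow, pow_add, pow_mul]
        congr 1
        rw [← map_pow, pow_mul, ← hF₀, FiniteField.pow_card_pow]
    have h0 : ι₀ a ≠ 0 := (map_ne_zero ι₀).2 ha
    refine ⟨fun hr z₁ z₂ hz => ?_, fun hr => ?_⟩
    · by_cases hz2 : z₂ = 0
      · subst hz2
        exact ⟨pow_eq_zero_iff two_ne_zero |>.1 (by linear_combination hz), rfl⟩
      exfalso
      haveI : CharP F 2 := CharTwo.of_one_ne_zero_of_two_eq_zero one_ne_zero h2F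
      have := sum_pow_two_eq_zero_of_root hF (b := ι₀ (b / (a * a))) (z := z₁ / (ι₀ a * z₂))
        (by rw [map_div₀, map_mul]; field_simp; linear_combination hz)
      rw [hsum] at this
      obtain ⟨k, rfl⟩ := hr
      rw [Nat.cast_add, Nat.cast_one, Nat.cast_mul, Nat.cast_two, h2F, zero_mul, zero_add] at this
      exact one_ne_zero this
    · haveI : CharP F 2 := CharTwo.of_one_ne_zero_of_two_eq_zero one_ne_zero h2F
      by_contra hno
      push Not at hno
      have hr0 : 1 ≤ (g : ℕ) * r := by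
        rcases Nat.eq_zero_or_pos ((g : ℕ) * r) with h | h
        · rw [h, pow_zero] at hF; exact absurd hF (Fintype.one_lt_card (α := F)).ne'
        · exact h
      have := artinSchreier_sum_eq_one hr0 hF (ι₀ (b / (a * a))) fun z hz =>
        one_ne_zero (hno (ι₀ a * z) 1 (by rw [map_div₀, map_mul] at hz; field_simp at hz; linear_combination hz))
      rw [hsum] at this
      obtain ⟨k, rfl⟩ := hr
      rw [Nat.cast_add, show (k : F) + k = 2 * k by ring, h2F, zero_mul] at this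
      exact zero_ne_one this
  · have h2F : (2 : F) ≠ 0 := fun h => h2 (ι₀.injective (by rw [map_ofNat, map_zero]; exact h))
    have hD := not_isSquare_disc h2 a b hab
    refine ⟨fun hr z₁ z₂ hz => ?_, fun hr => ?_⟩
    · by_cases hz2 : z₂ = 0
      · subst hz2
        exact ⟨pow_eq_zero_iff two_ne_zero |>.1 (by linear_combination hz), rfl⟩
      exfalso
      refine not_isSquare_map_of_odd ι₀ hr hcard h2F hD ⟨2 * (z₁ / z₂) + ι₀ a, ?_⟩
      rw [map_sub, map_mul, map_mul, map_ofNat]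
      field_simp
      linear_combination -4 * hz
    · obtain ⟨t, ht⟩ := isSquare_map_of_even ι₀ hr hcard h2F (a * a - 4 * b)
      refine ⟨(-ι₀ a + t) / 2, 1, ?_, one_ne_zero⟩
      rw [map_sub, map_mul, map_mul, map_ofNat] at ht
      field_simp
      linear_combination -ht

omit [Fintype F] [Fintype F₀] in
theorem qfMinus_baseChange (m : ℕ) (a b : F₀) (v : (Fin m ⊕ Fin m) ⊕ Fin 2 → F₀) :
    ι₀ (qfMinus m F₀ a b v) = qfMinus m F (ι₀ a) (ι₀ b) fun i => ι₀ (v i) := by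
  simp [qfMinus_apply, Cfsg.quadFormMinus, map_sum]

omit [Fintype F] [Fintype F₀] in
theorem qfPlus_baseChange (m : ℕ) (v : Fin m ⊕ Fin m → F₀) :
    ι₀ (qfPlus m F₀ v) = qfPlus m F fun i => ι₀ (v i) := by
  simp [qfPlus_apply, Cfsg.quadFormPlus, map_sum]

end CfsgLib.KnownC
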