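import Mathlib
import Cfsg.Agent.Lib.KnownC.AutPOmegaMinusAlg
import Cfsg.Agent.Lib.KnownC.AutPOmegaOddField
import Cfsg.Agent.Lib.KnownC.AutPOmegaFieldEven
import Cfsg.Agent.Lib.KnownC.AutPOmegaTypes

set_option autoImplicit false
set_option linter.unusedSectionVars false
set_option linter.style.haveILetI false

/-!
Diagonal isometries of a family of hyperbolic pairs and their spinor norms.
-/

namespace CfsgLib.KnownC

open CfsgLib.Geom CfsgLib.Classical
open QuadraticMap (polar)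
open Matrix

universe u v

variable {F : Type u} [Field F] {ι : Type} [Fintype ι] [DecidableEq ι] {Q : QuadraticForm F (ι → F)}

/-- The diagonal isometry of one hyperbolic pair. -/
theorem exists_pair_torus (hsep : ∀ x, (∀ y, polar Q x y = 0) → x = 0)
    (hex : (∃ t : F, t ≠ 0 ∧ t ≠ 1) ∨ Module.finrank F (ι → F) ≠ 4) {e f : ι → F} (he : Q e = 0)
    (hf : Q f = 0) (hef : polar Q e f = 1) {s : F} (hs : s ≠ 0) :
    ∃ g : Cfsg.isometryGroup F (⇑Q), spinorHom Q hsep hex g = (1, sqClass hs) ∧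
      ∀ v, g.1.1 *ᵥ v = v + (((s - 1) * polar Q f v) • e + ((s⁻¹ - 1) * polar Q e v) • f) := by
  have hval : ∀ t : F, Q (e - t • f) = -t := fun t => by
    rw [sub_eq_add_neg, ← neg_smul, quad_map_add_smul, he, hf, hef]; ring
  have h1 : Q (e - (1 : F) • f) ≠ 0 := by rw [hval]; exact neg_ne_zero.2 one_ne_zero
  have h2 : Q (e - s • f) ≠ 0 := by rw [hval]; exact neg_ne_zero.2 hs
  refine ⟨reflIsom Q _ h1 * reflIsom Q _ h2, ?_, fun v => ?_⟩
  · rw [map_mul, spinorHom_reflIsom, spinorHom_reflIsom]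
    refine Prod.ext multiplicative_zmod_two_mul ?_
    show sqClass h1 * sqClass h2 = sqClass hs
    rw [← sqClass_mul h1 h2, sqClass, sqClass]
    exact congrArg (sqProj F) (Units.ext (by
      show Q (e - (1 : F) • f) * Q (e - s • f) = s
      rw [hval, hval]; ring))
  · rw [Subgroup.coe_mul, Units.val_mul, ← mulVec_mulVec, reflIsom_mulVec, reflIsom_mulVec, hval, hval]
    have hfe : polar Q f e = 1 := by rw [QuadraticMap.polar_comm, hef]
    have hee : polar Q e e = 0 := by rw [polar_self_two, he, mul_zero]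
    have hff : polar Q f f = 0 := by rw [polar_self_two, hf, mul_zero]
    simp only [sub_eq_add_neg, ← neg_smul, QuadraticMap.polar_add_left, QuadraticMap.polar_add_right,
      QuadraticMap.polar_smul_left, QuadraticMap.polar_smul_right, hee, hff, hef, hfe, smul_eq_mul]
    generalize polar Q e v = p
    generalize polar Q f v = q
    ext i
    simp only [Pi.add_apply, Pi.smul_apply, smul_eq_mul]
    field_simp
    ring

/-- The diagonal isometry of a family of mutually orthogonal hyperbolic pairs. -/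
theorem exists_torus (hsep : ∀ x, (∀ y, polar Q x y = 0) → x = 0)
    (hex : (∃ t : F, t ≠ 0 ∧ t ≠ 1) ∨ Module.finrank F (ι → F) ≠ 4) {κ : Type} [DecidableEq κ]
    {e f : κ → ι → F} (he : ∀ i, Q (e i) = 0) (hf : ∀ i, Q (f i) = 0)
    (hef : ∀ i j, polar Q (e i) (f j) = if i = j then 1 else 0)
    (hee : ∀ i j, i ≠ j → polar Q (e i) (e j) = 0) (hff : ∀ i j, i ≠ j → polar Q (f i) (f j) = 0)
    {d : κ → F} (hd : ∀ i, d i ≠ 0) (S : Finset κ) :
    ∃ g : Cfsg.isometryGroup F (⇑Q),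
      spinorHom Q hsep hex g = (1, sqClass (Finset.prod_ne_zero_iff.2 fun i (_ : i ∈ S) => hd i)) ∧
      ∀ v, g.1.1 *ᵥ v =
        v + ∑ i ∈ S, (((d i - 1) * polar Q (f i) v) • e i + (((d i)⁻¹ - 1) * polar Q (e i) v) • f i) := by
  induction S using Finset.induction_on with
  | empty =>
    refine ⟨1, ?_, fun v => by simp⟩
    rw [map_one]
    exact Prod.ext rfl ((sqClass_eq_one_iff _).2 ⟨1, by simp⟩).symm
  | insert a S ha ih =>
    obtain ⟨g', hg', hg'v⟩ := ih
    obtain ⟨g, hg, hgv⟩ := exists_pair_torus hsep hex (he a) (hf a) (by rw [hef, if_pos rfl]) (hd a)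
    refine ⟨g * g', ?_, fun v => ?_⟩
    · rw [map_mul, hg, hg']
      refine Prod.ext (one_mul _) ?_
      show sqClass _ * sqClass _ = sqClass _
      rw [← sqClass_mul, sqClass, sqClass]
      exact congrArg (sqProj F) (Units.ext (Finset.prod_insert ha).symm)
    · rw [Subgroup.coe_mul, Units.val_mul, ← mulVec_mulVec, hg'v, hgv, Finset.sum_insert ha]
      have hz : ∀ w : ι → F, (∀ i ∈ S, polar Q w (e i) = 0 ∧ polar Q w (f i) = 0) →
          polar Q w (v + ∑ i ∈ S, (((d i - 1) * polar Q (f i) v) • e i +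
            (((d i)⁻¹ - 1) * polar Q (e i) v) • f i)) = polar Q w v := by
        intro w hw
        rw [QuadraticMap.polar_add_right, ← QuadraticMap.polarBilin_apply_apply, ← QuadraticMap.polarBilin_apply_apply,
          map_sum, Finset.sum_eq_zero, add_zero]
        intro i hi
        rw [map_add, map_smul, map_smul, QuadraticMap.polarBilin_apply_apply, QuadraticMap.polarBilin_apply_apply,
          (hw i hi).1, (hw i hi).2, smul_zero, smul_zero, add_zero]
      have hne : ∀ i ∈ S, a ≠ i := fun i hi h => ha (h ▸ hi)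
      rw [hz (f a) fun i hi => ⟨by rw [QuadraticMap.polar_comm, hef, if_neg (hne i hi).symm], hff a i (hne i hi)⟩,
        hz (e a) fun i hi => ⟨hee a i (hne i hi), by rw [hef, if_neg (hne i hi)]⟩]
      abel

/-- A square root of a non-square of the subfield is a square in the quadratic extension iff `q ≡ 3 (mod 4)`. -/
theorem isSquare_sqrt_iff [Fintype F] {F₀ : Type v} [Field F₀] [Fintype F₀] (ι₀ : F₀ →+* F)
    (hcard : Fintype.card F = Fintype.card F₀ ^ 2) (h2 : (2 : F) ≠ 0) {μ : F₀} (hμ : ¬ IsSquare μ) {s : F}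
    (hs : ι₀ μ = s * s) : IsSquare s ↔ Fintype.card F₀ % 4 = 3 := by
  have hc : ringChar F ≠ 2 := ringChar_ne_two_of_ne h2
  have h20 : (2 : F₀) ≠ 0 := fun h => h2 (by rw [← map_ofNat ι₀ 2, h, map_zero])
  have hc0 : ringChar F₀ ≠ 2 := ringChar_ne_two_of_ne h20
  have hμ0 : μ ≠ 0 := fun h => hμ (h ▸ IsSquare.zero)
  have hs0 : s ≠ 0 := fun h => (map_ne_zero ι₀).2 hμ0 (by rw [hs, h, mul_zero])
  obtain ⟨t, ht⟩ : Odd (Fintype.card F₀) := Nat.odd_iff.2 (FiniteField.odd_card_of_char_ne_two hc0)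
  have hneg : μ ^ t = -1 := by
    rw [show t = Fintype.card F₀ / 2 by omega]
    exact (FiniteField.pow_dichotomy hc0 hμ0).resolve_left (mt (FiniteField.isSquare_iff hc0 hμ0).2 hμ)
  have hexp : Fintype.card F / 2 = 2 * t * (t + 1) := by
    rw [hcard, ht, show (2 * t + 1) ^ 2 = 1 + 2 * (2 * t * (t + 1)) by ring, Nat.add_mul_div_left _ _ two_pos]
    simp
  rw [FiniteField.isSquare_iff hc hs0, hexp, pow_mul, pow_mul, pow_two, ← hs, ← map_pow, hneg, map_neg,
    map_one, neg_one_pow_eq_one_iff_even (fun h => h2 (by linear_combination -h))]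
  have h4 : Fintype.card F₀ % 4 = 3 ↔ t % 2 = 1 := by omega
  rw [h4, Nat.even_add_one, Nat.not_even_iff]

/-- Powers of such a square root. -/
theorem isSquare_sqrt_pow_iff [Fintype F] {F₀ : Type v} [Field F₀] [Fintype F₀] (ι₀ : F₀ →+* F)
    (hcard : Fintype.card F = Fintype.card F₀ ^ 2) (h2 : (2 : F) ≠ 0) {μ : F₀} (hμ : ¬ IsSquare μ) {s : F}
    (hs : ι₀ μ = s * s) (n : ℕ) : IsSquare (s ^ n) ↔ ¬ (Odd n ∧ Fintype.card F₀ % 4 = 1) := by
  have hodd : Fintype.card F₀ % 4 = 1 ∨ Fintype.card F₀ % 4 = 3 := by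
    have := FiniteField.odd_card_of_char_ne_two (ringChar_ne_two_of_ne (F := F₀)
      fun h => h2 (by rw [← map_ofNat ι₀ 2, h, map_zero]))
    omega
  rcases Nat.even_or_odd' n with ⟨k, rfl | rfl⟩
  · exact iff_of_true ⟨s ^ k, by ring⟩ fun h => Nat.not_even_iff_odd.2 h.1 (even_two_mul k)
  · have hμ0 : μ ≠ 0 := fun h => hμ (h ▸ IsSquare.zero)
    have hs0 : s ≠ 0 := fun h => (map_ne_zero ι₀).2 hμ0 (by rw [hs, h, mul_zero])
    have h1 : IsSquare (s ^ (2 * k + 1)) ↔ IsSquare s := by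
      refine ⟨fun ⟨w, hw⟩ => ⟨w / s ^ k, ?_⟩, fun h => h.pow _⟩
      rw [div_mul_div_comm, ← hw]
      field_simp
      ring
    rw [h1, isSquare_sqrt_iff ι₀ hcard h2 hμ hs]
    refine ⟨fun h h' => by omega, fun h => hodd.resolve_left fun h' => h ⟨⟨k, rfl⟩, h'⟩⟩

section Models

variable [Fintype F]

/-- The diagonal similitude of the plus form. -/
theorem exists_plus_similitude (m : ℕ) {μ : F} (hμ : μ ≠ 0) :
    ∃ g : GL (Fin m ⊕ Fin m) F, g.1 = Matrix.diagonal (Sum.elim (fun _ => μ) fun _ => 1) ∧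
      (∀ v, qfPlus m F (g.1 *ᵥ v) = μ * qfPlus m F v) ∧ ((2 : F) ≠ 0 → IsProperSim (qfPlus m F) m g) := by
  have hdet : (Matrix.diagonal (Sum.elim (fun _ : Fin m => μ) fun _ : Fin m => (1 : F))).det = μ ^ m := by
    simp [Fintype.prod_sum_type]
  have hq : ∀ v, qfPlus m F (Matrix.diagonal (Sum.elim (fun _ : Fin m => μ) fun _ : Fin m => (1 : F)) *ᵥ v) =
      μ * qfPlus m F v := fun v => by
    simp only [qfPlus_apply, Cfsg.quadFormPlus, Matrix.mulVec_diagonal, Sum.elim_inl, Sum.elim_inr,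
      one_mul, mul_assoc, Finset.mul_sum]
  refine ⟨Matrix.GeneralLinearGroup.mkOfDetNeZero
    (Matrix.diagonal (Sum.elim (fun _ : Fin m => μ) fun _ : Fin m => (1 : F))) (hdet ▸ pow_ne_zero _ hμ), rfl, hq,
    fun h2 => ⟨μ, hμ, hq, fun _ => hdet, fun h0 => absurd h0 h2⟩⟩

theorem polar_qfPlus_single {m : ℕ} (i : Fin m) (v : Fin m ⊕ Fin m → F) :
    polar (qfPlus m F) (Pi.single (.inl i) 1) v = v (.inr i) ∧
      polar (qfPlus m F) (Pi.single (.inr i) 1) v = v (.inl i) := by
  constructor <;>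
    simp [QuadraticMap.polar, qfPlus_apply, Cfsg.quadFormPlus, mul_add, add_mul, Finset.sum_add_distrib,
      Pi.single_apply]

/-- The diagonal isometry of the plus form. -/
theorem exists_plus_torus (m : ℕ) (hex : (∃ t : F, t ≠ 0 ∧ t ≠ 1) ∨ Module.finrank F (Fin m ⊕ Fin m → F) ≠ 4)
    {s : F} (hs : s ≠ 0) :
    ∃ g : Cfsg.isometryGroup F (⇑(qfPlus m F)),
      spinorHom (qfPlus m F) (qfPlus_sep m) hex g = (1, sqClass (pow_ne_zero m hs)) ∧
      g.1.1 = Matrix.diagonal (Sum.elim (fun _ => s) fun _ => s⁻¹) := by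
  have h0 : ∀ k : Fin m ⊕ Fin m, qfPlus m F (Pi.single k 1) = 0 := fun k => by
    rcases k with i | i <;> simp [qfPlus_apply, Cfsg.quadFormPlus, Pi.single_apply]
  obtain ⟨g, hg, hgv⟩ := exists_torus (Q := qfPlus m F) (qfPlus_sep m) hex
    (e := fun i => Pi.single (.inl i) 1) (f := fun i => Pi.single (.inr i) 1)
    (fun i => h0 _) (fun i => h0 _) (fun i j => by rw [(polar_qfPlus_single i _).1]; simp [Pi.single_apply, eq_comm])
    (fun i j hij => by rw [(polar_qfPlus_single i _).1]; simp [Pi.single_apply])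
    (fun i j hij => by rw [(polar_qfPlus_single i _).2]; simp [Pi.single_apply])
    (d := fun _ => s) (fun _ => hs) Finset.univ
  refine ⟨g, hg.trans ?_, Matrix.ext_iff_mulVec.2 fun v => ?_⟩
  · rw [sqClass, sqClass]
    exact congrArg (fun u => (1, sqProj F u)) (Units.ext (by simp))
  · rw [hgv]
    funext k
    rw [Matrix.mulVec_diagonal]
    simp only [(polar_qfPlus_single _ v).1, (polar_qfPlus_single _ v).2]
    rcases k with i | i <;>
      simp [Finset.sum_apply, Pi.single_apply, Finset.sum_add_distrib] <;> ring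

/-- A similitude of `Σ x y + z₁² - ν z₂²` acting as a twist on the binary part. -/
theorem exists_twist_similitude (k : ℕ) (h2 : (2 : F) ≠ 0) {ν μ : F} (hν : ν ≠ 0) (hμ : μ ≠ 0) :
    ∃ (g : GL ((Fin k ⊕ Fin k) ⊕ Fin 2) F) (u t : F), u ^ 2 - ν * t ^ 2 = μ ∧
      g.1 = minusMat k μ !![u, ν * t; t, u] ∧
      (∀ v, qfMinus k F 0 (-ν) (g.1 *ᵥ v) = μ * qfMinus k F 0 (-ν) v) ∧
      IsProperSim (qfMinus k F 0 (-ν)) (k + 1) g := by
  obtain ⟨w, hw⟩ := exists_value (binForm (0 : F) (-ν)) h2 (fun x hx => by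
      have e0 := hx ![1, 0]
      have e1 := hx ![0, 1]
      simp [binForm_polar, h2, hν] at e0 e1
      funext i; fin_cases i <;> assumption) (by simp) μ hμ
  obtain ⟨u, t, hut⟩ : ∃ u t : F, u ^ 2 - ν * t ^ 2 = μ :=
    ⟨w 0, w 1, by rw [binForm_apply] at hw; linear_combination hw⟩
  have hdet : (minusMat k μ !![u, ν * t; t, u]).det = μ ^ (k + 1) := by
    rw [minusMat_det, twist_det, hut, pow_succ]
  have hq := qfMinus_minusMat k (a := (0 : F)) (b := -ν) (a' := 0) (b' := -ν) (d := μ)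
    (A := !![u, ν * t; t, u]) fun z => by rw [binForm_twist, hut]
  exact ⟨Matrix.GeneralLinearGroup.mkOfDetNeZero (minusMat k μ !![u, ν * t; t, u]) (hdet ▸ pow_ne_zero _ hμ),
    u, t, hut, rfl, hq,
    ⟨μ, hμ, hq, fun _ => hdet, fun h0 => absurd h0 h2⟩⟩

/-- The diagonal isometry of `Σ x y + z₁² - ε² z₂²`. -/
theorem exists_split_torus (k : ℕ) (h2 : (2 : F) ≠ 0) {ν ε : F} (hε : ε ≠ 0) (hν : ν = ε * ε)
    (hsep : ∀ x, (∀ y, polar (qfMinus k F 0 (-ν)) x y = 0) → x = 0)
    (hex : (∃ t : F, t ≠ 0 ∧ t ≠ 1) ∨ Module.finrank F ((Fin k ⊕ Fin k) ⊕ Fin 2 → F) ≠ 4)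
    {s d : F} (hs : s ≠ 0) (hd : d ≠ 0) :
    ∃ g : Cfsg.isometryGroup F (⇑(qfMinus k F 0 (-ν))),
      spinorHom (qfMinus k F 0 (-ν)) hsep hex g = (1, sqClass (mul_ne_zero hd (pow_ne_zero k hs))) ∧
      ∀ v, g.1.1 *ᵥ v = Sum.elim (fun i => Sum.elim (fun _ => s) (fun _ => s⁻¹) i * v (.inl i))
        ![((d + d⁻¹) * v (.inr 0) + ε * (d - d⁻¹) * v (.inr 1)) / 2,
          ((d - d⁻¹) * v (.inr 0) / ε + (d + d⁻¹) * v (.inr 1)) / 2] := by
  subst hν
  obtain ⟨e, he⟩ : ∃ e : Option (Fin k) → (Fin k ⊕ Fin k) ⊕ Fin 2 → F, e = fun o => o.elim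
      (Sum.elim (fun _ => 0) ![1 / 2, 1 / (2 * ε)]) (fun i => Pi.single (.inl (.inl i)) 1) := ⟨_, rfl⟩
  obtain ⟨f, hf⟩ : ∃ f : Option (Fin k) → (Fin k ⊕ Fin k) ⊕ Fin 2 → F, f = fun o => o.elim
      (Sum.elim (fun _ => 0) ![1 / 2, -(1 / (2 * ε))]) (fun i => Pi.single (.inl (.inr i)) 1) := ⟨_, rfl⟩
  have hpe : ∀ o v, polar (qfMinus k F 0 (-(ε * ε))) (e o) v =
      o.elim (v (.inr 0) - ε * v (.inr 1)) (fun i => v (.inl (.inr i))) := by
    intro o v
    rw [he, polar_qfMinus]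
    rcases o with - | i
    · simp
      field_simp
      ring
    · simp [Pi.single_apply]
  have hpf : ∀ o v, polar (qfMinus k F 0 (-(ε * ε))) (f o) v =
      o.elim (v (.inr 0) + ε * v (.inr 1)) (fun i => v (.inl (.inl i))) := by
    intro o v
    rw [hf, polar_qfMinus]
    rcases o with - | i
    · simp
      field_simp
    · simp [Pi.single_apply]
  obtain ⟨g, hg, hgv⟩ := exists_torus (Q := qfMinus k F 0 (-(ε * ε))) hsep hex (e := e) (f := f)
    (fun o => by
      rw [he]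
      rcases o with - | i
      · simp [qfMinus_apply, Cfsg.quadFormMinus]; field_simp; ring
      · simp [qfMinus_apply, Cfsg.quadFormMinus, Pi.single_apply])
    (fun o => by
      rw [hf]
      rcases o with - | i
      · simp [qfMinus_apply, Cfsg.quadFormMinus]; field_simp; ring
      · simp [qfMinus_apply, Cfsg.quadFormMinus, Pi.single_apply])
    (fun o o' => by
      rw [hpe, hf]
      rcases o with - | i <;> rcases o' with - | j <;> simp [Pi.single_apply, eq_comm]
      field_simp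
      ring)
    (fun o o' h => by
      rw [hpe, he]
      rcases o with - | i <;> rcases o' with - | j <;> simp [Pi.single_apply]
      · exact absurd rfl h)
    (fun o o' h => by
      rw [hpf, hf]
      rcases o with - | i <;> rcases o' with - | j <;> simp [Pi.single_apply]
      · exact absurd rfl h)
    (d := fun o => o.elim d fun _ => s) (fun o => by rcases o with - | i; exacts [hd, hs]) Finset.univ
  refine ⟨g, hg.trans ?_, fun v => ?_⟩
  · rw [sqClass, sqClass]
    exact congrArg (fun u => (1, sqProj F u)) (Units.ext (by simp [Fintype.prod_option]))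
  · rw [hgv]
    funext j
    simp only [hpe, hpf]
    rw [he, hf, Pi.add_apply, Finset.sum_apply, Fintype.sum_option]
    rcases j with (j | j) | j
    · simp [Pi.single_apply]; ring
    · simp [Pi.single_apply]; ring
    · fin_cases j <;> simp [Pi.single_apply] <;> field_simp <;> ring

end Models

end CfsgLib.KnownC
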