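import Mathlib
import Cfsg.Agent.Lib.KnownC.AutPOmegaTorus
import Cfsg.Agent.Lib.KnownC.AutPOmegaProper
import Cfsg.Agent.Lib.Geom.NegOne
import Cfsg.Agent.Lib.Geom.FormClass

set_option autoImplicit false
set_option linter.unusedSectionVars false
set_option linter.style.haveILetI false

/-!
Membership in `Ω` through the spinor norm and the Dickson invariant: words in reflections, negated hyperbolic
pairs, corrections by tori, and transitivity on totally singular subspaces and on non-singular points.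
-/

namespace CfsgLib.KnownC

open CfsgLib.Geom CfsgLib.Classical
open QuadraticMap (polar)
open Matrix

universe u

variable {F : Type u} [Field F] {ι : Type} [Fintype ι] [DecidableEq ι] {Q : QuadraticForm F (ι → F)}

theorem zmodTwo_cases : ∀ x : Multiplicative (ZMod 2), x = 1 ∨ x = Multiplicative.ofAdd 1 := by decide

theorem zmodTwo_ofAdd_mul :
    Multiplicative.ofAdd (1 : ZMod 2) * Multiplicative.ofAdd 1 = 1 := by decide

theorem list_prod_ne_zero_of_values {vs : List (ι → F)} (hvs : ∀ v ∈ vs, Q v ≠ 0) :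
    (vs.map fun v => Q v).prod ≠ 0 := by
  refine List.prod_ne_zero fun h => ?_
  obtain ⟨v, hv, he⟩ := List.mem_map.1 h
  exact hvs v hv he

section Any

variable (hsep : ∀ x, (∀ y, polar Q x y = 0) → x = 0)
variable (hex : (∃ t : F, t ≠ 0 ∧ t ≠ 1) ∨ Module.finrank F (ι → F) ≠ 4)
include hsep hex

theorem spinorHom_reflection_word (vs : List (ι → F)) (hvs : ∀ v ∈ vs, Q v ≠ 0) :
    ∀ g : Cfsg.isometryGroup F (⇑Q), g.1.1 = (vs.map fun v => Cfsg.reflectionMatrix (⇑Q) v).prod →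
      spinorHom Q hsep hex g =
        (Multiplicative.ofAdd (vs.length : ZMod 2), sqClass (list_prod_ne_zero_of_values hvs)) := by
  induction vs with
  | nil =>
    intro g hg
    have h1 : g = 1 := Subtype.ext (Units.ext (by simpa using hg))
    rw [h1, map_one]
    exact Prod.ext (by simp) ((sqClass_eq_one_iff _).2 (by simp)).symm
  | cons v vs ih =>
    intro g hg
    have hv : Q v ≠ 0 := hvs v (List.mem_cons_self ..)
    have hg' : ((reflIsom Q v hv)⁻¹ * g).1.1 = (vs.map fun v => Cfsg.reflectionMatrix (⇑Q) v).prod := by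
      rw [Subgroup.coe_mul, Units.val_mul, hg, List.map_cons, List.prod_cons, ← reflIsom_coe v hv, ← mul_assoc,
        Subgroup.coe_inv, Units.inv_mul, one_mul]
    rw [show g = reflIsom Q v hv * ((reflIsom Q v hv)⁻¹ * g) from (mul_inv_cancel_left _ g).symm, map_mul,
      spinorHom_reflIsom, ih (fun w hw => hvs w (List.mem_cons_of_mem _ hw)) _ hg']
    refine Prod.ext ?_ ?_
    · show Multiplicative.ofAdd 1 * Multiplicative.ofAdd _ = _
      rw [← ofAdd_add, List.length_cons, Nat.cast_succ, add_comm]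
    · show sqClass hv * sqClass _ = sqClass _
      rw [← sqClass_mul, sqClass, sqClass]
      exact congrArg (sqProj F) (Units.ext (by simp))

theorem exists_reflection_word (g : Cfsg.isometryGroup F (⇑Q)) :
    ∃ vs : List (ι → F), (∀ v ∈ vs, Q v ≠ 0) ∧
      g.1.1 = (vs.map fun v => Cfsg.reflectionMatrix (⇑Q) v).prod := by
  obtain ⟨L, hL⟩ := exists_reflWord Q (g := ((orEquiv Q).symm g).1) (by
    rw [← quadIsoms_eq_closure Q hsep hex]; exact ((orEquiv Q).symm g).2)
  refine ⟨L.map (·.1), fun v hv => ?_, ?_⟩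
  · obtain ⟨w, -, rfl⟩ := List.mem_map.1 hv; exact w.2
  have hg : g.1 = glOfEquiv (reflWord Q L) := by
    rw [hL, ← orEquiv_coe, MulEquiv.apply_symm_apply]
  rw [hg, reflWord, map_list_prod]
  rw [← Units.coeHom_apply, map_list_prod, List.map_map, List.map_map, List.map_map]
  congr 1
  exact List.map_congr_left fun w _ => glOfEquiv_reflEquiv Q w.1 w.2

/-- Negation of a family of hyperbolic pairs. -/
theorem exists_neg_pairs {κ : Type} [DecidableEq κ] {e f : κ → ι → F} (he : ∀ i, Q (e i) = 0)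
    (hf : ∀ i, Q (f i) = 0) (hef : ∀ i j, polar Q (e i) (f j) = if i = j then 1 else 0)
    (hee : ∀ i j, i ≠ j → polar Q (e i) (e j) = 0) (hff : ∀ i j, i ≠ j → polar Q (f i) (f j) = 0)
    (S : Finset κ) :
    ∃ g : Cfsg.isometryGroup F (⇑Q),
      spinorHom Q hsep hex g =
        (1, sqClass (pow_ne_zero S.card (neg_ne_zero.2 (one_ne_zero : (1 : F) ≠ 0)))) ∧
      ∀ v, g.1.1 *ᵥ v = v + ∑ i ∈ S, ((-2 * polar Q (f i) v) • e i + (-2 * polar Q (e i) v) • f i) := by
  obtain ⟨g, hg, hgv⟩ := exists_torus hsep hex he hf hef hee hff (d := fun _ => (-1 : F))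
    (fun _ => neg_ne_zero.2 one_ne_zero) S
  refine ⟨g, hg.trans ?_, fun v => ?_⟩
  · rw [sqClass, sqClass]
    exact congrArg (fun u => (1, sqProj F u)) (Units.ext (by simp))
  · rw [hgv]
    refine congrArg (v + ·) (Finset.sum_congr rfl fun i _ => ?_)
    norm_num

/-- An isometry with vanishing Dickson invariant enters `Ω` after multiplication by a torus element of a
hyperbolic pair. -/
theorem exists_torus_correction [Finite F] {e f : ι → F} (he : Q e = 0) (hf : Q f = 0) (hef : polar Q e f = 1)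
    {g : Cfsg.isometryGroup F (⇑Q)} (hg : (spinorHom Q hsep hex g).1 = 1) :
    ∃ (s : F) (t : Cfsg.isometryGroup F (⇑Q)), s ≠ 0 ∧
      (∀ v, t.1.1 *ᵥ v = v + (((s - 1) * polar Q f v) • e + ((s⁻¹ - 1) * polar Q e v) • f)) ∧
      g * t ∈ Cfsg.Omega F (⇑Q) ∧ t * g ∈ Cfsg.Omega F (⇑Q) := by
  obtain ⟨w, hw⟩ := sqProj_surjective F (spinorHom Q hsep hex g).2
  obtain ⟨t, ht, htv⟩ := exists_pair_torus hsep hex he hf hef w.ne_zero
  have h1 : spinorHom Q hsep hex g * spinorHom Q hsep hex t = 1 := by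
    rw [ht]
    refine Prod.ext (by rw [Prod.fst_mul, hg]; exact one_mul _) ?_
    show (spinorHom Q hsep hex g).2 * sqClass w.ne_zero = 1
    rw [← hw, show sqClass w.ne_zero = sqProj F w by simp [sqClass], sqClass_mul_self]
  refine ⟨w, t, w.ne_zero, htv, ?_, ?_⟩
  · rwa [omega_eq_ker_spinorHom Q hsep hex, MonoidHom.mem_ker, map_mul]
  · rwa [omega_eq_ker_spinorHom Q hsep hex, MonoidHom.mem_ker, map_mul, mul_comm]

end Any

theorem isometry_iff_eq_matrix {p : Cfsg.isometryGroup F (⇑Q) → Prop} {M : Matrix ι ι F}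
    {t : Cfsg.isometryGroup F (⇑Q)} (ht : t.1.1 = M) : (∃ g, p g ∧ g.1.1 = M) ↔ p t :=
  ⟨fun ⟨g, hg, hgM⟩ => (show g = t from Subtype.ext (Units.ext (hgM.trans ht.symm))) ▸ hg,
    fun h => ⟨t, h, ht⟩⟩

/-- Negated hyperbolic pairs in `Ω`. -/
theorem neg_pairs_mem_omega_iff [Fintype F] (h2 : (2 : F) ≠ 0) (hsep : ∀ x, (∀ y, polar Q x y = 0) → x = 0)
    {κ : Type} [DecidableEq κ] {e f : κ → ι → F} (he : ∀ i, Q (e i) = 0)
    (hf : ∀ i, Q (f i) = 0) (hef : ∀ i j, polar Q (e i) (f j) = if i = j then 1 else 0)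
    (hee : ∀ i j, i ≠ j → polar Q (e i) (e j) = 0) (hff : ∀ i j, i ≠ j → polar Q (f i) (f j) = 0)
    (S : Finset κ) {M : Matrix ι ι F}
    (hM : ∀ v, M *ᵥ v = v + ∑ i ∈ S, ((-2 * polar Q (f i) v) • e i + (-2 * polar Q (e i) v) • f i))
    (Q' : (ι → F) → F) (hQ' : Q' = ⇑Q) :
    (∃ g : Cfsg.isometryGroup F Q', g ∈ Cfsg.Omega F Q' ∧ g.1.1 = M) ↔ Fintype.card F ^ S.card % 4 = 1 := by
  subst hQ'
  obtain ⟨t, ht, htv⟩ := exists_neg_pairs hsep (exGen_of_odd h2) he hf hef hee hff S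
  rw [isometry_iff_eq_matrix (t := t) (Matrix.ext_iff_mulVec.2 fun v => (htv v).trans (hM v).symm),
    omega_eq_ker_spinorHom Q hsep (exGen_of_odd h2), MonoidHom.mem_ker, ht, Prod.mk_eq_one, sqClass_eq_one_iff,
    ← isSquare_neg_one_pow_iff h2]
  exact and_iff_right rfl

/-- A product of reflections in `Ω`. -/
theorem reflection_word_mem_omega_iff [Finite F] (h2 : (2 : F) ≠ 0) (hQ : Q.polarBilin.Nondegenerate)
    (g : Cfsg.isometryGroup F (⇑Q)) (vs : List (ι → F)) (hvs : ∀ v ∈ vs, Q v ≠ 0)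
    (hg : g.1.1 = (vs.map fun v => Cfsg.reflectionMatrix (⇑Q) v).prod) :
    g ∈ Cfsg.Omega F (⇑Q) ↔ Even vs.length ∧ IsSquare (vs.map fun v => Q v).prod := by
  have hsep := sep_of_nondegenerate Q hQ
  rw [omega_eq_ker_spinorHom Q hsep (exGen_of_odd h2), MonoidHom.mem_ker,
    spinorHom_reflection_word hsep (exGen_of_odd h2) vs hvs g hg, Prod.mk_eq_one, sqClass_eq_one_iff,
    ofAdd_eq_one, ZMod.natCast_eq_zero_iff_even]

/-- In characteristic two `Ω` consists of the products of evenly many reflections. -/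
theorem omega_eq_closure_pairs [Finite F] (h2 : (2 : F) = 0) (hQ : Q.polarBilin.Nondegenerate)
    (hex : (∃ t : F, t ≠ 0 ∧ t ≠ 1) ∨ Module.finrank F (ι → F) ≠ 4) :
    Cfsg.Omega F (⇑Q) = Subgroup.closure {g : Cfsg.isometryGroup F (⇑Q) | ∃ u v : ι → F, Q u ≠ 0 ∧ Q v ≠ 0 ∧
      g.1.1 = Cfsg.reflectionMatrix (⇑Q) u * Cfsg.reflectionMatrix (⇑Q) v} := by
  have hsep := sep_of_nondegenerate Q hQ
  refine le_antisymm (fun g hg => ?_) ((Subgroup.closure_le _).2 ?_)
  · obtain ⟨vs, hvs, hgv⟩ := exists_reflection_word hsep hex g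
    rw [omega_eq_ker_spinorHom Q hsep hex, MonoidHom.mem_ker, spinorHom_reflection_word hsep hex vs hvs g hgv,
      Prod.mk_eq_one, ofAdd_eq_one, ZMod.natCast_eq_zero_iff_even] at hg
    obtain ⟨⟨k, hk⟩, -⟩ := hg
    induction k generalizing vs g with
    | zero =>
      rw [List.length_eq_zero_iff.1 (by omega : vs.length = 0)] at hgv
      rw [show g = 1 from Subtype.ext (Units.ext (by simpa using hgv))]
      exact one_mem _
    | succ k ih =>
      obtain _ | ⟨u, _ | ⟨v, ws⟩⟩ := vs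
      · simp at hk
      · simp at hk; omega
      have hu : Q u ≠ 0 := hvs u (by simp)
      have hv : Q v ≠ 0 := hvs v (by simp)
      rw [show g = reflIsom Q u hu * reflIsom Q v hv * ((reflIsom Q u hu * reflIsom Q v hv)⁻¹ * g) from
        (mul_inv_cancel_left _ g).symm]
      refine mul_mem (Subgroup.subset_closure ⟨u, v, hu, hv, ?_⟩)
        (ih _ ws (fun w hw => hvs w (by simp [hw])) ?_ (by simp at hk; omega))
      · rw [Subgroup.coe_mul, Units.val_mul, reflIsom_coe, reflIsom_coe]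
      · rw [Subgroup.coe_mul, Units.val_mul, hgv, List.map_cons, List.map_cons, List.prod_cons, List.prod_cons,
          ← mul_assoc (Cfsg.reflectionMatrix (⇑Q) u), ← reflIsom_coe u hu, ← reflIsom_coe v hv, ← Units.val_mul,
          ← Subgroup.coe_mul, ← mul_assoc, Subgroup.coe_inv, Units.inv_mul, one_mul]
  · rintro g ⟨u, v, hu, hv, hg⟩
    have h := spinorHom_reflection_word hsep hex [u, v] (by simp [hu, hv]) g (by simpa using hg)
    rw [SetLike.mem_coe, omega_eq_ker_spinorHom Q hsep hex, MonoidHom.mem_ker, h]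
    exact Prod.ext (congrArg Multiplicative.ofAdd (ZMod.natCast_self 2)) (sqClass_eq_one_of_two_eq_zero h2 _)

/-- In characteristic two `Ω` is transitive on non-singular points. -/
theorem exists_omega_nonsingular [Fintype F] (h2 : (2 : F) = 0) (hQ : Q.polarBilin.Nondegenerate)
    (hex : (∃ t : F, t ≠ 0 ∧ t ≠ 1) ∨ Module.finrank F (ι → F) ≠ 4) {u v : ι → F} (hu : Q u ≠ 0) (hv : Q v ≠ 0) :
    ∃ g : Cfsg.isometryGroup F (⇑Q), g ∈ Cfsg.Omega F (⇑Q) ∧
      (Submodule.span F {g.1.1 *ᵥ u}) = Submodule.span F {v} := by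
  have hsep := sep_of_nondegenerate Q hQ
  obtain ⟨s, hs⟩ := isSquare_of_two_eq_zero h2 (Q u / Q v)
  have hs0 : s ≠ 0 := fun h => div_ne_zero hu hv (by rw [hs, h, mul_zero])
  have hsv : Q (s • v) = Q u := by rw [quad_smul, ← hs, div_mul_cancel₀ _ hv]
  have hu0 : u ≠ 0 := fun h => hu (by rw [h, QuadraticMap.map_zero])
  have hv0 : s • v ≠ 0 := fun h => hu (by rw [← hsv, h, QuadraticMap.map_zero])
  obtain ⟨g, hg, hgu⟩ := exists_isom_vector Q hsep hu0 hv0 hsv.symm
  obtain ⟨k, hk⟩ : ∃ k : Cfsg.isometryGroup F (⇑Q), k.1.1 *ᵥ u = s • v :=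
    ⟨orEquiv Q ⟨g, hg⟩, by rw [orEquiv_mulVec]; exact hgu⟩
  have hspan : ∀ a : F, a ≠ 0 → Submodule.span F {a • v} = Submodule.span F {v} := fun a ha =>
    Submodule.span_singleton_smul_eq ha.isUnit v
  have hmem : ∀ x : Cfsg.isometryGroup F (⇑Q), (spinorHom Q hsep hex x).1 = 1 → x ∈ Cfsg.Omega F (⇑Q) :=
    fun x hx => (mem_omega_iff_of_two h2 hsep hex x).2 hx
  rcases zmodTwo_cases (spinorHom Q hsep hex k).1 with h | h
  · exact ⟨k, hmem k h, by rw [hk]; exact hspan s hs0⟩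
  · refine ⟨k * reflIsom Q u hu, hmem _ ?_, ?_⟩
    · rw [map_mul, Prod.fst_mul, h, spinorHom_reflIsom]; exact zmodTwo_ofAdd_mul
    · have hr : (reflIsom Q u hu).1.1 *ᵥ u = -u := by
        rw [reflIsom_mulVec, polar_self_two, ← mul_assoc, mul_comm _ (2 : F), mul_assoc, inv_mul_cancel₀ hu,
          mul_one, two_smul]
        abel
      rw [Subgroup.coe_mul, Units.val_mul, ← mulVec_mulVec, hr, mulVec_neg, hk, ← neg_smul]
      exact hspan _ (neg_ne_zero.2 hs0)

/-- An isometry mapping one totally singular subspace onto another of the same dimension. -/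
theorem exists_isometry_map (hsep : ∀ x, (∀ y, polar Q x y = 0) → x = 0) {U W : Submodule F (ι → F)}
    (hd : Module.finrank F U = Module.finrank F W) (hU : ∀ u ∈ U, Q u = 0) (hW : ∀ w ∈ W, Q w = 0) :
    ∃ g : Cfsg.isometryGroup F (⇑Q), Cfsg.imageSubmodule g.1.1 U = W := by
  obtain ⟨e⟩ := FiniteDimensional.nonempty_linearEquiv_of_finrank_eq hd
  obtain ⟨g, hg, hgU⟩ := witt_quadratic Q hsep U (W.subtype ∘ₗ e.toLinearMap)
    (Subtype.val_injective.comp e.injective) fun x => by rw [hU _ x.2]; exact hW _ (e x).2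
  refine ⟨orEquiv Q ⟨g, hg⟩, Submodule.ext fun x => ⟨?_, fun hx => ⟨e.symm ⟨x, hx⟩, (e.symm ⟨x, hx⟩).2, ?_⟩⟩⟩
  · rintro ⟨y, hy, rfl⟩
    rw [Matrix.toLin'_apply, orEquiv_mulVec]
    exact (hgU ⟨y, hy⟩).symm ▸ (e ⟨y, hy⟩).2
  · rw [Matrix.toLin'_apply, orEquiv_mulVec]
    exact (hgU _).trans (congrArg Subtype.val (e.apply_symm_apply _))

/-- The Dickson invariant of an isometry through the parity of the image of a maximal singular subspace. -/
theorem spinorHom_fst_iff_parity {n : ℕ} {U : Submodule F (ι → F)} (S : SplitCtx Q n U)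
    (hsep : ∀ x, (∀ y, polar Q x y = 0) → x = 0)
    (hex : (∃ t : F, t ≠ 0 ∧ t ≠ 1) ∨ Module.finrank F (ι → F) ≠ 4) (g : Cfsg.isometryGroup F (⇑Q)) :
    (spinorHom Q hsep hex g).1 = 1 ↔
      Even (n - Module.finrank F (U ⊓ Cfsg.imageSubmodule g.1.1 U : Submodule F (ι → F))) := by
  rw [← preserves_isometry_iff S hsep hex, preserves_iff_base S (μ := 1)
    (fun v => by rw [one_mul]; exact (mem_isometryGroup_iff _ _).1 g.2 v), sameParityClass_iff S.max]

/-- `Ω` is transitive on the maximal totally singular subspaces of one class. -/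
theorem exists_omega_map_maxTS [Finite F] {n : ℕ} {U W : Submodule F (ι → F)} (S : SplitCtx Q n U)
    (hW : IsMaxTS Q n W) (hsep : ∀ x, (∀ y, polar Q x y = 0) → x = 0)
    (hex : (∃ t : F, t ≠ 0 ∧ t ≠ 1) ∨ Module.finrank F (ι → F) ≠ 4)
    (hpar : Even (n - Module.finrank F (U ⊓ W : Submodule F (ι → F)))) :
    ∃ g : Cfsg.isometryGroup F (⇑Q), g ∈ Cfsg.Omega F (⇑Q) ∧ Cfsg.imageSubmodule g.1.1 U = W := by
  obtain ⟨g, hg⟩ := exists_isometry_map hsep (S.max.1.trans hW.1.symm) S.max.2 hW.2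
  obtain ⟨e, heU, he0⟩ : ∃ e ∈ U, e ≠ 0 := by
    haveI : Nontrivial U := Module.nontrivial_of_finrank_pos (R := F) (by rw [S.max.1]; exact S.pos)
    obtain ⟨e, he⟩ := exists_ne (0 : U)
    exact ⟨e, e.2, fun h => he (Subtype.ext h)⟩
  obtain ⟨f, hH⟩ := exists_hyp hsep he0 (S.max.2 e heU)
  obtain ⟨s, t, -, htv, hmem, -⟩ := exists_torus_correction hsep hex hH.he hH.hf hH.hef
    (g := g) ((spinorHom_fst_iff_parity S hsep hex g).2 (by rw [hg]; exact hpar))
  refine ⟨g * t, hmem, ?_⟩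
  rw [Subgroup.coe_mul, Units.val_mul, imageSubmodule_mul]
  suffices h : Cfsg.imageSubmodule t.1.1 U = U by rw [h, hg]
  refine Submodule.eq_of_le_of_finrank_le ?_ ?_
  · rintro _ ⟨u, hu, rfl⟩
    rw [Matrix.toLin'_apply, htv, polar_eq_zero_of_ts Q S.max.2 heU hu, mul_zero, zero_smul, add_zero]
    exact add_mem hu (U.smul_mem _ heU)
  · rw [(isMaxTS_image (μ := 1) (fun v => by rw [one_mul]; exact (mem_isometryGroup_iff _ _).1 t.2 v) S.max).1,
      S.max.1]

/-- `Ω` is transitive on the totally singular `k`-subspaces, `2k < n`. -/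
theorem exists_omega_map_ts [Finite F] (hQ : Q.polarBilin.Nondegenerate)
    (hex : (∃ t : F, t ≠ 0 ∧ t ≠ 1) ∨ Module.finrank F (ι → F) ≠ 4) {U W : Submodule F (ι → F)} {k : ℕ}
    (hk : 2 * k < Fintype.card ι) (hU : Module.finrank F U = k) (hW : Module.finrank F W = k)
    (hU0 : ∀ u ∈ U, Q u = 0) (hW0 : ∀ w ∈ W, Q w = 0) :
    ∃ g : Cfsg.isometryGroup F (⇑Q), g ∈ Cfsg.Omega F (⇑Q) ∧ Cfsg.imageSubmodule g.1.1 U = W := by
  have hsep := sep_of_nondegenerate Q hQ
  rcases Nat.eq_zero_or_pos k with rfl | hk0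
  · refine ⟨1, one_mem _, ?_⟩
    rw [Submodule.finrank_eq_zero.1 hU, Submodule.finrank_eq_zero.1 hW, Cfsg.imageSubmodule, Submodule.map_bot]
  obtain ⟨g, hg⟩ := exists_isometry_map hsep (hU.trans hW.symm) hU0 hW0
  have himg : ∀ {t : Cfsg.isometryGroup F (⇑Q)}, (∀ w ∈ W, t.1.1 *ᵥ w ∈ W) →
      Cfsg.imageSubmodule t.1.1 W = W := fun {t} ht => by
    refine Submodule.eq_of_le_of_finrank_le (fun x hx => ?_) ?_
    · obtain ⟨w, hw, rfl⟩ := hx
      rw [Matrix.toLin'_apply]; exact ht w hw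
    · rw [Cfsg.imageSubmodule, ← (Submodule.equivMapOfInjective _ (toLin'_gl_injective t.1) _).finrank_eq]
  -- an anisotropic vector orthogonal to `W`
  obtain ⟨v, hvW, hv⟩ : ∃ v ∈ tsPerp Q W, Q v ≠ 0 := by
    by_contra h
    push Not at h
    have h1 : tsPerp Q W ≤ tsPerp Q (tsPerp Q W) := fun x hx =>
      mem_tsPerp.2 fun s hs => polar_eq_zero_of_ts Q h hs hx
    have h3 := Submodule.finrank_mono h1
    have h4 : ∀ X : Submodule F (ι → F),
        Module.finrank F (tsPerp Q X) = Fintype.card ι - Module.finrank F X := fun X => by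
      rw [tsPerp, LinearMap.BilinForm.finrank_orthogonal hQ, Module.finrank_fintype_fun_eq_card]
    rw [h4 (tsPerp Q W), h4 W, hW] at h3
    omega
  obtain ⟨g₁, hg₁U, hg₁⟩ : ∃ g₁ : Cfsg.isometryGroup F (⇑Q),
      Cfsg.imageSubmodule g₁.1.1 U = W ∧ (spinorHom Q hsep hex g₁).1 = 1 := by
    rcases zmodTwo_cases (spinorHom Q hsep hex g).1 with h | h
    · exact ⟨g, hg, h⟩
    · refine ⟨reflIsom Q v hv * g, ?_, ?_⟩
      · rw [Subgroup.coe_mul, Units.val_mul, imageSubmodule_mul, hg]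
        refine himg fun w hw => ?_
        rw [reflIsom_mulVec, QuadraticMap.polar_comm, mem_tsPerp.1 hvW w hw, mul_zero, zero_smul, sub_zero]
        exact hw
      · rw [map_mul, Prod.fst_mul, h, spinorHom_reflIsom]; exact zmodTwo_ofAdd_mul
  obtain ⟨e, heW, he0⟩ : ∃ e ∈ W, e ≠ 0 := by
    haveI : Nontrivial W := Module.nontrivial_of_finrank_pos (R := F) (by omega)
    obtain ⟨e, he⟩ := exists_ne (0 : W)
    exact ⟨e, e.2, fun h => he (Subtype.ext h)⟩
  obtain ⟨f, hH⟩ := exists_hyp hsep he0 (hW0 e heW)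
  obtain ⟨s, t, -, htv, -, hmem⟩ := exists_torus_correction hsep hex hH.he hH.hf hH.hef hg₁
  refine ⟨t * g₁, hmem, ?_⟩
  rw [Subgroup.coe_mul, Units.val_mul, imageSubmodule_mul, hg₁U]
  refine himg fun w hw => ?_
  rw [htv, polar_eq_zero_of_ts Q hW0 heW hw, mul_zero, zero_smul, add_zero]
  exact add_mem hw (W.smul_mem _ heW)

section Disc

variable {n : ℕ}

theorem gram_eq (Q : QuadraticForm F (Fin n → F)) :
    (Matrix.of fun i j : Fin n => polar (⇑Q) (Pi.single i 1) (Pi.single j 1)) =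
      LinearMap.toMatrix₂ (Pi.basisFun F (Fin n)) (Pi.basisFun F (Fin n)) Q.polarBilin := by
  ext i j
  rw [LinearMap.toMatrix₂_apply, QuadraticMap.polarBilin_apply_apply, Pi.basisFun_apply, Pi.basisFun_apply]
  rfl

/-- Forms over a finite field of odd order are classified by the discriminant. -/
theorem isometric_iff_disc [Finite F] (h2 : (2 : F) ≠ 0) (Q₁ Q₂ : QuadraticForm F (Fin n → F))
    (h₁ : Q₁.polarBilin.Nondegenerate) (h₂ : Q₂.polarBilin.Nondegenerate) :
    (∃ g : (Fin n → F) ≃ₗ[F] (Fin n → F), ∀ v, Q₂ (g v) = Q₁ v) ↔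
      IsSquare ((Matrix.of fun i j : Fin n => polar (⇑Q₁) (Pi.single i 1) (Pi.single j 1)).det *
        (Matrix.of fun i j : Fin n => polar (⇑Q₂) (Pi.single i 1) (Pi.single j 1)).det) := by
  rw [gram_eq, gram_eq]
  refine ⟨?_, exists_isometry_of_disc Q₁ Q₂ h2 (sep_of_nondegenerate Q₁ h₁) (sep_of_nondegenerate Q₂ h₂) _ _⟩
  rintro ⟨g, hg⟩
  obtain ⟨c, hc⟩ : ∃ c, c = (Pi.basisFun F (Fin n)).map g := ⟨_, rfl⟩
  obtain ⟨t, -, ht⟩ := disc_change Q₂ (Pi.basisFun F (Fin n)) c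
  have he : LinearMap.toMatrix₂ (Pi.basisFun F (Fin n)) (Pi.basisFun F (Fin n)) Q₁.polarBilin =
      LinearMap.toMatrix₂ c c Q₂.polarBilin := by
    ext i j
    simp only [LinearMap.toMatrix₂_apply, QuadraticMap.polarBilin_apply_apply, hc, Module.Basis.map_apply,
      QuadraticMap.polar, ← map_add, hg]
  rw [he, ht]
  exact ⟨t * (LinearMap.toMatrix₂ (Pi.basisFun F (Fin n)) (Pi.basisFun F (Fin n)) Q₂.polarBilin).det, by ring⟩

/-- In even dimension every non-zero scalar is a multiplier. -/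
theorem exists_similarity [Fintype F] (he : Even n) (Q : QuadraticForm F (Fin n → F))
    (hQ : Q.polarBilin.Nondegenerate) {c : F} (hc : c ≠ 0) :
    ∃ g : (Fin n → F) ≃ₗ[F] (Fin n → F), ∀ v, Q (g v) = c * Q v := by
  by_cases h2 : (2 : F) = 0
  · obtain ⟨s, hs⟩ := isSquare_of_two_eq_zero h2 c
    have hs0 : s ≠ 0 := fun h => hc (by rw [hs, h, mul_zero])
    exact ⟨LinearEquiv.smulOfUnit (Units.mk0 s hs0), fun v => by
      show Q (s • v) = _
      rw [quad_smul, hs]⟩
  · have hcQ : (c • Q).polarBilin.Nondegenerate := by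
      have hsep := sep_of_nondegenerate Q hQ
      have h1 : ∀ x, (∀ y, polar (⇑(c • Q)) x y = 0) → x = 0 := fun x hx => hsep x fun y => by
        have h3 := hx y
        rw [FunLike.coe_smul, QuadraticMap.polar_smul, smul_eq_mul] at h3
        exact (mul_eq_zero.1 h3).resolve_left hc
      exact ⟨fun x hx => h1 x hx, fun y hy => h1 y fun x => by rw [QuadraticMap.polar_comm]; exact hy x⟩
    obtain ⟨g, hg⟩ := (isometric_iff_disc h2 (c • Q) Q hcQ hQ).2 (by
      rw [show (Matrix.of fun i j : Fin n => polar (⇑(c • Q)) (Pi.single i 1) (Pi.single j 1)) =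
        c • Matrix.of fun i j : Fin n => polar (⇑Q) (Pi.single i 1) (Pi.single j 1) from by
          ext i j; simp [FunLike.coe_smul, QuadraticMap.polar_smul], Matrix.det_smul, Fintype.card_fin]
      obtain ⟨k, rfl⟩ := he
      exact ⟨c ^ k * (Matrix.of fun i j => polar (⇑Q) (Pi.single i 1) (Pi.single j 1)).det, by ring⟩)
    exact ⟨g, fun v => by rw [hg]; rfl⟩

end Disc

end CfsgLib.KnownC
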