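import Cfsg.Agent.Lib.KnownC.RegularUnipotentClasses

set_option autoImplicit false

/-!
The commutant of a regular nilpotent matrix on an arbitrary index type: it is commutative, local
with residue field the ground field, and corresponds to vectors.
-/

namespace CfsgLib.KnownC

open Matrix

variable {ι F : Type*} [Fintype ι] [DecidableEq ι] [Field F]

/-- `N` is nilpotent with a single Jordan block. -/
structure IsRegNil (N : Matrix ι ι F) : Prop where
  pos : 1 ≤ Fintype.card ι
  nil : N ^ Fintype.card ι = 0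
  rank_eq : N.rank = Fintype.card ι - 1

namespace IsRegNil

variable {N : Matrix ι ι F}

theorem le_rank (h : IsRegNil N) : Fintype.card ι ≤ N.rank + 1 := by
  rw [h.rank_eq]; omega

theorem exists_cyclic (h : IsRegNil N) : ∃ v, (N ^ (Fintype.card ι - 1)) *ᵥ v ≠ 0 := by
  by_contra hh
  simp only [not_exists, not_not] at hh
  have h1 := finrank_ker_pow_le N h.le_rank (Fintype.card ι - 1)
  rw [show LinearMap.ker (Matrix.mulVecLin (N ^ (Fintype.card ι - 1))) = ⊤ from
      eq_top_iff.2 fun v _ => hh v,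
    finrank_top, Module.finrank_fintype_fun_eq_card] at h1
  have := h.pos
  omega

theorem eq_top_of_mem_cyclic (h : IsRegNil N) {v : ι → F}
    (hv : (N ^ (Fintype.card ι - 1)) *ᵥ v ≠ 0) (W : Submodule F (ι → F))
    (hW : ∀ x ∈ W, N *ᵥ x ∈ W) (hvW : v ∈ W) : W = ⊤ := by
  refine Submodule.eq_top_of_finrank_eq ?_
  have hle : Module.finrank F W ≤ Fintype.card ι := by
    rw [← Module.finrank_fintype_fun_eq_card (R := F) (η := ι)]
    exact W.finrank_le
  rw [Module.finrank_fintype_fun_eq_card]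
  by_contra hne
  have hlt : Module.finrank F W ≤ Fintype.card ι - 1 := by omega
  have heq := eq_ker_pow_of_invariant N h.le_rank ⟨_, h.nil⟩ W hW
  rw [heq, LinearMap.mem_ker, mulVecLin_apply] at hvW
  refine hv ?_
  obtain ⟨d, hd⟩ := Nat.exists_eq_add_of_le hlt
  rw [hd, add_comm, pow_add, ← mulVec_mulVec, hvW, mulVec_zero]

theorem eq_zero_of_mulVec (h : IsRegNil N) {v : ι → F}
    (hv : (N ^ (Fintype.card ι - 1)) *ᵥ v ≠ 0) {A : Matrix ι ι F} (hA : Commute A N)
    (h0 : A *ᵥ v = 0) : A = 0 := by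
  have htop := h.eq_top_of_mem_cyclic hv (LinearMap.ker A.mulVecLin) (fun x hx => by
    rw [LinearMap.mem_ker, mulVecLin_apply] at hx ⊢
    rw [mulVec_mulVec, hA.eq, ← mulVec_mulVec, hx, mulVec_zero]) (by simpa using h0)
  refine Matrix.ext_iff_mulVec.2 fun x => ?_
  have : x ∈ LinearMap.ker A.mulVecLin := htop ▸ Submodule.mem_top
  simpa using this

theorem exists_aeval (h : IsRegNil N) {v : ι → F}
    (hv : (N ^ (Fintype.card ι - 1)) *ᵥ v ≠ 0) (w : ι → F) :
    ∃ p : Polynomial F, Polynomial.aeval N p *ᵥ v = w := by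
  let L : Polynomial F →ₗ[F] (ι → F) :=
    ((Matrix.mulVecBilin F F).flip v).comp (Polynomial.aeval N).toLinearMap
  have hL : ∀ p, L p = Polynomial.aeval N p *ᵥ v := fun p => rfl
  have htop := h.eq_top_of_mem_cyclic hv (LinearMap.range L) (by
    rintro _ ⟨p, rfl⟩
    exact ⟨Polynomial.X * p, by rw [hL, hL, map_mul, Polynomial.aeval_X, mulVec_mulVec]⟩)
    ⟨1, by rw [hL, map_one, one_mulVec]⟩
  obtain ⟨p, hp⟩ : w ∈ LinearMap.range L := htop ▸ Submodule.mem_top
  exact ⟨p, (hL p).symm.trans hp⟩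

theorem exists_eq_aeval (h : IsRegNil N) {A : Matrix ι ι F} (hA : Commute A N) :
    ∃ p : Polynomial F, A = Polynomial.aeval N p := by
  obtain ⟨v, hv⟩ := h.exists_cyclic
  obtain ⟨p, hp⟩ := h.exists_aeval hv (A *ᵥ v)
  refine ⟨p, sub_eq_zero.1 (h.eq_zero_of_mulVec hv (hA.sub_left ?_) ?_)⟩
  · exact (Algebra.commute_of_mem_adjoin_self (Polynomial.aeval_mem_adjoin_singleton F N)).symm
  · rw [sub_mulVec, hp, sub_self]

theorem commute (h : IsRegNil N) {A B : Matrix ι ι F} (hA : Commute A N) (hB : Commute B N) :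
    Commute A B := by
  obtain ⟨p, rfl⟩ := h.exists_eq_aeval hA
  obtain ⟨r, rfl⟩ := h.exists_eq_aeval hB
  exact (Commute.all p r).map (Polynomial.aeval N)

/-- Every element of the commutant is a scalar plus a nilpotent matrix. -/
theorem exists_scalar (h : IsRegNil N) {A : Matrix ι ι F} (hA : Commute A N) :
    ∃ c : F, IsNilpotent (A - c • 1) := by
  obtain ⟨p, rfl⟩ := h.exists_eq_aeval hA
  refine ⟨p.coeff 0, ?_⟩
  have e : Polynomial.aeval N p - p.coeff 0 • 1 = N * Polynomial.aeval N p.divX := by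
    conv_lhs => arg 1; rw [← p.X_mul_divX_add]
    rw [map_add, map_mul, Polynomial.aeval_X, Polynomial.aeval_C, Algebra.algebraMap_eq_smul_one,
      add_sub_cancel_right]
  rw [e]
  exact Commute.isNilpotent_mul_right
    (Algebra.commute_of_mem_adjoin_self (Polynomial.aeval_mem_adjoin_singleton F N)).symm.symm
    ⟨_, h.nil⟩

theorem scalar_unique [Nonempty ι] {A : Matrix ι ι F} {c d : F} (hc : IsNilpotent (A - c • 1))
    (hd : IsNilpotent (A - d • 1)) : c = d := by
  have h1 : Commute (A - d • 1) (A - c • 1) :=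
    (((Commute.refl A).sub_left ((Commute.one_left A).smul_left d)).sub_right
      ((Commute.one_right (A - d • 1)).smul_right c))
  have h2 := h1.isNilpotent_sub hd hc
  rw [sub_sub_sub_cancel_left, ← sub_smul] at h2
  have h3 : IsNilpotent (c - d) := by
    refine (IsNilpotent.map_iff (f := algebraMap F (Matrix ι ι F)) (algebraMap F _).injective).1 ?_
    rwa [Algebra.algebraMap_eq_smul_one]
  exact sub_eq_zero.1 (isNilpotent_iff_eq_zero.1 h3)

theorem isUnit_iff_scalar [Nonempty ι] {A : Matrix ι ι F} {c : F}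
    (hc : IsNilpotent (A - c • 1)) : IsUnit A ↔ c ≠ 0 := by
  constructor
  · rintro hu rfl
    rw [zero_smul, sub_zero] at hc
    obtain ⟨k, hk⟩ := hc
    exact not_isUnit_zero (hk ▸ hu.pow k)
  · intro hne
    have := hc.isUnit_add_right_of_commute
      (u := algebraMap F (Matrix ι ι F) c) ((isUnit_iff_ne_zero.2 hne).map _)
      (Algebra.commutes c _).symm
    rwa [Algebra.algebraMap_eq_smul_one, sub_add_cancel] at this

theorem det_eq_scalar_pow {A : Matrix ι ι F} {c : F} (hc : IsNilpotent (A - c • 1)) :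
    A.det = c ^ Fintype.card ι := by
  have h1 := Matrix.isNilpotent_charpoly_sub_pow_of_isNilpotent hc.neg
  have hsc : -(A - c • 1) = Matrix.scalar ι c - A := by
    rw [neg_sub, scalar_apply, smul_one_eq_diagonal]
  rw [hsc] at h1
  have h3 : (Matrix.scalar ι c - A).charpoly = Polynomial.X ^ Fintype.card ι :=
    sub_eq_zero.1 (isNilpotent_iff_eq_zero.1 h1)
  have h4 := congrArg (Polynomial.eval c) h3
  rwa [Matrix.eval_charpoly, sub_sub_cancel, Polynomial.eval_pow, Polynomial.eval_X] at h4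

theorem commutant_bijective (h : IsRegNil N) {v : ι → F}
    (hv : (N ^ (Fintype.card ι - 1)) *ᵥ v ≠ 0) :
    Function.Bijective fun A : {A : Matrix ι ι F // Commute A N} => A.1 *ᵥ v := by
  refine ⟨fun A B hAB => Subtype.ext (sub_eq_zero.1
    (h.eq_zero_of_mulVec hv (A.2.sub_left B.2) ?_)), fun w => ?_⟩
  · rw [sub_mulVec]; exact sub_eq_zero.2 hAB
  · obtain ⟨p, hp⟩ := h.exists_aeval hv w
    exact ⟨⟨Polynomial.aeval N p,
      (Algebra.commute_of_mem_adjoin_self (Polynomial.aeval_mem_adjoin_singleton F N)).symm⟩, hp⟩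

theorem reindex {κ : Type*} [Fintype κ] [DecidableEq κ] (e : ι ≃ κ) (h : IsRegNil N) :
    IsRegNil (Matrix.reindex e e N) := by
  have hc : Fintype.card κ = Fintype.card ι := (Fintype.card_congr e).symm
  refine ⟨hc ▸ h.pos, ?_, ?_⟩
  · rw [hc, ← Matrix.coe_reindexAlgEquiv F F, ← map_pow, h.nil, map_zero]
  · rw [hc, Matrix.rank_reindex, h.rank_eq]

theorem exists_conj {N' : Matrix ι ι F} (h : IsRegNil N) (h' : IsRegNil N') :
    ∃ g : GL ι F, (g : Matrix ι ι F) * N = N' * (g : Matrix ι ι F) := by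
  let e := Fintype.equivFin ι
  have hr := h.reindex e
  have hr' := h'.reindex e
  obtain ⟨g, hg⟩ := exists_conj_regular (n := Fintype.card ι) h.pos _ _
    (by simpa using hr.nil) (by simpa using hr.rank_eq) (by simpa using hr'.nil)
    (by simpa using hr'.rank_eq)
  refine ⟨Units.map (Matrix.reindexAlgEquiv F F e.symm).toAlgHom.toRingHom.toMonoidHom g, ?_⟩
  have := congrArg (Matrix.reindexAlgEquiv F F e.symm) hg
  simp only [map_mul] at this
  simpa [Matrix.coe_reindexAlgEquiv, Matrix.submatrix_submatrix] using this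

end IsRegNil

end CfsgLib.KnownC
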