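import Cfsg.Agent.Lib.KnownC.StPolar
import Cfsg.Agent.Lib.Geom.WittSesq

/-!
Tools to build the data of `Steinberg.Polar` for the classical groups.
-/

set_option autoImplicit false
set_option linter.unusedSectionVars false

namespace CfsgLib.KnownC.Steinberg

open Module

variable {K V : Type*} [Field K] [AddCommGroup V] [Module K V] {σ : K →+* K}

/-- The axiom `witt` from an extension property. -/
theorem witt_of_extend (B : V →ₛₗ[σ] V →ₗ[K] K) (S : V → Prop) (h0 : S 0)
    (hsm : ∀ (a : K) v, S v → S (a • v)) (hadd : ∀ u v, S u → S v → B u v = 0 → S (u + v))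
    (A : Subgroup (V ≃ₗ[K] V)) {m : ℕ} (e : Fin m → V) (he : LinearIndependent K e)
    (hSe : ∀ i, S (e i)) (hee : ∀ i j, B (e i) (e j) = 0)
    (ext : ∀ (X : Submodule K V) (φ : X →ₗ[K] V), Function.Injective φ →
      (∀ x : X, S x ∧ S (φ x)) → (∀ x x' : X, B x x' = 0 ∧ B (φ x) (φ x') = 0) →
      ∃ g ∈ A, ∀ x : X, g (x : V) = φ x)
    (k : ℕ) (h : k ≤ m) (v : Fin k → V) (hv : LinearIndependent K v) (hSv : ∀ i, S (v i))
    (hvv : ∀ i j, B (v i) (v j) = 0) : ∃ g ∈ A, ∀ i, g (e (Fin.castLE h i)) = v i := by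
  classical
  let e' : Fin k → V := fun i => e (Fin.castLE h i)
  have he' : LinearIndependent K e' := he.comp _ (Fin.castLE_injective h)
  let b := Basis.span he'
  let φ : Submodule.span K (Set.range e') →ₗ[K] V := b.constr K v
  have hspanB : ∀ (w : Fin k → V), (∀ i j, B (w i) (w j) = 0) →
      ∀ x ∈ Submodule.span K (Set.range w), ∀ y ∈ Submodule.span K (Set.range w), B x y = 0 := by
    intro w hw x hx y hy
    induction hx using Submodule.span_induction with
    | zero => simp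
    | add a b _ _ iha ihb => rw [map_add, LinearMap.add_apply, iha, ihb, add_zero]
    | smul r a _ iha => rw [map_smulₛₗ, LinearMap.smul_apply, iha, smul_zero]
    | mem a ha =>
      obtain ⟨i, rfl⟩ := ha
      induction hy using Submodule.span_induction with
      | zero => simp
      | add a b _ _ iha ihb => rw [map_add, iha, ihb, add_zero]
      | smul r a _ iha => rw [map_smul, iha, smul_zero]
      | mem b hb => obtain ⟨j, rfl⟩ := hb; exact hw i j
  have hspanS : ∀ (w : Fin k → V), (∀ i, S (w i)) → (∀ i j, B (w i) (w j) = 0) →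
      ∀ x ∈ Submodule.span K (Set.range w), S x := by
    intro w hwS hw x hx
    induction hx using Submodule.span_induction with
    | zero => exact h0
    | add a b ha hb iha ihb => exact hadd a b iha ihb (hspanB w hw a ha b hb)
    | smul r a _ iha => exact hsm r a iha
    | mem a ha => obtain ⟨i, rfl⟩ := ha; exact hwS i
  have hφb : ∀ i, φ (b i) = v i := fun i => b.constr_basis K v i
  have hrange : ∀ x, φ x ∈ Submodule.span K (Set.range v) := fun x => by
    rw [show φ x = ∑ i, b.equivFun x i • v i from b.constr_apply_fintype K v x]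
    exact Submodule.sum_mem _ fun i _ => Submodule.smul_mem _ _ (Submodule.subset_span ⟨i, rfl⟩)
  have hinj : Function.Injective φ := by
    refine (injective_iff_map_eq_zero φ).2 fun x hx => ?_
    rw [show φ x = ∑ i, b.equivFun x i • v i from b.constr_apply_fintype K v x] at hx
    exact b.equivFun.injective ((funext (Fintype.linearIndependent_iff.1 hv _ hx)).trans (map_zero _).symm)
  obtain ⟨g, hg, hgX⟩ := ext _ φ hinj
    (fun x => ⟨hspanS e' (fun i => hSe _) (fun i j => hee _ _) x.1 x.2, hspanS v hSv hvv _ (hrange x)⟩)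
    (fun x x' => ⟨hspanB e' (fun i j => hee _ _) x.1 x.2 x'.1 x'.2,
      hspanB v hvv _ (hrange x) _ (hrange x')⟩)
  refine ⟨g, hg, fun i => ?_⟩
  rw [← hφb i, ← hgX (b i), Basis.span_apply]

/-- The vectors of a frame are independent. -/
theorem frame_li (B : V →ₛₗ[σ] V →ₗ[K] K) {m : ℕ} (e f : Fin m → V)
    (hef : ∀ i j, B (e i) (f j) = if i = j then 1 else 0) : LinearIndependent K e := by
  rw [Fintype.linearIndependent_iff]
  intro a ha l
  have h : B (∑ k, a k • e k) (f l) = 0 := by rw [ha, map_zero]; rfl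
  rw [map_sum, LinearMap.coe_sum, Finset.sum_apply, Finset.sum_eq_single l ?_ (by simp), map_smulₛₗ,
    LinearMap.smul_apply, hef, if_pos rfl, smul_eq_mul, mul_one, map_eq_zero] at h
  · exact h
  · intro j _ hj; rw [map_smulₛₗ, LinearMap.smul_apply, hef, if_neg hj, smul_zero]

/-- The move along a hyperbolic pair `e, f`. -/
theorem exists_tmap [FiniteDimensional K V] (B : V →ₛₗ[σ] V →ₗ[K] K) {ε : K} (hε : ε * ε = 1)
    (hσε : σ ε = ε) (hσ : ∀ a, σ (σ a) = a) (hswap : ∀ u v, B v u = ε * σ (B u v))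
    (hsep : ∀ x, (∀ y, B x y = 0) → x = 0) {e f v : V} (hee : B e e = 0) (hff : B f f = 0)
    (hvv : B v v = 0) (hef : B e f = 1) (hev : B e v = 1) :
    ∃ g ∈ CfsgLib.Geom.formIsoms B, g e = e ∧ g f = v ∧
      ∀ x, g x - x - B e x • (v - f) ∈ Submodule.span K {e} := by
  set w := v - f with hw
  set l := ε * B w f with hl
  let T : V →ₗ[K] V := LinearMap.id + (B e).smulRight w +
    ((-ε) • B w + l • B e).smulRight e
  have hT : ∀ x, T x = x + B e x • w + (-ε * B w x + l * B e x) • e := fun x => by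
    simp [T, LinearMap.smulRight_apply]
  have hew : B e w = 0 := by rw [hw, map_sub, hev, hef, sub_self]
  have hwe : B w e = 0 := by rw [hswap, hew, map_zero, mul_zero]
  have hxe : ∀ x, B x e = ε * σ (B e x) := fun x => hswap e x
  have hxw : ∀ x, B x w = ε * σ (B w x) := fun x => hswap w x
  have hww : B w w = -(B f w + B w f) := by
    have h : B v v = B (f + w) (f + w) := by rw [hw, add_sub_cancel]
    simp only [map_add, LinearMap.add_apply, hvv, hff] at h
    linear_combination -h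
  obtain ⟨g, hg, hgT⟩ := CfsgLib.Geom.exists_mem_formIsoms B hsep T (fun x y => by
    rw [hT, hT]
    simp only [map_add, map_smulₛₗ, LinearMap.add_apply, LinearMap.smul_apply, smul_eq_mul,
      RingHom.id_apply, hew, hwe, hee, hww, hxe, hxw, hl, map_mul, map_neg, hσε, hσ]

    linear_combination (σ (B e x) * (-(B w y) + B w f * B e y)) * hε)
  refine ⟨g, hg, ?_, ?_, fun x => ?_⟩
  · rw [hgT, hT, hee, hwe]; simp
  · rw [hgT, hT, hef, hl]
    simp [hw]
  · rw [hgT, hT, add_assoc, add_sub_cancel_left, add_sub_cancel_left]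
    exact Submodule.smul_mem _ _ (Submodule.mem_span_singleton_self e)

/-- A power of a natural number dividing `N` with prime-to-`p` cofactor. -/
theorem exists_cofactor {p N i X Y : ℕ} (hdvd : X ∣ N) (h : N * i = X * Y) (hY : ¬ p ∣ Y) (hX : X ≠ 0) :
    ∃ M, ¬ p ∣ M ∧ N = X * M := by
  obtain ⟨M, rfl⟩ := hdvd
  refine ⟨M, fun hM => hY ?_, rfl⟩
  rw [mul_assoc] at h
  rw [← Nat.eq_of_mul_eq_mul_left (Nat.pos_of_ne_zero hX) h]
  exact Dvd.dvd.mul_right hM i

namespace Polar

variable {Γ : Type*} [Group Γ] {m : ℕ} (P : Polar K V Γ σ m)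

/-- The character, from a multiple of the order of the group. -/
theorem exists_steinberg_of_mul [FiniteDimensional K V] [Finite K] [Finite Γ] {p : ℕ} [Fact p.Prime]
    (hm : 1 ≤ m) {d : ℕ} (hn : finrank K V = 2 * m + d) (hgen : 1 < P.c ∨ 2 < finrank K V)
    (hK : ∃ a, Nat.card K = p ^ a) (hc : ∃ a, P.c = p ^ a)
    (hord : ∃ i N, Nat.card Γ * i = P.c ^ m * Nat.card K ^ (m * (m - 1) + d * m) * N ∧ ¬ p ∣ N) :
    ∃ χ : Γ ⧸ Subgroup.center Γ → ℂ, Cfsg.IsIrrCharacter (Γ ⧸ Subgroup.center Γ) χ ∧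
      ∀ S : Sylow p (Γ ⧸ Subgroup.center Γ),
        χ 1 = Nat.card S ∧ ∀ x : Γ ⧸ Subgroup.center Γ, x ∈ S → x ≠ 1 → χ x = 0 := by
  obtain ⟨a, ha⟩ := hK
  obtain ⟨b, hb⟩ := hc
  obtain ⟨i, N, hN, hpN⟩ := hord
  have hp : p.Prime := Fact.out
  obtain ⟨E, hE⟩ : ∃ E, P.c ^ m * Nat.card K ^ (m * (m - 1) + d * m) = p ^ E := by
    rw [ha, hb, ← pow_mul, ← pow_mul, ← pow_add]
    exact ⟨_, rfl⟩
  rw [hE] at hN
  have hdvd : p ^ E ∣ Nat.card Γ := by
    rw [← hE, ← P.card_U hn]
    exact Subgroup.card_subgroup_dvd_card _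
  obtain ⟨M, hM, hcard⟩ := exists_cofactor hdvd hN hpN (pow_ne_zero _ hp.ne_zero)
  exact P.exists_steinberg hm hn hgen ⟨E, M, hE, hM, hcard⟩

end Polar

/-- A prime does not divide `q ^ (j + 1) ± 1` for a power `q > 1` of it. -/
theorem not_dvd_pow_sub_one {p q a : ℕ} (hp : p.Prime) (hq : q = p ^ a) (ha : 0 < a) (j : ℕ) (hj : 0 < j) :
    ¬ p ∣ q ^ j - 1 ∧ ¬ p ∣ q ^ j + 1 := by
  have h1 : p ∣ q ^ j := by
    rw [hq, ← pow_mul]; exact dvd_pow_self p (Nat.mul_ne_zero ha.ne' hj.ne')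
  have h2 : 1 ≤ q ^ j := by rw [hq]; exact Nat.one_le_pow _ _ (pow_pos hp.pos a)
  refine ⟨fun h => hp.one_lt.ne' (Nat.dvd_one.1 ?_), fun h => hp.one_lt.ne' (Nat.dvd_one.1 ?_)⟩
  · have := Nat.dvd_sub h1 h
    rwa [Nat.sub_sub_self h2] at this
  · exact (Nat.dvd_add_right h1).1 h

/-- A prime does not divide a product none of whose factors it divides. -/
theorem not_dvd_prod {p : ℕ} (hp : p.Prime) {ι : Type*} (s : Finset ι) (g : ι → ℕ)
    (h : ∀ i ∈ s, ¬ p ∣ g i) : ¬ p ∣ ∏ i ∈ s, g i := fun hd => by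
  obtain ⟨i, hi, hdi⟩ := (hp.prime.dvd_finsetProd_iff g).1 hd
  exact h i hi hdi

end CfsgLib.KnownC.Steinberg
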