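import Mathlib
import Cfsg.Prelude.Def_Classical
import Cfsg.Prelude.Def_LieClassical
import Cfsg.Agent.Lib.Classical.ExcIsoMinusFour
import Cfsg.Agent.Lib.Classical.SLTwoTori
import Cfsg.Agent.Lib.Geom.HermNorm
import Cfsg.Agent.Lib.Geom.Symp

/-!
Embeddings of classical groups by restriction of scalars: `GU_m(q) → Sp_2m(q)`,
`GU_m(q) → O^±_2m(q)`, `Sp_2a(q²) → Sp_4a(q)`, and `O⁻_2m(q) → O⁺_2m(q²)`.
-/

set_option autoImplicit false

namespace CfsgLib.KnownC

open Matrix CfsgLib.Classical

section General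

variable {F K : Type*} [Field F] [Field K]
  {ι₁ ι₂ : Type} [Fintype ι₁] [DecidableEq ι₁] [Fintype ι₂] [DecidableEq ι₂]

/-- Transport of matrices along a semilinear bijection of coordinate spaces. -/
theorem exists_embed_of_addEquiv (ι : F →+* K) (L : (ι₁ → K) ≃+ (ι₂ → F))
    (hL : ∀ t v, L (ι t • v) = t • L v) (G : Subgroup (GL ι₁ K)) (H : Subgroup (GL ι₂ F))
    (h : ∀ g ∈ G, ∀ g' : GL ι₂ F,
      (∀ v, (g' : Matrix ι₂ ι₂ F) *ᵥ L v = L ((g : Matrix ι₁ ι₁ K) *ᵥ v)) → g' ∈ H) :
    ∃ φ : G →* H, Function.Injective φ := by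
  have hL' : ∀ t w, L.symm (t • w) = ι t • L.symm w := fun t w =>
    L.injective (by rw [hL, AddEquiv.apply_symm_apply, AddEquiv.apply_symm_apply])
  let T : Matrix ι₁ ι₁ K → ((ι₂ → F) →ₗ[F] (ι₂ → F)) := fun M =>
    { toFun := fun w => L (M *ᵥ L.symm w)
      map_add' := fun u v => by simp [Matrix.mulVec_add]
      map_smul' := fun t w => by rw [hL', Matrix.mulVec_smul, hL, RingHom.id_apply] }
  let f : Matrix ι₁ ι₁ K →* Matrix ι₂ ι₂ F :=
    { toFun := fun M => LinearMap.toMatrix' (T M)
      map_one' := by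
        rw [show T 1 = LinearMap.id from LinearMap.ext fun w => by simp [T], LinearMap.toMatrix'_id]
      map_mul' := fun M N => by
        rw [← LinearMap.toMatrix'_comp]
        refine congrArg _ (LinearMap.ext fun w => ?_)
        simp [T, Matrix.mulVec_mulVec] }
  have hf : ∀ M v, f M *ᵥ L v = L (M *ᵥ v) := fun M v => by
    show LinearMap.toMatrix' (T M) *ᵥ L v = _
    rw [LinearMap.toMatrix'_mulVec]
    simp [T]
  refine ⟨MonoidHom.codRestrict ((Units.map f).comp G.subtype) H
    fun g => h g g.2 _ fun v => hf _ v, fun g₁ g₂ hg => ?_⟩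
  have hmat : f (g₁ : GL ι₁ K) = f (g₂ : GL ι₁ K) :=
    congrArg Units.val (congrArg Subtype.val hg)
  refine Subtype.ext (Units.ext (Matrix.ext_of_mulVec_single fun i => L.injective ?_))
  rw [← hf, ← hf, hmat]

/-- An additive injection between finite spaces of equal size, as a bijection. -/
theorem exists_addEquiv_of_injective {A B : Type*} [AddCommGroup A] [AddCommGroup B] [Fintype A]
    [Fintype B] (f : A →+ B) (hf : Function.Injective f) (hc : Fintype.card A = Fintype.card B) :
    ∃ L : A ≃+ B, ∀ v, L v = f v :=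
  ⟨AddEquiv.ofBijective f ((Fintype.bijective_iff_injective_and_card f).2 ⟨hf, hc⟩), fun _ => rfl⟩

end General

/-- Coordinates for a quadratic extension of finite fields. -/
structure ExtData (F K : Type*) [Field F] [Field K] where
  emb : F →+* K
  conj : K →+* K
  gen : K
  conj_emb : ∀ t, conj (emb t) = emb t
  conj_conj : ∀ x, conj (conj x) = x
  fixed : ∀ x, conj x = x → ∃ t, emb t = x
  gen_ne : conj gen ≠ gen

namespace ExtData

variable {F K : Type*} [Field F] [Field K] (D : ExtData F K)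

theorem exists_tr (x : K) : ∃ t, D.emb t = x + D.conj x :=
  D.fixed _ (by rw [map_add, D.conj_conj, add_comm])

/-- The trace to the small field. -/
noncomputable def tr (x : K) : F := (D.exists_tr x).choose

theorem emb_tr (x : K) : D.emb (D.tr x) = x + D.conj x := (D.exists_tr x).choose_spec

theorem tr_add (x y : K) : D.tr (x + y) = D.tr x + D.tr y :=
  D.emb.injective (by rw [map_add, D.emb_tr, D.emb_tr, D.emb_tr, map_add]; ring)

theorem tr_emb_mul (t : F) (x : K) : D.tr (D.emb t * x) = t * D.tr x :=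
  D.emb.injective (by rw [map_mul, D.emb_tr, D.emb_tr, map_mul, D.conj_emb]; ring)

theorem tr_zero : D.tr 0 = 0 := by
  have := D.tr_add 0 0
  rw [add_zero] at this
  simpa using this

theorem sub_ne : D.gen - D.conj D.gen ≠ 0 := sub_ne_zero.2 (Ne.symm D.gen_ne)

theorem exists_c1 (x : K) : ∃ t, D.emb t = (x - D.conj x) / (D.gen - D.conj D.gen) :=
  D.fixed _ (by
    rw [map_div₀, map_sub, map_sub, D.conj_conj, D.conj_conj, ← neg_sub x, ← neg_sub D.gen,
      neg_div_neg_eq])

/-- Coordinate along the generator. -/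
noncomputable def c1 (x : K) : F := (D.exists_c1 x).choose

theorem emb_c1 (x : K) : D.emb (D.c1 x) = (x - D.conj x) / (D.gen - D.conj D.gen) :=
  (D.exists_c1 x).choose_spec

theorem exists_c0 (x : K) : ∃ t, D.emb t = x - D.emb (D.c1 x) * D.gen :=
  D.fixed _ (by
    have h : D.emb (D.c1 x) * (D.gen - D.conj D.gen) = x - D.conj x := by
      rw [D.emb_c1, div_mul_cancel₀ _ D.sub_ne]
    rw [map_sub, map_mul, D.conj_emb]
    linear_combination h)

/-- Coordinate along `1`. -/
noncomputable def c0 (x : K) : F := (D.exists_c0 x).choose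

theorem decomp (x : K) : D.emb (D.c0 x) + D.emb (D.c1 x) * D.gen = x := by
  rw [c0, (D.exists_c0 x).choose_spec, sub_add_cancel]

theorem c1_add (x y : K) : D.c1 (x + y) = D.c1 x + D.c1 y :=
  D.emb.injective (by rw [map_add, D.emb_c1, D.emb_c1, D.emb_c1, map_add, ← add_div]; ring_nf)

theorem c1_emb_mul (t : F) (x : K) : D.c1 (D.emb t * x) = t * D.c1 x :=
  D.emb.injective (by
    rw [map_mul, D.emb_c1, D.emb_c1, map_mul, D.conj_emb, ← mul_sub, mul_div_assoc])

theorem c0_add (x y : K) : D.c0 (x + y) = D.c0 x + D.c0 y :=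
  D.emb.injective (by
    have h := D.decomp (x + y)
    rw [D.c1_add, map_add] at h
    rw [map_add]
    linear_combination h - D.decomp x - D.decomp y)

theorem c0_emb_mul (t : F) (x : K) : D.c0 (D.emb t * x) = t * D.c0 x :=
  D.emb.injective (by
    have h := D.decomp (D.emb t * x)
    rw [D.c1_emb_mul, map_mul] at h
    rw [map_mul]
    linear_combination h - D.emb t * D.decomp x)

theorem coord_ext {x y : K} (h0 : D.c0 x = D.c0 y) (h1 : D.c1 x = D.c1 y) : x = y := by
  rw [← D.decomp x, ← D.decomp y, h0, h1]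

theorem eq_zero_of_tr {x : K} (h0 : D.tr x = 0) (h1 : D.tr (D.gen * x) = 0) : x = 0 := by
  have a0 : x + D.conj x = 0 := by rw [← D.emb_tr, h0, map_zero]
  have a1 : D.gen * x + D.conj D.gen * D.conj x = 0 := by
    rw [← map_mul, ← D.emb_tr, h1, map_zero]
  have h : (D.gen - D.conj D.gen) * x = 0 := by linear_combination a1 - D.conj D.gen * a0
  exact (mul_eq_zero.1 h).resolve_left D.sub_ne

/-- The product of coordinates against dual coordinates is the trace of the product. -/
theorem tr_mul (p s : K) : D.c0 p * D.tr s + D.c1 p * D.tr (D.gen * s) = D.tr (p * s) := by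
  rw [← D.tr_emb_mul, ← D.tr_emb_mul, ← D.tr_add]
  congr 1
  conv_rhs => rw [← D.decomp p]
  ring

/-- The alternating form in coordinates. -/
theorem emb_cross (x y : K) :
    D.emb (D.c1 x * D.c0 y - D.c0 x * D.c1 y) * (D.gen - D.conj D.gen) =
      x * D.conj y - D.conj x * y := by
  conv_rhs => rw [← D.decomp x, ← D.decomp y]
  simp only [map_add, map_mul, map_sub, D.conj_emb]
  ring

end ExtData

theorem exists_extData_of_form {F K : Type*} [Field F] [Fintype F] [Field K] [Fintype K] {q : ℕ}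
    (hK : Fintype.card K = q ^ 2) (hF : Fintype.card F = q) (a b : F)
    (hab : ∀ z₁ z₂ : F, z₁ ^ 2 + a * z₁ * z₂ + b * z₂ ^ 2 = 0 → z₁ = 0 ∧ z₂ = 0) :
    ∃ D : ExtData F K, (∀ x, D.conj x = x ^ q) ∧ D.gen + D.conj D.gen = D.emb a ∧
      D.gen * D.conj D.gen = D.emb b := by
  obtain ⟨ι, θ, h1, h2, h3, h4, h5⟩ := exists_quadratic_ext hF hK a b hab
  exact ⟨⟨ι, qFrob hK, θ, h1, qFrob_qFrob hK, h2, h5⟩, qFrob_apply hK, h3, h4⟩

theorem exists_extData {F K : Type*} [Field F] [Fintype F] [Field K] [Fintype K] {q : ℕ}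
    (hK : Fintype.card K = q ^ 2) (hF : Fintype.card F = q) :
    ∃ D : ExtData F K, ∀ x, D.conj x = x ^ q := by
  obtain ⟨a, b, hab⟩ := exists_anisotropic_binary (F := F)
  obtain ⟨D, hD, -⟩ := exists_extData_of_form hK hF a b hab
  exact ⟨D, hD⟩

section GU

variable {F K : Type*} [Field F] [Field K] (D : ExtData F K) {q : ℕ}

theorem hermForm_eq_conj (hD : ∀ x, D.conj x = x ^ q) {n : ℕ} (u v : Fin n → K) :
    Cfsg.hermForm n K q u v = ∑ i, u i * D.conj (v i) := by
  simp [Cfsg.hermForm, hD]

/-- Coordinates turning a Hermitian space into a symplectic space. -/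
noncomputable def sympCoord {n : ℕ} : (Fin n → K) →+ (Fin n ⊕ Fin n → F) :=
  AddMonoidHom.mk' (fun v => Sum.elim (fun i => D.c0 (v i)) (fun i => D.c1 (v i))) fun u v => by
    funext i; rcases i with i | i <;> simp [D.c0_add, D.c1_add]

theorem sympCoord_spec (hD : ∀ x, D.conj x = x ^ q) {n : ℕ} (u v : Fin n → K) :
    D.emb (Cfsg.sympForm n F (sympCoord D u) (sympCoord D v)) * (D.gen - D.conj D.gen) =
      Cfsg.hermForm n K q u v - Cfsg.hermForm n K q v u := by
  rw [CfsgLib.Geom.sympForm_eq_sum, map_sum, Finset.sum_mul, hermForm_eq_conj D hD,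
    hermForm_eq_conj D hD, ← Finset.sum_sub_distrib]
  refine Finset.sum_congr rfl fun i _ => ?_
  simp only [sympCoord, AddMonoidHom.mk'_apply, Sum.elim_inl, Sum.elim_inr]
  rw [D.emb_cross]
  ring

/-- Coordinates turning an even-dimensional Hermitian space into a hyperbolic quadratic space.
Here `z` has norm `-1` and `w` has trace one. -/
noncomputable def plusCoord (z w : K) {k : ℕ} :
    (Fin (k + k) → K) →+ (Fin (k + k) ⊕ Fin (k + k) → F) :=
  AddMonoidHom.mk' (fun v => Sum.elim
      (Fin.append (fun i => D.c0 (v (Fin.castAdd k i) - z * v (Fin.natAdd k i)))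
        (fun i => D.c1 (v (Fin.castAdd k i) - z * v (Fin.natAdd k i))))
      (Fin.append
        (fun i => D.tr (D.conj
          (z * v (Fin.natAdd k i) + w * (v (Fin.castAdd k i) - z * v (Fin.natAdd k i)))))
        (fun i => D.tr (D.gen * D.conj
          (z * v (Fin.natAdd k i) + w * (v (Fin.castAdd k i) - z * v (Fin.natAdd k i)))))))
    fun u v => by
      funext i
      rcases i with i | i <;> refine Fin.addCases (fun j => ?_) (fun j => ?_) i <;>
        simp only [Sum.elim_inl, Sum.elim_inr, Fin.append_left, Fin.append_right, Pi.add_apply] <;>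
        first
        | (rw [← D.c0_add]; congr 1; ring)
        | (rw [← D.c1_add]; congr 1; ring)
        | (rw [← D.tr_add]; congr 1; simp only [map_add, map_sub, map_mul]; ring)

theorem plusCoord_spec (hD : ∀ x, D.conj x = x ^ q) {z w : K} (hz : z * D.conj z = -1)
    (hw : w + D.conj w = 1) {k : ℕ} (v : Fin (k + k) → K) :
    D.emb (Cfsg.quadFormPlus (k + k) F (plusCoord D z w v)) = Cfsg.hermForm (k + k) K q v v := by
  rw [hermForm_eq_conj D hD, Fin.sum_univ_add, ← Finset.sum_add_distrib]
  simp only [Cfsg.quadFormPlus, plusCoord, AddMonoidHom.mk'_apply, Sum.elim_inl, Sum.elim_inr]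
  rw [Fin.sum_univ_add]
  simp only [Fin.append_left, Fin.append_right]
  rw [← Finset.sum_add_distrib, map_sum]
  refine Finset.sum_congr rfl fun i _ => ?_
  rw [D.tr_mul, D.emb_tr]
  simp only [map_mul, map_add, map_sub, D.conj_conj]
  linear_combination
    ((v (Fin.castAdd k i) - z * v (Fin.natAdd k i)) *
      (D.conj (v (Fin.castAdd k i)) - D.conj z * D.conj (v (Fin.natAdd k i)))) * hw
    + (- v (Fin.natAdd k i) * D.conj (v (Fin.natAdd k i))) * hz

theorem plusCoord_injective {z w : K} (hz : z ≠ 0) {k : ℕ} :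
    Function.Injective (plusCoord D z w (k := k)) := by
  refine (injective_iff_map_eq_zero _).2 fun v hv => ?_
  have hp : ∀ i, v (Fin.castAdd k i) - z * v (Fin.natAdd k i) = 0 := fun i => by
    have h0 := congrFun hv (Sum.inl (Fin.castAdd k i))
    have h1 := congrFun hv (Sum.inl (Fin.natAdd k i))
    simp only [plusCoord, AddMonoidHom.mk'_apply, Sum.elim_inl, Fin.append_left, Fin.append_right,
      Pi.zero_apply] at h0 h1
    rw [← D.decomp (v (Fin.castAdd k i) - _), h0, h1]
    simp
  have hs : ∀ i, v (Fin.natAdd k i) = 0 := fun i => by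
    have h0 := congrFun hv (Sum.inr (Fin.castAdd k i))
    have h1 := congrFun hv (Sum.inr (Fin.natAdd k i))
    simp only [plusCoord, AddMonoidHom.mk'_apply, Sum.elim_inr, Fin.append_left, Fin.append_right,
      Pi.zero_apply] at h0 h1
    have h := D.eq_zero_of_tr h0 h1
    rw [hp, mul_zero, add_zero, map_eq_zero, mul_eq_zero] at h
    exact h.resolve_left hz
  funext i
  refine Fin.addCases (fun j => ?_) (fun j => hs j) i
  have h := hp j
  rwa [hs j, mul_zero, sub_zero] at h

/-- Coordinates for an odd-dimensional Hermitian space: a plus part and one norm form. -/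
noncomputable def minusCoord (z w : K) {k : ℕ} :
    (Fin (k + k + 1) → K) →+ ((Fin (k + k) ⊕ Fin (k + k)) ⊕ Fin 2 → F) :=
  AddMonoidHom.mk' (fun v => Sum.elim (plusCoord D z w fun i => v i.castSucc)
      ![D.c0 (v (Fin.last _)), D.c1 (v (Fin.last _))]) fun u v => by
    funext i
    rcases i with i | i
    · simp only [Sum.elim_inl, Pi.add_apply]
      exact congrFun ((plusCoord D z w).map_add _ _) i
    · fin_cases i <;> simp [D.c0_add, D.c1_add]

theorem minusCoord_spec (hD : ∀ x, D.conj x = x ^ q) {z w : K} (hz : z * D.conj z = -1)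
    (hw : w + D.conj w = 1) {a b : F} (ha : D.gen + D.conj D.gen = D.emb a)
    (hb : D.gen * D.conj D.gen = D.emb b) {k : ℕ} (v : Fin (k + k + 1) → K) :
    D.emb (Cfsg.quadFormMinus (k + k) F a b (minusCoord D z w v)) =
      Cfsg.hermForm (k + k + 1) K q v v := by
  have h := plusCoord_spec D hD hz hw fun i => v i.castSucc
  simp only [Cfsg.quadFormPlus] at h
  simp only [Cfsg.quadFormMinus, minusCoord, AddMonoidHom.mk'_apply, Sum.elim_inl, Sum.elim_inr,
    map_add, h]
  rw [hermForm_eq_conj D hD, hermForm_eq_conj D hD, Fin.sum_univ_castSucc]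
  congr 1
  simp only [Matrix.cons_val_zero, Matrix.cons_val_one, map_mul, map_pow, ← ha, ← hb]
  conv_rhs => rw [← D.decomp (v (Fin.last _))]
  simp only [map_add, map_mul, D.conj_emb]
  ring

theorem minusCoord_injective {z w : K} (hz : z ≠ 0) {k : ℕ} :
    Function.Injective (minusCoord D z w (k := k)) := by
  refine (injective_iff_map_eq_zero _).2 fun v hv => ?_
  have h1 : (fun i : Fin (k + k) => v i.castSucc) = 0 :=
    plusCoord_injective D (w := w) hz (by
      rw [map_zero]; funext i; exact congrFun hv (Sum.inl i))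
  have h2 : v (Fin.last _) = 0 := by
    rw [← D.decomp (v (Fin.last _))]
    rw [show D.c0 (v (Fin.last _)) = 0 from congrFun hv (Sum.inr 0),
      show D.c1 (v (Fin.last _)) = 0 from congrFun hv (Sum.inr 1)]
    simp
  funext i
  exact Fin.lastCases h2 (fun j => congrFun h1 j) i

end GU

section Results

variable {F K : Type*} [Field K] [Fintype K] [Field F] [Fintype F] {q : ℕ}

theorem gu_embeds_symplectic (hK : Fintype.card K = q ^ 2) (hF : Fintype.card F = q) (m : ℕ) :
    ∃ φ : ↥(Cfsg.GU m K q) →* ↥(Matrix.symplecticGroup (Fin m) F), Function.Injective φ := by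
  obtain ⟨D, hD⟩ := exists_extData hK hF
  obtain ⟨L, hL⟩ := exists_addEquiv_of_injective (sympCoord D (n := m))
    (fun u v huv => funext fun i =>
      D.coord_ext (congrFun huv (Sum.inl i)) (congrFun huv (Sum.inr i)))
    (by simp [hK, hF, ← pow_mul, two_mul])
  obtain ⟨φ, hφ⟩ := exists_embed_of_addEquiv D.emb L
    (fun t v => by rw [hL, hL]; funext i; rcases i with i | i <;> simp [sympCoord, D.c0_emb_mul, D.c1_emb_mul])
    (Cfsg.GU m K q)
    { carrier := {g | (g : Matrix (Fin m ⊕ Fin m) (Fin m ⊕ Fin m) F) ∈ Matrix.symplecticGroup (Fin m) F}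
      mul_mem' := fun {a b} ha hb => by
        show ((a * b : GL _ F) : Matrix _ _ F) ∈ Matrix.symplecticGroup (Fin m) F
        rw [Units.val_mul]; exact Submonoid.mul_mem _ ha hb
      one_mem' := by simpa using Submonoid.one_mem (Matrix.symplecticGroup (Fin m) F)
      inv_mem' := fun {g} hg => by
        rw [Set.mem_ofPred_eq, CfsgLib.Geom.mem_symplecticGroup_iff_form] at hg ⊢
        intro u v
        rw [← hg (_ *ᵥ u), Matrix.mulVec_mulVec, Matrix.mulVec_mulVec, ← Units.val_mul,
          mul_inv_cancel, Units.val_one, Matrix.one_mulVec, Matrix.one_mulVec] }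
    (fun g hg g' hg' => by
      show (g' : Matrix _ _ F) ∈ Matrix.symplecticGroup (Fin m) F
      rw [CfsgLib.Geom.mem_symplecticGroup_iff_form]
      intro u v
      obtain ⟨u, rfl⟩ := L.surjective u
      obtain ⟨v, rfl⟩ := L.surjective v
      rw [hg', hg', hL, hL, hL, hL]
      refine D.emb.injective (mul_right_cancel₀ D.sub_ne ?_)
      rw [sympCoord_spec D hD, sympCoord_spec D hD]
      have h1 : ∀ u v, Cfsg.hermForm m K q ((g : Matrix _ _ K) *ᵥ u) ((g : Matrix _ _ K) *ᵥ v) =
          Cfsg.hermForm m K q u v := hg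
      rw [h1, h1])
  exact ⟨MonoidHom.codRestrict ((Units.coeHom _).comp ((Subgroup.subtype _).comp φ))
      (Matrix.symplecticGroup (Fin m) F) fun g => (φ g).2,
    fun a b h => hφ (Subtype.ext (Units.ext (congrArg Subtype.val h)))⟩

theorem exists_norm_neg_one (hK : Fintype.card K = q ^ 2) :
    ∃ z : K, z * qFrob hK z = -1 :=
  CfsgLib.Geom.exists_norm_eq (qFrob_ne_id hK) (qFrob_qFrob hK) (by rw [map_neg, map_one])

theorem gu_embeds_plus (hK : Fintype.card K = q ^ 2) (hF : Fintype.card F = q) (k : ℕ) :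
    ∃ φ : ↥(Cfsg.GU (k + k) K q) →* ↥(Cfsg.isometryGroup F (Cfsg.quadFormPlus (k + k) F)),
      Function.Injective φ := by
  obtain ⟨D, hD⟩ := exists_extData hK hF
  have hconj : ∀ x, qFrob hK x = D.conj x := fun x => by rw [qFrob_apply, hD]
  obtain ⟨z, hz⟩ := exists_norm_neg_one hK
  obtain ⟨w, hw⟩ := exists_qFrob_trace_one hK
  rw [hconj] at hz hw
  have hz0 : z ≠ 0 := fun h => by simp [h] at hz
  obtain ⟨L, hL⟩ := exists_addEquiv_of_injective (plusCoord D z w (k := k))
    (plusCoord_injective D hz0) (by simp [hK, hF, ← pow_mul, two_mul])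
  refine exists_embed_of_addEquiv D.emb L (fun t v => ?_) _ _ fun g hg g' hg' => ?_
  · rw [hL, hL]
    funext i
    rcases i with i | i <;> refine Fin.addCases (fun j => ?_) (fun j => ?_) i <;>
      simp only [plusCoord, AddMonoidHom.mk'_apply, Sum.elim_inl, Sum.elim_inr, Fin.append_left,
        Fin.append_right, Pi.smul_apply, smul_eq_mul] <;>
      first
      | (rw [← D.c0_emb_mul]; congr 1; ring)
      | (rw [← D.c1_emb_mul]; congr 1; ring)
      | (rw [← D.tr_emb_mul]; congr 1; simp only [map_add, map_sub, map_mul, D.conj_emb]; ring)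
  · intro u v
    obtain ⟨u, rfl⟩ := L.surjective u
    show Cfsg.quadFormPlus (k + k) F ((g' : Matrix _ _ F) *ᵥ L u) = _
    rw [hg', hL, hL]
    refine D.emb.injective ?_
    rw [plusCoord_spec D hD hz hw, plusCoord_spec D hD hz hw]
    exact hg u u

theorem gu_embeds_minus (hK : Fintype.card K = q ^ 2) (hF : Fintype.card F = q) (k : ℕ) (a b : F)
    (hab : ∀ z₁ z₂ : F, z₁ ^ 2 + a * z₁ * z₂ + b * z₂ ^ 2 = 0 → z₁ = 0 ∧ z₂ = 0) :
    ∃ φ : ↥(Cfsg.GU (k + k + 1) K q) →*
      ↥(Cfsg.isometryGroup F (Cfsg.quadFormMinus (k + k) F a b)), Function.Injective φ := by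
  obtain ⟨D, hD, ha, hb⟩ := exists_extData_of_form hK hF a b hab
  have hconj : ∀ x, qFrob hK x = D.conj x := fun x => by rw [qFrob_apply, hD]
  obtain ⟨z, hz⟩ := exists_norm_neg_one hK
  obtain ⟨w, hw⟩ := exists_qFrob_trace_one hK
  rw [hconj] at hz hw
  have hz0 : z ≠ 0 := fun h => by simp [h] at hz
  obtain ⟨L, hL⟩ := exists_addEquiv_of_injective (minusCoord D z w (k := k))
    (minusCoord_injective D hz0) (by simp [hK, hF, ← pow_mul]; ring_nf)
  refine exists_embed_of_addEquiv D.emb L (fun t v => ?_) _ _ fun g hg g' hg' => ?_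
  · rw [hL, hL]
    funext i
    rcases i with (i | i) | i
    all_goals first
      | (fin_cases i <;> simp [minusCoord, D.c0_emb_mul, D.c1_emb_mul])
      | (refine Fin.addCases (fun j => ?_) (fun j => ?_) i <;>
          simp only [minusCoord, plusCoord, AddMonoidHom.mk'_apply, Sum.elim_inl, Sum.elim_inr,
            Fin.append_left, Fin.append_right, Pi.smul_apply, smul_eq_mul] <;>
          first
          | (rw [← D.c0_emb_mul]; congr 1; ring)
          | (rw [← D.c1_emb_mul]; congr 1; ring)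
          | (rw [← D.tr_emb_mul]; congr 1; simp only [map_add, map_sub, map_mul, D.conj_emb]; ring))
  · intro u v
    obtain ⟨u, rfl⟩ := L.surjective u
    show Cfsg.quadFormMinus (k + k) F a b ((g' : Matrix _ _ F) *ᵥ L u) = _
    rw [hg', hL, hL]
    refine D.emb.injective ?_
    rw [minusCoord_spec D hD hz hw ha hb, minusCoord_spec D hD hz hw ha hb]
    exact hg u u

end Results

end CfsgLib.KnownC
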