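import Mathlib
import Cfsg.Prelude.Def_KGroupFacts
import Cfsg.Agent.Lib.KnownC.AutPSUField
import Cfsg.Agent.Lib.KnownC.FieldAut

set_option autoImplicit false
set_option linter.unusedSectionVars false
set_option linter.style.haveILetI false

/-!
The structure of `Aut` and `Out` of `PSU_n(q)`.
-/

namespace CfsgLib.KnownC

open Matrix CfsgLib.Classical CfsgLib.Geom

variable {n q : ℕ} {F : Type*} [Field F] [Fintype F]

theorem psuSemiAut_field_unique (hF : Fintype.card F = q ^ 2) (hn : 3 ≤ n) (h32 : ¬ (n = 3 ∧ q = 2))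
    {g h : Cfsg.GU n F q} {ρ τ : F ≃+* F} (he : psuSemiAut g ρ = psuSemiAut h τ) : ρ = τ := by
  rw [← mul_inv_eq_one, psuSemiAut_inv, psuSemiAut_mul, psuSemiAut_eq_one_iff hF hn h32] at he
  exact mul_inv_eq_one.1 he.1

/-- The field part of an automorphism of `PSU_n`. -/
theorem exists_fieldPart_hom (hF : Fintype.card F = q ^ 2) (hn : 3 ≤ n) (h32 : ¬ (n = 3 ∧ q = 2)) :
    ∃ Φ : MulAut (Cfsg.PSU n F q) →* (F ≃+* F),
      Function.Surjective Φ ∧ Φ.ker = Cfsg.inndiagPSU n F q := by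
  choose g ρ hgρ using exists_psuSemiAut (n := n) hF hn h32
  let Φ : MulAut (Cfsg.PSU n F q) →* (F ≃+* F) :=
    MonoidHom.mk' ρ fun a b => psuSemiAut_field_unique hF hn h32
      ((hgρ (a * b)).symm.trans ((congrArg₂ (· * ·) (hgρ a) (hgρ b)).trans (psuSemiAut_mul _ _ _ _)))
  refine ⟨Φ, fun τ => ⟨psuSemiAut 1 τ, psuSemiAut_field_unique hF hn h32 (hgρ _).symm⟩, ?_⟩
  ext β
  rw [MonoidHom.mem_ker, inndiagPSU_eq_range]
  constructor
  · intro hβ
    have h1 : ρ β = RingEquiv.refl F := hβ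
    exact ⟨g β, by rw [psuInndiagHom_apply, ← h1, ← hgρ]⟩
  · rintro ⟨k, rfl⟩
    exact psuSemiAut_field_unique hF hn h32 (hgρ _).symm

theorem conjHom_psu_injective (hF : Fintype.card F = q ^ 2) (hn : 3 ≤ n) (h32 : ¬ (n = 3 ∧ q = 2)) :
    Function.Injective (MulAut.conj : Cfsg.PSU n F q →* MulAut (Cfsg.PSU n F q)) := by
  refine (injective_iff_map_eq_one _).2 fun x hx => ?_
  obtain ⟨s, rfl⟩ := QuotientGroup.mk_surjective x
  rw [← psuInndiagHom_suToGU, psuInndiagHom_apply, psuSemiAut_eq_one_iff hF hn h32] at hx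
  obtain ⟨-, c, hc⟩ := hx
  refine (QuotientGroup.eq_one_iff _).2 (Subgroup.mem_center_iff.2 fun t => Subtype.ext (Subtype.ext ?_))
  show t.1.1 * s.1.1 = s.1.1 * t.1.1
  rw [show s.1.1 = (c : F) • 1 from hc, smul_mul, one_mul, mul_smul_comm, mul_one]

theorem card_inn_psu (hF : Fintype.card F = q ^ 2) (hn : 3 ≤ n) (h32 : ¬ (n = 3 ∧ q = 2)) :
    Nat.card (Cfsg.Inn (Cfsg.PSU n F q)) = Nat.card (Cfsg.PSU n F q) :=
  (Nat.card_congr (MonoidHom.ofInjective (conjHom_psu_injective hF hn h32)).toEquiv).symm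

/-- The diagonal outer automorphisms: a cyclic group of order `gcd(n, q + 1)`. -/
theorem outDiag_psu (hF : Fintype.card F = q ^ 2) (hn : 3 ≤ n) (h32 : ¬ (n = 3 ∧ q = 2)) :
    IsCyclic ((QuotientGroup.mk' (Cfsg.Inn (Cfsg.PSU n F q))).comp psuInndiagHom).range ∧
      Nat.card ((QuotientGroup.mk' (Cfsg.Inn (Cfsg.PSU n F q))).comp psuInndiagHom).range =
        Nat.gcd n (q + 1) := by
  set χ := (QuotientGroup.mk' (Cfsg.Inn (Cfsg.PSU n F q))).comp psuInndiagHom with hχ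
  have hker : χ.ker = (guDet hF (by omega)).ker ⊔ (psuInndiagHom (n := n) (F := F) (q := q)).ker := by
    rw [hχ, ← MonoidHom.comap_ker, QuotientGroup.ker_mk', innPSU_eq_map_ker hF (by omega),
      Subgroup.comap_map_eq]
  have hle : (guDet (n := n) hF (by omega)).ker ≤ χ.ker := by rw [hker]; exact le_sup_left
  have hsurj := guDet_surjective (n := n) hF (by omega : 1 ≤ n)
  refine ⟨?_, ?_⟩
  · let ψ := (guDet (n := n) hF (by omega)).liftOfSurjective hsurj ⟨χ, hle⟩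
    have hψ : ∀ g, ψ (guDet hF (by omega) g) = χ g := fun g =>
      MonoidHom.liftOfRightInverse_comp_apply _ _ _ ⟨χ, hle⟩ g
    have hr : χ.range = ψ.range := by
      ext x
      constructor
      · rintro ⟨g, rfl⟩; exact ⟨_, hψ g⟩
      · rintro ⟨u, rfl⟩
        obtain ⟨g, rfl⟩ := hsurj u
        exact ⟨g, (hψ g).symm⟩
    rw [hr]
    exact isCyclic_of_surjective _ ψ.rangeRestrict_surjective
  · rw [← Subgroup.index_ker, ← Subgroup.index_map_eq _ hsurj hle, hker, Subgroup.map_sup,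
      (Subgroup.map_eq_bot_iff _).2 le_rfl, bot_sup_eq, guDet_map_ker hF hn h32,
      IsCyclic.index_powMonoidHom_range, card_normOne hF, Nat.gcd_comm]

theorem card_inndiagPSU (hF : Fintype.card F = q ^ 2) (hn : 3 ≤ n) (h32 : ¬ (n = 3 ∧ q = 2)) :
    Nat.card (Cfsg.inndiagPSU n F q) = Nat.gcd n (q + 1) * Nat.card (Cfsg.PSU n F q) := by
  have hle := inn_le_inndiagPSU (n := n) hF (by omega : 1 ≤ n)
  have h1 : (Cfsg.Inn (Cfsg.PSU n F q)).relIndex (Cfsg.inndiagPSU n F q) = Nat.gcd n (q + 1) := by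
    rw [← (outDiag_psu hF hn h32).2, inndiagPSU_eq_range, ← Subgroup.index_comap, ← Subgroup.index_ker,
      ← MonoidHom.comap_ker, QuotientGroup.ker_mk']
  rw [← h1, ← card_inn_psu hF hn h32, mul_comm, Subgroup.relIndex,
    ← Nat.card_congr (Subgroup.subgroupOfEquivOfLe hle).toEquiv, Subgroup.card_mul_index]

theorem card_mulAut_psu (hF : Fintype.card F = q ^ 2) (hn : 3 ≤ n) (h32 : ¬ (n = 3 ∧ q = 2)) :
    Nat.card (MulAut (Cfsg.PSU n F q)) =
      Nat.gcd n (q + 1) * Nat.card (F ≃+* F) * Nat.card (Cfsg.PSU n F q) := by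
  obtain ⟨Φ, hΦ, hker⟩ := exists_fieldPart_hom (n := n) hF hn h32
  rw [← Φ.ker.card_mul_index, Subgroup.index_ker, MonoidHom.range_eq_top.2 hΦ, Subgroup.card_top, hker,
    card_inndiagPSU hF hn h32]
  ring

theorem exists_out_psu_hom (hF : Fintype.card F = q ^ 2) (hn : 3 ≤ n) (h32 : ¬ (n = 3 ∧ q = 2))
    {M : Type*} [Group M] (e : (F ≃+* F) ≃* M) :
    ∃ φ : Cfsg.Out (Cfsg.PSU n F q) →* M,
      Function.Surjective φ ∧ IsCyclic φ.ker ∧ Nat.card φ.ker = Nat.gcd n (q + 1) := by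
  obtain ⟨Φ, hΦ, hker⟩ := exists_fieldPart_hom (n := n) hF hn h32
  have hinn : Cfsg.Inn (Cfsg.PSU n F q) ≤ ((e : (F ≃+* F) →* M).comp Φ).ker := by
    rw [MonoidHom.ker_mulEquiv_comp, hker]
    exact inn_le_inndiagPSU hF (by omega)
  refine ⟨QuotientGroup.lift _ ((e : (F ≃+* F) →* M).comp Φ) hinn, fun x => ?_, ?_⟩
  · obtain ⟨β, rfl⟩ := (e.surjective.comp hΦ) x
    exact ⟨QuotientGroup.mk β, rfl⟩
  have hK : (QuotientGroup.lift _ ((e : (F ≃+* F) →* M).comp Φ) hinn).ker =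
      ((QuotientGroup.mk' (Cfsg.Inn (Cfsg.PSU n F q))).comp psuInndiagHom).range := by
    rw [MonoidHom.range_comp, ← inndiagPSU_eq_range, QuotientGroup.ker_lift, MonoidHom.ker_mulEquiv_comp,
      hker]
  rw [hK]
  exact outDiag_psu hF hn h32

end CfsgLib.KnownC
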