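import Mathlib
import Cfsg.Agent.Lib.KnownC.OrthSpinor

set_option autoImplicit false
set_option linter.unusedSectionVars false
set_option linter.style.haveILetI false

/-!
`Ω` of the standard forms: classes of maximal totally singular subspaces, the Levi subgroup `GL_m`, negated
hyperbolic pairs.
-/

namespace CfsgLib.KnownC

open CfsgLib.Geom CfsgLib.Classical
open QuadraticMap (polar)
open Matrix

universe u

variable {F : Type u} [Field F]

/-- The standard maximal totally singular subspace `{y = 0}`. -/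
noncomputable abbrev plusU₀ (m : ℕ) : Submodule F (Fin m ⊕ Fin m → F) :=
  LinearMap.ker (LinearMap.funLeft F F (Sum.inr : Fin m → Fin m ⊕ Fin m))

theorem mem_plusU₀ {m : ℕ} {v : Fin m ⊕ Fin m → F} : v ∈ plusU₀ (F := F) m ↔ ∀ i, v (.inr i) = 0 := by
  rw [LinearMap.mem_ker, funext_iff]; rfl

theorem isMaxTS_plusU₀ (m : ℕ) : IsMaxTS (qfPlus m F) m (plusU₀ (F := F) m) := by
  have he : plusU₀ (F := F) m = coordTS m (fun _ => false) := Submodule.ext fun v => by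
    rw [mem_plusU₀, mem_coordTS]; simp
  obtain ⟨h1, h2⟩ := isMaxTS_coordTS (F := F) m (fun _ => false)
  rw [he]
  exact ⟨h1, fun u hu => by rw [qfPlus_apply, ← plusForm_coe]; exact h2 u hu⟩

theorem splitCtx_plusU₀ {m : ℕ} (hm : 1 ≤ m) : SplitCtx (qfPlus m F) m (plusU₀ (F := F) m) :=
  splitCtx_of_sep (qfPlus_sep m) (by simp; omega) (isMaxTS_plusU₀ m) hm

theorem qfPlus_single (m : ℕ) (k : Fin m ⊕ Fin m) : qfPlus m F (Pi.single k 1) = 0 := by
  rcases k with i | i <;> simp [qfPlus_apply, Cfsg.quadFormPlus, Pi.single_apply]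

theorem exGen_plus [Fintype F] {m : ℕ} (h : Fintype.card F ≠ 2 ∨ m ≠ 2) :
    (∃ t : F, t ≠ 0 ∧ t ≠ 1) ∨ Module.finrank F (Fin m ⊕ Fin m → F) ≠ 4 :=
  exGen_of_card (h.imp_right fun h => by simp; omega)

theorem parity_iff_det [Fintype F] (h2 : (2 : F) ≠ 0) {m : ℕ} (hm : 1 ≤ m)
    (Q' : (Fin m ⊕ Fin m → F) → F) (hQ' : Q' = ⇑(qfPlus m F)) (g : Cfsg.isometryGroup F Q') :
    Even (m - Module.finrank F ↥(plusU₀ (F := F) m ⊓ (plusU₀ (F := F) m).map (Matrix.mulVecLin g.1.1))) ↔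
      g.1.1.det = 1 := by
  subst hQ'
  rw [← spinorHom_fst_eq_one_iff (qfPlus_sep m) h2 (by simp; omega),
    spinorHom_fst_iff_parity (splitCtx_plusU₀ hm) (qfPlus_sep m)]
  rfl

theorem parity_iff_omega [Fintype F] (h2 : (2 : F) = 0) {m : ℕ} (hm : 1 ≤ m) (h : Fintype.card F ≠ 2 ∨ m ≠ 2)
    (Q' : (Fin m ⊕ Fin m → F) → F) (hQ' : Q' = ⇑(qfPlus m F)) (g : Cfsg.isometryGroup F Q') :
    Even (m - Module.finrank F ↥(plusU₀ (F := F) m ⊓ (plusU₀ (F := F) m).map (Matrix.mulVecLin g.1.1))) ↔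
      g ∈ Cfsg.Omega F Q' := by
  subst hQ'
  rw [mem_omega_iff_of_two h2 (qfPlus_sep m) (exGen_plus h),
    spinorHom_fst_iff_parity (splitCtx_plusU₀ hm) (qfPlus_sep m)]
  rfl

theorem plus_omega_map_maxTS [Fintype F] {m : ℕ} (hm : 1 ≤ m) (h : Fintype.card F ≠ 2 ∨ m ≠ 2)
    (Q' : (Fin m ⊕ Fin m → F) → F) (hQ' : Q' = ⇑(qfPlus m F)) {U W : Submodule F (Fin m ⊕ Fin m → F)}
    (hU : Module.finrank F U = m) (hW : Module.finrank F W = m) (hU0 : ∀ u ∈ U, Q' u = 0)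
    (hW0 : ∀ w ∈ W, Q' w = 0) (he : Even (m - Module.finrank F ↥(U ⊓ W))) :
    ∃ g : Cfsg.isometryGroup F Q', g ∈ Cfsg.Omega F Q' ∧ U.map (Matrix.mulVecLin g.1.1) = W := by
  subst hQ'
  exact exists_omega_map_maxTS (splitCtx_of_sep (qfPlus_sep m) (by simp; omega) ⟨hU, hU0⟩ hm) ⟨hW, hW0⟩
    (qfPlus_sep m) (exGen_plus h) he

/-- An element of `Ω` interchanging the standard subspaces exists exactly when `m` is even. -/
theorem plus_omega_swap_iff [Fintype F] {m : ℕ} (hm : 1 ≤ m) (h : Fintype.card F ≠ 2 ∨ m ≠ 2)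
    (Q' : (Fin m ⊕ Fin m → F) → F) (hQ' : Q' = ⇑(qfPlus m F)) :
    (∃ g : Cfsg.isometryGroup F Q', g ∈ Cfsg.Omega F Q' ∧
      (∀ v : Fin m ⊕ Fin m → F, (∀ i, v (Sum.inr i) = 0) → ∀ i, (g.1.1 *ᵥ v) (Sum.inl i) = 0) ∧
      (∀ v : Fin m ⊕ Fin m → F, (∀ i, v (Sum.inl i) = 0) → ∀ i, (g.1.1 *ᵥ v) (Sum.inr i) = 0)) ↔ Even m := by
  subst hQ'
  have hex := exGen_plus (F := F) h
  have hS := splitCtx_plusU₀ (F := F) hm
  have hinter : ∀ g : Cfsg.isometryGroup F (⇑(qfPlus m F)),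
      (∀ v : Fin m ⊕ Fin m → F, (∀ i, v (Sum.inr i) = 0) → ∀ i, (g.1.1 *ᵥ v) (Sum.inl i) = 0) →
      ((spinorHom (qfPlus m F) (qfPlus_sep m) hex g).1 = 1 ↔ Even m) := by
    intro g hg
    rw [spinorHom_fst_iff_parity hS (qfPlus_sep m)]
    have h0 : plusU₀ (F := F) m ⊓ Cfsg.imageSubmodule g.1.1 (plusU₀ (F := F) m) = ⊥ := by
      refine (Submodule.eq_bot_iff _).2 ?_
      rintro _ ⟨h1, u, hu, rfl⟩
      rw [Matrix.toLin'_apply] at h1 ⊢
      funext k
      rcases k with i | i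
      · exact hg u (mem_plusU₀.1 hu) i
      · exact mem_plusU₀.1 h1 i
    rw [h0, finrank_bot, Nat.sub_zero]
  refine ⟨fun ⟨g, hg, h1, _⟩ => (hinter g h1).1 ?_, fun hev => ?_⟩
  · rw [omega_eq_ker_spinorHom (qfPlus m F) (qfPlus_sep m) hex, MonoidHom.mem_ker] at hg
    rw [hg]; rfl
  obtain ⟨σ, hσ⟩ : ∃ σ : Cfsg.isometryGroup F (⇑(qfPlus m F)), ∀ v k, (σ.1.1 *ᵥ v) k = v (Sum.swap k) := by
    refine ⟨orEquiv _ ⟨LinearEquiv.funCongrLeft F F (Equiv.sumComm (Fin m) (Fin m)), fun v => ?_⟩,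
      fun v k => by rw [orEquiv_mulVec]; rfl⟩
    simp only [qfPlus_apply, Cfsg.quadFormPlus]
    exact Finset.sum_congr rfl fun i _ => mul_comm _ _
  have hσ1 : ∀ v : Fin m ⊕ Fin m → F, (∀ i, v (Sum.inr i) = 0) → ∀ i, (σ.1.1 *ᵥ v) (Sum.inl i) = 0 :=
    fun v hv i => (hσ v _).trans (hv i)
  obtain ⟨s, t, -, htv, hmem, -⟩ := exists_torus_correction (qfPlus_sep m) hex
    (e := Pi.single (.inl ⟨0, hm⟩) 1) (f := Pi.single (.inr ⟨0, hm⟩) 1) (qfPlus_single m _) (qfPlus_single m _)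
    (by rw [(polar_qfPlus_single _ _).1]; simp) ((hinter σ hσ1).2 hev)
  have key : ∀ v k, (((σ * t : Cfsg.isometryGroup F (⇑(qfPlus m F))) : GL (Fin m ⊕ Fin m) F).1 *ᵥ v) k =
      v (Sum.swap k) + ((s - 1) * v (.inl ⟨0, hm⟩) * (Pi.single (.inl ⟨0, hm⟩) (1 : F) : _ → F) (Sum.swap k) +
        (s⁻¹ - 1) * v (.inr ⟨0, hm⟩) * (Pi.single (.inr ⟨0, hm⟩) (1 : F) : _ → F) (Sum.swap k)) := fun v k => by
    rw [Subgroup.coe_mul, Units.val_mul, ← mulVec_mulVec, hσ, htv, (polar_qfPlus_single _ v).1,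
      (polar_qfPlus_single _ v).2]
    simp
  refine ⟨σ * t, hmem, fun v hv i => ?_, fun v hv i => ?_⟩
  · rw [key]; simp [hv]
  · rw [key]; simp [hv]

section Levi

variable [Fintype F] {m : ℕ}

/-- `diag(A, A⁻ᵀ)` as a homomorphism. -/
theorem exists_levi (m : ℕ) : ∃ Φ : GL (Fin m) F →* Cfsg.isometryGroup F (⇑(qfPlus m F)),
    ∀ A, (Φ A).1.1 = Matrix.fromBlocks A.1 0 0 (A.1⁻¹).transpose := by
  have hone : ∀ A : GL (Fin m) F, (A⁻¹).1 = A.1⁻¹ := fun A => Matrix.coe_units_inv A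
  obtain ⟨blk, hblk⟩ : ∃ blk : GL (Fin m) F →* Matrix (Fin m ⊕ Fin m) (Fin m ⊕ Fin m) F,
      ∀ A, blk A = Matrix.fromBlocks A.1 0 0 (A.1⁻¹).transpose :=
    ⟨{ toFun := fun A => Matrix.fromBlocks A.1 0 0 (A⁻¹).1.transpose
       map_one' := by simp
       map_mul' := fun A B => by simp [Matrix.fromBlocks_multiply, _root_.mul_inv_rev, Matrix.transpose_mul] },
      fun A => by rw [← hone]; rfl⟩
  have hq : ∀ A v, qfPlus m F (blk A *ᵥ v) = qfPlus m F v := fun A v => by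
    have hdot : ∀ x : Fin m ⊕ Fin m → F, qfPlus m F x = (x ∘ Sum.inl) ⬝ᵥ (x ∘ Sum.inr) := fun x => by
      rw [qfPlus_apply]; rfl
    rw [hdot, hdot, hblk, Matrix.fromBlocks_mulVec, Sum.elim_comp_inl, Sum.elim_comp_inr, zero_mulVec,
      zero_mulVec, add_zero, zero_add, dotProduct_mulVec, ← Matrix.vecMul_transpose, Matrix.vecMul_vecMul,
      ← Matrix.transpose_mul, Matrix.nonsing_inv_mul _ ((Matrix.isUnit_iff_isUnit_det _).1 A.isUnit),
      Matrix.transpose_one, vecMul_one]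
  refine ⟨blk.toHomUnits.codRestrict (Cfsg.isometryGroup F (⇑(qfPlus m F)))
    (fun A => (mem_isometryGroup_iff _ _).2 (hq A)), hblk⟩

theorem levi_spinor (hm : 1 ≤ m) (h : Fintype.card F ≠ 2 ∨ m ≠ 2)
    {Φ : GL (Fin m) F →* Cfsg.isometryGroup F (⇑(qfPlus m F))}
    (hΦ : ∀ A, (Φ A).1.1 = Matrix.fromBlocks A.1 0 0 (A.1⁻¹).transpose) (A : GL (Fin m) F) :
    spinorHom (qfPlus m F) (qfPlus_sep m) (exGen_plus h) (Φ A) = 1 ↔ IsSquare A.1.det := by
  obtain ⟨χ, hχ⟩ : ∃ χ, χ = spinorHom (qfPlus m F) (qfPlus_sep m) (exGen_plus h) := ⟨_, rfl⟩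
  obtain ⟨ψ, hψ⟩ : ∃ ψ : GL (Fin m) F →* SqClass F, ∀ A, ψ A = (χ (Φ A)).2 :=
    ⟨(MonoidHom.snd _ _).comp (χ.comp Φ), fun _ => rfl⟩
  have hdet : ∀ A : GL (Fin m) F, A.1.det ≠ 0 := fun A =>
    ((Matrix.isUnit_iff_isUnit_det _).1 A.isUnit).ne_zero
  have hfst : (χ (Φ A)).1 = 1 := by
    rw [hχ, ← preserves_isometry_iff (splitCtx_plusU₀ hm) (qfPlus_sep m) (exGen_plus h)]
    refine preserves_of_fix (splitCtx_plusU₀ hm) (μ := 1)
      (fun v => by rw [one_mul]; exact (mem_isometryGroup_iff _ _).1 (Φ A).2 v) fun u hu => ?_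
    rw [mem_plusU₀] at hu ⊢
    intro i
    rw [hΦ, Matrix.fromBlocks_mulVec, Sum.elim_inr, show u ∘ Sum.inr = 0 from funext hu, mulVec_zero, zero_mulVec,
      add_zero]
    rfl
  have key : ∀ (M : Matrix (Fin m) (Fin m) F), M.det ≠ 0 →
      ∀ B : GL (Fin m) F, B.1 = M → ψ B = sqClass (hdet B) := by
    intro M hM
    refine Matrix.diagonal_transvection_induction_of_det_ne_zero
      (fun M => ∀ B : GL (Fin m) F, B.1 = M → ψ B = sqClass (hdet B)) M hM ?_ ?_ ?_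
    · intro D hD B hB
      rw [Matrix.det_diagonal, Finset.prod_ne_zero_iff] at hD
      obtain ⟨g, hg, hgv⟩ := exists_torus (Q := qfPlus m F) (qfPlus_sep m) (exGen_plus h)
        (e := fun i => Pi.single (.inl i) 1) (f := fun i => Pi.single (.inr i) 1)
        (fun i => qfPlus_single m _) (fun i => qfPlus_single m _)
        (fun i j => by rw [(polar_qfPlus_single i _).1]; simp [Pi.single_apply, eq_comm])
        (fun i j hij => by rw [(polar_qfPlus_single i _).1]; simp [Pi.single_apply])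
        (fun i j hij => by rw [(polar_qfPlus_single i _).2]; simp [Pi.single_apply])
        (d := D) (fun i => hD i (Finset.mem_univ i)) Finset.univ
      have hgB : Φ B = g := by
        refine Subtype.ext (Units.ext (Matrix.ext_iff_mulVec.2 fun v => ?_))
        have hinv : B.1⁻¹ = Matrix.diagonal fun i => (D i)⁻¹ := by
          refine Matrix.inv_eq_right_inv ?_
          rw [hB, Matrix.diagonal_mul_diagonal, ← Matrix.diagonal_one]
          exact congrArg _ (funext fun i => mul_inv_cancel₀ (hD i (Finset.mem_univ i)))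
        rw [hgv, hΦ, hinv, hB, Matrix.diagonal_transpose, Matrix.fromBlocks_diagonal]
        funext k
        rw [Matrix.mulVec_diagonal]
        simp only [(polar_qfPlus_single _ v).1, (polar_qfPlus_single _ v).2]
        rcases k with i | i <;>
          simp [Finset.sum_apply, Pi.single_apply, Finset.sum_add_distrib] <;> ring
      rw [hψ, hgB, hχ, hg]
      show sqClass _ = sqClass _
      rw [sqClass, sqClass]
      exact congrArg (sqProj F) (Units.ext (by simp [hB]))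
    · intro t B hB
      have h1 : sqClass (hdet B) = 1 := (sqClass_eq_one_iff _).2 (by rw [hB, Matrix.TransvectionStruct.det]; simp)
      rw [h1]
      by_cases h2 : (2 : F) = 0
      · exact sqClass_eq_one_of_two_eq_zero h2 _
      haveI : NeZero (2 : F) := ⟨h2⟩
      obtain ⟨i, j, hij, c⟩ := t
      obtain ⟨C, hC⟩ : ∃ C : GL (Fin m) F, C.1 = Matrix.transvection i j (c / 2) :=
        ⟨Matrix.GeneralLinearGroup.mkOfDetNeZero _ (fun h0 => one_ne_zero ((Matrix.det_transvection_of_ne i j hij (c / 2)).symm.trans h0)),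
          rfl⟩
      have hBC : B = C * C := Units.ext (by
        rw [Units.val_mul, hC, Matrix.transvection_mul_transvection_same i j hij, hB, add_halves]
        rfl)
      rw [hBC, map_mul]
      exact sqClass_mul_self _
    · intro M N hM hN ihM ihN B hB
      obtain ⟨B₁, hB₁⟩ : ∃ B₁ : GL (Fin m) F, B₁.1 = M :=
        ⟨Matrix.GeneralLinearGroup.mkOfDetNeZero M hM, rfl⟩
      obtain ⟨B₂, hB₂⟩ : ∃ B₂ : GL (Fin m) F, B₂.1 = N :=
        ⟨Matrix.GeneralLinearGroup.mkOfDetNeZero N hN, rfl⟩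
      have hBB : B = B₁ * B₂ := Units.ext (by rw [Units.val_mul, hB₁, hB₂, hB])
      subst hBB
      rw [map_mul, ihM B₁ hB₁, ihN B₂ hB₂, ← sqClass_mul, sqClass, sqClass]
      exact congrArg (sqProj F) (Units.ext (by simp [Units.val_mul]))
  have hψA := key A.1 (hdet A) A rfl
  rw [hψ] at hψA
  rw [← hχ, ← sqClass_eq_one_iff (hdet A), ← hψA]
  exact ⟨fun h1 => by rw [h1]; rfl, fun h1 => Prod.ext hfst h1⟩

theorem levi_mem_omega_iff (hm : 1 ≤ m) (h : Fintype.card F ≠ 2 ∨ m ≠ 2)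
    (Q' : (Fin m ⊕ Fin m → F) → F) (hQ' : Q' = ⇑(qfPlus m F)) (A : GL (Fin m) F) :
    (∃ g : Cfsg.isometryGroup F Q', g ∈ Cfsg.Omega F Q' ∧
      g.1.1 = Matrix.fromBlocks A.1 0 0 (A.1⁻¹).transpose) ↔ IsSquare A.1.det := by
  subst hQ'
  obtain ⟨Φ, hΦ⟩ := exists_levi (F := F) m
  rw [isometry_iff_eq_matrix (t := Φ A) (hΦ A), omega_eq_ker_spinorHom (qfPlus m F) (qfPlus_sep m) (exGen_plus h),
    MonoidHom.mem_ker, levi_spinor hm h hΦ A]

end Levi

section Neg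

variable [Fintype F] {q : ℕ}

theorem plus_neg_pairs_mem_omega_iff (hF : Fintype.card F = q) (hq : Odd q) {m : ℕ} (i : ℕ) (him : i ≤ m)
    (Q' : (Fin m ⊕ Fin m → F) → F) (hQ' : Q' = ⇑(qfPlus m F)) :
    (∃ g : Cfsg.isometryGroup F Q', g ∈ Cfsg.Omega F Q' ∧ g.1.1 = Matrix.diagonal (fun k : Fin m ⊕ Fin m =>
      if (Sum.elim (fun j : Fin m => (j : ℕ)) (fun j : Fin m => (j : ℕ)) k) < i then (-1 : F) else 1)) ↔
      q ^ i % 4 = 1 := by
  have h2 : (2 : F) ≠ 0 := CfsgLib.Classical.two_ne_zero_of_odd (hF ▸ hq)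
  rw [neg_pairs_mem_omega_iff h2 (qfPlus_sep m) (e := fun j => Pi.single (.inl j) 1)
    (f := fun j => Pi.single (.inr j) 1) (fun j => qfPlus_single m _) (fun j => qfPlus_single m _)
    (fun i j => by rw [(polar_qfPlus_single i _).1]; simp [Pi.single_apply, eq_comm])
    (fun i j hij => by rw [(polar_qfPlus_single i _).1]; simp [Pi.single_apply])
    (fun i j hij => by rw [(polar_qfPlus_single i _).2]; simp [Pi.single_apply])
    (Finset.univ.filter fun j : Fin m => (j : ℕ) < i) (M := Matrix.diagonal _) (fun v => ?_) Q' hQ',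
    Fin.card_filter_val_lt, Nat.min_eq_right him, hF]
  funext k
  rw [Matrix.mulVec_diagonal]
  simp only [(polar_qfPlus_single _ v).1, (polar_qfPlus_single _ v).2]
  rcases k with j | j <;> by_cases hj : (j : ℕ) < i <;>
    simp [hj, Finset.sum_apply, Pi.single_apply, Finset.sum_add_distrib] <;> ring

theorem polar_qfOdd_single {m : ℕ} (j : Fin m) (v : Unit ⊕ (Fin m ⊕ Fin m) → F) :
    polar (qfOdd m F) (Pi.single (.inr (.inl j)) 1) v = v (.inr (.inr j)) ∧
      polar (qfOdd m F) (Pi.single (.inr (.inr j)) 1) v = v (.inr (.inl j)) := by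
  constructor <;> simp [polar_qfOdd, Pi.single_apply]

theorem odd_neg_pairs_mem_omega_iff (hF : Fintype.card F = q) (hq : Odd q) {m : ℕ} (i : ℕ) (him : i ≤ m)
    (Q' : (Unit ⊕ (Fin m ⊕ Fin m) → F) → F) (hQ' : Q' = ⇑(qfOdd m F)) :
    (∃ g : Cfsg.isometryGroup F Q', g ∈ Cfsg.Omega F Q' ∧ g.1.1 = Matrix.diagonal
      (fun k : Unit ⊕ (Fin m ⊕ Fin m) => if (Sum.elim (fun _ : Unit => i)
        (Sum.elim (fun j : Fin m => (j : ℕ)) (fun j : Fin m => (j : ℕ))) k) < i then (-1 : F) else 1)) ↔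
      q ^ i % 4 = 1 := by
  have h2 : (2 : F) ≠ 0 := CfsgLib.Classical.two_ne_zero_of_odd (hF ▸ hq)
  rw [neg_pairs_mem_omega_iff h2 (qfOdd_sep h2 m) (e := fun j => Pi.single (.inr (.inl j)) 1)
    (f := fun j => Pi.single (.inr (.inr j)) 1)
    (fun j => by simp [qfOdd_apply, Cfsg.quadFormOdd, Pi.single_apply])
    (fun j => by simp [qfOdd_apply, Cfsg.quadFormOdd, Pi.single_apply])
    (fun i j => by rw [(polar_qfOdd_single i _).1]; simp [Pi.single_apply, eq_comm])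
    (fun i j hij => by rw [(polar_qfOdd_single i _).1]; simp [Pi.single_apply])
    (fun i j hij => by rw [(polar_qfOdd_single i _).2]; simp [Pi.single_apply])
    (Finset.univ.filter fun j : Fin m => (j : ℕ) < i) (M := Matrix.diagonal _) (fun v => ?_) Q' hQ',
    Fin.card_filter_val_lt, Nat.min_eq_right him, hF]
  funext k
  rw [Matrix.mulVec_diagonal]
  simp only [(polar_qfOdd_single _ v).1, (polar_qfOdd_single _ v).2]
  rcases k with _ | j | j
  · simp [Finset.sum_apply, Pi.single_apply, Finset.sum_add_distrib]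
  all_goals by_cases hj : (j : ℕ) < i <;>
    simp [hj, Finset.sum_apply, Pi.single_apply, Finset.sum_add_distrib] <;> ring

theorem polar_qfMinus_single {m : ℕ} (a b : F) (j : Fin m) (v : (Fin m ⊕ Fin m) ⊕ Fin 2 → F) :
    polar (qfMinus m F a b) (Pi.single (.inl (.inl j)) 1) v = v (.inl (.inr j)) ∧
      polar (qfMinus m F a b) (Pi.single (.inl (.inr j)) 1) v = v (.inl (.inl j)) := by
  constructor <;> simp [polar_qfMinus, Pi.single_apply]

theorem minus_neg_pairs_mem_omega_iff (hF : Fintype.card F = q) (hq : Odd q) {k : ℕ} {a b : F}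
    (hab : ∀ z₁ z₂ : F, z₁ ^ 2 + a * z₁ * z₂ + b * z₂ ^ 2 = 0 → z₁ = 0 ∧ z₂ = 0) (i : ℕ) (hik : i ≤ k)
    (Q' : ((Fin k ⊕ Fin k) ⊕ Fin 2 → F) → F) (hQ' : Q' = ⇑(qfMinus k F a b)) :
    (∃ g : Cfsg.isometryGroup F Q', g ∈ Cfsg.Omega F Q' ∧ g.1.1 = Matrix.diagonal
      (fun x : (Fin k ⊕ Fin k) ⊕ Fin 2 => if (Sum.elim (Sum.elim (fun j : Fin k => (j : ℕ))
        (fun j : Fin k => (j : ℕ))) (fun _ : Fin 2 => i) x) < i then (-1 : F) else 1)) ↔
      q ^ i % 4 = 1 := by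
  have h2 : (2 : F) ≠ 0 := CfsgLib.Classical.two_ne_zero_of_odd (hF ▸ hq)
  rw [neg_pairs_mem_omega_iff h2 (qfMinus_sep k hab) (e := fun j => Pi.single (.inl (.inl j)) 1)
    (f := fun j => Pi.single (.inl (.inr j)) 1)
    (fun j => by simp [qfMinus_apply, Cfsg.quadFormMinus, Pi.single_apply])
    (fun j => by simp [qfMinus_apply, Cfsg.quadFormMinus, Pi.single_apply])
    (fun i j => by rw [(polar_qfMinus_single a b i _).1]; simp [Pi.single_apply, eq_comm])
    (fun i j hij => by rw [(polar_qfMinus_single a b i _).1]; simp [Pi.single_apply])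
    (fun i j hij => by rw [(polar_qfMinus_single a b i _).2]; simp [Pi.single_apply])
    (Finset.univ.filter fun j : Fin k => (j : ℕ) < i) (M := Matrix.diagonal _) (fun v => ?_) Q' hQ',
    Fin.card_filter_val_lt, Nat.min_eq_right hik, hF]
  funext x
  rw [Matrix.mulVec_diagonal]
  simp only [(polar_qfMinus_single a b _ v).1, (polar_qfMinus_single a b _ v).2]
  rcases x with (j | j) | j
  rotate_left 2
  · simp [Finset.sum_apply, Pi.single_apply, Finset.sum_add_distrib]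
  all_goals by_cases hj : (j : ℕ) < i <;>
    simp [hj, Finset.sum_apply, Pi.single_apply, Finset.sum_add_distrib] <;> ring

end Neg

end CfsgLib.KnownC
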