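import Mathlib
import Cfsg.Agent.Lib.KnownC.AutPOmegaEvenClass
import Cfsg.Agent.Lib.KnownC.AutPOmegaTypes
import Cfsg.Agent.Lib.Classical.Counts
import Cfsg.Agent.Lib.Classical.SemiForms

set_option autoImplicit false
set_option linter.unusedSectionVars false

/-!
Plus and minus type of a quadratic space: recognition, zero counts, embeddings into standard spaces.
-/

namespace CfsgLib.KnownC.OrthType

open CfsgLib.Geom CfsgLib.Classical
open QuadraticMap (polar)

universe u v w

variable {F : Type u} [Field F] [Fintype F]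

theorem exists_binary_value {a b : F}
    (hab : ∀ z₁ z₂ : F, z₁ ^ 2 + a * z₁ * z₂ + b * z₂ ^ 2 = 0 → z₁ = 0 ∧ z₂ = 0) {c : F} (hc : c ≠ 0) :
    ∃ z : Fin 2 → F, binForm a b z = c := by
  by_cases h2 : (2 : F) = 0
  · obtain ⟨s, hs⟩ := isSquare_of_two_eq_zero h2 c
    exact ⟨![s, 0], by rw [binForm_apply, hs]; simp [sq]⟩
  · refine CfsgLib.Geom.exists_value (binForm a b) h2 (fun x hx => ?_) (by simp) c hc
    have hd : (4 : F) * b - a ^ 2 ≠ 0 := by
      intro h
      obtain ⟨-, h1⟩ := hab (-a) 2 (by linear_combination h)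
      exact h2 h1
    have e0 := hx ![1, 0]
    have e1 := hx ![0, 1]
    rw [binForm_polar] at e0 e1
    simp at e0 e1
    funext i
    fin_cases i
    · refine (mul_eq_zero.1 (show (4 * b - a ^ 2) * x 0 = 0 by linear_combination 2 * b * e0 - a * e1)).resolve_left hd
    · refine (mul_eq_zero.1 (show (4 * b - a ^ 2) * x 1 = 0 by linear_combination 2 * e1 - a * e0)).resolve_left hd

/-- Anisotropic binary forms are isometric up to any non-zero factor. -/
theorem exists_scaled_binary {a b A B c : F}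
    (hab : ∀ z₁ z₂ : F, z₁ ^ 2 + a * z₁ * z₂ + b * z₂ ^ 2 = 0 → z₁ = 0 ∧ z₂ = 0)
    (hAB : ∀ z₁ z₂ : F, z₁ ^ 2 + A * z₁ * z₂ + B * z₂ ^ 2 = 0 → z₁ = 0 ∧ z₂ = 0) (hc : c ≠ 0) :
    ∃ T : (Fin 2 → F) →ₗ[F] (Fin 2 → F), ∀ z, c * binForm a b (T z) = binForm A B z := by
  obtain ⟨x, hx⟩ := exists_binary_value hab (inv_ne_zero hc)
  have hb : b ≠ 0 := fun h => one_ne_zero (hab 0 1 (by rw [h]; ring)).2
  -- multiplication by the root of `T² - a T + b` gives the second vector
  let y : Fin 2 → F := ![-(b * x 1), x 0 + a * x 1]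
  let P : (Fin 2 → F) →ₗ[F] (Fin 2 → F) :=
    { toFun := fun z => z 0 • x + z 1 • y
      map_add' := fun u v => by simp only [Pi.add_apply, add_smul]; abel
      map_smul' := fun t v => by simp only [Pi.smul_apply, smul_eq_mul, mul_smul, smul_add, RingHom.id_apply] }
  have hP : ∀ z, c * binForm a b (P z) = binForm a b z := fun z => by
    rw [binForm_apply] at hx
    rw [binForm_apply, binForm_apply]
    simp only [P, LinearMap.coe_mk, AddHom.coe_mk, y, Pi.add_apply, Pi.smul_apply, smul_eq_mul,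
      Matrix.cons_val_zero, Matrix.cons_val_one]
    linear_combination (c * (z 0 ^ 2 + a * z 0 * z 1 + b * z 1 ^ 2)) * hx +
      (z 0 ^ 2 + a * z 0 * z 1 + b * z 1 ^ 2) * (mul_inv_cancel₀ hc)
  obtain ⟨t, r, -, hA, hB⟩ := exists_binary_subst hab hAB
  let S : (Fin 2 → F) →ₗ[F] (Fin 2 → F) :=
    { toFun := fun z => ![z 0 + t * z 1, r * z 1]
      map_add' := fun u v => by funext i; fin_cases i <;> simp <;> ring
      map_smul' := fun t v => by funext i; fin_cases i <;> simp <;> ring }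
  refine ⟨P ∘ₗ S, fun z => ?_⟩
  rw [LinearMap.comp_apply, hP, binForm_apply, binForm_apply]
  simp only [S, LinearMap.coe_mk, AddHom.coe_mk, Matrix.cons_val_zero, Matrix.cons_val_one]
  linear_combination (z 0 * z 1) * hA + (z 1) ^ 2 * hB

/-- A scaled minus form is a minus form. -/
theorem exists_scaled_minus (l : ℕ) {a b A B c : F}
    (hab : ∀ z₁ z₂ : F, z₁ ^ 2 + a * z₁ * z₂ + b * z₂ ^ 2 = 0 → z₁ = 0 ∧ z₂ = 0)
    (hAB : ∀ z₁ z₂ : F, z₁ ^ 2 + A * z₁ * z₂ + B * z₂ ^ 2 = 0 → z₁ = 0 ∧ z₂ = 0) (hc : c ≠ 0) :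
    ∃ T : ((Fin l ⊕ Fin l) ⊕ Fin 2 → F) ≃ₗ[F] ((Fin l ⊕ Fin l) ⊕ Fin 2 → F),
      ∀ v, c * qfMinus l F a b (T v) = qfMinus l F A B v := by
  obtain ⟨T₂, hT₂⟩ := exists_scaled_binary hab hAB hc
  let T : ((Fin l ⊕ Fin l) ⊕ Fin 2 → F) →ₗ[F] ((Fin l ⊕ Fin l) ⊕ Fin 2 → F) :=
    { toFun := fun v => Sum.elim (Sum.elim (fun i => c⁻¹ * v (.inl (.inl i))) fun i => v (.inl (.inr i)))
        (T₂ fun j => v (.inr j))
      map_add' := fun u v => funext fun k => by
        rcases k with (i | i) | j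
        · simp [mul_add]
        · simp
        · show T₂ (fun j => (u + v) (.inr j)) j = T₂ _ j + T₂ _ j
          rw [← Pi.add_apply (T₂ _) (T₂ _), ← map_add]; rfl
      map_smul' := fun s v => funext fun k => by
        rcases k with (i | i) | j
        · simp [mul_left_comm]
        · simp
        · show T₂ (fun j => (s • v) (.inr j)) j = s • T₂ _ j
          rw [← Pi.smul_apply s (T₂ _), ← map_smul]; rfl }
  have h2inj : Function.Injective T₂ := (injective_iff_map_eq_zero T₂).2 fun z hz => by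
    have h := hT₂ z
    rw [hz, map_zero, mul_zero, binForm_apply] at h
    obtain ⟨e0, e1⟩ := hAB _ _ h.symm
    funext i; fin_cases i <;> assumption
  have hinj : Function.Injective T := fun u v h => funext fun k => by
    rcases k with (i | i) | j
    · have := congrFun h (.inl (.inl i))
      simpa [T, hc] using this
    · simpa [T] using congrFun h (.inl (.inr i))
    · exact congrFun (h2inj (funext fun j => congrFun h (.inr j))) j
  refine ⟨LinearEquiv.ofInjectiveEndo T hinj, fun v => ?_⟩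
  show c * qfMinus l F a b (T v) = _
  rw [qfMinus_eq, qfMinus_eq, mul_add, Finset.mul_sum]
  congr 1
  · refine Finset.sum_congr rfl fun i _ => ?_
    simp only [T, LinearMap.coe_mk, AddHom.coe_mk, Sum.elim_inl, Sum.elim_inr]
    field_simp
  · exact hT₂ _

variable {V : Type v} [AddCommGroup V] [Module F V]

/-- The plus type of rank `k`. -/
def IsPlus (Q : QuadraticForm F V) (k : ℕ) : Prop :=
  ∃ e : (Fin k ⊕ Fin k → F) ≃ₗ[F] V, ∀ v, Q (e v) = qfPlus k F v

/-- The minus type of index `l`, in standard form. -/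
def IsMinus (Q : QuadraticForm F V) (l : ℕ) (a b : F) : Prop :=
  ∃ e : ((Fin l ⊕ Fin l) ⊕ Fin 2 → F) ≃ₗ[F] V, ∀ v, Q (e v) = qfMinus l F a b v

theorem dichotomy [FiniteDimensional F V] (Q : QuadraticForm F V)
    (hQ : ∀ x, (∀ y, polar Q x y = 0) → x = 0) {k : ℕ} (hk : Module.finrank F V = 2 * k) :
    IsPlus Q k ∨ ∃ l, k = l + 1 ∧ ∀ a b : F,
      (∀ z₁ z₂ : F, z₁ ^ 2 + a * z₁ * z₂ + b * z₂ ^ 2 = 0 → z₁ = 0 ∧ z₂ = 0) → IsMinus Q l a b := by
  rcases even_form_std k V Q hQ hk with h | ⟨l, a, b, c, rfl, hc, hab, e, he⟩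
  · exact Or.inl h
  · refine Or.inr ⟨l, rfl, fun A B hAB => ?_⟩
    obtain ⟨T, hT⟩ := exists_scaled_minus l hab hAB hc
    exact ⟨T.trans e, fun v => by rw [LinearEquiv.trans_apply, he, hT]⟩

theorem isPlus_congr {W : Type w} [AddCommGroup W] [Module F W] {Q : QuadraticForm F V}
    {R : QuadraticForm F W} {k : ℕ} (h : IsPlus Q k) (e : V ≃ₗ[F] W) (he : ∀ v, R (e v) = Q v) :
    IsPlus R k := by
  obtain ⟨f, hf⟩ := h
  exact ⟨f.trans e, fun v => by rw [LinearEquiv.trans_apply, he, hf]⟩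

theorem not_plus_of_minus {Q : QuadraticForm F V} {l : ℕ} {a b : F}
    (hab : ∀ z₁ z₂ : F, z₁ ^ 2 + a * z₁ * z₂ + b * z₂ ^ 2 = 0 → z₁ = 0 ∧ z₂ = 0)
    (h : IsMinus Q l a b) : ¬ IsPlus Q (l + 1) := by
  rintro ⟨e, he⟩
  obtain ⟨f, hf⟩ := h
  refine not_similar_plus_minus hab (e.trans f.symm) (c := 1) fun v => ?_
  rw [one_mul, ← he v, LinearEquiv.trans_apply, ← hf, f.apply_symm_apply]

theorem card_zeros_plus {Q : QuadraticForm F V} {k : ℕ} (h : IsPlus Q k) :
    Nat.card {v : V // Q v = 0} =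
      Fintype.card F ^ k + (Fintype.card F ^ k - 1) * Fintype.card F ^ (k - 1) := by
  classical
  obtain ⟨e, he⟩ := h
  rw [← Nat.card_congr (e.toEquiv.subtypeEquiv (p := fun v => Cfsg.quadFormPlus k F v = 0)
    (q := fun v => Q v = 0) fun v => by rw [← qfPlus_apply, ← he]; rfl), card_quadFormPlus_eq, if_pos rfl, mul_one]

theorem card_zeros_minus {Q : QuadraticForm F V} {l : ℕ} {a b : F}
    (hab : ∀ z₁ z₂ : F, z₁ ^ 2 + a * z₁ * z₂ + b * z₂ ^ 2 = 0 → z₁ = 0 ∧ z₂ = 0)
    (h : IsMinus Q l a b) :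
    Nat.card {v : V // Q v = 0} =
      Fintype.card F ^ l + (Fintype.card F ^ l - 1) * Fintype.card F ^ (l - 1) * Fintype.card F ^ 2 := by
  obtain ⟨e, he⟩ := h
  rw [← Nat.card_congr (e.toEquiv.subtypeEquiv (p := fun v => Cfsg.quadFormMinus l F a b v = 0)
    (q := fun v => Q v = 0) fun v => by rw [← qfMinus_apply, ← he]; rfl), card_quadFormMinus_eq,
    card_binary_zero a b hab, mul_one]

/-- Two invariant forms of a semisimple automorphism of odd order without fixed vectors are isometric. -/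
theorem isometric_of_invariant [FiniteDimensional F V] (Q₁ Q₂ : QuadraticForm F V) (f : V ≃ₗ[F] V) {N : ℕ}
    (hodd : Odd N) (hfN : ∀ v, (f^[N]) v = v) (hfix : ∀ v, f v = v → v = 0)
    (h₁ : ∀ x, (∀ y, polar Q₁ x y = 0) → x = 0) (h₂ : ∀ x, (∀ y, polar Q₂ x y = 0) → x = 0)
    (i₁ : ∀ v, Q₁ (f v) = Q₁ v) (i₂ : ∀ v, Q₂ (f v) = Q₂ v) :
    ∃ e : V ≃ₗ[F] V, ∀ v, Q₁ (e v) = Q₂ v := by
  have ip : ∀ (Q : QuadraticForm F V), (∀ v, Q (f v) = Q v) → ∀ u v,
      Q.polarBilin (f u) (f v) = Q.polarBilin u v := fun Q i u v => by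
    simp only [QuadraticMap.polarBilin_apply_apply, QuadraticMap.polar, ← map_add, i]
  have hno : ∀ x, f x = f.symm x → x = 0 := by
    intro x hx
    have h2 : f (f x) = x := by rw [hx, f.apply_symm_apply]
    obtain ⟨k, rfl⟩ := hodd
    have h3 : ∀ k : ℕ, (f^[2 * k + 1]) x = f x := fun k => by
      induction k with
      | zero => rfl
      | succ k ih => rw [show 2 * (k + 1) + 1 = 2 * k + 1 + 1 + 1 by ring, Function.iterate_succ_apply',
          Function.iterate_succ_apply', ih, h2]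
    exact hfix x ((h3 k).symm.trans (hfN x))
  obtain ⟨e, hce, he⟩ := SemiForms.exists_comm_no_one Q₁.polarBilin Q₂.polarBilin f (ε := 1) (one_mul 1)
    (fun u v => by simpa using QuadraticMap.polar_comm Q₁ _ _)
    (fun u v => by simpa using QuadraticMap.polar_comm Q₂ _ _) h₁ h₂ (ip Q₁ i₁) (ip Q₂ i₂) hno
  refine ⟨e, fun v => ?_⟩
  let D : V → F := fun x => Q₁ (e x) - Q₂ x
  have hadd : ∀ x y, D (x + y) = D x + D y := fun x y => by
    have := he x y
    simp only [QuadraticMap.polarBilin_apply_apply, QuadraticMap.polar] at this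
    simp only [D, map_add]
    linear_combination this
  have hg : ∀ x, D (f x) = D x := fun x => by simp only [D, hce, i₁, i₂]
  have hinj : Function.Injective (f.toLinearMap - LinearMap.id : V →ₗ[F] V) := (injective_iff_map_eq_zero _).2 fun x hx =>
    hfix x (sub_eq_zero.1 (by simpa using hx))
  obtain ⟨y, hy⟩ : ∃ y, (f.toLinearMap - LinearMap.id : V →ₗ[F] V) y = v :=
    (LinearMap.injective_iff_surjective (f := (f.toLinearMap - LinearMap.id : V →ₗ[F] V))).1 hinj v
  have hy' : f y - y = v := by simpa using hy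
  have h4 := hadd (f y - y) y
  rw [sub_add_cancel, hg] at h4
  refine sub_eq_zero.1 (show D v = 0 from ?_)
  rw [← hy']
  linear_combination -h4

theorem injective_of_preserving {W : Type w} [AddCommGroup W] [Module F W] {Q : QuadraticForm F V}
    {R : QuadraticForm F W} (hQ : ∀ x, (∀ y, polar Q x y = 0) → x = 0) (φ : V →ₗ[F] W)
    (h : ∀ v, R (φ v) = Q v) : Function.Injective φ := by
  refine (injective_iff_map_eq_zero φ).2 fun v hv => hQ v fun y => ?_
  rw [show polar Q v y = polar R (φ v) (φ y) by simp only [QuadraticMap.polar, ← map_add, h], hv,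
    QuadraticMap.polar_zero_left]

/-- The plus form embeds into a larger plus form. -/
theorem embed_plus_plus {k m : ℕ} (h : k ≤ m) :
    ∃ φ : (Fin k ⊕ Fin k → F) →ₗ[F] (Fin m ⊕ Fin m → F), ∀ v, qfPlus m F (φ v) = qfPlus k F v := by
  classical
  obtain ⟨d, rfl⟩ := Nat.exists_eq_add_of_le h
  refine ⟨{
    toFun := fun v => Sum.elim (Fin.append (fun i => v (.inl i)) 0) (Fin.append (fun i => v (.inr i)) 0)
    map_add' := fun u v => funext fun x => by
      rcases x with x | x <;> refine Fin.addCases (fun i => ?_) (fun i => ?_) x <;> simp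
    map_smul' := fun s v => funext fun x => by
      rcases x with x | x <;> refine Fin.addCases (fun i => ?_) (fun i => ?_) x <;> simp }, fun v => ?_⟩
  simp only [qfPlus_apply, Cfsg.quadFormPlus, LinearMap.coe_mk, AddHom.coe_mk, Sum.elim_inl, Sum.elim_inr]
  rw [Fin.sum_univ_add]
  simp

theorem embed_plus_minus {k m : ℕ} (h : k ≤ m) (A B : F) :
    ∃ φ : (Fin k ⊕ Fin k → F) →ₗ[F] ((Fin m ⊕ Fin m) ⊕ Fin 2 → F),
      ∀ v, qfMinus m F A B (φ v) = qfPlus k F v := by
  obtain ⟨φ, hφ⟩ := embed_plus_plus (F := F) h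
  refine ⟨{
    toFun := fun v => Sum.elim (φ v) 0
    map_add' := fun u v => funext fun x => by rcases x with x | x <;> simp
    map_smul' := fun s v => funext fun x => by rcases x with x | x <;> simp }, fun v => ?_⟩
  rw [← hφ, qfMinus_apply, qfPlus_apply]
  simp [Cfsg.quadFormMinus, Cfsg.quadFormPlus]

theorem embed_plus_odd {k m : ℕ} (h : k ≤ m) :
    ∃ φ : (Fin k ⊕ Fin k → F) →ₗ[F] (Unit ⊕ (Fin m ⊕ Fin m) → F),
      ∀ v, qfOdd m F (φ v) = qfPlus k F v := by
  obtain ⟨φ, hφ⟩ := embed_plus_plus (F := F) h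
  refine ⟨{
    toFun := fun v => Sum.elim 0 (φ v)
    map_add' := fun u v => funext fun x => by rcases x with x | x <;> simp
    map_smul' := fun s v => funext fun x => by rcases x with x | x <;> simp }, fun v => ?_⟩
  rw [← hφ, qfOdd_apply, qfPlus_apply]
  simp [Cfsg.quadFormOdd, Cfsg.quadFormPlus]

theorem embed_minus_minus {l m : ℕ} (h : l ≤ m) (a b : F) :
    ∃ φ : ((Fin l ⊕ Fin l) ⊕ Fin 2 → F) →ₗ[F] ((Fin m ⊕ Fin m) ⊕ Fin 2 → F),
      ∀ v, qfMinus m F a b (φ v) = qfMinus l F a b v := by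
  obtain ⟨φ, hφ⟩ := embed_plus_plus (F := F) h
  refine ⟨{
    toFun := fun v => Sum.elim (φ fun i => v (.inl i)) fun j => v (.inr j)
    map_add' := fun u v => funext fun x => by
      rcases x with x | x
      · show φ (fun i => (u + v) (.inl i)) x = φ _ x + φ _ x
        rw [← Pi.add_apply (φ _) (φ _), ← map_add]; rfl
      · simp
    map_smul' := fun s v => funext fun x => by
      rcases x with x | x
      · show φ (fun i => (s • v) (.inl i)) x = s • φ _ x
        rw [← Pi.smul_apply s (φ _), ← map_smul]; rfl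
      · simp }, fun v => ?_⟩
  have := hφ fun i => v (.inl i)
  simp only [qfPlus_apply, Cfsg.quadFormPlus] at this
  simp only [qfMinus_apply, Cfsg.quadFormMinus, LinearMap.coe_mk, AddHom.coe_mk, Sum.elim_inl, Sum.elim_inr]
  rw [this]

theorem embed_minus_plus {l m : ℕ} (h : l + 2 ≤ m) (a b : F) :
    ∃ φ : ((Fin l ⊕ Fin l) ⊕ Fin 2 → F) →ₗ[F] (Fin m ⊕ Fin m → F),
      ∀ v, qfPlus m F (φ v) = qfMinus l F a b v := by
  obtain ⟨φ, hφ⟩ := embed_plus_plus (F := F) h
  let ψ : ((Fin l ⊕ Fin l) ⊕ Fin 2 → F) →ₗ[F] (Fin (l + 2) ⊕ Fin (l + 2) → F) :=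
    { toFun := fun v => Sum.elim (Fin.append (fun i => v (.inl (.inl i))) ![v (.inr 0), v (.inr 1)])
        (Fin.append (fun i => v (.inl (.inr i))) ![v (.inr 0) + a * v (.inr 1), b * v (.inr 1)])
      map_add' := fun u v => funext fun x => by
        rcases x with x | x <;> refine Fin.addCases (fun i => ?_) (fun i => ?_) x <;>
          first
          | (fin_cases i <;> simp <;> ring)
          | simp
      map_smul' := fun s v => funext fun x => by
        rcases x with x | x <;> refine Fin.addCases (fun i => ?_) (fun i => ?_) x <;>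
          first
          | (fin_cases i <;> simp <;> ring)
          | simp }
  refine ⟨φ ∘ₗ ψ, fun v => ?_⟩
  rw [LinearMap.comp_apply, hφ, qfPlus_apply, qfMinus_apply]
  simp only [Cfsg.quadFormPlus, Cfsg.quadFormMinus, ψ, LinearMap.coe_mk, AddHom.coe_mk, Sum.elim_inl, Sum.elim_inr]
  rw [Fin.sum_univ_add]
  simp [Fin.sum_univ_two]
  ring

theorem embed_minus_odd (h2 : (2 : F) ≠ 0) {l m : ℕ} (h : l + 1 ≤ m) (a b : F) :
    ∃ φ : ((Fin l ⊕ Fin l) ⊕ Fin 2 → F) →ₗ[F] (Unit ⊕ (Fin m ⊕ Fin m) → F),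
      ∀ v, qfOdd m F (φ v) = qfMinus l F a b v := by
  obtain ⟨φ, hφ⟩ := embed_plus_plus (F := F) h
  -- `α (a - α) + x ^ 2 = b`
  obtain ⟨α, x, hαx⟩ := CfsgLib.Geom.exists_binary_eq (F := F) h2 (a := (-1 : F)) (b := 1)
    (by simp) one_ne_zero (b - a ^ 2 / 4)
  have hh : (α + a / 2) * (a - (α + a / 2)) + x ^ 2 = b := by
    have h4 : (4 : F) ≠ 0 := by rw [show (4 : F) = 2 * 2 by norm_num]; exact mul_ne_zero h2 h2
    field_simp at hαx ⊢
    linear_combination hαx
  let ψ : ((Fin l ⊕ Fin l) ⊕ Fin 2 → F) →ₗ[F] (Fin (l + 1) ⊕ Fin (l + 1) → F) :=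
    { toFun := fun v => Sum.elim
        (Fin.append (fun i => v (.inl (.inl i))) fun _ : Fin 1 => v (.inr 0) + (α + a / 2) * v (.inr 1))
        (Fin.append (fun i => v (.inl (.inr i))) fun _ : Fin 1 => v (.inr 0) + (a - (α + a / 2)) * v (.inr 1))
      map_add' := fun u v => funext fun x => by
        rcases x with x | x <;> refine Fin.addCases (fun i => ?_) (fun i => ?_) x <;> simp <;> ring
      map_smul' := fun s v => funext fun x => by
        rcases x with x | x <;> refine Fin.addCases (fun i => ?_) (fun i => ?_) x <;> simp <;> ring }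
  refine ⟨{
    toFun := fun v => Sum.elim (fun _ => x * v (.inr 1)) (φ (ψ v))
    map_add' := fun u v => funext fun y => by
      rcases y with y | y
      · simp; ring
      · simp
    map_smul' := fun s v => funext fun y => by
      rcases y with y | y
      · simp; ring
      · simp }, fun v => ?_⟩
  have hp := hφ (ψ v)
  simp only [qfPlus_apply, Cfsg.quadFormPlus] at hp
  simp only [qfOdd_apply, qfMinus_apply, Cfsg.quadFormOdd, Cfsg.quadFormMinus, LinearMap.coe_mk, AddHom.coe_mk,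
    Sum.elim_inl, Sum.elim_inr]
  rw [hp]
  simp only [ψ, LinearMap.coe_mk, AddHom.coe_mk, Sum.elim_inl, Sum.elim_inr, Fin.sum_univ_add, Fin.append_left,
    Fin.append_right, Fin.sum_univ_one]
  linear_combination (v (.inr 1)) ^ 2 * hh

end CfsgLib.KnownC.OrthType
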