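import Cfsg.Agent.Lib.KnownC.AutPSLOut
import Cfsg.Agent.Lib.KnownC.FieldUnits
import Cfsg.Agent.Lib.KnownC.HermCongr
import Cfsg.Agent.Lib.KnownC.SplitClass

set_option autoImplicit false

/-!
Field and graph-field automorphisms of `PSL_n(q)`: conjugacy and centralisers in `Inndiag`.
-/

namespace CfsgLib.KnownC

open Matrix

variable {n : ℕ} {F : Type*} [Field F]

theorem semiAut_pow (g : GL (Fin n) F) (σ : F ≃+* F) (k : ℕ) :
    semiAut g σ ^ k = semiAut (normProd σ g k) (σ ^ k) := by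
  induction k with
  | zero => rw [pow_zero, normProd_zero, pow_zero]; exact semiAut_one.symm
  | succ k ih => rw [pow_succ', ih, semiAut_mul, normProd_succ, pow_succ']

theorem semiAut_one_pow (σ : F ≃+* F) (k : ℕ) :
    semiAut (1 : GL (Fin n) F) σ ^ k = semiAut 1 (σ ^ k) := by
  induction k with
  | zero => rw [pow_zero, pow_zero]; exact semiAut_one.symm
  | succ k ih => rw [pow_succ', ih, semiAut_mul, map_one, mul_one, pow_succ']

theorem orderOf_semiAut_one (hn : 2 ≤ n) (σ : F ≃+* F) :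
    orderOf (semiAut (1 : GL (Fin n) F) σ) = orderOf σ := by
  refine orderOf_eq_orderOf_iff.2 fun k => ?_
  rw [semiAut_one_pow, semiAut_eq_one_iff hn]
  exact ⟨fun h => h.1, fun h => ⟨h, one_mem _⟩⟩

theorem inndiagHom_apply (g : GL (Fin n) F) :
    inndiagHom g = semiAut g (RingEquiv.refl F) := rfl

theorem semiAut_eq_mul (g : GL (Fin n) F) (σ : F ≃+* F) :
    semiAut g σ = inndiagHom g * semiAut 1 σ := by
  rw [inndiagHom_apply, semiAut_mul, map_one, mul_one]
  rfl

theorem semiAut_one_mul_inndiag (σ : F ≃+* F) (h : GL (Fin n) F) :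
    semiAut 1 σ * inndiagHom h = inndiagHom (GeneralLinearGroup.map (σ : F →+* F) h) * semiAut 1 σ := by
  rw [← semiAut_eq_mul, inndiagHom_apply, semiAut_mul, one_mul]
  rfl

theorem itAut_mul_inndiag (h : GL (Fin n) F) :
    itAut * inndiagHom h = inndiagHom (glInvTrans h) * itAut := itAut_mul_semiAut h _

theorem itAut_comm_semiAut_one (τ : F ≃+* F) :
    itAut * semiAut (1 : GL (Fin n) F) τ = semiAut 1 τ * itAut := by
  rw [itAut_mul_semiAut]
  congr 2
  exact Units.ext (by show ((1 : GL (Fin n) F)⁻¹).1ᵀ = 1; rw [inv_one, Units.val_one, transpose_one])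

theorem ringAut_mul_comm [Fintype F] {p f : ℕ} [Fact p.Prime] (hF : Fintype.card F = p ^ f)
    (σ τ : F ≃+* F) : σ * τ = τ * σ := by
  obtain ⟨-, ⟨e⟩⟩ := exists_zmod_mulEquiv_ringAut hF
  exact e.symm.injective (by rw [map_mul, map_mul, mul_comm])

/-- `Inndiag` is normal. -/
theorem inndiag_normal [Finite F] (hn : 2 ≤ n) : (Cfsg.inndiagPSL n F).Normal := by
  refine ⟨fun x hx α => ?_⟩
  rw [inndiagPSL_eq_range] at hx ⊢
  obtain ⟨h, rfl⟩ := hx
  have hcase : ∀ (g : GL (Fin n) F) (σ : F ≃+* F) (k : GL (Fin n) F),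
      semiAut g σ * inndiagHom k * (semiAut g σ)⁻¹ ∈ (inndiagHom (n := n) (F := F)).range :=
    fun g σ k => by
      refine ⟨g * GeneralLinearGroup.map (σ : F →+* F) k * g⁻¹, ?_⟩
      rw [semiAut_eq_mul, eq_mul_inv_iff_mul_eq, mul_assoc (inndiagHom g) (semiAut 1 σ),
        semiAut_one_mul_inndiag, ← mul_assoc, ← map_mul, ← mul_assoc, ← map_mul, inv_mul_cancel_right]
  rcases mulAut_psl_cases hn α with ⟨g, σ, rfl⟩ | ⟨-, g, σ, rfl⟩
  · exact hcase g σ h
  · rw [_root_.mul_inv_rev, mul_assoc (semiAut g σ), itAut_mul_inndiag,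
      ← mul_assoc (semiAut g σ) (inndiagHom _) itAut, mul_assoc _ itAut, mul_inv_cancel_left]
    exact hcase g σ _

/-- The standard field automorphism: conjugacy of elements of prime order in its coset. -/
theorem exists_conj_field [Finite F] (hn : 2 ≤ n) {σ : F ≃+* F} {g : GL (Fin n) F}
    (h : semiAut g σ ^ orderOf σ = 1) :
    ∃ k : GL (Fin n) F, semiAut g σ = inndiagHom k * semiAut 1 σ * (inndiagHom k)⁻¹ := by
  rw [semiAut_pow, semiAut_eq_one_iff hn] at h
  obtain ⟨k, c, hk⟩ := exists_descent_scalar (by omega) σ g h.2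
  refine ⟨k, ?_⟩
  rw [eq_mul_inv_iff_mul_eq, ← semiAut_eq_mul, inndiagHom_apply, semiAut_mul, hk]
  refine (semiAut_eq_iff hn _ _ _ _).2 ⟨rfl, ?_⟩
  have hc : GeneralLinearGroup.scalar (Fin n) c ∈ Subgroup.center (GL (Fin n) F) := by
    rw [GeneralLinearGroup.center_eq_range_scalar]; exact ⟨c, rfl⟩
  rw [← Subgroup.mem_center_iff.1 hc, inv_mul_cancel_left]
  exact hc

theorem scalar_mem_center (c : Fˣ) :
    GeneralLinearGroup.scalar (Fin n) c ∈ Subgroup.center (GL (Fin n) F) := by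
  rw [GeneralLinearGroup.center_eq_range_scalar]; exact ⟨c, rfl⟩

theorem scalar_mul_val (c : Fˣ) (g : GL (Fin n) F) :
    (GeneralLinearGroup.scalar (Fin n) c * g).1 = (c : F) • g.1 := by
  show Matrix.scalar (Fin n) (c : F) * g.1 = _
  rw [scalar_apply, ← smul_one_eq_diagonal, smul_mul_assoc, one_mul]

theorem inndiagHom_eq_iff (hn : 2 ≤ n) (g h : GL (Fin n) F) :
    inndiagHom g = inndiagHom h ↔ h⁻¹ * g ∈ Subgroup.center (GL (Fin n) F) :=
  ⟨fun e => ((semiAut_eq_iff hn _ _ _ _).1 e).2, fun e => (semiAut_eq_iff hn _ _ _ _).2 ⟨rfl, e⟩⟩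

theorem inndiagHom_scalar_mul (hn : 2 ≤ n) (c : Fˣ) (g : GL (Fin n) F) :
    inndiagHom (GeneralLinearGroup.scalar (Fin n) c * g) = inndiagHom g := by
  rw [inndiagHom_eq_iff hn, ← Subgroup.mem_center_iff.1 (scalar_mem_center c), inv_mul_cancel_left]
  exact scalar_mem_center c

theorem exists_eq_scalar_mul (hn : 2 ≤ n) {g h : GL (Fin n) F} (e : inndiagHom g = inndiagHom h) :
    ∃ a : Fˣ, g = GeneralLinearGroup.scalar (Fin n) a * h := by
  rw [inndiagHom_eq_iff hn, GeneralLinearGroup.center_eq_range_scalar] at e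
  obtain ⟨a, ha⟩ := e
  exact ⟨a, by rw [← Subgroup.mem_center_iff.1 (scalar_mem_center a), ha, mul_inv_cancel_left]⟩

theorem inndiagHom_range_inf_centralizer_iff {h : GL (Fin n) F}
    {x : MulAut (ProjectiveSpecialLinearGroup (Fin n) F)} :
    inndiagHom h ∈ Cfsg.inndiagPSL n F ⊓ Subgroup.centralizer {x} ↔
      inndiagHom h * x = x * inndiagHom h := by
  rw [Subgroup.mem_inf, Subgroup.mem_centralizer_singleton_iff, inndiagPSL_eq_range]
  exact ⟨fun e => e.2, fun e => ⟨⟨h, rfl⟩, e⟩⟩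

/-- The centraliser in `Inndiag` of a standard field automorphism. -/
theorem centralizer_field [Finite F] (hn : 2 ≤ n) (σ : F ≃+* F) {F₀ : Type*} [Field F₀]
    (ι : F₀ →+* F) (hι : ∀ x, σ x = x ↔ ∃ a, ι a = x) :
    Cfsg.inndiagPSL n F ⊓ Subgroup.centralizer {semiAut 1 σ} =
      ((GeneralLinearGroup.map (n := Fin n) ι).range).map inndiagHom := by
  refine le_antisymm ?_ ?_
  · intro x hx
    obtain ⟨h, rfl⟩ : ∃ h, inndiagHom h = x := by
      have := hx.1; rwa [SetLike.mem_coe, inndiagPSL_eq_range] at this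
    rw [inndiagHom_range_inf_centralizer_iff, semiAut_one_mul_inndiag] at hx
    obtain ⟨a, ha⟩ := exists_eq_scalar_mul hn (mul_right_cancel hx).symm
    have hv : ∀ i j, σ (h.1 i j) = (a : F) * h.1 i j := fun i j => by
      have := congrArg (fun M : GL (Fin n) F => M.1 i j) ha
      simp only [scalar_mul_val, Matrix.smul_apply, smul_eq_mul] at this
      exact this
    obtain ⟨i, j, hij⟩ : ∃ i j, h.1 i j ≠ 0 := by
      by_contra hcon
      simp only [not_exists, not_not] at hcon
      have hz : h.1 = 0 := Matrix.ext hcon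
      haveI : Nonempty (Fin n) := ⟨⟨0, by omega⟩⟩
      exact h.isUnit.ne_zero hz
    -- `a = σ x / x` for `x` a non-zero entry, so `x⁻¹ h` is fixed entrywise
    let c : Fˣ := (Units.mk0 _ hij)⁻¹
    have hfix : ∀ k l, σ ((c : F) * h.1 k l) = (c : F) * h.1 k l := fun k l => by
      show σ ((h.1 i j)⁻¹ * h.1 k l) = (h.1 i j)⁻¹ * h.1 k l
      rw [map_mul, map_inv₀, hv, hv]
      field_simp [a.ne_zero, hij]
    let M : Matrix (Fin n) (Fin n) F₀ := Matrix.of fun k l => ((hι _).1 (hfix k l)).choose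
    have hM : M.map ι = (c : F) • h.1 := Matrix.ext fun k l => ((hι _).1 (hfix k l)).choose_spec
    have hMdet : M.det ≠ 0 := fun h0 => by
      have h1 := congrArg ι h0
      rw [RingHom.map_det, map_zero] at h1
      change (M.map ι).det = 0 at h1
      rw [hM, det_smul] at h1
      exact mul_ne_zero (pow_ne_zero _ c.ne_zero) (((Matrix.isUnit_iff_isUnit_det _).1 h.isUnit).ne_zero) h1
    refine ⟨GeneralLinearGroup.scalar (Fin n) c * h, ⟨GeneralLinearGroup.mkOfDetNeZero M hMdet,
      Units.ext (by rw [scalar_mul_val]; exact hM)⟩, inndiagHom_scalar_mul hn c h⟩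
  · rintro _ ⟨h, ⟨h0, rfl⟩, rfl⟩
    rw [inndiagHom_range_inf_centralizer_iff, semiAut_one_mul_inndiag]
    congr 2
    exact Units.ext (Matrix.ext fun i j => ((hι _).2 ⟨_, rfl⟩).symm)

/-- Semilinear graph-field products square to semilinear maps. -/
theorem graphField_mul_self (g : GL (Fin n) F) (σ : F ≃+* F) :
    (semiAut g σ * itAut) * (semiAut g σ * itAut) =
      semiAut (g * GeneralLinearGroup.map (σ : F →+* F) (glInvTrans g)) (σ * σ) := by
  rw [mul_assoc, ← mul_assoc itAut, itAut_mul_semiAut, mul_assoc _ itAut itAut, itAut_mul_self,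
    mul_one, semiAut_mul]

theorem orderOf_graphField (hn : 3 ≤ n) {σ : F ≃+* F} {r : ℕ} (hr : r.Prime)
    (h : orderOf (semiAut (1 : GL (Fin n) F) σ * itAut) = r) (hσ : σ ≠ RingEquiv.refl F) :
    r = 2 ∧ orderOf σ = 2 := by
  have hcomm : Commute (semiAut (1 : GL (Fin n) F) σ) itAut := (itAut_comm_semiAut_one σ).symm
  have h1 := pow_orderOf_eq_one (semiAut (1 : GL (Fin n) F) σ * itAut)
  rw [h, hcomm.mul_pow, semiAut_one_pow] at h1
  obtain ⟨e1, e2⟩ := parts_unique (by omega) (β := (1 : MulAut (ProjectiveSpecialLinearGroup (Fin n) F)))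
    (σ := σ ^ r) (a := r) (τ := RingEquiv.refl F) (b := 0) ⟨1, h1.symm⟩
    ⟨1, by rw [pow_zero, mul_one]; exact semiAut_one.symm⟩ (fun h2 => absurd h2 (by omega))
  have hr2 : r = 2 := by
    have : (2 : ℕ) ∣ r := (ZMod.natCast_eq_zero_iff r 2).1 (by rw [e2, Nat.cast_zero])
    exact ((Nat.prime_dvd_prime_iff_eq Nat.prime_two hr).1 this).symm
  refine ⟨hr2, ?_⟩
  subst hr2
  exact orderOf_eq_prime e1 hσ

/-- The matrix `h σ(h)ᵀ`. -/
def hermSq (σ : F ≃+* F) (h : GL (Fin n) F) : Matrix (Fin n) (Fin n) F := h.1 * (h.1.map σ)ᵀ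

theorem conj_graphField (σ : F ≃+* F) (h : GL (Fin n) F) :
    inndiagHom h * (semiAut 1 σ * itAut) * (inndiagHom h)⁻¹ =
      semiAut (h * (GeneralLinearGroup.map (σ : F →+* F) (glInvTrans h))⁻¹) σ * itAut := by
  rw [mul_inv_eq_iff_eq_mul, mul_assoc _ itAut (inndiagHom h), itAut_mul_inndiag,
    ← mul_assoc (semiAut _ σ), ← mul_assoc (inndiagHom h), inndiagHom_apply (glInvTrans h),
    semiAut_mul, inv_mul_cancel_right, ← semiAut_eq_mul]
  rfl

theorem val_map_glInvTrans_inv (σ : F ≃+* F) (h : GL (Fin n) F) :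
    ((GeneralLinearGroup.map (σ : F →+* F) (glInvTrans h))⁻¹).1 = (h.1.map σ)ᵀ := by
  rw [← map_inv]
  show (h.1ᵀ).map σ = _
  rw [transpose_map]

/-- The standard graph-field involution: conjugacy of involutions in its coset. -/
theorem exists_conj_graphField [Finite F] (hn : 3 ≤ n) {σ : F ≃+* F} (hσ : orderOf σ = 2)
    {g : GL (Fin n) F} (h : (semiAut g σ * itAut) * (semiAut g σ * itAut) = 1) :
    ∃ k : GL (Fin n) F, semiAut g σ * itAut =
      inndiagHom k * (semiAut 1 σ * itAut) * (inndiagHom k)⁻¹ := by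
  have hσσ : ∀ x, σ (σ x) = x := fun x => by
    have := pow_orderOf_eq_one σ
    rw [hσ, sq] at this
    exact RingEquiv.congr_fun this x
  rw [graphField_mul_self, semiAut_eq_one_iff (by omega)] at h
  have h2 := h.2
  rw [GeneralLinearGroup.center_eq_range_scalar] at h2
  obtain ⟨a, ha⟩ := h2
  have hg : g.1 = (a : F) • (g.1.map σ)ᵀ := by
    have e : g = GeneralLinearGroup.scalar (Fin n) a *
        (GeneralLinearGroup.map (σ : F →+* F) (glInvTrans g))⁻¹ := by
      rw [ha, mul_inv_cancel_right]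
    conv_lhs => rw [e]
    rw [scalar_mul_val, val_map_glInvTrans_inv]
  have hent : ∀ i j, g.1 i j = (a : F) * σ (g.1 j i) := fun i j => by
    conv_lhs => rw [hg]
    simp
  have haa : (a : F) * σ (a : F) = 1 := by
    haveI : Nonempty (Fin n) := ⟨⟨0, by omega⟩⟩
    obtain ⟨i, j, hij⟩ : ∃ i j, g.1 i j ≠ 0 := by
      by_contra hcon
      simp only [not_exists, not_not] at hcon
      exact g.isUnit.ne_zero (Matrix.ext hcon)
    have e1 := hent i j
    rw [hent j i, map_mul, hσσ] at e1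
    have e2 : ((a : F) * σ (a : F) - 1) * g.1 i j = 0 := by linear_combination -e1
    exact sub_eq_zero.1 ((mul_eq_zero.1 e2).resolve_right hij)
  obtain ⟨m, hm⟩ : a ∈ (unitTwist σ).range := by
    rw [← unitNorm_ker, MonoidHom.mem_ker, unitNorm_apply, hσ, Finset.prod_range_succ,
      Finset.prod_range_one]
    refine Units.ext ?_
    simpa using haa
  let g' := GeneralLinearGroup.scalar (Fin n) m⁻¹ * g
  have hherm : (g'.1.map σ)ᵀ = g'.1 := Matrix.ext fun i j => by
    rw [scalar_mul_val]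
    simp only [transpose_apply, Matrix.map_apply, Matrix.smul_apply, smul_eq_mul, map_mul]
    have hm' : (a : F) = (m : F) / σ (m : F) := by rw [← coe_unitTwist, hm]
    rw [hent i j, hm', Units.val_inv_eq_inv_val, map_inv₀]
    field_simp [(map_ne_zero σ).2 m.ne_zero, m.ne_zero]
  obtain ⟨k, hk⟩ := exists_congr_one σ hσ g' hherm
  refine ⟨k, ?_⟩
  rw [conj_graphField]
  congr 1
  refine (semiAut_eq_iff (by omega) _ _ _ _).2 ⟨rfl, ?_⟩
  have hk' : k * (GeneralLinearGroup.map (σ : F →+* F) (glInvTrans k))⁻¹ = g' := by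
    refine Units.ext ?_
    rw [Units.val_mul, val_map_glInvTrans_inv]
    exact hk.symm
  rw [hk', _root_.mul_inv_rev, mul_assoc, ← map_inv, inv_inv, ← Subgroup.mem_center_iff.1
    (scalar_mem_center m) g, inv_mul_cancel_left]
  exact scalar_mem_center m

/-- The centraliser in `Inndiag` of the standard graph-field involution. -/
theorem centralizer_graphField [Finite F] (hn : 3 ≤ n) (σ : F ≃+* F) (hσ : orderOf σ = 2)
    (U : Subgroup (GL (Fin n) F)) (hU : ∀ h, h ∈ U ↔ hermSq σ h = 1) :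
    Cfsg.inndiagPSL n F ⊓ Subgroup.centralizer {semiAut 1 σ * itAut} = U.map inndiagHom := by
  have hkey : ∀ h : GL (Fin n) F, inndiagHom h * (semiAut 1 σ * itAut) =
      (semiAut 1 σ * itAut) * inndiagHom h ↔
        inndiagHom (h * (GeneralLinearGroup.map (σ : F →+* F) (glInvTrans h))⁻¹) = 1 := fun h => by
    rw [← mul_inv_eq_iff_eq_mul, conj_graphField, semiAut_eq_mul, mul_left_inj, mul_eq_right]
  refine le_antisymm ?_ ?_
  · intro x hx
    obtain ⟨h, rfl⟩ : ∃ h, inndiagHom h = x := by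
      have := hx.1; rwa [SetLike.mem_coe, inndiagPSL_eq_range] at this
    rw [inndiagHom_range_inf_centralizer_iff, hkey, ← map_one inndiagHom] at hx
    obtain ⟨a, ha⟩ := exists_eq_scalar_mul (by omega) hx
    have hv : hermSq σ h = (a : F) • 1 := by
      have := congrArg Units.val ha
      rwa [Units.val_mul, val_map_glInvTrans_inv, scalar_mul_val, Units.val_one] at this
    have hsym : σ (a : F) = a := by
      haveI : Nonempty (Fin n) := ⟨⟨0, by omega⟩⟩
      have hh : ((hermSq σ h).map σ)ᵀ = hermSq σ h := by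
        rw [hermSq, Matrix.map_mul, transpose_mul, ← transpose_map, transpose_transpose, Matrix.map_map]
        congr 1
        refine Matrix.ext fun i j => ?_
        have := pow_orderOf_eq_one σ
        rw [hσ, sq] at this
        exact RingEquiv.congr_fun this (h.1 i j)
      rw [hv] at hh
      have := congrFun (congrFun hh (Classical.arbitrary _)) (Classical.arbitrary _)
      simpa using this
    obtain ⟨c, hc0, hc⟩ := exists_mul_apply_eq σ hσ a.ne_zero hsym
    refine ⟨GeneralLinearGroup.scalar (Fin n) (Units.mk0 c hc0)⁻¹ * h, (hU _).2 ?_,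
      inndiagHom_scalar_mul (by omega) _ h⟩
    rw [hermSq, scalar_mul_val]
    show ((c⁻¹ : F) • h.1) * (((c⁻¹ : F) • h.1).map σ)ᵀ = 1
    rw [Matrix.map_smul' _ _ _ (map_mul σ), transpose_smul, smul_mul_smul_comm, ← hermSq, hv,
      smul_smul, map_inv₀, ← hc]
    have hσc : σ c ≠ 0 := (map_ne_zero σ).2 hc0
    rw [show c⁻¹ * (σ c)⁻¹ * (c * σ c) = 1 from by field_simp, one_smul]
  · rintro _ ⟨h, hh, rfl⟩
    rw [inndiagHom_range_inf_centralizer_iff, hkey]
    have : h * (GeneralLinearGroup.map (σ : F →+* F) (glInvTrans h))⁻¹ = 1 := by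
      refine Units.ext ?_
      rw [Units.val_mul, val_map_glInvTrans_inv]
      exact (hU h).1 hh
    rw [this, map_one]

/-- The number of `T`-classes in the `Inndiag`-class of `x`, from the determinants of the preimage
of its centraliser. -/
theorem splitClassCount_eq_gcd [Finite F] (hn : 2 ≤ n)
    (x : MulAut (ProjectiveSpecialLinearGroup (Fin n) F)) (D : Subgroup (GL (Fin n) F))
    (hD : Cfsg.inndiagPSL n F ⊓ Subgroup.centralizer {x} = D.map inndiagHom) :
    Cfsg.splitClassCount (Cfsg.inndiagPSL n F)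
      (Cfsg.Inn (ProjectiveSpecialLinearGroup (Fin n) F)) x =
      Nat.gcd n (D.map Matrix.GeneralLinearGroup.det).index := by
  haveI := inndiag_normal (F := F) hn
  have hInn : Cfsg.Inn (ProjectiveSpecialLinearGroup (Fin n) F) =
      (SpecialLinearGroup.toGL (n := Fin n) (R := F)).range.map inndiagHom := by
    refine le_antisymm ?_ ?_
    · rintro _ ⟨y, rfl⟩
      obtain ⟨s, rfl⟩ := QuotientGroup.mk_surjective y
      exact ⟨SpecialLinearGroup.toGL s, ⟨s, rfl⟩, (conj_eq_semiAut s).symm⟩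
    · rintro _ ⟨_, ⟨s, rfl⟩, rfl⟩
      exact ⟨QuotientGroup.mk s, conj_eq_semiAut s⟩
  rw [splitClassCount_eq _ _ (by rw [hInn, inndiagPSL_eq_range]; exact Subgroup.map_le_range _ _),
    hD, hInn, ← Subgroup.map_sup, inndiagPSL_eq_range, ← Subgroup.index_comap, Subgroup.comap_map_eq,
    show (inndiagHom (n := n) (F := F)).ker = Subgroup.center (GL (Fin n) F) from by
      ext g
      rw [MonoidHom.mem_ker, inndiagHom_apply, semiAut_eq_one_iff hn]
      exact ⟨fun e => e.2, fun e => ⟨rfl, e⟩⟩]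
  haveI : NeZero n := ⟨by omega⟩
  have hdetsurj : Function.Surjective (Matrix.GeneralLinearGroup.det : GL (Fin n) F →* Fˣ) :=
    fun u => ⟨firstDiag u, det_firstDiag u⟩
  have hkerdet : (Matrix.GeneralLinearGroup.det : GL (Fin n) F →* Fˣ).ker =
      (SpecialLinearGroup.toGL (n := Fin n) (R := F)).range := by
    ext g
    exact ⟨fun e => exists_toGL_of_det_one g (MonoidHom.mem_ker.1 e), fun ⟨s, hs⟩ =>
      hs ▸ MonoidHom.mem_ker.2 (Units.ext s.2)⟩
  rw [← Subgroup.index_map_eq _ hdetsurj (by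
    rw [hkerdet]; exact le_trans le_sup_left le_sup_left), Subgroup.map_sup, Subgroup.map_sup,
    ← hkerdet, (Subgroup.map_eq_bot_iff _).2 le_rfl, bot_sup_eq]
  have hcen : (Subgroup.center (GL (Fin n) F)).map Matrix.GeneralLinearGroup.det =
      (powMonoidHom n : Fˣ →* Fˣ).range := by
    rw [GeneralLinearGroup.center_eq_range_scalar, MonoidHom.range_eq_map, Subgroup.map_map,
      ← MonoidHom.range_eq_map]
    congr 1
    refine MonoidHom.ext fun c => Units.ext ?_
    show (Matrix.scalar (Fin n) (c : F)).det = (c : F) ^ n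
    simp
  rw [hcen, index_sup_of_isCyclic, IsCyclic.index_powMonoidHom_range, ← Nat.gcd_assoc,
    Nat.gcd_eq_left (Subgroup.index_dvd_card _), Nat.gcd_comm]

end CfsgLib.KnownC
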