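import Mathlib
import Cfsg.Agent.Lib.KnownC.AutPOmegaFieldEven
import Cfsg.Agent.Lib.KnownC.AutPOmegaTypes
import Cfsg.Agent.Lib.KnownC.SplitClass
import Cfsg.Agent.Lib.KnownC.FieldAut

set_option autoImplicit false
set_option linter.unusedSectionVars false
set_option linter.style.haveILetI false

/-!
Elements of prime order in the cosets of `Inndiag` at field and graph-field automorphisms.
-/

namespace CfsgLib.KnownC

open CfsgLib.Geom CfsgLib.Classical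
open QuadraticMap (polar)
open Matrix

universe u v

section Abstract

variable {X : Type*} [Group X] {H : Subgroup X}

theorem isConjUnder_symm' {x y : X} (h : Cfsg.IsConjUnder H x y) : Cfsg.IsConjUnder H y x := by
  obtain ⟨g, hg, rfl⟩ := h
  exact ⟨g⁻¹, inv_mem hg, by group⟩

theorem isConjUnder_trans' {x y z : X} (h : Cfsg.IsConjUnder H x y) (h' : Cfsg.IsConjUnder H y z) :
    Cfsg.IsConjUnder H x z := by
  obtain ⟨g, hg, rfl⟩ := h
  obtain ⟨g', hg', rfl⟩ := h'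
  exact ⟨g' * g, mul_mem hg' hg, by group⟩

theorem orderOf_of_conjUnder {x y : X} (h : Cfsg.IsConjUnder H x y) : orderOf y = orderOf x := by
  obtain ⟨g, -, rfl⟩ := h
  rw [← MulAut.conj_apply, MulEquiv.orderOf_eq]

/-- Conjugate elements under a normal subgroup lie in one coset. -/
theorem mul_inv_mem_of_conjUnder [hH : H.Normal] {z z' δ : X} (hδ : δ ∈ H)
    (h : Cfsg.IsConjUnder H z (δ * z')) : z' * z⁻¹ ∈ H := by
  obtain ⟨g, hg, he⟩ := h
  have h1 := congrArg (QuotientGroup.mk' H) he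
  simp only [map_mul, map_inv, QuotientGroup.mk'_apply, (QuotientGroup.eq_one_iff _).2 hδ,
    (QuotientGroup.eq_one_iff _).2 hg, one_mul, inv_one, mul_one] at h1
  refine (QuotientGroup.eq_one_iff _).1 ?_
  rw [QuotientGroup.mk_mul, QuotientGroup.mk_inv, h1, mul_inv_cancel]

/-- If every element is a product of one of `H` and one centralising `z`, the classes agree. -/
theorem isConjUnder_of_decomp {x z α : X} (hdec : ∀ a : X, ∃ c, Commute c z ∧ a * c⁻¹ ∈ H)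
    (h : α * x * α⁻¹ = z) : Cfsg.IsConjUnder H z x := by
  obtain ⟨c, hc, hm⟩ := hdec α⁻¹
  refine ⟨α⁻¹ * c⁻¹, hm, ?_⟩
  have h2 : c⁻¹ * z * c = z := by rw [mul_assoc, ← hc.eq, inv_mul_cancel_left]
  rw [_root_.mul_inv_rev, inv_inv, inv_inv,
    show α⁻¹ * c⁻¹ * z * (c * α) = α⁻¹ * (c⁻¹ * z * c) * α by group, h2, ← h]
  group

end Abstract

section General

variable {F : Type u} [Field F] [Finite F] {ι : Type} [Fintype ι] [DecidableEq ι]
variable {Q : QuadraticForm F (ι → F)} (K : OCtx Q)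
include K

theorem exists_osim_mul {n : ℕ} {δ : MulAut (Cfsg.POmega F (⇑Q))} (hδ : δ ∈ properAut K n) (X : OSim Q) :
    ∃ Φ : OSim Q, Φ.σ = X.σ ∧ δ * osimPOmega K X = osimPOmega K Φ := by
  obtain ⟨g, -, rfl⟩ := hδ
  refine ⟨(OSim.ofPair g.1 (RingEquiv.refl F) (isSemisimilarityPair_of_sim g.2)).comp X,
    RingEquiv.ext fun x => rfl, ?_⟩
  rw [osimPOmega_comp, simHom_apply]

/-- Semisimilitudes with similar frames are conjugate by proper similitudes, given a commuting reflection. -/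
theorem exists_conj_proper {F₀ : Type v} [Field F₀] (ι₀ : F₀ →+* F) {n : ℕ}
    (hdim : Fintype.card ι = 2 * n) {Φ Φ' : OSim Q} (hσ : Φ'.σ = Φ.σ) (hι : ∀ a, Φ.σ (ι₀ a) = ι₀ a)
    {R₀ R₀' : QuadraticForm F₀ (ι → F₀)} (hR : IsFrame ι₀ Φ R₀) (hR' : IsFrame ι₀ Φ' R₀')
    (M : (ι → F₀) ≃ₗ[F₀] (ι → F₀)) {e₀ : F₀} (he₀ : e₀ ≠ 0) (hM : ∀ v, R₀ (M v) = e₀ * R₀' v)
    (v : ι → F) (hv : Q v ≠ 0) (hcomm : Commute (isoHom K (reflIsom Q v hv)) (osimPOmega K Φ')) :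
    Cfsg.IsConjUnder (properAut K n) (osimPOmega K Φ') (osimPOmega K Φ) := by
  obtain ⟨Ψ, hΨ, he⟩ := exists_conj_of_frames ι₀ K hσ hι hR hR' M he₀ hM
  rcases sim_split K hdim hΨ v hv with h | h
  · exact ⟨_, h, he⟩
  refine ⟨_, h, ?_⟩
  rw [he]
  have h2 : isoHom K (reflIsom Q v hv) * osimPOmega K Φ' * (isoHom K (reflIsom Q v hv))⁻¹ =
      osimPOmega K Φ' := by rw [hcomm.eq, mul_inv_cancel_right]
  conv_lhs => rw [← h2]
  group

theorem graphField_mul_self_pomega (σ : F ≃+* F) (hσ : ∀ w : ι → F, Q (fun i => σ (w i)) = σ (Q w))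
    (hσ2 : orderOf σ = 2) (v : ι → F) (hv : Q v ≠ 0) (hfix : ∀ i, σ (v i) = v i) :
    (isoHom K (reflIsom Q v hv) * osimPOmega K (OSim.std σ hσ)) ^ 2 = 1 := by
  rw [(commute_refl_std K σ hσ v hv hfix).mul_pow, ← hσ2, ← orderOf_osimPOmega_std K σ hσ,
    pow_orderOf_eq_one, orderOf_osimPOmega_std K σ hσ, hσ2, pow_two, isoHom_refl_mul_self, one_mul]

/-- The field part of a product of a reflection and a standard field automorphism. -/
theorem graphField_eq (σ : F ≃+* F) (hσ : ∀ w : ι → F, Q (fun i => σ (w i)) = σ (Q w))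
    (g : Cfsg.isometryGroup F (⇑Q)) :
    ∃ Φ : OSim Q, Φ.σ = σ ∧ isoHom K g * osimPOmega K (OSim.std σ hσ) = osimPOmega K Φ :=
  ⟨(OSim.ofIsometry g).comp (OSim.std σ hσ), RingEquiv.ext fun x => rfl, by
    rw [osimPOmega_comp, isoHom_apply]⟩

/-- A product of a reflection and a field automorphism of prime order has order two. -/
theorem graphField_prime_order {n : ℕ} (hdim : Fintype.card ι = 2 * n) (σ : F ≃+* F)
    (hσ : ∀ w : ι → F, Q (fun i => σ (w i)) = σ (Q w)) (hσ1 : σ ≠ RingEquiv.refl F)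
    (v : ι → F) (hv : Q v ≠ 0) (hfix : ∀ i, σ (v i) = v i) {r : ℕ} (hr : r.Prime)
    (ho : orderOf (isoHom K (reflIsom Q v hv) * osimPOmega K (OSim.std σ hσ)) = r) :
    r = 2 ∧ orderOf σ = 2 := by
  have hc := commute_refl_std K σ hσ v hv hfix
  obtain ⟨Φ, hΦσ, hΦ⟩ := graphField_eq K σ hσ (reflIsom Q v hv)
  have h1 := pow_orderOf_eq_one (isoHom K (reflIsom Q v hv) * osimPOmega K (OSim.std σ hσ))
  rw [ho] at h1
  have hσr : σ ^ r = 1 := by
    rw [hΦ, ← osimPOmega_pow] at h1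
    obtain ⟨a, -, ha⟩ := (osimPOmega_eq_one_iff K _).1 h1
    have h2 : (Φ.pow r).σ = RingEquiv.refl F := osimPOmega_σ_eq K (Ψ := OSim.ofIsometry (1 : Cfsg.isometryGroup F (⇑Q))) (by
      rw [h1, ← isoHom_apply, map_one])
    rw [OSim.pow_σ, hΦσ] at h2
    exact h2
  have hoσ : orderOf σ = r := orderOf_eq_prime_iff (hp := ⟨hr⟩) |>.2 ⟨hσr, hσ1⟩
  rcases hr.eq_two_or_odd' with rfl | hodd
  · exact ⟨rfl, hoσ⟩
  exfalso
  refine isoHom_refl_not_mem_properAut K (n := n) hdim v hv ?_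
  rw [hc.mul_pow, ← hoσ, ← orderOf_osimPOmega_std K σ hσ, pow_orderOf_eq_one,
    orderOf_osimPOmega_std K σ hσ, hoσ, mul_one] at h1
  obtain ⟨k, rfl⟩ := hodd
  rw [pow_succ, pow_mul, pow_two, isoHom_refl_mul_self, one_pow, one_mul] at h1
  rw [h1]
  exact one_mem _

end General

section Plus

variable {F : Type u} [Field F] [Fintype F] {F₀ : Type v} [Field F₀] [Fintype F₀] (ι₀ : F₀ →+* F)

/-- The frame of a semisimilitude of the plus form of prime order equal to that of its field automorphism: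
conjugacy to the standard field automorphism, or minus type. -/
theorem plus_frame {m : ℕ} (K : OCtx (qfPlus m F)) {σ : F ≃+* F}
    (hσQ : ∀ w, qfPlus m F (fun i => σ (w i)) = σ (qfPlus m F w))
    (hι : ∀ x, σ x = x ↔ ∃ a, ι₀ a = x) {r : ℕ} (hr : r.Prime) (hσr : orderOf σ = r)
    (hcard : Fintype.card F = Fintype.card F₀ ^ r)
    (v : Fin m ⊕ Fin m → F) (hv : qfPlus m F v ≠ 0) (hfix : ∀ i, σ (v i) = v i)
    (Φ : OSim (qfPlus m F)) (hΦσ : Φ.σ = σ) (hΦ : osimPOmega K Φ ^ r = 1) :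
    Cfsg.IsConjUnder (properAut K m) (osimPOmega K (OSim.std σ hσQ)) (osimPOmega K Φ) ∨
      (r = 2 ∧ ∃ (k : ℕ) (a b e₀ : F₀) (R₀ : QuadraticForm F₀ (Fin m ⊕ Fin m → F₀))
        (M : ((Fin k ⊕ Fin k) ⊕ Fin 2 → F₀) ≃ₗ[F₀] (Fin m ⊕ Fin m → F₀)),
        m = k + 1 ∧ e₀ ≠ 0 ∧ (∀ z₁ z₂ : F₀, z₁ ^ 2 + a * z₁ * z₂ + b * z₂ ^ 2 = 0 → z₁ = 0 ∧ z₂ = 0) ∧
        IsFrame ι₀ Φ R₀ ∧ ∀ w, R₀ (M w) = e₀ * qfMinus k F₀ a b w) := by
  subst hΦσ
  obtain ⟨R₀, hR, hsep⟩ := exists_isFrame ι₀ K Φ hι (by rw [hσr]; exact hΦ)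
  have hdim : Fintype.card (Fin m ⊕ Fin m) = 2 * m := by simp; omega
  rcases even_form_std m _ R₀ hsep (by rw [Module.finrank_fintype_fun_eq_card, hdim]) with
    ⟨e, he⟩ | ⟨k, a, b, c, rfl, hc, hab, e, he⟩
  · exact Or.inl (exists_conj_proper K ι₀ hdim (Φ' := OSim.std Φ.σ hσQ) rfl
      (fun a => (hι _).2 ⟨a, rfl⟩) hR (isFrame_std ι₀ Φ.σ hσQ (qfPlus_baseChange ι₀ m)) e one_ne_zero
      (fun w => by rw [he, one_mul]) v hv (commute_refl_std K Φ.σ hσQ v hv hfix))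
  · refine Or.inr ⟨?_, k, a, b, c, R₀, e, rfl, hc, hab, hR, he⟩
    rcases hr.eq_two_or_odd' with h | hodd
    · exact h
    exfalso
    obtain ⟨L, d, hd, hL⟩ := exists_similarity_of_frame ι₀ hR (qfMinus_baseChange ι₀ k a b) e hc he
    refine not_similar_plus_minus ((anisotropic_map_iff ι₀ hcard hab).1 hodd) L.symm (c := d⁻¹) fun w => ?_
    obtain ⟨z, rfl⟩ := L.surjective w
    rw [L.symm_apply_apply, hL, inv_mul_cancel_left₀ hd]

/-- The two classes of elements of prime order with a given field part. -/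
theorem plus_class {m : ℕ} (K : OCtx (qfPlus m F)) (hn : 9 ≤ Fintype.card (Fin m ⊕ Fin m) ∨ NoFour (qfPlus m F))
    {σ : F ≃+* F} (hσQ : ∀ w, qfPlus m F (fun i => σ (w i)) = σ (qfPlus m F w))
    (hι : ∀ x, σ x = x ↔ ∃ a, ι₀ a = x) {r : ℕ} (hr : r.Prime) (hσr : orderOf σ = r)
    (hcard : Fintype.card F = Fintype.card F₀ ^ r)
    (v : Fin m ⊕ Fin m → F) (hv : qfPlus m F v ≠ 0) (hfix : ∀ i, σ (v i) = v i)
    (Φ : OSim (qfPlus m F)) (hΦσ : Φ.σ = σ) (hΦ : osimPOmega K Φ ^ r = 1) :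
    Cfsg.IsConjUnder (properAut K m) (osimPOmega K (OSim.std σ hσQ)) (osimPOmega K Φ) ∨
      (r = 2 ∧ Cfsg.IsConjUnder (properAut K m)
        (isoHom K (reflIsom (qfPlus m F) v hv) * osimPOmega K (OSim.std σ hσQ)) (osimPOmega K Φ)) := by
  have hdim : Fintype.card (Fin m ⊕ Fin m) = 2 * m := by simp; omega
  haveI := properAut_normal K hn m
  rcases plus_frame ι₀ K hσQ hι hr hσr hcard v hv hfix Φ hΦσ hΦ with h | ⟨rfl, k, a, b, c, R₀, M, rfl, hc, hab, hR, hM⟩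
  · exact Or.inl h
  refine Or.inr ⟨rfl, ?_⟩
  obtain ⟨Φ', hΦ'σ, hΦ'⟩ := graphField_eq K σ hσQ (reflIsom (qfPlus (k + 1) F) v hv)
  have hΦ'2 : osimPOmega K Φ' ^ 2 = 1 := by rw [← hΦ']; exact graphField_mul_self_pomega K σ hσQ hσr v hv hfix
  rcases plus_frame ι₀ K hσQ hι hr hσr hcard v hv hfix Φ' hΦ'σ hΦ'2 with
    h | ⟨-, k', a', b', c', R₀', M', hk, hc', hab', hR', hM'⟩
  · exfalso
    refine isoHom_refl_not_mem_properAut K (n := k + 1) hdim v hv ?_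
    rw [← hΦ'] at h
    have h1 := mul_inv_mem_of_conjUnder (H := properAut K (k + 1))
      (z := osimPOmega K (OSim.std σ hσQ))
      (z' := isoHom K (reflIsom (qfPlus (k + 1) F) v hv) * osimPOmega K (OSim.std σ hσQ)) (δ := 1)
      (one_mem _) (by rw [one_mul]; exact h)
    rwa [mul_inv_cancel_right] at h1
  obtain rfl : k' = k := by omega
  obtain ⟨w, hw⟩ := exists_minus_isometry k' hab hab'
  rw [hΦ']
  refine exists_conj_proper K ι₀ hdim (hΦ'σ.trans hΦσ.symm) (fun a => (hι _).2 ⟨a, rfl⟩ |> fun h => by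
      rw [hΦσ]; exact h) hR hR'
    ((M'.symm.trans w).trans M) (e₀ := c / c') (div_ne_zero hc hc') (fun z => ?_) v hv ?_
  · obtain ⟨z, rfl⟩ := M'.surjective z
    rw [LinearEquiv.trans_apply, LinearEquiv.trans_apply, M'.symm_apply_apply, hM, hw, hM', ← mul_assoc,
      div_mul_cancel₀ c hc']
  · rw [← hΦ']
    exact (Commute.refl _).mul_right (commute_refl_std K σ hσQ v hv hfix)

end Plus

end CfsgLib.KnownC
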