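import Mathlib
import Cfsg.Agent.Lib.KnownC.AutPOmegaFieldClass
import Cfsg.Agent.Lib.KnownC.FieldUnits

set_option autoImplicit false
set_option linter.unusedSectionVars false
set_option linter.style.haveILetI false

/-!
Field and graph-field automorphisms of prime order of `PΩ⁺(q)`: conjugacy in their cosets of `Inndiag`.
-/

namespace CfsgLib.KnownC

open CfsgLib.Geom CfsgLib.Classical
open QuadraticMap (polar)
open Matrix

universe u

variable {F : Type u} [Field F] [Fintype F]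

/-- The fixed field of an automorphism of given order. -/
theorem exists_fixed_field (σ : F ≃+* F) :
    ∃ (F₀ : Type) (_ : Field F₀) (_ : Fintype F₀) (ι₀ : F₀ →+* F),
      (∀ x, σ x = x ↔ ∃ a, ι₀ a = x) ∧ Fintype.card F = Fintype.card F₀ ^ orderOf σ := by
  haveI : Finite (F ≃+* F) :=
    Finite.of_injective (fun s : F ≃+* F => (s : F → F)) DFunLike.coe_injective
  obtain ⟨p, hp⟩ := CharP.exists F
  haveI : Fact p.Prime :=
    ⟨(CharP.char_is_prime_or_zero F p).resolve_right (CharP.char_ne_zero_of_finite F p)⟩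
  obtain ⟨f, -, hF⟩ := FiniteField.card F p
  obtain ⟨hdvd, -, hemb⟩ := exists_fixed_embedding σ hF
  have hpos : 0 < (f : ℕ) / orderOf σ := Nat.div_pos (Nat.le_of_dvd f.pos hdvd) (orderOf_pos σ)
  haveI : Fintype (GaloisField p ((f : ℕ) / orderOf σ)) := Fintype.ofFinite _
  have h0 : Fintype.card (GaloisField p ((f : ℕ) / orderOf σ)) = p ^ ((f : ℕ) / orderOf σ) := by
    rw [← Nat.card_eq_fintype_card, GaloisField.card p _ hpos.ne']
  obtain ⟨ι, hι⟩ := hemb _ h0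
  exact ⟨_, _, _, ι, hι, by rw [hF, h0, ← pow_mul, Nat.div_mul_cancel hdvd]⟩

omit [Fintype F] in
theorem octx_qfPlus {m : ℕ} (hm : 4 ≤ m) : OCtx (qfPlus m F) :=
  ⟨qfPlus_sep m, by rw [Module.finrank_fintype_fun_eq_card]; simp; omega⟩

theorem qfPlus_equivariant {m : ℕ} (σ : F ≃+* F) (w : Fin m ⊕ Fin m → F) :
    qfPlus m F (fun i => σ (w i)) = σ (qfPlus m F w) :=
  (qfPlus_baseChange (σ : F →+* F) m w).symm

/-- A vector with entries zero and one and value one. -/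
theorem exists_base_vector {m : ℕ} (hm : 0 < m) :
    ∃ v : Fin m ⊕ Fin m → F, qfPlus m F v ≠ 0 ∧ ∀ (τ : F ≃+* F) i, τ (v i) = v i :=
  ⟨fun k => if k = .inl ⟨0, hm⟩ ∨ k = .inr ⟨0, hm⟩ then 1 else 0, by
    simp [qfPlus_apply, Cfsg.quadFormPlus, ite_and], fun τ i => by dsimp only; split <;> simp⟩

/-- The generators of `Inndiag` of the plus form. -/
abbrev plusInndiag {m : ℕ} (Q' : (Fin m ⊕ Fin m → F) → F) : Subgroup (MulAut (Cfsg.POmega F Q')) :=
  Subgroup.closure {β : MulAut (Cfsg.POmega F Q') | ∃ g : GL (Fin m ⊕ Fin m) F,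
    g ∈ Cfsg.Geo.quadSimilarityGroup (F := F) Q' ∧ Cfsg.PreservesSingularClasses Q' g.1 ∧
      Cfsg.IsInducedBySemilinearPOmega Q' g (RingEquiv.refl F) β}

/-- The graph-field class, for any writing of the plus form. -/
abbrev IsPlusGraphField {m : ℕ} (Q' : (Fin m ⊕ Fin m → F) → F) (β : MulAut (Cfsg.POmega F Q')) : Prop :=
  ∃ (α γ φ : MulAut (Cfsg.POmega F Q')) (σ : F ≃+* F) (v : Fin m ⊕ Fin m → F) (r : GL (Fin m ⊕ Fin m) F),
    σ ≠ RingEquiv.refl F ∧ Q' v ≠ 0 ∧ (∀ i, σ (v i) = v i) ∧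
    (r : Matrix (Fin m ⊕ Fin m) (Fin m ⊕ Fin m) F) = Cfsg.reflectionMatrix Q' v ∧
    Cfsg.IsInducedBySemilinearPOmega Q' r (RingEquiv.refl F) γ ∧
    Cfsg.IsFieldAutPOmegaOf Q' σ φ ∧ α * β * α⁻¹ = γ * φ

theorem plusInndiag_eq {m : ℕ} (hm : 4 ≤ m) (K : OCtx (qfPlus m F)) :
    plusInndiag (⇑(qfPlus m F)) = properAut K m :=
  closure_proper_eq K m (fun g => Cfsg.PreservesSingularClasses (⇑(qfPlus m F)) g.1) fun g => by
    obtain ⟨c, hc⟩ := g.2
    exact preservesPlus_iff (by omega) c.ne_zero hc _ rfl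

theorem gf_eq_of_induced {m : ℕ} (K : OCtx (qfPlus m F)) {v : Fin m ⊕ Fin m → F}
    (hv : qfPlus m F v ≠ 0) {r : GL (Fin m ⊕ Fin m) F}
    (hrm : r.1 = Cfsg.reflectionMatrix (⇑(qfPlus m F)) v) {γ : MulAut (Cfsg.POmega F (⇑(qfPlus m F)))}
    (hγ : Cfsg.IsInducedBySemilinearPOmega (⇑(qfPlus m F)) r (RingEquiv.refl F) γ) :
    γ = isoHom K (reflIsom (qfPlus m F) v hv) := by
  obtain rfl : r = (reflIsom (qfPlus m F) v hv).1 := Units.ext (hrm.trans (reflIsom_coe v hv).symm)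
  have hpair : Cfsg.IsSemisimilarityPair (⇑(qfPlus m F)) (reflIsom (qfPlus m F) v hv).1 (RingEquiv.refl F) :=
    ⟨1, fun w => ((mem_isometryGroup_iff _ _).1 (reflIsom (qfPlus m F) v hv).2 w).trans (one_mul _).symm⟩
  rw [eq_osimPOmega_of_induced K hpair hγ, isoHom_apply]
  refine osimPOmega_congr K fun w => ?_
  rw [OSim.ofIsometry_T]
  rfl

/-- Up to conjugation in the automorphism group: the standard field automorphism, or its product with a
commuting reflection. -/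
theorem plus_std_of_class {m : ℕ} (hm : 5 ≤ m) (K : OCtx (qfPlus m F))
    {x : MulAut (Cfsg.POmega F (⇑(qfPlus m F)))}
    (hx : Cfsg.IsFieldAutClassPOmega (⇑(qfPlus m F)) x ∨ IsPlusGraphField (⇑(qfPlus m F)) x)
    {r : ℕ} (hr : r.Prime) (hxr : orderOf x = r) :
    ∃ (α : MulAut (Cfsg.POmega F (⇑(qfPlus m F)))) (σ : F ≃+* F) (v : Fin m ⊕ Fin m → F)
      (hv : qfPlus m F v ≠ 0), orderOf σ = r ∧ (∀ i, σ (v i) = v i) ∧
      (α * x * α⁻¹ = osimPOmega K (OSim.std σ (qfPlus_equivariant σ)) ∨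
        (r = 2 ∧ α * x * α⁻¹ = isoHom K (reflIsom (qfPlus m F) v hv) *
          osimPOmega K (OSim.std σ (qfPlus_equivariant σ)))) := by
  rcases hx with ⟨α, φ, σ, hσ, hφ, he⟩ | ⟨α, γ, φ, σ, v, g, hσ, hv, hfix, hg, hγ, hφ, he⟩
  · rw [eq_osimPOmega_std K (qfPlus_equivariant σ) hφ] at he
    obtain ⟨v, hv, hfix⟩ := exists_base_vector (F := F) (show 0 < m by omega)
    refine ⟨α, σ, v, hv, ?_, hfix σ, Or.inl he⟩
    rw [← hxr, ← orderOf_osimPOmega_std K σ (qfPlus_equivariant σ), ← he, ← MulAut.conj_apply,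
      MulEquiv.orderOf_eq]
  · rw [eq_osimPOmega_std K (qfPlus_equivariant σ) hφ, gf_eq_of_induced K hv hg hγ] at he
    obtain ⟨h2, hoσ⟩ := graphField_prime_order K (n := m) (by simp; omega) σ (qfPlus_equivariant σ) hσ v hv
      hfix hr (by rw [← he, ← MulAut.conj_apply, MulEquiv.orderOf_eq, hxr])
    exact ⟨α, σ, v, hv, h2 ▸ hoσ, hfix, Or.inr ⟨h2, he⟩⟩

theorem plus_coset_conj {m : ℕ} (hm : 5 ≤ m) (Q' : (Fin m ⊕ Fin m → F) → F) (hQ' : Q' = ⇑(qfPlus m F))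
    (x δ : MulAut (Cfsg.POmega F Q'))
    (hx : Cfsg.IsFieldAutClassPOmega Q' x ∨ IsPlusGraphField Q' x) {r : ℕ} (hr : r.Prime)
    (hxr : orderOf x = r) (hδ : δ ∈ plusInndiag Q') :
    orderOf (δ * x) = r ↔ Cfsg.IsConjUnder (plusInndiag Q') x (δ * x) := by
  subst hQ'
  have K := octx_qfPlus (F := F) (show 4 ≤ m by omega)
  have hn : 9 ≤ Fintype.card (Fin m ⊕ Fin m) ∨ NoFour (qfPlus m F) := Or.inl (by simp; omega)
  have hdim : Fintype.card (Fin m ⊕ Fin m) = 2 * m := by simp; omega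
  rw [plusInndiag_eq (by omega) K] at hδ ⊢
  haveI := properAut_normal K hn m
  refine ⟨fun hord => ?_, fun h => (orderOf_of_conjUnder h).trans hxr⟩
  obtain ⟨α, σ, v, hv, hσr, hfix, hz⟩ := plus_std_of_class hm K hx hr hxr
  obtain ⟨F₀, _, _, ι₀, hι, hcard⟩ := exists_fixed_field σ
  rw [hσr] at hcard
  rw [← isConjUnder_conj_iff (properAut K m) α]
  have hδ' : α * δ * α⁻¹ ∈ properAut K m := Subgroup.Normal.conj_mem inferInstance δ hδ α
  have hy : α * (δ * x) * α⁻¹ = α * δ * α⁻¹ * (α * x * α⁻¹) := by group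
  have hyr : (α * δ * α⁻¹ * (α * x * α⁻¹)) ^ r = 1 := by
    rw [← hy, ← hord, ← MulAut.conj_apply, ← map_pow, pow_orderOf_eq_one, map_one]
  rw [hy]
  generalize α * δ * α⁻¹ = δ' at hδ' hyr ⊢
  obtain ⟨γ, hγ⟩ : ∃ γ, γ = isoHom K (reflIsom (qfPlus m F) v hv) := ⟨_, rfl⟩
  have hγn : γ ∉ properAut K m := hγ ▸ isoHom_refl_not_mem_properAut K hdim v hv
  rcases hz with hz | ⟨h2, hz⟩
  · rw [hz] at hyr ⊢
    obtain ⟨Φ, hΦσ, hΦ⟩ := exists_osim_mul K hδ' (OSim.std σ (qfPlus_equivariant σ))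
    rw [hΦ] at hyr ⊢
    rcases plus_class ι₀ K hn (qfPlus_equivariant σ) hι hr hσr hcard v hv hfix Φ hΦσ hyr with h | ⟨-, h⟩
    · exact h
    · exfalso
      rw [← hγ, ← hΦ] at h
      have h1 := inv_mem (mul_inv_mem_of_conjUnder hδ' h)
      rw [_root_.mul_inv_rev, inv_inv, mul_inv_cancel_right] at h1
      exact hγn h1
  · rw [hz] at hyr ⊢
    obtain ⟨Φ₁, hΦ₁σ, hΦ₁⟩ := graphField_eq K σ (qfPlus_equivariant σ) (reflIsom (qfPlus m F) v hv)
    rw [hΦ₁] at hyr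
    obtain ⟨Φ, hΦσ, hΦ⟩ := exists_osim_mul K hδ' Φ₁
    rw [hΦ] at hyr
    rw [show δ' * (isoHom K (reflIsom (qfPlus m F) v hv) * osimPOmega K (OSim.std σ (qfPlus_equivariant σ))) =
      osimPOmega K Φ by rw [hΦ₁, hΦ]]
    rcases plus_class ι₀ K hn (qfPlus_equivariant σ) hι hr hσr hcard v hv hfix Φ (hΦσ.trans hΦ₁σ) hyr with
      h | ⟨-, h⟩
    · exfalso
      rw [← hΦ, ← hΦ₁, ← hγ] at h
      have h1 := mul_inv_mem_of_conjUnder hδ' h
      rw [mul_inv_cancel_right] at h1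
      exact hγn h1
    · exact h

end CfsgLib.KnownC
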