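import Cfsg.Agent.Lib.KnownC.AutPSLMain
import Cfsg.Agent.Lib.KnownC.FieldAut
import Cfsg.Prelude.Def_KGroupFacts

set_option autoImplicit false

/-!
The structure of `Aut` and `Out` of `PSL_n(q)`.
-/

namespace CfsgLib.KnownC

open Matrix
open scoped LinearAlgebra.Projectivization

variable {n : ℕ} {F : Type*} [Field F]

/-- `β` is a semilinear automorphism with field part `σ` followed by `itAut ^ m`. -/
def HasParts (β : MulAut (ProjectiveSpecialLinearGroup (Fin n) F)) (σ : F ≃+* F) (m : ℕ) : Prop :=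
  ∃ g, β = semiAut g σ * itAut ^ m

theorem itAut_pow_of_zmod {a b : ℕ} (h : (a : ZMod 2) = b) :
    (itAut : MulAut (ProjectiveSpecialLinearGroup (Fin n) F)) ^ a = itAut ^ b := by
  have h2 : (itAut : MulAut (ProjectiveSpecialLinearGroup (Fin n) F)) ^ 2 = 1 := by
    rw [sq, itAut_mul_self]
  rw [pow_eq_pow_mod a h2, pow_eq_pow_mod b h2, (ZMod.natCast_eq_natCast_iff' a b 2).1 h]

theorem HasParts.mul {β γ : MulAut (ProjectiveSpecialLinearGroup (Fin n) F)} {σ τ : F ≃+* F}
    {a b : ℕ} (hβ : HasParts β σ a) (hγ : HasParts γ τ b) : HasParts (β * γ) (σ * τ) (a + b) := by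
  obtain ⟨g, rfl⟩ := hβ
  obtain ⟨h, rfl⟩ := hγ
  have hmove : ∀ k : ℕ, ∃ h' : GL (Fin n) F,
      itAut ^ k * semiAut h τ = semiAut h' τ * itAut ^ k := fun k => by
    induction k with
    | zero => exact ⟨h, by simp⟩
    | succ k ih =>
      obtain ⟨h', hh⟩ := ih
      exact ⟨glInvTrans h', by
        rw [pow_succ', mul_assoc, hh, ← mul_assoc, itAut_mul_semiAut, mul_assoc]⟩
  obtain ⟨h', hh⟩ := hmove a
  refine ⟨g * GeneralLinearGroup.map (σ : F →+* F) h', ?_⟩
  rw [← semiAut_mul, pow_add, mul_assoc, ← mul_assoc (itAut ^ a), hh]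
  simp only [mul_assoc]

theorem exists_parts [Finite F] (hn : 2 ≤ n) (β : MulAut (ProjectiveSpecialLinearGroup (Fin n) F)) :
    ∃ σ m, HasParts β σ m ∧ (n = 2 → m = 0) := by
  rcases mulAut_psl_cases hn β with ⟨g, σ, rfl⟩ | ⟨h3, g, σ, rfl⟩
  · exact ⟨σ, 0, ⟨g, by simp⟩, fun _ => rfl⟩
  · exact ⟨σ, 1, ⟨g, by simp⟩, fun h => absurd h (by omega)⟩

theorem parts_unique (hn : 2 ≤ n) {β : MulAut (ProjectiveSpecialLinearGroup (Fin n) F)}
    {σ τ : F ≃+* F} {a b : ℕ} (hβ : HasParts β σ a) (hγ : HasParts β τ b)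
    (hab : n = 2 → (a : ZMod 2) = b) : σ = τ ∧ (a : ZMod 2) = b := by
  obtain ⟨g, rfl⟩ := hβ
  obtain ⟨h, hh⟩ := hγ
  by_cases hp : (a : ZMod 2) = b
  · rw [itAut_pow_of_zmod hp] at hh
    exact ⟨((semiAut_eq_iff hn g h σ τ).1 (mul_right_cancel hh)).1, hp⟩
  · exfalso
    have h3 : 3 ≤ n := by
      by_contra hh3
      exact hp (hab (by omega))
    have h1 : (itAut : MulAut (ProjectiveSpecialLinearGroup (Fin n) F)) ^ b * (itAut ^ a)⁻¹ =
        (semiAut h τ)⁻¹ * semiAut g σ := by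
      rw [eq_inv_mul_iff_mul_eq, ← mul_assoc, ← hh, mul_inv_cancel_right]
    have h2 : (itAut : MulAut (ProjectiveSpecialLinearGroup (Fin n) F)) ^ b * (itAut ^ a)⁻¹ =
        itAut := by
      rw [mul_inv_eq_iff_eq_mul, ← pow_succ']
      refine itAut_pow_of_zmod ?_
      push_cast
      generalize (a : ZMod 2) = x at hp
      generalize (b : ZMod 2) = y at hp
      revert hp; revert x y; decide
    rw [h2, semiAut_inv, semiAut_mul] at h1
    exact itAut_ne_semiAut h3 _ _ h1

theorem conj_hasParts (x : ProjectiveSpecialLinearGroup (Fin n) F) :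
    HasParts (MulAut.conj x) (RingEquiv.refl F) 0 := by
  obtain ⟨s, rfl⟩ := QuotientGroup.mk_surjective x
  exact ⟨SpecialLinearGroup.toGL s, by rw [conj_eq_semiAut, pow_zero, mul_one]⟩

/-- The diagonal matrix `diag(u, 1, …, 1)`. -/
def firstDiag [NeZero n] : Fˣ →* GL (Fin n) F where
  toFun u :=
    { val := Matrix.diagonal fun i => if i = 0 then (u : F) else 1
      inv := Matrix.diagonal fun i => if i = 0 then ((u⁻¹ : Fˣ) : F) else 1
      val_inv := by
        rw [diagonal_mul_diagonal]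
        exact (congrArg _ (funext fun i => by split_ifs <;> simp)).trans diagonal_one
      inv_val := by
        rw [diagonal_mul_diagonal]
        exact (congrArg _ (funext fun i => by split_ifs <;> simp)).trans diagonal_one }
  map_one' := Units.ext ((congrArg Matrix.diagonal (funext fun i => by simp)).trans diagonal_one)
  map_mul' u v := Units.ext (by
    show Matrix.diagonal _ = Matrix.diagonal _ * Matrix.diagonal _
    exact (congrArg Matrix.diagonal (funext fun i => by split_ifs <;> simp)).trans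
      (diagonal_mul_diagonal _ _).symm)

theorem det_firstDiag [NeZero n] (u : Fˣ) :
    Matrix.GeneralLinearGroup.det (firstDiag (n := n) u) = u := Units.ext (by
  show (Matrix.diagonal fun i : Fin n => if i = 0 then (u : F) else 1).det = _
  simp [det_diagonal])

theorem exists_toGL_of_det_one (g : GL (Fin n) F) (h : Matrix.GeneralLinearGroup.det g = 1) :
    ∃ s : SpecialLinearGroup (Fin n) F, SpecialLinearGroup.toGL s = g :=
  ⟨⟨g.1, congrArg Units.val h⟩, Units.ext rfl⟩

/-- The diagonal outer automorphisms. -/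
noncomputable def outDiag [NeZero n] : Fˣ →* Cfsg.Out (ProjectiveSpecialLinearGroup (Fin n) F) :=
  (QuotientGroup.mk' _).comp (inndiagHom.comp firstDiag)

theorem outDiag_ker (hn : 2 ≤ n) [NeZero n] :
    (outDiag (n := n) (F := F)).ker = (powMonoidHom n : Fˣ →* Fˣ).range := by
  ext u
  rw [MonoidHom.mem_ker, outDiag, MonoidHom.comp_apply, MonoidHom.comp_apply,
    QuotientGroup.mk'_apply, QuotientGroup.eq_one_iff, MonoidHom.mem_range]
  constructor
  · intro hmem
    obtain ⟨x, hx⟩ : ∃ x, MulAut.conj x = inndiagHom (firstDiag (n := n) u) := hmem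
    obtain ⟨s, rfl⟩ := QuotientGroup.mk_surjective x
    rw [conj_eq_semiAut] at hx
    obtain ⟨-, hc⟩ := (semiAut_eq_iff hn _ _ _ _).1
      (show semiAut (firstDiag u) (RingEquiv.refl F) =
        semiAut (SpecialLinearGroup.toGL s) (RingEquiv.refl F) from hx.symm)
    rw [GeneralLinearGroup.center_eq_range_scalar] at hc
    obtain ⟨c, hc⟩ := hc
    refine ⟨c, ?_⟩
    have hdet := congrArg Matrix.GeneralLinearGroup.det hc
    rw [map_mul, map_inv, det_firstDiag,
      show Matrix.GeneralLinearGroup.det (SpecialLinearGroup.toGL s) = 1 from Units.ext s.2,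
      inv_one, one_mul] at hdet
    rw [← hdet]
    refine Units.ext ?_
    show (c : F) ^ n = (Matrix.scalar (Fin n) (c : F)).det
    simp
  · rintro ⟨c, rfl⟩
    have hdet : Matrix.GeneralLinearGroup.det
        (firstDiag (n := n) (powMonoidHom n c) * (GeneralLinearGroup.scalar (Fin n) c)⁻¹) = 1 := by
      rw [map_mul, map_inv, det_firstDiag, mul_inv_eq_one]
      refine Units.ext ?_
      show (c : F) ^ n = (Matrix.scalar (Fin n) (c : F)).det
      simp
    obtain ⟨s, hs⟩ := exists_toGL_of_det_one _ hdet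
    refine ⟨QuotientGroup.mk s, ?_⟩
    rw [conj_eq_semiAut, hs]
    refine ((semiAut_eq_iff hn _ _ _ _).2 ⟨rfl, ?_⟩)
    rw [← mul_assoc, inv_mul_cancel, one_mul]
    exact inv_mem (by rw [GeneralLinearGroup.center_eq_range_scalar]; exact ⟨c, rfl⟩)

theorem isCyclic_outDiag_range [Finite F] [NeZero n] (hn : 2 ≤ n) :
    IsCyclic (outDiag (n := n) (F := F)).range ∧
      Nat.card (outDiag (n := n) (F := F)).range = Nat.gcd n (Nat.card F - 1) := by
  refine ⟨isCyclic_of_surjective _ (outDiag (n := n) (F := F)).rangeRestrict_surjective, ?_⟩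
  rw [← Subgroup.index_ker, outDiag_ker hn, IsCyclic.index_powMonoidHom_range, Nat.card_units,
    Nat.gcd_comm]

/-- Every inner-diagonal class is in the range of `outDiag`. -/
theorem mk_semiAut_mem_range [NeZero n] (g : GL (Fin n) F) :
    (QuotientGroup.mk (semiAut g (RingEquiv.refl F)) :
      Cfsg.Out (ProjectiveSpecialLinearGroup (Fin n) F)) ∈ (outDiag (n := n) (F := F)).range := by
  refine ⟨Matrix.GeneralLinearGroup.det g, ?_⟩
  have hdet : Matrix.GeneralLinearGroup.det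
      ((firstDiag (n := n) (Matrix.GeneralLinearGroup.det g))⁻¹ * g) = 1 := by
    rw [map_mul, map_inv, det_firstDiag, inv_mul_cancel]
  obtain ⟨s, hs⟩ := exists_toGL_of_det_one _ hdet
  rw [outDiag, MonoidHom.comp_apply, QuotientGroup.mk'_apply, QuotientGroup.eq]
  refine ⟨QuotientGroup.mk s, ?_⟩
  rw [conj_eq_semiAut, hs, MonoidHom.comp_apply, ← map_inv]
  exact map_mul inndiagHom _ g

/-- A homomorphism reading the parts of an automorphism gives the structure of `Out`. -/
theorem exists_out_hom [Finite F] [NeZero n] (hn : 2 ≤ n) {M : Type*} [Group M]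
    (ev : (F ≃+* F) → ℕ → M)
    (hev : ∀ (σ : F ≃+* F) (a b : ℕ), (n = 2 → a = 0 ∧ b = 0) → (a : ZMod 2) = b → ev σ a = ev σ b)
    (hmul : ∀ σ τ a b, ev (σ * τ) (a + b) = ev σ a * ev τ b)
    (hker : ∀ (σ : F ≃+* F) (a : ℕ), (n = 2 → a = 0) → ev σ a = 1 → σ = RingEquiv.refl F ∧ (a : ZMod 2) = 0)
    (hsurj : ∀ m, ∃ σ a, (n = 2 → a = 0) ∧ ev σ a = m) :
    ∃ φ : Cfsg.Out (ProjectiveSpecialLinearGroup (Fin n) F) →* M,
      Function.Surjective φ ∧ IsCyclic φ.ker ∧ Nat.card φ.ker = Nat.gcd n (Nat.card F - 1) := by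
  choose σ m hp hm using fun β => exists_parts (F := F) hn β
  have huniq : ∀ β τ b, HasParts β τ b → (n = 2 → b = 0) → ev (σ β) (m β) = ev τ b := by
    intro β τ b hb hb2
    obtain ⟨h1, h2⟩ := parts_unique hn (hp β) hb (fun h => by rw [hm β h, hb2 h])
    rw [h1]
    exact hev τ _ _ (fun h => ⟨hm β h, hb2 h⟩) h2
  have hone : ev (RingEquiv.refl F) 0 = 1 := by
    have := hmul 1 1 0 0
    rw [one_mul, Nat.add_zero, left_eq_mul] at this
    exact this
  let ψ : MulAut (ProjectiveSpecialLinearGroup (Fin n) F) →* M :=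
    MonoidHom.mk' (fun β => ev (σ β) (m β)) fun β γ => by
      rw [huniq (β * γ) (σ β * σ γ) (m β + m γ) ((hp β).mul (hp γ))
        (fun h => by rw [hm β h, hm γ h])]
      exact hmul _ _ _ _
  have hψ : ∀ β τ b, HasParts β τ b → (n = 2 → b = 0) → ψ β = ev τ b := huniq
  have hinn : Cfsg.Inn (ProjectiveSpecialLinearGroup (Fin n) F) ≤ ψ.ker := by
    rintro _ ⟨x, rfl⟩
    exact MonoidHom.mem_ker.2 ((hψ _ _ _ (conj_hasParts x) (fun _ => rfl)).trans hone)
  refine ⟨QuotientGroup.lift _ ψ hinn, fun x => ?_, ?_⟩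
  · obtain ⟨τ, a, ha, rfl⟩ := hsurj x
    exact ⟨QuotientGroup.mk (semiAut 1 τ * itAut ^ a), hψ _ _ _ ⟨1, rfl⟩ ha⟩
  have hK : (QuotientGroup.lift _ ψ hinn).ker = (outDiag (n := n) (F := F)).range := by
    refine le_antisymm (fun z hz => ?_) ?_
    · obtain ⟨β, rfl⟩ := QuotientGroup.mk_surjective z
      obtain ⟨hσ, ha⟩ := hker (σ β) (m β) (hm β) (MonoidHom.mem_ker.1 hz)
      obtain ⟨g, hg⟩ := hp β
      rw [itAut_pow_of_zmod (show (m β : ZMod 2) = (0 : ℕ) by rw [ha, Nat.cast_zero]), pow_zero,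
        mul_one, hσ] at hg
      rw [hg]
      exact mk_semiAut_mem_range g
    · rintro _ ⟨u, rfl⟩
      refine MonoidHom.mem_ker.2 ((hψ _ _ _ ⟨firstDiag u, ?_⟩ (fun _ => rfl)).trans hone)
      rw [pow_zero, mul_one]; rfl
  rw [hK]
  exact isCyclic_outDiag_range hn

/-- The order of `Aut PSL_n(q)`. -/
theorem card_mulAut_psl [Finite F] (hn : 2 ≤ n) :
    Nat.card (MulAut (ProjectiveSpecialLinearGroup (Fin n) F)) =
      (if n = 2 then 1 else 2) * Nat.card (F ≃+* F) *
        Nat.card (Matrix.ProjGenLinGroup (Fin n) F) := by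
  classical
  haveI : Finite (F ≃+* F) :=
    Finite.of_injective (fun σ : F ≃+* F => (σ : F → F)) DFunLike.coe_injective
  let E : (GL (Fin n) F ⧸ Subgroup.center (GL (Fin n) F)) × (F ≃+* F) × Fin (if n = 2 then 1 else 2) →
      MulAut (ProjectiveSpecialLinearGroup (Fin n) F) :=
    fun x => semiAut x.1.out x.2.1 * itAut ^ (x.2.2 : ℕ)
  have hlt : ∀ a : Fin (if n = 2 then 1 else 2), (a : ℕ) < 2 ∧ (n = 2 → (a : ℕ) = 0) := fun a => by
    have := a.isLt
    split_ifs at this <;> omega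
  have hinj : Function.Injective E := by
    rintro ⟨g, σ, a⟩ ⟨h, τ, b⟩ he
    simp only [E] at he
    obtain ⟨h1, h2⟩ := parts_unique hn (β := semiAut g.out σ * itAut ^ (a : ℕ)) ⟨_, rfl⟩ ⟨_, he⟩
      (fun h => by rw [(hlt a).2 h, (hlt b).2 h])
    have hab : a = b := Fin.ext (by
      have := (ZMod.natCast_eq_natCast_iff' _ _ 2).1 h2
      rwa [Nat.mod_eq_of_lt (hlt a).1, Nat.mod_eq_of_lt (hlt b).1] at this)
    subst hab h1
    obtain ⟨-, hc⟩ := (semiAut_eq_iff hn _ _ _ _).1 (mul_right_cancel he)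
    have : h = g := by
      rw [← QuotientGroup.out_eq' g, ← QuotientGroup.out_eq' h, QuotientGroup.eq]
      exact hc
    rw [this]
  have hsurj : Function.Surjective E := by
    intro β
    obtain ⟨σ, m, ⟨g, rfl⟩, hm⟩ := exists_parts hn β
    have hm2 : m % 2 < if n = 2 then 1 else 2 := by
      split_ifs with h
      · rw [hm h]; decide
      · exact Nat.mod_lt _ (by norm_num)
    refine ⟨(QuotientGroup.mk g, σ, ⟨m % 2, hm2⟩), ?_⟩
    simp only [E]
    rw [itAut_pow_of_zmod (ZMod.natCast_mod m 2)]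
    congr 1
    refine (semiAut_eq_iff hn _ _ _ _).2 ⟨rfl, ?_⟩
    obtain ⟨z, hz⟩ := QuotientGroup.mk_out_eq_mul (Subgroup.center (GL (Fin n) F)) g
    rw [hz, inv_mul_cancel_left]
    exact z.2
  rw [← Nat.card_eq_of_bijective E ⟨hinj, hsurj⟩, Nat.card_prod, Nat.card_prod, Nat.card_fin]
  show Nat.card (Matrix.ProjGenLinGroup (Fin n) F) * _ = _
  ring

end CfsgLib.KnownC
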