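import Cfsg.Agent.Lib.KnownC.AutPSLRootMaps

set_option autoImplicit false

/-!
The automorphism group of `PSL_n(q)`: every automorphism is semilinear, possibly followed by
inverse-transpose.
-/

namespace CfsgLib.KnownC

open Matrix Matrix.SpecialLinearGroup
open scoped LinearAlgebra.Projectivization

variable {n : ℕ} {F : Type*} [Field F]

theorem rootEl_field {i j : Fin n} (hij : i ≠ j) (σ : F ≃+* F) (t : F) :
    semiAut (1 : GL (Fin n) F) σ (rootEl hij t) = rootEl hij (σ t) := by
  rw [rootEl, semiAut_mk, map_one slConj, MulAut.one_apply, rootEl]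
  congr 1
  refine Subtype.ext ?_
  rw [slField_coe, transvection_coe, transvection_coe, Matrix.map_add _ (map_add σ),
    Matrix.map_one _ (map_zero σ) (map_one σ), Matrix.map_single]

/-- The diagonal matrix with the given units on the diagonal. -/
def diagGL (d : Fin n → Fˣ) : GL (Fin n) F where
  val := Matrix.diagonal fun i => (d i : F)
  inv := Matrix.diagonal fun i => ((d i)⁻¹ : Fˣ)
  val_inv := by simp [diagonal_mul_diagonal]
  inv_val := by simp [diagonal_mul_diagonal]

theorem rootEl_diag {i j : Fin n} (hij : i ≠ j) (d : Fin n → Fˣ) (t : F) :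
    semiAut (diagGL d) (RingEquiv.refl F) (rootEl hij t) =
      rootEl hij ((d i : F) * t * ((d j)⁻¹ : Fˣ)) := by
  rw [rootEl, semiAut_mk, show slField (RingEquiv.refl F) = 1 from map_one slField,
    MulAut.one_apply, rootEl]
  congr 1
  refine Subtype.ext ?_
  rw [slConj_coe, transvection_coe, transvection_coe, mul_add, mul_one, add_mul, Units.mul_inv]
  congr 1
  show Matrix.diagonal (fun k => (d k : F)) * Matrix.single i j t *
    Matrix.diagonal (fun k => (((d k)⁻¹ : Fˣ) : F)) = _
  ext k l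
  rw [mul_diagonal, diagonal_mul]
  by_cases hk : k = i <;> by_cases hl : l = j <;> simp [hk, hl, Matrix.single, Ne.symm]

theorem pointMap_diag_basisPt (d : Fin n → Fˣ) (i : Fin n) :
    pointMap (diagGL d) (RingEquiv.refl F) (basisPt i) = basisPt i := by
  rw [basisPt, pointMap_mk]
  refine (Projectivization.mk_eq_mk_iff' F _ _ _ _).2 ⟨d i, ?_⟩
  rw [semiLin_apply]
  funext k
  show _ = (Matrix.diagonal (fun k => (d k : F)) *ᵥ fun j => (Pi.single i 1 : Fin n → F) j) k
  by_cases hk : k = i
  · subst hk; simp [mulVec_diagonal]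
  · simp [mulVec_diagonal, hk]

/-- The Hua identity. -/
theorem hua_identity (t s : F) (ht : t ≠ 0) (hs : s ≠ 0) (hst : s * t ≠ 1) :
    t - (t⁻¹ + (s⁻¹ - t)⁻¹)⁻¹ = t * s * t := by
  have h1 : (1 : F) - s * t ≠ 0 := sub_ne_zero.2 (Ne.symm hst)
  have h2 : s⁻¹ - t = (1 - s * t) / s := by field_simp
  rw [h2, inv_div, inv_eq_one_div t, div_add_div _ _ ht h1, one_mul,
    show (1 - s * t) + t * s = (1 : F) by ring, one_div, inv_inv]
  ring

/-- An additive bijection linked to a second one by inversion is a field automorphism. -/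
theorem exists_ringEquiv_of_inv [Finite F] (a b : F →+ F) (ha : Function.Bijective a)
    (h1 : a 1 = 1) (hab : ∀ t, a t⁻¹ = (b t)⁻¹) :
    ∃ σ : F ≃+* F, (∀ t, a t = σ t) ∧ ∀ t, b t = σ t := by
  haveI := Fintype.ofFinite F
  have hba : ∀ t, b t⁻¹ = (a t)⁻¹ := fun t => by
    have := hab t⁻¹
    rw [inv_inv] at this
    rw [this, inv_inv]
  have hb1 : b 1 = 1 := by rw [← inv_one, hba, h1, inv_one]
  have hua : ∀ t s, a (t * s * t) = a t * b s * a t := fun t s => by
    rcases eq_or_ne t 0 with rfl | ht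
    · simp
    rcases eq_or_ne s 0 with rfl | hs
    · simp
    have hat : a t ≠ 0 := fun h => ht (ha.1 (h.trans a.map_zero.symm))
    rcases eq_or_ne (s * t) 1 with hst | hst
    · rw [mul_assoc, hst, mul_one, eq_inv_of_mul_eq_one_left hst, hba, mul_inv_cancel₀ hat, one_mul]
    have hbs : b s ≠ 0 := fun h => by
      have := hab s
      rw [h, _root_.inv_zero, ← a.map_zero] at this
      exact hs (inv_eq_zero.1 (ha.1 this))
    have hst' : b s * a t ≠ 1 := fun h => hst (by
      have hab' := hab s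
      rw [← eq_inv_of_mul_eq_one_right h] at hab'
      rw [← ha.1 hab', mul_inv_cancel₀ hs])
    rw [← hua_identity t s ht hs hst, ← hua_identity (a t) (b s) hat hbs hst', map_sub, hab, map_add,
      hba, hba, map_sub, hab]
  have hbeq : ∀ s, b s = a s := fun s => by simpa [h1] using (hua 1 s).symm
  have hsq : ∀ t s, a (t * t * s) = a t * a t * a s := fun t s => by
    rw [show t * t * s = t * s * t by ring, hua, hbeq]; ring
  have hmul : ∀ t s, a (t * s) = a t * a s := fun t s => by
    by_cases h2 : (2 : F) = 0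
    · have hinj : Function.Injective fun x : F => x * x := fun x y hxy => by
        have hneg : x + x = 0 := by rw [← two_mul, h2, zero_mul]
        have hz : (x - y) * (x - y) = 0 := by
          have : x * x - y * y = 0 := sub_eq_zero.2 hxy
          linear_combination this + (y * y - x * y) * h2
        exact sub_eq_zero.1 (mul_self_eq_zero.1 hz)
      obtain ⟨u, rfl⟩ := (Finite.injective_iff_surjective.1 hinj) t
      have := hsq u 1
      rw [mul_one, h1, mul_one] at this
      rw [hsq, this]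
    · have e1 := hsq (t + 1) s
      rw [show (t + 1) * (t + 1) * s = t * t * s + (t * s + t * s) + s by ring, map_add, map_add,
        map_add, hsq, map_add, h1] at e1
      have e2 : (2 : F) * a (t * s) = 2 * (a t * a s) := by linear_combination e1
      exact mul_left_cancel₀ h2 e2
  let φ : F →+* F := { a with map_one' := h1, map_mul' := hmul }
  exact ⟨RingEquiv.ofBijective φ ha, fun t => rfl, fun t => hbeq t⟩

/-- An automorphism fixing the basis points, normalised on one row, is a field automorphism on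
root groups. -/
theorem exists_field_on_rootEl [Finite F] (hn : 2 ≤ n)
    (β : MulAut (ProjectiveSpecialLinearGroup (Fin n) F))
    {π : ℙ F (Fin n → F) → ℙ F (Fin n → F)} (hπ : Function.Bijective π)
    (heq : ∀ (x : ProjectiveSpecialLinearGroup (Fin n) F) p, π (x • p) = β x • π p)
    (hfix : ∀ i, π (basisPt i) = basisPt i) (i0 : Fin n)
    (hnorm : ∀ j (hj : i0 ≠ j), β (rootEl hj 1) = rootEl hj 1) :
    ∃ σ : F ≃+* F, ∀ (i j : Fin n) (hij : i ≠ j) (t : F), β (rootEl hij t) = rootEl hij (σ t) := by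
  choose a hbij ha using fun (i j : Fin n) (hij : i ≠ j) => exists_rootMap β hπ heq hfix hij
  have hone0 : ∀ j (hj : i0 ≠ j), a i0 j hj 1 = 1 := fun j hj =>
    (rootEl_injective hj ((hnorm j hj).symm.trans (ha i0 j hj 1))).symm
  have hinv : ∀ i j (hij : i ≠ j) t, a i j hij t⁻¹ = (a j i hij.symm t)⁻¹ := fun i j hij t =>
    rootMap_inv β heq hfix hij (ha i j hij) (ha j i hij.symm) t
  rcases Nat.lt_or_ge n 3 with hn3 | hn3
  · obtain ⟨j0, hj0⟩ : ∃ j0 : Fin n, i0 ≠ j0 := by
      haveI : Nontrivial (Fin n) := Fin.nontrivial_iff_two_le.2 hn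
      exact (exists_ne i0).imp fun _ h => h.symm
    obtain ⟨σ, hσ, hσ'⟩ := exists_ringEquiv_of_inv (a i0 j0 hj0) (a j0 i0 hj0.symm)
      (hbij _ _ _) (hone0 j0 hj0) (hinv i0 j0 hj0)
    refine ⟨σ, fun i j hij t => ?_⟩
    have htwo : ∀ k : Fin n, k = i0 ∨ k = j0 := fun k => by
      have := Fin.val_ne_of_ne hj0
      rcases eq_or_ne k i0 with h | h
      · exact Or.inl h
      · refine Or.inr (Fin.ext ?_)
        have := Fin.val_ne_of_ne h
        omega
    rcases htwo i with rfl | rfl <;> rcases htwo j with h | h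
    · exact absurd h.symm hij
    · subst h; rw [ha _ _ hij, hσ]
    · subst h; rw [ha _ _ hij, hσ']
    · exact absurd h.symm hij
  have hmul : ∀ i j k (hij : i ≠ j) (hjk : j ≠ k) (hik : i ≠ k) s t,
      a i k hik (s * t) = a i j hij s * a j k hjk t := fun i j k hij hjk hik s t =>
    rootMap_mul β hij hjk hik (ha i j hij) (ha j k hjk) (ha i k hik) s t
  have hone : ∀ i j (hij : i ≠ j), a i j hij 1 = 1 := by
    have hcol : ∀ i (hi : i ≠ i0), a i i0 hi 1 = 1 := fun i hi => by
      have := hinv i i0 hi 1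
      rwa [inv_one, hone0 i hi.symm, inv_one] at this
    intro i j hij
    rcases eq_or_ne i i0 with rfl | hi
    · exact hone0 j hij
    rcases eq_or_ne j i0 with rfl | hj
    · exact hcol i hi
    · have := hmul i i0 j hi hj.symm hij 1 1
      rwa [one_mul, hcol i hi, hone0 j hj.symm, one_mul] at this
  have hthird : ∀ i j : Fin n, ∃ k, k ≠ i ∧ k ≠ j := fun i j => by
    obtain ⟨k, -, hk⟩ := Finset.exists_mem_notMem_of_card_lt_card (s := ({i, j} : Finset (Fin n)))
      (t := Finset.univ) (by
        rw [Finset.card_univ, Fintype.card_fin]; exact lt_of_le_of_lt Finset.card_le_two (by omega))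
    exact ⟨k, by simp_all, by simp_all⟩
  have hcolEq : ∀ i i' j (hi : i ≠ j) (hi' : i' ≠ j) t, a i j hi t = a i' j hi' t := fun i i' j hi hi' t => by
    rcases eq_or_ne i i' with rfl | hii
    · rfl
    have := hmul i i' j hii hi' hi 1 t
    rwa [one_mul, hone, one_mul] at this
  have hrowEq : ∀ i j j' (hj : i ≠ j) (hj' : i ≠ j') t, a i j hj t = a i j' hj' t := fun i j j' hj hj' t => by
    rcases eq_or_ne j j' with rfl | hjj
    · rfl
    have := hmul i j' j hj' hjj.symm hj t 1
    rwa [mul_one, hone, mul_one] at this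
  have hall : ∀ i j k l (hij : i ≠ j) (hkl : k ≠ l) t, a i j hij t = a k l hkl t := by
    intro i j k l hij hkl t
    rcases eq_or_ne i l with h | h
    · subst h
      obtain ⟨m, hmi, hmk⟩ := hthird i k
      rw [hrowEq i j m hij hmi.symm, hcolEq i k m hmi.symm hmk.symm, hrowEq k m i hmk.symm hkl]
    · rw [hrowEq i j l hij h, hcolEq i k l h hkl]
  let j0 : Fin n := (hthird i0 i0).choose
  have hj0 : i0 ≠ j0 := (hthird i0 i0).choose_spec.1.symm
  obtain ⟨σ, hσ, -⟩ := exists_ringEquiv_of_inv (a i0 j0 hj0) (a j0 i0 hj0.symm)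
    (hbij _ _ _) (hone0 j0 hj0) (hinv i0 j0 hj0)
  exact ⟨σ, fun i j hij t => by rw [ha i j hij, hall i j i0 j0 hij hj0, hσ]⟩

/-- An automorphism carrying a point stabiliser to a point stabiliser is semilinear. -/
theorem exists_semiAut_of_stabilizer [Finite F] (hn : 2 ≤ n)
    (β : MulAut (ProjectiveSpecialLinearGroup (Fin n) F)) {p0 q0 : ℙ F (Fin n → F)}
    (h : (MulAction.stabilizer (ProjectiveSpecialLinearGroup (Fin n) F) p0).map β.toMonoidHom =
      MulAction.stabilizer _ q0) :
    ∃ g σ, β = semiAut g σ := by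
  obtain ⟨π, hπ, heq⟩ := exists_point_bijection hn β h
  obtain ⟨g, hg⟩ := exists_frame hπ fun x y z => (ptCol_iff_of_equivariant β hπ heq x y z).2
  set β1 := semiAut g⁻¹ (RingEquiv.refl F) * β with hβ1
  let π1 := fun p => pointMap g⁻¹ (RingEquiv.refl F) (π p)
  have hπ1 : Function.Bijective π1 := (pointMap_bijective _ _).comp hπ
  have heq1 : ∀ (x : ProjectiveSpecialLinearGroup (Fin n) F) p, π1 (x • p) = β1 x • π1 p :=
    fun x p => by simp only [π1, heq, pointMap_smul]; rfl
  have hfix1 : ∀ i, π1 (basisPt i) = basisPt i := fun i => by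
    show pointMap g⁻¹ (RingEquiv.refl F) (π (basisPt i)) = _
    rw [← hg, pointMap_pointMap,
      show g⁻¹ * GeneralLinearGroup.map (RingEquiv.refl F : F →+* F) g = 1 from inv_mul_cancel g]
    exact pointMap_one _
  have hn0 : 0 < n := by omega
  let i0 : Fin n := ⟨0, hn0⟩
  choose a hbij ha using fun j (hj : i0 ≠ j) => exists_rootMap β1 hπ1 heq1 hfix1 hj
  classical
  let d : Fin n → Fˣ := fun j =>
    if hj : i0 ≠ j then Units.mk0 (a j hj 1)
      (fun h0 => one_ne_zero ((hbij j hj).1 (h0.trans (map_zero _).symm))) else 1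
  set β2 := semiAut (diagGL d) (RingEquiv.refl F) * β1 with hβ2
  let π2 := fun p => pointMap (diagGL d) (RingEquiv.refl F) (π1 p)
  have hπ2 : Function.Bijective π2 := (pointMap_bijective _ _).comp hπ1
  have heq2 : ∀ (x : ProjectiveSpecialLinearGroup (Fin n) F) p, π2 (x • p) = β2 x • π2 p :=
    fun x p => by simp only [π2, heq1, pointMap_smul]; rfl
  have hfix2 : ∀ i, π2 (basisPt i) = basisPt i := fun i => by
    simp only [π2, hfix1, pointMap_diag_basisPt]
  have hnorm : ∀ j (hj : i0 ≠ j), β2 (rootEl hj 1) = rootEl hj 1 := fun j hj => by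
    rw [hβ2, MulAut.mul_apply, ha j hj, rootEl_diag]
    congr 1
    have : a j hj 1 ≠ 0 := fun h0 => one_ne_zero ((hbij j hj).1 (h0.trans (map_zero _).symm))
    simp [d, hj, this]
  obtain ⟨σ, hσ⟩ := exists_field_on_rootEl hn β2 hπ2 heq2 hfix2 i0 hnorm
  have hβ2eq : β2 = semiAut 1 σ := by
    refine MulEquiv.ext fun x => ?_
    obtain ⟨s, rfl⟩ := QuotientGroup.mk_surjective x
    have htop := CfsgLib.Classical.sl_transvection_induction
      (MonoidHom.eqLocus (β2.toMonoidHom.comp (QuotientGroup.mk' _))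
        ((semiAut (1 : GL (Fin n) F) σ).toMonoidHom.comp (QuotientGroup.mk' _)))
      fun i j hij t => (hσ i j hij t).trans (rootEl_field hij σ t).symm
    exact (htop.ge (Subgroup.mem_top s) :)
  obtain ⟨k, τ, hk⟩ : ∃ k τ, (semiAut g⁻¹ (RingEquiv.refl F))⁻¹ *
      ((semiAut (diagGL d) (RingEquiv.refl F))⁻¹ * semiAut 1 σ) = semiAut k τ := by
    simp only [semiAut_inv, semiAut_mul]
    exact ⟨_, _, rfl⟩
  refine ⟨k, τ, ?_⟩
  rw [← hk, ← hβ2eq, hβ2, inv_mul_cancel_left, hβ1, inv_mul_cancel_left]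

theorem itAut_eq_semiAut_two :
    (itAut : MulAut (ProjectiveSpecialLinearGroup (Fin 2) F)) =
      semiAut (GeneralLinearGroup.mkOfDetNeZero !![0, 1; -1, 0] (by simp [det_fin_two]))
        (RingEquiv.refl F) := by
  refine MulEquiv.ext fun x => ?_
  obtain ⟨s, rfl⟩ := QuotientGroup.mk_surjective x
  rw [semiAut_mk, show slField (RingEquiv.refl F) = 1 from map_one slField, MulAut.one_apply]
  refine congrArg QuotientGroup.mk (Subtype.ext ?_)
  show ((s⁻¹).1)ᵀ = (slConj (GeneralLinearGroup.mkOfDetNeZero !![0, 1; -1, 0] _) s :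
    Matrix (Fin 2) (Fin 2) F)
  rw [slConj_coe, Matrix.coe_units_inv]
  show ((s⁻¹).1)ᵀ = !![(0 : F), 1; -1, 0] * s.1 * (!![(0 : F), 1; -1, 0])⁻¹
  rw [Matrix.SpecialLinearGroup.coe_inv, adjugate_fin_two, Matrix.inv_def, adjugate_fin_two,
    det_fin_two]
  ext i j
  fin_cases i <;> fin_cases j <;> simp [mul_apply, vecMul, dotProduct, Fin.sum_univ_two]

/-- Every automorphism of `PSL_n(q)` is semilinear or semilinear times inverse-transpose. -/
theorem mulAut_psl_cases [Finite F] (hn : 2 ≤ n)
    (β : MulAut (ProjectiveSpecialLinearGroup (Fin n) F)) :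
    (∃ g σ, β = semiAut g σ) ∨ (3 ≤ n ∧ ∃ g σ, β = semiAut g σ * itAut) := by
  haveI : NeZero n := ⟨by omega⟩
  obtain ⟨q0, h | h⟩ := exists_stabilizer_image hn β (basisPt (0 : Fin n))
  · exact Or.inl (exists_semiAut_of_stabilizer hn β h)
  · obtain ⟨g, σ, hg⟩ := exists_semiAut_of_stabilizer hn _ h
    have hβ : β = semiAut (glInvTrans g) σ * itAut := by
      rw [← itAut_mul_semiAut, ← hg, ← mul_assoc, itAut_mul_self, one_mul]
    rcases Nat.lt_or_ge n 3 with hn3 | hn3
    · obtain rfl : n = 2 := by omega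
      left
      rw [hβ, itAut_eq_semiAut_two, semiAut_mul]
      exact ⟨_, _, rfl⟩
    · exact Or.inr ⟨hn3, _, _, hβ⟩

theorem itAut_rootEl {i j : Fin n} (hij : i ≠ j) (t : F) :
    itAut (rootEl hij t) = rootEl hij.symm (-t) := by
  refine congrArg QuotientGroup.mk (Subtype.ext ?_)
  show ((transvection hij t)⁻¹).1ᵀ = (transvection hij.symm (-t)).1
  rw [transvection_inv, transvection_coe, transvection_coe]
  simp

/-- Inverse-transpose is not semilinear in dimension at least three. -/
theorem itAut_ne_semiAut (hn : 3 ≤ n) (g : GL (Fin n) F) (σ : F ≃+* F) :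
    (itAut : MulAut (ProjectiveSpecialLinearGroup (Fin n) F)) ≠ semiAut g σ := by
  intro h
  haveI : NeZero n := ⟨by omega⟩
  have hfix : ∀ j : Fin n, j ≠ 0 → ∀ i, ∀ hij : i ≠ j,
      rootEl hij.symm (-1 : F) • pointMap g σ (basisPt 0) = pointMap g σ (basisPt 0) := fun j hj i hij => by
    rw [← itAut_rootEl hij 1, h, ← pointMap_smul, rootEl_smul_basisPt hij (Ne.symm hj)]
  revert hfix
  induction pointMap g σ (basisPt (0 : Fin n)) using Projectivization.ind with
  | _ v hv =>
  intro hfix
  refine hv (funext fun i => ?_)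
  obtain ⟨j, -, hj⟩ := Finset.exists_mem_notMem_of_card_lt_card (s := ({0, i} : Finset (Fin n)))
    (t := Finset.univ) (by
      rw [Finset.card_univ, Fintype.card_fin]; exact lt_of_le_of_lt Finset.card_le_two (by omega))
  simp only [Finset.mem_insert, Finset.mem_singleton, not_or] at hj
  have := hfix j hj.1 i (Ne.symm hj.2)
  rw [rootEl_smul_mk] at this
  obtain ⟨c, hc⟩ := (Projectivization.mk_eq_mk_iff' F _ _ _ _).1 this
  by_contra hvi
  have h1 := congrFun hc i
  have h2 := congrFun hc j
  simp [hj.2, Ne.symm hj.2] at h1 h2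
  have hc1 : c = 1 := by
    have : c * v i = 1 * v i := by rw [one_mul]; exact h1
    exact mul_right_cancel₀ hvi this
  rw [hc1, one_mul] at h2
  exact hvi (by simpa using h2)

end CfsgLib.KnownC
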