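import Mathlib
import Cfsg.Prelude.Def_ClassicalGeometry

/-!
The centraliser of a transvection in `GL_n(q)`.
-/

set_option autoImplicit false

namespace CfsgLib.KnownC

open Matrix

variable {F : Type*} [Field F]

/-- A rank one matrix is an outer product. -/
theorem exists_vecMulVec_of_rank_one {n : ℕ} {N : Matrix (Fin n) (Fin n) F} (h : N.rank = 1) :
    ∃ u φ : Fin n → F, u ≠ 0 ∧ φ ≠ 0 ∧ N = Matrix.vecMulVec u φ := by
  rw [Matrix.rank, finrank_eq_one_iff'] at h
  obtain ⟨⟨u, hu⟩, hu0, huspan⟩ := h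
  have hc : ∀ j, ∃ c : F, c • u = N *ᵥ Pi.single j 1 := fun j => by
    obtain ⟨c, hc⟩ := huspan ⟨_, LinearMap.mem_range_self N.mulVecLin (Pi.single j 1)⟩
    exact ⟨c, congrArg Subtype.val hc⟩
  choose φ hφ using hc
  have hN : N = Matrix.vecMulVec u φ := by
    ext i j
    have := congrFun (hφ j) i
    simp [Matrix.mulVec_single_one] at this
    rw [Matrix.vecMulVec_apply, ← this]; ring
  refine ⟨u, φ, fun h0 => hu0 (Subtype.ext h0), fun h0 => ?_, hN⟩
  apply hu0
  obtain ⟨v, hv⟩ := id hu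
  refine Subtype.ext ?_
  show u = 0
  rw [← hv, Matrix.mulVecLin_apply, hN, h0]
  ext i
  simp [Matrix.mulVec, dotProduct, Matrix.vecMulVec_apply]

/-- A nilpotent outer product is a matrix unit in a suitable basis. -/
theorem exists_basis_transvection {m : ℕ} {u φ : Fin (m + 2) → F} (hu : u ≠ 0) (hφ : φ ≠ 0)
    (hφu : φ ⬝ᵥ u = 0) :
    ∃ ψ : Matrix (Fin (m + 2)) (Fin (m + 2)) F ≃ₐ[F]
        Matrix (Unit ⊕ (Fin m ⊕ Unit)) (Unit ⊕ (Fin m ⊕ Unit)) F,
      ψ (Matrix.vecMulVec u φ) = Matrix.single (Sum.inl ()) (Sum.inr (Sum.inr ())) 1 := by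
  classical
  obtain ⟨j, hj⟩ := Function.ne_iff.1 hφ
  obtain ⟨i₀, hi₀⟩ := Function.ne_iff.1 hu
  set w : Fin (m + 2) → F := Pi.single j (φ j)⁻¹ with hw
  have hφw : φ ⬝ᵥ w = 1 := by rw [hw, dotProduct_single]; exact mul_inv_cancel₀ hj
  let fη : (Fin (m + 2) → F) →ₗ[F] F × F :=
    { toFun := fun v => (φ ⬝ᵥ v, v i₀ / u i₀ - w i₀ / u i₀ * (φ ⬝ᵥ v))
      map_add' := fun a b => by
        rw [dotProduct_add, Prod.mk_add_mk, Pi.add_apply]
        exact Prod.ext rfl (by ring)
      map_smul' := fun c a => by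
        rw [dotProduct_smul, RingHom.id_apply, Prod.smul_mk, Pi.smul_apply]
        exact Prod.ext rfl (by simp only [smul_eq_mul]; ring) }
  have hfu : fη u = (0, 1) := by
    show (φ ⬝ᵥ u, u i₀ / u i₀ - w i₀ / u i₀ * (φ ⬝ᵥ u)) = _
    rw [hφu, mul_zero, sub_zero, div_self hi₀]
  have hfw : fη w = (1, 0) := by
    show (φ ⬝ᵥ w, w i₀ / u i₀ - w i₀ / u i₀ * (φ ⬝ᵥ w)) = _
    rw [hφw, mul_one, sub_self]
  have hr : LinearMap.range fη = ⊤ := LinearMap.range_eq_top.2 fun t => ⟨t.1 • w + t.2 • u, by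
    simp [hfu, hfw]⟩
  have hWd : Module.finrank F (LinearMap.ker fη) = m := by
    have h := LinearMap.finrank_range_add_finrank_ker fη
    rw [hr, finrank_top, Module.finrank_prod, Module.finrank_self, Module.finrank_fin_fun] at h
    omega
  let bW := Module.finBasisOfFinrankEq F (LinearMap.ker fη) hWd
  let e : Unit ⊕ (Fin m ⊕ Unit) → (Fin (m + 2) → F) :=
    Sum.elim (fun _ => u) (Sum.elim (fun i => (bW i : Fin (m + 2) → F)) (fun _ => w))
  have hker : ∀ i, fη (bW i : Fin (m + 2) → F) = 0 := fun i => (bW i).2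
  have hli : LinearIndependent F e := by
    refine Fintype.linearIndependent_iff.2 fun g hg => ?_
    simp only [Fintype.sum_sum_type, e, Sum.elim_inl, Sum.elim_inr, Finset.univ_unique,
      Finset.sum_singleton, PUnit.default_eq_unit] at hg
    have h := congrArg fη hg
    simp only [map_add, map_smul, map_sum, hker, hfu, hfw, smul_zero, Finset.sum_const_zero,
      zero_add, map_zero, Prod.smul_mk, smul_eq_mul, mul_zero, mul_one, Prod.mk_add_mk, add_zero,
      Prod.mk_eq_zero] at h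
    obtain ⟨h3, h1⟩ := h
    rw [h1, h3, zero_smul, zero_smul, zero_add, add_zero] at hg
    have hg' : (∑ i, g (Sum.inr (Sum.inl i)) • bW i : LinearMap.ker fη) = 0 :=
      Subtype.ext (by simpa [Submodule.coe_sum] using hg)
    have h2 : ∀ i, g (Sum.inr (Sum.inl i)) = 0 :=
      Fintype.linearIndependent_iff.1 bW.linearIndependent _ hg'
    rintro (⟨⟩ | i | ⟨⟩)
    · exact h1
    · exact h2 i
    · exact h3
  let b : Module.Basis (Unit ⊕ (Fin m ⊕ Unit)) F (Fin (m + 2) → F) :=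
    basisOfLinearIndependentOfCardEqFinrank hli (by simp; omega)
  have hb : ∀ i, b i = e i := fun i => by simp [b]
  refine ⟨Matrix.toLinAlgEquiv'.trans (LinearMap.toMatrixAlgEquiv b), ?_⟩
  ext i k
  rw [AlgEquiv.trans_apply, LinearMap.toMatrixAlgEquiv_apply, Matrix.toLinAlgEquiv'_apply,
    Matrix.vecMulVec_mulVec, hb]
  have he : φ ⬝ᵥ e k = if k = Sum.inr (Sum.inr ()) then 1 else 0 := by
    rcases k with ⟨⟩ | k | ⟨⟩
    · simp [e, hφu]
    · have hk' : φ ⬝ᵥ e (Sum.inr (Sum.inl k)) = 0 := congrArg Prod.fst (hker k)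
      simp [hk']
    · simp [e, hφw]
  rw [he]
  have hbu : b.repr u = Finsupp.single (Sum.inl ()) 1 := by
    rw [show u = b (Sum.inl ()) by rw [hb]; rfl, Module.Basis.repr_self]
  by_cases hk2 : k = Sum.inr (Sum.inr ())
  · subst hk2
    simp [hbu, Finsupp.single_apply, Matrix.single_apply]
  · simp [hk2, Matrix.single_apply, Ne.symm hk2]

/-- The parametrisation of the centraliser of `single a z 1`. -/
def centMat {m : ℕ} (c : F) (x z : Fin m → F) (y : F) (A : Matrix (Fin m) (Fin m) F) :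
    Matrix (Unit ⊕ (Fin m ⊕ Unit)) (Unit ⊕ (Fin m ⊕ Unit)) F :=
  Matrix.fromBlocks (Matrix.of fun _ _ => c) (Matrix.of fun _ => Sum.elim x fun _ => y) 0
    (Matrix.fromBlocks A (Matrix.of fun i _ => z i) 0 (Matrix.of fun _ _ => c))

theorem det_centMat {m : ℕ} (c : F) (x z : Fin m → F) (y : F) (A : Matrix (Fin m) (Fin m) F) :
    (centMat c x z y A).det = c * (A.det * c) := by
  rw [centMat, Matrix.det_fromBlocks_zero₂₁, Matrix.det_fromBlocks_zero₂₁, Matrix.det_unique (n := Unit)]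
  rfl

theorem centMat_comm {m : ℕ} (c : F) (x z : Fin m → F) (y : F) (A : Matrix (Fin m) (Fin m) F) :
    centMat c x z y A * Matrix.single (Sum.inl ()) (Sum.inr (Sum.inr ())) 1 =
      Matrix.single (Sum.inl ()) (Sum.inr (Sum.inr ())) 1 * centMat c x z y A := by
  ext i j
  rcases i with ⟨⟩ | i | ⟨⟩ <;> rcases j with ⟨⟩ | j | ⟨⟩ <;>
    simp [Matrix.mul_apply, Matrix.single_apply, Fintype.sum_sum_type, centMat]

theorem card_centralizer_single [Fintype F] (m : ℕ) :
    Nat.card {g : GL (Unit ⊕ (Fin m ⊕ Unit)) F //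
      (Units.val g) * Matrix.single (Sum.inl ()) (Sum.inr (Sum.inr ())) 1 =
        Matrix.single (Sum.inl ()) (Sum.inr (Sum.inr ())) 1 * (Units.val g)} =
      Nat.card F ^ (2 * m + 1) * (Nat.card F - 1) * Nat.card (GL (Fin m) F) := by
  classical
  have hu : ∀ (p : Fˣ × ((Fin m → F) × (Fin m → F) × F) × GL (Fin m) F),
      IsUnit (centMat (p.1 : F) p.2.1.1 p.2.1.2.1 p.2.1.2.2 (p.2.2 : Matrix _ _ F)) := fun p => by
    rw [Matrix.isUnit_iff_isUnit_det, det_centMat]
    exact p.1.isUnit.mul (((Matrix.isUnit_iff_isUnit_det _).1 p.2.2.isUnit).mul p.1.isUnit)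
  let ev : Fˣ × ((Fin m → F) × (Fin m → F) × F) × GL (Fin m) F →
      {g : GL (Unit ⊕ (Fin m ⊕ Unit)) F //
      (Units.val g) * Matrix.single (Sum.inl ()) (Sum.inr (Sum.inr ())) 1 =
        Matrix.single (Sum.inl ()) (Sum.inr (Sum.inr ())) 1 * (Units.val g)} :=
    fun p => ⟨(hu p).unit, by simp only [IsUnit.unit_spec]; exact centMat_comm _ _ _ _ _⟩
  have hbij : Function.Bijective ev := by
    constructor
    · rintro ⟨c, ⟨x, z, y⟩, A⟩ ⟨c', ⟨x', z', y'⟩, A'⟩ h
      have hM : centMat (c : F) x z y (A : Matrix _ _ F) = centMat (c' : F) x' z' y' (A' : Matrix _ _ F) :=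
        congrArg (fun g => Units.val g.1) h
      simp only [centMat, Matrix.fromBlocks_inj] at hM
      obtain ⟨h1, h2, -, h3, h4, -, -⟩ := hM
      have e1 : c = c' := Units.ext (congrFun (congrFun h1 ()) ())
      have e2 : x = x' := funext fun i => congrFun (congrFun h2 ()) (Sum.inl i)
      have e3 : y = y' := congrFun (congrFun h2 ()) (Sum.inr ())
      have e4 : z = z' := funext fun i => congrFun (congrFun h4 i) ()
      have e5 : A = A' := Units.ext h3
      subst e1 e2 e3 e4 e5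
      rfl
    · rintro ⟨g, hg⟩
      obtain ⟨M, hM⟩ : ∃ M, M = (Units.val g) := ⟨_, rfl⟩
      rw [← hM] at hg
      have col : ∀ i, i ≠ Sum.inl () → M i (Sum.inl ()) = 0 := fun i hi => by
        have := congrFun (congrFun hg i) (Sum.inr (Sum.inr ()))
        simpa [Matrix.mul_apply, Matrix.single_apply, hi, Ne.symm hi] using this
      have diag : M (Sum.inl ()) (Sum.inl ()) = M (Sum.inr (Sum.inr ())) (Sum.inr (Sum.inr ())) := by
        have := congrFun (congrFun hg (Sum.inl ())) (Sum.inr (Sum.inr ()))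
        simpa [Matrix.mul_apply, Matrix.single_apply] using this
      have row : ∀ j, j ≠ Sum.inr (Sum.inr ()) → M (Sum.inr (Sum.inr ())) j = 0 := fun j hj => by
        have := congrFun (congrFun hg (Sum.inl ())) j
        simpa [Matrix.mul_apply, Matrix.single_apply, hj, Ne.symm hj] using this.symm
      have hform : M = centMat (M (Sum.inl ()) (Sum.inl ())) (fun i => M (Sum.inl ()) (Sum.inr (Sum.inl i)))
          (fun i => M (Sum.inr (Sum.inl i)) (Sum.inr (Sum.inr ())))
          (M (Sum.inl ()) (Sum.inr (Sum.inr ())))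
          (Matrix.of fun i j => M (Sum.inr (Sum.inl i)) (Sum.inr (Sum.inl j))) := by
        ext i j
        rcases i with ⟨⟩ | i | ⟨⟩ <;> rcases j with ⟨⟩ | j | ⟨⟩ <;> simp [centMat, col, row, diag]
      have hdet : IsUnit M.det := by
        rw [hM]; exact (Matrix.isUnit_iff_isUnit_det _).1 g.isUnit
      rw [hform, det_centMat, IsUnit.mul_iff, IsUnit.mul_iff] at hdet
      refine ⟨(hdet.1.unit, (fun i => M (Sum.inl ()) (Sum.inr (Sum.inl i)),
          fun i => M (Sum.inr (Sum.inl i)) (Sum.inr (Sum.inr ())), M (Sum.inl ()) (Sum.inr (Sum.inr ()))),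
          ((Matrix.isUnit_iff_isUnit_det _).2 hdet.2.1).unit),
        Subtype.ext (Units.ext ?_)⟩
      simp only [ev, IsUnit.unit_spec]
      rw [← hM]
      exact hform.symm
  rw [← Nat.card_congr (Equiv.ofBijective ev hbij)]
  simp only [Nat.card_prod, Nat.card_fun, Nat.card_units, Nat.card_fin]
  ring

theorem card_centralizer_transvection [Fintype F] {n : ℕ} (hn : 2 ≤ n) (t : GL (Fin n) F)
    (ht : Cfsg.IsTransvection (t : Matrix (Fin n) (Fin n) F)) :
    Nat.card (Subgroup.centralizer ({t} : Set (GL (Fin n) F))) =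
      Fintype.card F ^ (2 * n - 3) * (Fintype.card F - 1) *
        ∏ i : Fin (n - 2), (Fintype.card F ^ (n - 2) - Fintype.card F ^ (i : ℕ)) := by
  obtain ⟨m, rfl⟩ : ∃ m, n = m + 2 := ⟨n - 2, by omega⟩
  obtain ⟨u, φ, hu, hφ, hN⟩ := exists_vecMulVec_of_rank_one ht.1
  have hφu : φ ⬝ᵥ u = 0 := by
    have h2 := ht.2
    rw [hN, Matrix.vecMulVec_mul_vecMulVec] at h2
    by_contra h
    obtain ⟨i, hi⟩ := Function.ne_iff.1 hu
    obtain ⟨j, hj⟩ := Function.ne_iff.1 hφ
    have := congrFun (congrFun h2 i) j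
    rcases mul_eq_zero.1 (show u i * ((φ ⬝ᵥ u) * φ j) = 0 by
      simpa [Matrix.vecMulVec_apply, mul_comm, mul_left_comm] using this) with h0 | h0
    · exact hi h0
    · exact (mul_ne_zero h hj) h0
  obtain ⟨ψ, hψ⟩ := exists_basis_transvection hu hφ hφu
  let Ψ : GL (Fin (m + 2)) F ≃* GL (Unit ⊕ (Fin m ⊕ Unit)) F :=
    Units.mapEquiv ψ.toRingEquiv.toMulEquiv
  have hiff : ∀ g : GL (Fin (m + 2)) F, g ∈ Subgroup.centralizer ({t} : Set (GL (Fin (m + 2)) F)) ↔
      Units.val (Ψ g) * Matrix.single (Sum.inl ()) (Sum.inr (Sum.inr ())) 1 =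
        Matrix.single (Sum.inl ()) (Sum.inr (Sum.inr ())) 1 * Units.val (Ψ g) := by
    intro g
    show _ ↔ ψ (Units.val g) * _ = _ * ψ (Units.val g)
    rw [← hψ, ← hN, ← map_mul, ← map_mul, ψ.injective.eq_iff, Subgroup.mem_centralizer_singleton_iff,
      mul_sub, sub_mul, mul_one, one_mul, sub_left_inj, Units.ext_iff, Units.val_mul, Units.val_mul]
  rw [Nat.card_congr (Equiv.subtypeEquiv (q := fun g : GL (Unit ⊕ (Fin m ⊕ Unit)) F =>
      (Units.val g) * Matrix.single (Sum.inl ()) (Sum.inr (Sum.inr ())) 1 =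
        Matrix.single (Sum.inl ()) (Sum.inr (Sum.inr ())) 1 * (Units.val g)) Ψ.toEquiv hiff),
    card_centralizer_single, Matrix.card_GL_field, Nat.card_eq_fintype_card,
    show 2 * (m + 2) - 3 = 2 * m + 1 by omega]
  rfl

end CfsgLib.KnownC
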