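import Mathlib
import Cfsg.Prelude.Def_ClassicalGeometry
import Cfsg.Agent.Lib.Classical.SLOrder
import Cfsg.Agent.Lib.KnownC.TransvectionCentralizer

/-!
Involutions and elements of order three of `PSL_3(4)`; `PSL_4(2)` is not `PSL_3(4)`.
-/

set_option autoImplicit false

namespace CfsgLib.KnownC

open Matrix
open scoped MatrixGroups Pointwise

variable {F : Type*} [Field F] [Fintype F]

theorem pow_three_of_card_four (hF : Fintype.card F = 4) {r : F} (hr : r ≠ 0) : r ^ 3 = 1 := by
  have := FiniteField.pow_card_sub_one_eq_one r hr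
  rwa [hF] at this

theorem two_eq_zero_of_card_four (hF : Fintype.card F = 4) : (2 : F) = 0 := by
  have h : ((Fintype.card F : ℕ) : F) = 0 := FiniteField.cast_card_eq_zero F
  rw [hF, show ((4 : ℕ) : F) = 2 * 2 by norm_num] at h
  exact mul_self_eq_zero.1 h

omit [Fintype F] in
/-- A transvection of `SL_3` is conjugate in `SL_3` to the standard one. -/
theorem exists_sl_three_normal_form {u φ : Fin 3 → F} (hu : u ≠ 0) (hφ : φ ≠ 0)
    (hφu : φ ⬝ᵥ u = 0) :
    ∃ M : SL(3, F), Matrix.vecMulVec u φ * (M : Matrix (Fin 3) (Fin 3) F) =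
      (M : Matrix (Fin 3) (Fin 3) F) * Matrix.single 0 2 1 := by
  obtain ⟨j, hj⟩ := Function.ne_iff.1 hφ
  obtain ⟨w, hw⟩ : ∃ w : Fin 3 → F, φ ⬝ᵥ w = 1 :=
    ⟨Pi.single j (φ j)⁻¹, by rw [dotProduct_single]; exact mul_inv_cancel₀ hj⟩
  let f : (Fin 3 → F) →ₗ[F] F :=
    { toFun := fun v => φ ⬝ᵥ v
      map_add' := fun a b => dotProduct_add _ _ _
      map_smul' := fun c a => by simp [dotProduct_smul] }
  obtain ⟨v, hv, hvu⟩ : ∃ v, φ ⬝ᵥ v = 0 ∧ v ∉ Submodule.span F {u} := by
    by_contra h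
    push Not at h
    have hle : LinearMap.ker f ≤ Submodule.span F {u} := fun v hv => h v hv
    have h1 := Submodule.finrank_mono hle
    rw [finrank_span_singleton hu] at h1
    have h2 := LinearMap.finrank_range_add_finrank_ker f
    have h3 : Module.finrank F (LinearMap.range f) ≤ 1 :=
      le_trans (Submodule.finrank_le _) (le_of_eq (Module.finrank_self F))
    rw [Module.finrank_fin_fun] at h2
    omega
  let cols : F → Matrix (Fin 3) (Fin 3) F := fun t => Matrix.of fun i k => ![u i, t * v i, w i] k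
  have hdet0 : (cols 1).det ≠ 0 := by
    intro h
    obtain ⟨c, hc0, hc⟩ := (Matrix.exists_mulVec_eq_zero_iff).2 h
    have hc' : c 0 • u + c 1 • v + c 2 • w = 0 := by
      rw [← hc]; funext i
      simp [cols, Matrix.mulVec, dotProduct, Fin.sum_univ_three, mul_comm]
    have h2 : c 2 = 0 := by
      have := congrArg (φ ⬝ᵥ ·) hc'
      simpa [dotProduct_add, dotProduct_smul, hφu, hv, hw] using this
    have h1 : c 1 = 0 := by
      by_contra h1
      rw [h2, zero_smul, add_zero] at hc'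
      refine hvu (Submodule.mem_span_singleton.2 ⟨-(c 0 / c 1), ?_⟩)
      apply smul_right_injective _ h1
      show c 1 • (-(c 0 / c 1) • u) = c 1 • v
      rw [smul_smul, mul_neg, mul_div_cancel₀ _ h1, neg_smul, ← eq_neg_of_add_eq_zero_right hc']
    have h0 : c 0 = 0 := by
      rw [h1, h2, zero_smul, zero_smul, add_zero, add_zero] at hc'
      exact (smul_eq_zero.1 hc').resolve_right hu
    exact hc0 (funext fun i => by fin_cases i <;> simp [h0, h1, h2])
  have hlin : ∀ t, (cols t).det = t * (cols 1).det := fun t => by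
    simp [cols, Matrix.det_fin_three]; ring
  refine ⟨⟨cols (cols 1).det⁻¹, by rw [hlin, inv_mul_cancel₀ hdet0]⟩, ?_⟩
  show Matrix.vecMulVec u φ * cols _ = cols _ * _
  ext i k
  have hφc : ∀ k, ∑ l, φ l * cols (cols 1).det⁻¹ l k = if k = 2 then 1 else 0 := by
    intro k
    fin_cases k
    · simpa [cols, dotProduct] using hφu
    · have hv' : ∑ l, φ l * v l = 0 := hv
      simp only [cols, Matrix.of_apply]
      simp only [Fin.mk_one, Matrix.cons_val_one, Matrix.cons_val_zero]
      rw [if_neg (by decide)]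
      calc ∑ l, φ l * ((cols 1).det⁻¹ * v l) = (cols 1).det⁻¹ * ∑ l, φ l * v l := by
            rw [Finset.mul_sum]; exact Finset.sum_congr rfl fun l _ => by ring
        _ = 0 := by rw [hv', mul_zero]
    · simpa [cols, dotProduct] using hw
  rw [Matrix.mul_apply]
  simp only [Matrix.vecMulVec_apply, mul_assoc, ← Finset.mul_sum, hφc]
  rw [Matrix.mul_apply]
  simp only [Matrix.single_apply, mul_ite, mul_one, mul_zero, Fin.sum_univ_three]
  fin_cases k <;> simp [cols]

/-- Every involution of `PSL_3(4)` is conjugate to the class of the standard transvection. -/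
theorem exists_conj_involution (hF : Fintype.card F = 4)
    {x : Matrix.ProjectiveSpecialLinearGroup (Fin 3) F} (hx : x ^ 2 = 1) (hx1 : x ≠ 1) :
    ∃ E : SL(3, F), (E : Matrix (Fin 3) (Fin 3) F) = 1 + Matrix.single 0 2 1 ∧
      IsConj x (QuotientGroup.mk E) := by
  obtain ⟨g, rfl⟩ := QuotientGroup.mk_surjective x
  rw [← QuotientGroup.mk_pow, QuotientGroup.eq_one_iff,
    Matrix.SpecialLinearGroup.mem_center_iff] at hx
  obtain ⟨r, hr, hrg⟩ := hx
  rw [Fintype.card_fin] at hr
  let s : SL(3, F) := ⟨Matrix.scalar (Fin 3) r, by simp [Matrix.scalar_apply, hr]⟩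
  have hs : s ∈ Subgroup.center SL(3, F) :=
    Matrix.SpecialLinearGroup.mem_center_iff.2 ⟨r, by rw [Fintype.card_fin, hr], rfl⟩
  obtain ⟨g', hg'⟩ : ∃ g', g' = g * s := ⟨_, rfl⟩
  have hmk : (QuotientGroup.mk g' : Matrix.ProjectiveSpecialLinearGroup (Fin 3) F) = QuotientGroup.mk g := by
    rw [hg', QuotientGroup.mk_mul, (QuotientGroup.eq_one_iff s).2 hs, mul_one]
  rw [← hmk] at hx1 ⊢
  have hsq : (g' : Matrix (Fin 3) (Fin 3) F) * (g' : Matrix (Fin 3) (Fin 3) F) = 1 := by
    have hc : Commute g s := (Subgroup.mem_center_iff.1 hs g)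
    rw [← Matrix.SpecialLinearGroup.coe_mul, hg', ← sq, hc.mul_pow, Matrix.SpecialLinearGroup.coe_mul,
      ← hrg, Matrix.SpecialLinearGroup.coe_pow]
    show Matrix.scalar (Fin 3) r * Matrix.scalar (Fin 3) r ^ 2 = 1
    rw [← map_pow, ← map_mul, ← pow_succ', hr, map_one]
  obtain ⟨N, hN⟩ : ∃ N, N = (g' : Matrix (Fin 3) (Fin 3) F) - 1 := ⟨_, rfl⟩
  have h2 := two_eq_zero_of_card_four hF
  have hNN : N * N = 0 := by
    rw [hN, sub_mul, mul_sub, hsq, mul_one, one_mul,
      show (1 : Matrix (Fin 3) (Fin 3) F) - (g' : Matrix (Fin 3) (Fin 3) F) -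
        ((g' : Matrix (Fin 3) (Fin 3) F) - 1) = (2 : F) • (1 - (g' : Matrix (Fin 3) (Fin 3) F)) by module,
      h2, zero_smul]
  have hN0 : N ≠ 0 := fun h => hx1 (by
    rw [hN, sub_eq_zero] at h
    rw [show g' = 1 from Subtype.ext h, QuotientGroup.mk_one])
  have hrank : N.rank = 1 := by
    have h1 := Matrix.rank_add_rank_le_card_of_mul_eq_zero hNN
    rw [Fintype.card_fin] at h1
    have h0 : N.rank ≠ 0 := fun h => hN0 (by
      rw [Matrix.rank, Submodule.finrank_eq_zero, LinearMap.range_eq_bot] at h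
      exact Matrix.ext_of_mulVec_single fun i => by
        rw [Matrix.zero_mulVec, ← Matrix.mulVecLin_apply, h, LinearMap.zero_apply])
    omega
  obtain ⟨u, φ, hu, hφ, huφ⟩ := exists_vecMulVec_of_rank_one hrank
  have hφu : φ ⬝ᵥ u = 0 := by
    obtain ⟨j, hj⟩ := Function.ne_iff.1 hφ
    have h := congrArg (fun M : Matrix (Fin 3) (Fin 3) F => M *ᵥ Pi.single j 1) hNN
    simp only [huφ, ← Matrix.mulVec_mulVec, Matrix.zero_mulVec, Matrix.vecMulVec_mulVec] at h
    simp only [op_smul_eq_smul, dotProduct_smul, smul_smul, dotProduct_single, mul_one, smul_eq_mul] at h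
    exact (mul_eq_zero.1 ((smul_eq_zero.1 h).resolve_right hu)).resolve_left hj
  obtain ⟨M, hM⟩ := exists_sl_three_normal_form hu hφ hφu
  refine ⟨M⁻¹ * g' * M, ?_, (QuotientGroup.mk' _).map_isConj (isConj_iff.2 ⟨M⁻¹, by rw [inv_inv]⟩)⟩
  have e : ((g' * M : SL(3, F)) : Matrix (Fin 3) (Fin 3) F) =
      (M : Matrix (Fin 3) (Fin 3) F) * (1 + Matrix.single 0 2 1) := by
    rw [Matrix.SpecialLinearGroup.coe_mul, mul_add, mul_one, ← hM, ← huφ, hN]
    rw [sub_mul, one_mul, add_sub_cancel]
  rw [mul_assoc, Matrix.SpecialLinearGroup.coe_mul, e, ← mul_assoc,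
    ← Matrix.SpecialLinearGroup.coe_mul, inv_mul_cancel, Matrix.SpecialLinearGroup.coe_one, one_mul]

theorem isConj_involutions (hF : Fintype.card F = 4)
    {x y : Matrix.ProjectiveSpecialLinearGroup (Fin 3) F} (hx : x ^ 2 = 1) (hx1 : x ≠ 1)
    (hy : y ^ 2 = 1) (hy1 : y ≠ 1) : IsConj x y := by
  obtain ⟨E, hE, h⟩ := exists_conj_involution hF hx hx1
  obtain ⟨E', hE', h'⟩ := exists_conj_involution hF hy hy1
  rw [show E = E' from Subtype.ext (hE.trans hE'.symm)] at h
  exact h.trans h'.symm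

theorem psl_four_two_ne_psl_three_four {K : Type*} [Field K] [Fintype K]
    (hK : Fintype.card K = 2) (hF : Fintype.card F = 4) :
    Nat.card (Matrix.ProjectiveSpecialLinearGroup (Fin 4) K) =
        Nat.card (Matrix.ProjectiveSpecialLinearGroup (Fin 3) F) ∧
      ¬ Nonempty (Matrix.ProjectiveSpecialLinearGroup (Fin 4) K ≃*
        Matrix.ProjectiveSpecialLinearGroup (Fin 3) F) := by
  refine ⟨?_, ?_⟩
  · have h1 := CfsgLib.Classical.card_psl_mul (F := K) (n := 4) (by norm_num)
    have h2 := CfsgLib.Classical.card_psl_mul (F := F) (n := 3) (by norm_num)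
    rw [hK] at h1
    rw [hF] at h2
    simp only [Fin.prod_univ_four, Fin.prod_univ_three] at h1 h2
    norm_num at h1 h2
    omega
  rintro ⟨e⟩
  have h2 : (2 : K) = 0 := by
    have h : ((Fintype.card K : ℕ) : K) = 0 := FiniteField.cast_card_eq_zero K
    rwa [hK, Nat.cast_ofNat] at h
  obtain ⟨t₁, ht₁⟩ : ∃ t : SL(4, K), (t : Matrix (Fin 4) (Fin 4) K) = !![1,0,1,0; 0,1,0,0; 0,0,1,0; 0,0,0,1] :=
    ⟨⟨_, by simp [Matrix.det_succ_row_zero, Fin.sum_univ_succ, Fin.succAbove]⟩, rfl⟩
  obtain ⟨t₂, ht₂⟩ : ∃ t : SL(4, K), (t : Matrix (Fin 4) (Fin 4) K) = !![1,0,1,0; 0,1,0,1; 0,0,1,0; 0,0,0,1] :=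
    ⟨⟨_, by simp [Matrix.det_succ_row_zero, Fin.sum_univ_succ, Fin.succAbove]⟩, rfl⟩
  have hcenter : ∀ t : SL(4, K), t ∈ Subgroup.center SL(4, K) → t = 1 := by
    intro t ht
    obtain ⟨r, hr, hrt⟩ := Matrix.SpecialLinearGroup.mem_center_iff.1 ht
    have hr0 : r ≠ 0 := fun h => by simp [h] at hr
    have hr1 : r = 1 := by
      have := FiniteField.pow_card_sub_one_eq_one r hr0
      rwa [hK, pow_one] at this
    exact Subtype.ext (by rw [← hrt, hr1, map_one]; rfl)
  have hne : ∀ t : SL(4, K), t ≠ 1 →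
      (QuotientGroup.mk t : Matrix.ProjectiveSpecialLinearGroup (Fin 4) K) ≠ 1 :=
    fun t ht h => ht (hcenter t ((QuotientGroup.eq_one_iff t).1 h))
  have hsq : ∀ t : SL(4, K), t * t = 1 →
      (QuotientGroup.mk t : Matrix.ProjectiveSpecialLinearGroup (Fin 4) K) ^ 2 = 1 :=
    fun t ht => by rw [sq, ← QuotientGroup.mk_mul, ht, QuotientGroup.mk_one]
  have h11 : (1 : K) + 1 = 0 := by rw [one_add_one_eq_two, h2]
  have s₁ : t₁ * t₁ = 1 := Subtype.ext (by
    rw [Matrix.SpecialLinearGroup.coe_mul, ht₁]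
    ext i j; fin_cases i <;> fin_cases j <;> simp [Matrix.mul_apply, Fin.sum_univ_four, h11])
  have s₂ : t₂ * t₂ = 1 := Subtype.ext (by
    rw [Matrix.SpecialLinearGroup.coe_mul, ht₂]
    ext i j; fin_cases i <;> fin_cases j <;> simp [Matrix.mul_apply, Fin.sum_univ_four, h11])
  have n₁ : t₁ ≠ 1 := fun h => by
    have := congrArg (fun t : SL(4, K) => (t : Matrix (Fin 4) (Fin 4) K) 0 2) h
    simp [ht₁] at this
  have n₂ : t₂ ≠ 1 := fun h => by
    have := congrArg (fun t : SL(4, K) => (t : Matrix (Fin 4) (Fin 4) K) 0 2) h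
    simp [ht₂] at this
  obtain ⟨c, hc⟩ := isConj_iff.1 (e.symm.toMonoidHom.map_isConj (isConj_involutions hF
    (x := e (QuotientGroup.mk t₁)) (y := e (QuotientGroup.mk t₂))
    (by rw [← map_pow, hsq _ s₁, map_one]) ((map_ne_one_iff e e.injective).2 (hne _ n₁))
    (by rw [← map_pow, hsq _ s₂, map_one]) ((map_ne_one_iff e e.injective).2 (hne _ n₂))))
  simp only [MulEquiv.coe_toMonoidHom, MulEquiv.symm_apply_apply] at hc
  obtain ⟨c, rfl⟩ := QuotientGroup.mk_surjective c
  rw [← QuotientGroup.mk_mul, ← QuotientGroup.mk_inv, ← QuotientGroup.mk_mul, QuotientGroup.eq] at hc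
  have hct := inv_mul_eq_one.1 (hcenter _ hc)
  have hct' : (c : Matrix (Fin 4) (Fin 4) K) * (t₁ : Matrix (Fin 4) (Fin 4) K) =
      (t₂ : Matrix (Fin 4) (Fin 4) K) * (c : Matrix (Fin 4) (Fin 4) K) := by
    rw [← Matrix.SpecialLinearGroup.coe_mul, ← Matrix.SpecialLinearGroup.coe_mul, ← hct,
      inv_mul_cancel_right]
  -- columns 0, 1, 3 of `c` have vanishing last two entries
  have key : ∀ i j, ((c : Matrix (Fin 4) (Fin 4) K) * (t₁ : Matrix (Fin 4) (Fin 4) K)) i j =
      ((t₂ : Matrix (Fin 4) (Fin 4) K) * (c : Matrix (Fin 4) (Fin 4) K)) i j := fun i j => by rw [hct']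
  have a0 := key 0 0
  have a1 := key 0 1
  have a3 := key 0 3
  have b0 := key 1 0
  have b1 := key 1 1
  have b3 := key 1 3
  simp [ht₁, ht₂, Matrix.mul_apply, Fin.sum_univ_four] at a0 a1 a3 b0 b1 b3
  have hdet := c.det_coe
  have hz : (c : Matrix (Fin 4) (Fin 4) K).det = 0 := by
    refine Matrix.exists_vecMul_eq_zero_iff.1 ?_
    by_cases h22 : (c : Matrix (Fin 4) (Fin 4) K) 2 2 = 0
    · refine ⟨Pi.single 2 1, by simp, funext fun j => ?_⟩
      fin_cases j <;> simp [a0, a1, a3, h22]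
    · refine ⟨![0, 0, (c : Matrix (Fin 4) (Fin 4) K) 3 2, -(c : Matrix (Fin 4) (Fin 4) K) 2 2],
        fun h => h22 (by simpa using congrFun h 3), funext fun j => ?_⟩
      fin_cases j <;> simp [Matrix.vecMul, dotProduct, Fin.sum_univ_four, a0, a1, a3, b0, b1, b3] <;> ring
  rw [hz] at hdet
  exact zero_ne_one hdet

omit [Fintype F] in
theorem exists_columns_sl {g : Matrix (Fin 3) (Fin 3) F} {v : Fin 3 → (Fin 3 → F)} {ev : Fin 3 → F}
    (hv : ∀ k, g *ᵥ v k = ev k • v k) (hli : LinearIndependent F v) :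
    ∃ M : SL(3, F), g * (M : Matrix (Fin 3) (Fin 3) F) =
      (M : Matrix (Fin 3) (Fin 3) F) * Matrix.diagonal ev := by
  obtain ⟨V, hV⟩ : ∃ V : Matrix (Fin 3) (Fin 3) F, V = Matrix.of fun i k => v k i := ⟨_, rfl⟩
  have hd : V.det ≠ 0 := by
    intro h
    obtain ⟨c, hc0, hc⟩ := (Matrix.exists_mulVec_eq_zero_iff).2 h
    refine hc0 (funext (Fintype.linearIndependent_iff.1 hli c ?_))
    rw [← hc, hV]; funext i
    simp [Matrix.mulVec, dotProduct, mul_comm]
  obtain ⟨D, hD⟩ : ∃ D : Fin 3 → F, D = ![V.det⁻¹, 1, 1] := ⟨_, rfl⟩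
  refine ⟨⟨V * Matrix.diagonal D, by
    rw [Matrix.det_mul, Matrix.det_diagonal, hD]; simp [Fin.prod_univ_three, mul_inv_cancel₀ hd]⟩, ?_⟩
  show g * (V * Matrix.diagonal D) = V * Matrix.diagonal D * Matrix.diagonal ev
  have hgV : g * V = V * Matrix.diagonal ev := by
    ext i k
    rw [Matrix.mul_diagonal, hV]
    have := congrFun (hv k) i
    simpa [Matrix.mul_apply, Matrix.mulVec, dotProduct, mul_comm] using this
  rw [← mul_assoc, hgV, mul_assoc, mul_assoc, Matrix.diagonal_mul_diagonal,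
    Matrix.diagonal_mul_diagonal]
  simp only [mul_comm]

/-- Rank one idempotent trick: a two-eigenvalue element of order three is not unimodular. -/
theorem det_ne_one_of_idempotent {E : Matrix (Fin 3) (Fin 3) F} {a b : F} (hE : E * E = E)
    (hE1 : E.rank = 1) (ha : a ^ 3 = 1) (hab : a ≠ b) : (a • 1 + (b - a) • E).det ≠ 1 := by
  obtain ⟨u, φ, hu, hφ, hEu⟩ := exists_vecMulVec_of_rank_one hE1
  have hφu : φ ⬝ᵥ u = 1 := by
    obtain ⟨i, hi⟩ := Function.ne_iff.1 hu
    obtain ⟨j, hj⟩ := Function.ne_iff.1 hφ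
    have := congrArg (fun M : Matrix (Fin 3) (Fin 3) F => M i j) hE
    simp only [hEu, Matrix.vecMulVec_mul_vecMulVec, Matrix.vecMulVec_apply, Pi.smul_apply,
      smul_eq_mul] at this
    have h0 : u i * φ j * ((φ ⬝ᵥ u) - 1) = 0 := by linear_combination this
    exact sub_eq_zero.1 ((mul_eq_zero.1 h0).resolve_left (mul_ne_zero hi hj))
  have ha0 : a ≠ 0 := fun h => by simp [h] at ha
  have hform : a • (1 : Matrix (Fin 3) (Fin 3) F) + (b - a) • E =
      a • (1 + Matrix.vecMulVec (((b - a) / a) • u) φ) := by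
    rw [Matrix.smul_vecMulVec, ← hEu, smul_add, smul_smul, mul_div_cancel₀ _ ha0]
  rw [hform, Matrix.det_smul, Fintype.card_fin, ha, one_mul, Matrix.vecMulVec_eq Unit,
    Matrix.det_one_add_replicateCol_mul_replicateRow, dotProduct_smul, hφu, smul_eq_mul, mul_one]
  intro h
  have : (b - a) / a = 0 := by linear_combination h
  rw [div_eq_zero_iff, sub_eq_zero] at this
  exact hab (this.resolve_right ha0).symm

theorem exists_conj_order_three (hF : Fintype.card F = 4) {ω : F} (hω0 : ω ≠ 0) (hω1 : ω ≠ 1)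
    {x : Matrix.ProjectiveSpecialLinearGroup (Fin 3) F} (hx : x ^ 3 = 1) (hx1 : x ≠ 1) :
    ∃ D : SL(3, F), (D : Matrix (Fin 3) (Fin 3) F) = Matrix.diagonal ![1, ω, ω ^ 2] ∧
      IsConj x (QuotientGroup.mk D) := by
  obtain ⟨g, rfl⟩ := QuotientGroup.mk_surjective x
  rw [← QuotientGroup.mk_pow, QuotientGroup.eq_one_iff,
    Matrix.SpecialLinearGroup.mem_center_iff] at hx
  obtain ⟨r, hr, hrg⟩ := hx
  rw [Fintype.card_fin] at hr
  obtain ⟨G, hG⟩ : ∃ G, G = (g : Matrix (Fin 3) (Fin 3) F) := ⟨_, rfl⟩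
  have hG3 : G ^ 3 = Matrix.scalar (Fin 3) r := by
    rw [hrg, Matrix.SpecialLinearGroup.coe_pow, hG]
  have hr1 : r = 1 := by
    by_contra hne
    obtain ⟨f, hf⟩ : ∃ f : Polynomial F, f = Polynomial.X ^ 3 - Polynomial.C r := ⟨_, rfl⟩
    have hfm : f.Monic := hf ▸ Polynomial.monic_X_pow_sub_C r (by norm_num)
    have hdeg : f.natDegree = 3 := by rw [hf, Polynomial.natDegree_X_pow_sub_C]
    have hirr : Irreducible f := Polynomial.irreducible_of_degree_le_three_of_not_isRoot
      (by simp [hdeg]) fun c hc => by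
        have h : c ^ 3 = r := by simpa [hf, sub_eq_zero] using hc
        by_cases hc0 : c = 0
        · subst hc0
          rw [← h] at hr
          simp at hr
        · exact hne (h ▸ pow_three_of_card_four hF hc0)
    have hev : Polynomial.aeval G f = 0 := by
      rw [hf, map_sub, map_pow, Polynomial.aeval_X, Polynomial.aeval_C, hG3, sub_eq_zero]
      rfl
    have hmin : minpoly F G = f := (minpoly.eq_of_irreducible_of_monic hirr hev hfm).symm
    have hch : G.charpoly = f := by
      refine Polynomial.eq_of_monic_of_dvd_of_natDegree_le hfm (Matrix.charpoly_monic G)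
        (hmin ▸ Matrix.minpoly_dvd_charpoly G) ?_
      rw [Matrix.charpoly_natDegree_eq_dim, Fintype.card_fin, hdeg]
    have h1 := Matrix.det_eq_sign_charpoly_coeff G
    rw [hch, hf, hG, g.det_coe, Fintype.card_fin] at h1
    simp [Polynomial.coeff_X_pow] at h1
    exact hne (by linear_combination -h1)
  subst hr1
  rw [map_one] at hG3
  have hω3 : ω ^ 3 = 1 := pow_three_of_card_four hF hω0
  have hω2 : 1 + ω + ω ^ 2 = 0 := by
    have h : (ω - 1) * (1 + ω + ω ^ 2) = 0 := by linear_combination hω3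
    exact (mul_eq_zero.1 h).resolve_left (sub_ne_zero.2 hω1)
  have h2 := two_eq_zero_of_card_four hF
  obtain ⟨ev, hev⟩ : ∃ ev : Fin 3 → F, ev = ![1, ω, ω ^ 2] := ⟨_, rfl⟩
  have e0 : ev 0 = 1 := by rw [hev]; rfl
  have e1 : ev 1 = ω := by rw [hev]; rfl
  have e2 : ev 2 = ω ^ 2 := by rw [hev]; rfl
  -- the three spectral projections
  let E : Fin 3 → Matrix (Fin 3) (Fin 3) F := fun k => 1 + ev k ^ 2 • G + ev k • (G * G)
  have hG3' : G * (G * G) = 1 := by rw [← hG3]; simp [pow_succ, mul_assoc]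
  have hGE : ∀ k, G * E k = ev k • E k := by
    intro k
    have h3 : ev k ^ 3 = 1 := by
      fin_cases k
      · simp [e0]
      · simp [e1, hω3]
      · simp only [Fin.reduceFinMk]; rw [e2, ← pow_mul, pow_mul' ω 2 3, hω3, one_pow]
    simp only [E, mul_add, mul_one, mul_smul_comm, hG3', smul_add, smul_smul]
    match_scalars
    · linear_combination -h3
    · ring
    · ring
  have hsum : E 0 + E 1 + E 2 = 1 := by
    simp only [E, e0, e1, e2]
    match_scalars
    · linear_combination h2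
    · linear_combination (ω ^ 4 - ω) * 0 + hω2 + ω * hω3
    · linear_combination hω2
  have hGk : ∀ k l, E k * E l = if k = l then E k else 0 := by
    intro k l
    have h3 : ev k ^ 3 = 1 ∧ ev l ^ 3 = 1 := by
      constructor <;>
      · first
        | (fin_cases k <;> simp [e0, e1, e2, hω3, ← pow_mul, pow_mul' ω 2 3])
        | (fin_cases l <;> simp [e0, e1, e2, hω3, ← pow_mul, pow_mul' ω 2 3])
    have hmul : E k * E l = (1 + ev k ^ 2 * ev l + ev k * ev l ^ 2) • E l := by
      have hGl := hGE l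
      simp only [E] at hGl ⊢
      generalize (1 + ev l ^ 2 • G + ev l • (G * G)) = X at hGl ⊢
      simp only [add_mul, one_mul, smul_mul_assoc, mul_assoc, hGl, mul_smul_comm, smul_smul]
      module
    by_cases hkl : k = l
    · subst hkl
      rw [hmul, if_pos rfl]
      conv_rhs => rw [← one_smul F (E k)]
      congr 1
      linear_combination 2 * h3.1 + h2
    · rw [hmul, if_neg hkl]
      have : 1 + ev k ^ 2 * ev l + ev k * ev l ^ 2 = 0 := by
        fin_cases k <;> fin_cases l <;> simp [e0, e1, e2] at hkl ⊢ <;>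
          first
          | linear_combination hω2
          | linear_combination hω2 + ω * hω3
          | linear_combination hω2 + (ω + ω ^ 2) * hω3
          | linear_combination hω2 + ω ^ 2 * hω3
          | linear_combination hω2 + (ω ^ 2 + ω) * hω3 + ω * hω3
      rw [this, zero_smul]
  have hE0 : ∀ k, E k ≠ 0 := by
    intro c hc
    obtain ⟨k, l, hkl, hsum'⟩ : ∃ k l : Fin 3, k ≠ l ∧ E k + E l = 1 := by
      fin_cases c
      · exact ⟨1, 2, by decide, by rw [show E 0 = 0 from hc, zero_add] at hsum; exact hsum⟩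
      · exact ⟨0, 2, by decide, by rw [show E 1 = 0 from hc, add_zero] at hsum; exact hsum⟩
      · exact ⟨0, 1, by decide, by rw [show E 2 = 0 from hc, add_zero] at hsum; exact hsum⟩
    have hrk := Matrix.rank_add_rank_le_card_of_mul_eq_zero
      (show E k * E l = 0 by rw [hGk, if_neg hkl])
    rw [Fintype.card_fin] at hrk
    have hne : ∀ k l, k ≠ l → E k + E l = 1 → (E k).rank ≠ 0 := by
      intro k l _ hsum' h
      have hk0 : E k = 0 := by
        rw [Matrix.rank, Submodule.finrank_eq_zero, LinearMap.range_eq_bot] at h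
        exact Matrix.ext_of_mulVec_single fun i => by
          rw [Matrix.zero_mulVec, ← Matrix.mulVecLin_apply, h, LinearMap.zero_apply]
      rw [hk0, zero_add] at hsum'
      have hGl := hGE l
      rw [hsum', mul_one] at hGl
      refine hx1 ((QuotientGroup.eq_one_iff g).2 (Matrix.SpecialLinearGroup.mem_center_iff.2
        ⟨ev l, ?_, ?_⟩))
      · have hd := g.det_coe
        rw [← hG, hGl, Matrix.det_smul, Matrix.det_one, mul_one] at hd
        exact hd
      · rw [← hG, hGl, Matrix.smul_one_eq_diagonal]; rfl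
    have hk' := hne k l hkl hsum'
    have hl' := hne l k (Ne.symm hkl) (by rw [add_comm]; exact hsum')
    have hone : ∀ k l, k ≠ l → E k + E l = 1 → (E l).rank = 1 → False := by
      intro k l hkl hsum' hl1
      refine det_ne_one_of_idempotent (a := ev k) (b := ev l) (by rw [hGk, if_pos rfl]) hl1 ?_ ?_ ?_
      · fin_cases k <;> simp [e0, e1, e2, hω3, ← pow_mul, pow_mul' ω 2 3]
      · intro h
        fin_cases k <;> fin_cases l <;> simp [e0, e1, e2] at hkl h <;> apply hω1 <;>
          first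
          | exact h.symm
          | exact h
          | (rcases h with h | h
             · exact h
             · linear_combination h - h2)
          | linear_combination hω3 - ω * h
          | linear_combination hω3 + ω * h
          | (have : ω * (ω - 1) = 0 := by linear_combination h
             exact sub_eq_zero.1 ((mul_eq_zero.1 this).resolve_left hω0))
          | (have : ω * (ω - 1) = 0 := by linear_combination -h
             exact sub_eq_zero.1 ((mul_eq_zero.1 this).resolve_left hω0))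
      · have hform : G = ev k • 1 + (ev l - ev k) • E l := by
          have : G = G * E k + G * E l := by rw [← mul_add, hsum', mul_one]
          rw [this, hGE, hGE]
          conv_rhs => rw [← hsum']
          module
        rw [← hform, hG]
        exact g.det_coe
    rcases (show (E l).rank = 1 ∨ (E k).rank = 1 by omega) with h | h
    · exact hone k l hkl hsum' h
    · exact hone l k (Ne.symm hkl) (by rw [add_comm]; exact hsum') h
  have hv : ∀ k, ∃ j, E k *ᵥ Pi.single j 1 ≠ 0 := fun k => by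
    by_contra h
    push Not at h
    exact hE0 k (Matrix.ext_of_mulVec_single fun i => by rw [h, Matrix.zero_mulVec])
  choose j hj using hv
  obtain ⟨v, hvdef⟩ : ∃ v : Fin 3 → (Fin 3 → F), v = fun k => E k *ᵥ Pi.single (j k) 1 := ⟨_, rfl⟩
  have hveig : ∀ k, G *ᵥ v k = ev k • v k := fun k => by
    rw [hvdef]; simp only; rw [Matrix.mulVec_mulVec, hGE, Matrix.smul_mulVec]
  have hli : LinearIndependent F v := Fintype.linearIndependent_iff.2 fun c hc i => by
    have h := congrArg (E i *ᵥ ·) hc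
    simp only [Matrix.mulVec_zero, Matrix.mulVec_sum, Matrix.mulVec_smul] at h
    rw [Finset.sum_eq_single i (fun b _ hb => by
        rw [hvdef]; simp only
        rw [Matrix.mulVec_mulVec, hGk, if_neg (Ne.symm hb), Matrix.zero_mulVec, smul_zero])
      (fun h => absurd (Finset.mem_univ i) h)] at h
    rw [hvdef] at h
    simp only at h
    rw [Matrix.mulVec_mulVec, hGk, if_pos rfl] at h
    exact (smul_eq_zero.1 h).resolve_right (hj i)
  obtain ⟨M, hM⟩ := exists_columns_sl hveig hli
  refine ⟨M⁻¹ * g * M, ?_, (QuotientGroup.mk' _).map_isConj (isConj_iff.2 ⟨M⁻¹, by rw [inv_inv]⟩)⟩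
  rw [mul_assoc, Matrix.SpecialLinearGroup.coe_mul, Matrix.SpecialLinearGroup.coe_mul, ← hG, hM,
    ← mul_assoc, ← Matrix.SpecialLinearGroup.coe_mul, inv_mul_cancel,
    Matrix.SpecialLinearGroup.coe_one, one_mul, hev]

theorem conj_subgroups_order_three (hF : Fintype.card F = 4)
    (X Y : Subgroup (Matrix.ProjectiveSpecialLinearGroup (Fin 3) F)) (hX : Nat.card X = 3)
    (hY : Nat.card Y = 3) :
    ∃ g : Matrix.ProjectiveSpecialLinearGroup (Fin 3) F, MulAut.conj g • X = Y := by
  obtain ⟨ω, hω0, hω1⟩ : ∃ ω : F, ω ≠ 0 ∧ ω ≠ 1 := by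
    by_contra h
    push Not at h
    classical
    have : (Finset.univ : Finset F) ⊆ {0, 1} := fun a _ => by
      by_cases ha : a = 0
      · simp [ha]
      · simp [h a ha]
    have := Finset.card_le_card this
    rw [Finset.card_univ, hF] at this
    exact absurd (this.trans Finset.card_le_two) (by norm_num)
  have gen : ∀ Z : Subgroup (Matrix.ProjectiveSpecialLinearGroup (Fin 3) F), Nat.card Z = 3 →
      ∃ z : Matrix.ProjectiveSpecialLinearGroup (Fin 3) F, z ^ 3 = 1 ∧ z ≠ 1 ∧ Z = Subgroup.zpowers z := by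
    intro Z hZ
    haveI : Finite Z := Nat.finite_of_card_ne_zero (by omega)
    haveI : Nontrivial Z := Finite.one_lt_card_iff_nontrivial.1 (by omega)
    obtain ⟨z, hz⟩ := exists_ne (1 : Z)
    haveI : Fact (Nat.Prime 3) := ⟨Nat.prime_three⟩
    have hz3 : z ^ 3 = 1 := by
      have h := pow_card_eq_one' (x := z)
      rwa [hZ] at h
    refine ⟨z, congrArg Subtype.val hz3, fun h => hz (Subtype.ext h), ?_⟩
    · have ho : orderOf (z : Matrix.ProjectiveSpecialLinearGroup (Fin 3) F) = 3 := by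
        rw [Subgroup.orderOf_coe]
        exact orderOf_eq_prime hz3 hz
      exact (Subgroup.eq_of_le_of_card_ge (Subgroup.zpowers_le.2 z.2)
        (by rw [Nat.card_zpowers, ho, hZ])).symm
  obtain ⟨x, hx3, hx1, rfl⟩ := gen X hX
  obtain ⟨y, hy3, hy1, rfl⟩ := gen Y hY
  obtain ⟨D, hD, h⟩ := exists_conj_order_three hF hω0 hω1 hx3 hx1
  obtain ⟨D', hD', h'⟩ := exists_conj_order_three hF hω0 hω1 hy3 hy1
  rw [show D = D' from Subtype.ext (hD.trans hD'.symm)] at h
  obtain ⟨c, hc⟩ := isConj_iff.1 (h.trans h'.symm)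
  refine ⟨c, ?_⟩
  show (Subgroup.zpowers x).map (MulAut.conj c).toMonoidHom = _
  rw [MonoidHom.map_zpowers]
  exact congrArg _ hc

end CfsgLib.KnownC
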