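import Mathlib
import Cfsg.Agent.Lib.Classical.AltPerfect

set_option autoImplicit false
set_option linter.unusedSectionVars false
set_option linter.unusedSimpArgs false

/-!
Centres of Sylow subgroups of symplectic groups in the defining characteristic, and the
transvections among their elements.
-/

namespace CfsgLib.KnownC

open CfsgLib.Geom CfsgLib.Classical

variable {F V : Type*} [Field F] [AddCommGroup V] [Module F V] [FiniteDimensional F V]
variable {B : V →ₗ[F] V →ₗ[F] F}

/-- Products with conjugates of `z` never have order four. -/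
def NoOrderFour {G : Type*} [Group G] (z : G) : Prop :=
  ∀ g : G, (z * (g * z * g⁻¹)) ^ 4 = 1 → (z * (g * z * g⁻¹)) ^ 2 = 1

variable (B) in
/-- The elements acting trivially on the graded pieces `⟨e⟩`, `e^⊥/⟨e⟩`. -/
def radStab (e : V) : Subgroup (formIsoms B) where
  carrier := {g | g.1 e = e ∧ ∀ w, B w e = 0 → ∃ a : F, g.1 w = w + a • e}
  one_mem' := ⟨rfl, fun w _ => ⟨0, by simp⟩⟩
  mul_mem' := by
    rintro g h ⟨hg, hg'⟩ ⟨hh, hh'⟩
    refine ⟨by rw [Subgroup.coe_mul, LinearEquiv.mul_apply, hh, hg], fun w hw => ?_⟩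
    obtain ⟨a, ha⟩ := hh' w hw
    obtain ⟨b, hb⟩ := hg' w hw
    exact ⟨b + a, by rw [Subgroup.coe_mul, LinearEquiv.mul_apply, ha, map_add, map_smul, hg, hb,
      add_smul, add_assoc]⟩
  inv_mem' := by
    rintro g ⟨hg, hg'⟩
    have hi : g⁻¹.1 e = e := g.1.symm_apply_eq.2 hg.symm
    refine ⟨hi, fun w hw => ?_⟩
    obtain ⟨a, ha⟩ := hg' w hw
    refine ⟨-a, g.1.symm_apply_eq.2 ?_⟩
    rw [map_add, map_smul, hg, ha, add_assoc, ← add_smul, add_neg_cancel, zero_smul, add_zero]

theorem mem_radStab {e : V} {g : formIsoms B} :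
    g ∈ radStab B e ↔ g.1 e = e ∧ ∀ w, B w e = 0 → ∃ a : F, g.1 w = w + a • e := Iff.rfl

variable (hA : ∀ v, B v v = 0) (hB : ∀ x, (∀ y, B x y = 0) → x = 0)
include hA hB

theorem exists_pairing_one {e : V} (he : e ≠ 0) : ∃ x, B x e = 1 := by
  obtain ⟨y, hy⟩ : ∃ y, B e y ≠ 0 := by
    by_contra h
    simp only [not_exists, not_not] at h
    exact he (hB e h)
  refine ⟨(-(B e y))⁻¹ • y, ?_⟩
  rw [map_smul, LinearMap.smul_apply, smul_eq_mul, alt_swap B hA e y,
    inv_mul_cancel₀ (neg_ne_zero.2 hy)]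

theorem exists_form_rep (φ : V →ₗ[F] F) : ∃ u, ∀ w, B w u = φ w := by
  have hinj : Function.Injective B := by
    rw [← LinearMap.ker_eq_bot, Submodule.eq_bot_iff]
    exact fun x hx => hB x fun y => by rw [LinearMap.mem_ker.1 hx]; rfl
  obtain ⟨u, hu⟩ := (LinearMap.injective_iff_surjective_of_finrank_eq_finrank
    (f := B) (Subspace.dual_finrank_eq).symm).1 hinj (-φ)
  exact ⟨u, fun w => by rw [alt_swap B hA u w, hu, LinearMap.neg_apply, neg_neg]⟩

theorem eq_altTv_of_fix_perp {e : V} (he : e ≠ 0) {g : formIsoms B}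
    (hg : ∀ w, B w e = 0 → g.1 w = w) : ∃ c, g = altTv hA hB e c := by
  obtain ⟨x₀, hx₀⟩ := exists_pairing_one hA hB he
  have hdec : ∀ y, B (y - B y e • x₀) e = 0 := fun y => by simp [hx₀]
  obtain ⟨d, hd⟩ : ∃ d, d = g.1 x₀ - x₀ := ⟨_, rfl⟩
  have hperp : ∀ w, B w e = 0 → B d w = 0 := fun w hw => by
    have := g.2 x₀ w
    rw [hg w hw] at this
    simp [hd, this]
  have hd2 : d + B d x₀ • e = 0 := hB _ fun y => by
    have h1 := hperp _ (hdec y)
    rw [map_sub, map_smul, smul_eq_mul, sub_eq_zero] at h1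
    simp only [map_add, map_smul, LinearMap.add_apply, LinearMap.smul_apply, smul_eq_mul]
    rw [h1, alt_swap B hA y e]
    ring
  refine ⟨-B d x₀, formIsoms_ext fun x => ?_⟩
  rw [altTv_apply]
  have h1 := hg _ (hdec x)
  rw [map_sub, map_smul, sub_eq_iff_eq_add] at h1
  have hd3 : g.1 x₀ = x₀ + (-B d x₀) • e := by
    rw [eq_neg_of_add_eq_zero_left hd2] at hd
    rw [neg_smul, hd, add_sub_cancel]
  rw [h1, hd3]
  module

theorem altTv_mem_radStab (e : V) (c : F) : altTv hA hB e c ∈ radStab B e :=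
  ⟨by simp [altTv_apply, hA], fun w hw => ⟨0, by simp [altTv_apply, hw]⟩⟩

theorem altSiegel_mem_radStab {e u : V} (h : B e u = 0) (c : F) :
    altSiegel hA hB e u c ∈ radStab B e :=
  ⟨by simp [altSiegel_apply hA hB h, h, hA],
    fun w hw => ⟨c * B w u, by simp [altSiegel_apply hA hB h, hw]⟩⟩

theorem altSiegel_conj {e u : V} (c : F) (g : formIsoms B) :
    g * altSiegel hA hB e u c * g⁻¹ = altSiegel hA hB (g.1 e) (g.1 u) c := by
  simp only [altSiegel, ← altTv_conj hA hB g, map_add, ← altTv_conj hA hB g]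
  rw [show g.1 e + g.1 u = g.1 (e + u) from (map_add g.1 e u).symm, ← altTv_conj hA hB g]
  group

theorem isPGroup_radStab {p : ℕ} [Fact p.Prime] [CharP F p] {e : V} (he : e ≠ 0) :
    IsPGroup p (radStab B e) := by
  rintro ⟨g, hge, hg⟩
  refine ⟨2, Subtype.ext (Subtype.ext (LinearEquiv.ext fun x => ?_))⟩
  let T : Module.End F V := (g.1 : V →ₗ[F] V) - 1
  have hT : ∀ y, T y = g.1 y - y := fun y => rfl
  have hperp : ∀ y, B (T y) e = 0 := fun y => by
    have h1 := g.2 y e
    rw [hge] at h1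
    simp [hT, h1]
  have hT3 : T ^ 3 = 0 := LinearMap.ext fun y => by
    obtain ⟨a, ha⟩ := hg (T y) (hperp y)
    show T (T (T y)) = 0
    rw [hT (T y), ha, add_sub_cancel_left, map_smul, hT e, hge, sub_self, smul_zero]
  haveI : Nontrivial V := ⟨e, 0, he⟩
  haveI : CharP (Module.End F V) p := charP_of_injective_algebraMap' F p
  have hg' : (g.1 : V →ₗ[F] V) = T + 1 := by simp [T]
  have hpow : (g.1 : V →ₗ[F] V) ^ p ^ 2 = 1 := by
    rw [hg', add_pow_char_pow_of_commute _ _ (Commute.one_right T), one_pow,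
      pow_eq_zero_of_le (by nlinarith [(Fact.out : p.Prime).two_le]) hT3, zero_add]
  have hcoe : ∀ k : ℕ, ((g ^ k).1 : V →ₗ[F] V) = (g.1 : V →ₗ[F] V) ^ k := by
    intro k
    induction k with
    | zero => rfl
    | succ k ih => rw [pow_succ, pow_succ, ← ih]; rfl
  have := LinearMap.congr_fun ((hcoe (p ^ 2)).trans hpow) x
  simpa using this

theorem radStab_le_sylow [Finite F] {p : ℕ} [Fact p.Prime] [CharP F p] {e : V} (he : e ≠ 0)
    (P : Sylow p (formIsoms B)) (hP : ∀ g ∈ P, g.1 e = e) : radStab B e ≤ P := by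
  have hn : (P : Subgroup (formIsoms B)) ≤ Subgroup.normalizer (radStab B e) := by
    intro g hg
    have key : ∀ k : formIsoms B, k.1 e = e → ∀ x ∈ radStab B e, k * x * k⁻¹ ∈ radStab B e := by
      rintro k hk x ⟨hxe, hx⟩
      have hki : k⁻¹.1 e = e := k.1.symm_apply_eq.2 hk.symm
      refine ⟨by simp only [Subgroup.coe_mul, LinearEquiv.mul_apply, hki, hxe, hk], fun w hw => ?_⟩
      obtain ⟨a, ha⟩ := hx (k⁻¹.1 w) (by rw [← hki, k⁻¹.2, hw])
      refine ⟨a, ?_⟩
      simp only [Subgroup.coe_mul, LinearEquiv.mul_apply]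
      rw [ha, map_add, map_smul, hk]
      exact congrArg (· + _) (k.1.apply_symm_apply w)
    rw [Subgroup.mem_normalizer_iff]
    refine fun x => ⟨key g (hP g hg) x, fun hx => ?_⟩
    have := key g⁻¹ (g.1.symm_apply_eq.2 (hP g hg).symm) _ hx
    simpa [mul_assoc] using this
  haveI : Finite V := Module.finite_of_finite F
  have hmax := P.is_maximal' (IsPGroup.to_sup_of_normal_right' P.2 (isPGroup_radStab hA hB he) hn)
    le_sup_left
  exact hmax ▸ le_sup_right

theorem exists_fixed_vector [Finite F] {p : ℕ} [Fact p.Prime] [CharP F p] [Nontrivial V]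
    (P : Sylow p (formIsoms B)) : ∃ e : V, e ≠ 0 ∧ ∀ g ∈ P, g.1 e = e := by
  haveI : Finite V := Module.finite_of_finite F
  haveI := Fintype.ofFinite F
  haveI := Fintype.ofFinite V
  have hdvd : p ∣ Nat.card V := by
    obtain ⟨k, -, hk⟩ := FiniteField.card F p
    rw [Module.natCard_eq_pow_finrank (K := F), Nat.card_eq_fintype_card, hk, ← pow_mul]
    exact dvd_pow_self p (Nat.mul_ne_zero k.pos.ne' Module.finrank_pos.ne')
  let P' := (P : Subgroup (formIsoms B)).map (formIsoms B).subtype
  have hP' : IsPGroup p P' := P.2.map _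
  obtain ⟨b, hb, hb0⟩ := hP'.exists_fixed_point_of_prime_dvd_card_of_fixed_point V hdvd
    (a := 0) (fun g => map_zero g.1)
  exact ⟨b, Ne.symm hb0, fun g hg => hb ⟨g.1, g, hg, rfl⟩⟩

theorem exists_sylow_fixing [Finite F] {p : ℕ} [Fact p.Prime] [CharP F p] {e : V} (he : e ≠ 0) :
    ∃ P : Sylow p (formIsoms B), ∀ g ∈ P, g.1 e = e := by
  haveI : Nontrivial V := ⟨e, 0, he⟩
  haveI : Finite V := Module.finite_of_finite F
  obtain ⟨e₀, he₀, hfix⟩ := exists_fixed_vector hA hB (default : Sylow p (formIsoms B))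
  obtain ⟨h, hh⟩ := exists_isom_one hA hB he₀ he
  refine ⟨h • (default : Sylow p (formIsoms B)), fun g hg => ?_⟩
  obtain ⟨x, hx, rfl⟩ := hg
  simp only [MulDistribMulAction.toMonoidEnd_apply, MulDistribMulAction.toMonoidHom_apply,
    MulAut.smul_def, MulAut.conj_apply, Subgroup.coe_mul, LinearEquiv.mul_apply]
  rw [show h⁻¹.1 e = e₀ from h.1.symm_apply_eq.2 hh.symm, hfix x hx, hh]

theorem altTv_central {p : ℕ} [Fact p.Prime] [CharP F p] [Finite F] {e : V} (he : e ≠ 0)
    (P : Sylow p (formIsoms B)) (hP : ∀ g ∈ P, g.1 e = e) (c : F) :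
    altTv hA hB e c ∈ P ∧ ∀ g ∈ P, g * altTv hA hB e c = altTv hA hB e c * g := by
  refine ⟨radStab_le_sylow hA hB he P hP (altTv_mem_radStab hA hB e c), fun g hg => ?_⟩
  have := altTv_conj hA hB g e c
  rw [hP g hg] at this
  exact mul_inv_eq_iff_eq_mul.1 this

theorem altTv_noOrderFour (h2 : (2 : F) = 0) (e : V) (c : F) :
    NoOrderFour (altTv hA hB e c) := by
  intro g hg
  rw [altTv_conj] at hg ⊢
  set d := g.1 e with hd
  set M := altTv hA hB e c * altTv hA hB d c with hM
  have hneg : ∀ a : F, -a = a := fun a => by linear_combination (-a) * h2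
  by_cases hed : B e d = 0
  · have hcomm : Commute (altTv hA hB e c) (altTv hA hB d c) := by
      refine formIsoms_ext fun x => ?_
      simp only [Subgroup.coe_mul, LinearEquiv.mul_apply, altTv_apply, map_add, map_smul,
        LinearMap.add_apply, LinearMap.smul_apply, hed, alt_swap B hA e d, smul_eq_mul]
      module
    rw [hM, hcomm.mul_pow, sq, sq, ← altTv_add, ← altTv_add, ← two_mul, h2, zero_mul, altTv_zero,
      altTv_zero, one_mul]
  · by_cases hc : c = 0
    · rw [hM, hc, altTv_zero, altTv_zero, mul_one, one_pow]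
    exfalso
    have hde : B d e = B e d := by rw [alt_swap B hA e d, hneg]
    haveI : Nontrivial V := ⟨e, 0, fun h => hed (by rw [h]; simp)⟩
    haveI : CharP F 2 := CharTwo.of_one_ne_zero_of_two_eq_zero one_ne_zero h2
    haveI : Fact (Nat.Prime 2) := ⟨Nat.prime_two⟩
    haveI : CharP (Module.End F V) 2 := charP_of_injective_algebraMap' F 2
    let T : Module.End F V := (M.1 : V →ₗ[F] V) - 1
    have hcoe : ∀ k : ℕ, ((M ^ k).1 : V →ₗ[F] V) = (M.1 : V →ₗ[F] V) ^ k := by
      intro k
      induction k with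
      | zero => rfl
      | succ k ih => rw [pow_succ, pow_succ, ← ih]; rfl
    have hT4 : T ^ 4 = 0 := by
      have h4 := hcoe 4
      rw [hg, show (M.1 : V →ₗ[F] V) = T + 1 by simp [T], show (4 : ℕ) = 2 ^ 2 from rfl,
        add_pow_char_pow_of_commute _ _ (Commute.one_right T), one_pow] at h4
      exact (add_eq_right.1 h4.symm)
    have hTv : ∀ a b : F, T (a • e + b • d) =
        (c * b * B e d + c ^ 2 * a * B e d * B e d) • e + (c * a * B e d) • d := fun a b => by
      show M.1 (a • e + b • d) - (a • e + b • d) = _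
      simp only [hM, Subgroup.coe_mul, LinearEquiv.mul_apply, altTv_apply, map_add, map_smul,
        LinearMap.add_apply, LinearMap.smul_apply, hA, hde, smul_eq_mul]
      module
    have hind : ∀ a b : F, a • e + b • d = 0 → a = 0 ∧ b = 0 := fun a b h => by
      have h1 := congrArg (fun y => B y d) h
      have h2' := congrArg (fun y => B y e) h
      simp [hA, hde, hed] at h1 h2'
      exact ⟨h1, h2'⟩
    have hstep : ∀ k, ∃ a b : F, (a ≠ 0 ∨ b ≠ 0) ∧ (T ^ k) e = a • e + b • d := by
      intro k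
      induction k with
      | zero => exact ⟨1, 0, Or.inl one_ne_zero, by simp⟩
      | succ k ih =>
        obtain ⟨a, b, hab, hk⟩ := ih
        refine ⟨c * b * B e d + c ^ 2 * a * B e d * B e d, c * a * B e d, ?_, ?_⟩
        · by_contra hcon
          simp only [not_or, ne_eq, not_not] at hcon
          obtain ⟨h1, h3⟩ := hcon
          have ha : a = 0 := by simpa [hc, hed] using h3
          have hb : b = 0 := by simpa [ha, hc, hed] using h1
          simp [ha, hb] at hab
        · rw [pow_succ', Module.End.mul_apply, hk, hTv]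
    obtain ⟨a, b, hab, hk⟩ := hstep 4
    rw [hT4, LinearMap.zero_apply] at hk
    obtain ⟨ha, hb⟩ := hind a b hk.symm
    simp [ha, hb] at hab

theorem exists_three_independent {e u : V} (hue : ∀ a : F, u ≠ a • e) (he : e ≠ 0)
    (h6 : 6 ≤ Module.finrank F V) :
    ∃ a b : V, B a e = 0 ∧ B a u = 0 ∧ B b e = 0 ∧ B u b = 1 ∧ B a b = 0 ∧
      LinearIndependent F ![e, u, a] := by
  classical
  have hnot : ¬ (LinearMap.ker (B e) ⊓ LinearMap.ker (B u) ≤ Submodule.span F {e, u}) := by
    intro hle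
    have h1 := Submodule.finrank_mono hle
    have h2 : Module.finrank F (Submodule.span F ({e, u} : Set V)) ≤ 2 := by
      have := finrank_span_finset_le_card (R := F) ({e, u} : Finset V)
      rw [Finset.coe_pair] at this
      exact le_trans this Finset.card_le_two
    have h3 := Submodule.finrank_sup_add_finrank_inf_eq (LinearMap.ker (B e)) (LinearMap.ker (B u))
    have h4 := (B e).finrank_range_add_finrank_ker
    have h5 := (B u).finrank_range_add_finrank_ker
    have h6' := Submodule.finrank_le (LinearMap.range (B e))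
    have h7 := Submodule.finrank_le (LinearMap.range (B u))
    have h8 := Submodule.finrank_le (LinearMap.ker (B e) ⊔ LinearMap.ker (B u))
    rw [Module.finrank_self] at h6' h7
    omega
  obtain ⟨a, ha, hna⟩ := SetLike.not_le_iff_exists.1 hnot
  have hae : B a e = 0 := by rw [alt_swap B hA e a, LinearMap.mem_ker.1 ha.1, neg_zero]
  have hau : B a u = 0 := by rw [alt_swap B hA u a, LinearMap.mem_ker.1 ha.2, neg_zero]
  have hli : LinearIndependent F ![e, u, a] := by
    rw [Fintype.linearIndependent_iff]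
    intro g hg
    simp only [Fin.sum_univ_three, Matrix.cons_val_zero, Matrix.cons_val_one, Matrix.cons_val] at hg
    have hg2 : g 2 = 0 := by
      by_contra h
      refine hna (Submodule.mem_span_pair.2 ⟨-(g 2)⁻¹ * g 0, -(g 2)⁻¹ * g 1, ?_⟩)
      have : g 2 • a = -(g 0 • e + g 1 • u) := eq_neg_of_add_eq_zero_right hg
      rw [← inv_smul_smul₀ h a, this, smul_neg, smul_add, smul_smul, smul_smul]
      module
    rw [hg2, zero_smul, add_zero] at hg
    have hg1 : g 1 = 0 := by
      by_contra h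
      refine hue (-(g 1)⁻¹ * g 0) ?_
      rw [← inv_smul_smul₀ h u, eq_neg_of_add_eq_zero_right hg, smul_neg, smul_smul, neg_mul,
        neg_smul]
    rw [hg1, zero_smul, add_zero, smul_eq_zero] at hg
    intro i
    fin_cases i
    · exact hg.resolve_right he
    · exact hg1
    · exact hg2
  obtain ⟨G, hG⟩ := LinearMap.exists_leftInverse_of_injective (Fintype.linearCombination F ![e, u, a])
    (LinearMap.ker_eq_bot.2 (linearIndependent_iff_injective_fintypeLinearCombination.1 hli))
  obtain ⟨b, hb⟩ := exists_form_rep hA hB ((LinearMap.proj (1 : Fin 3)).comp G)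
  have hv : ∀ i : Fin 3, B (![e, u, a] i) b = (![0, 1, 0] : Fin 3 → F) i := fun i => by
    have h1 := LinearMap.congr_fun hG (Pi.single i 1)
    rw [LinearMap.comp_apply, Fintype.linearCombination_apply_single, one_smul] at h1
    rw [hb, LinearMap.comp_apply, h1]
    fin_cases i <;> simp
  refine ⟨a, b, hae, hau, ?_, hv 1, hv 2, hli⟩
  rw [alt_swap B hA e b, show B e b = 0 from hv 0, neg_zero]

theorem not_noOrderFour_siegel (h2 : (2 : F) = 0) {e u : V} (he : e ≠ 0)
    (hue : ∀ a : F, u ≠ a • e) (heu : B e u = 0) (h6 : 6 ≤ Module.finrank F V) (k : F) :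
    ¬ NoOrderFour (altSiegel hA hB e u 1 * altTv hA hB e k) := by
  intro hno
  haveI : CharP F 2 := CharTwo.of_one_ne_zero_of_two_eq_zero one_ne_zero h2
  obtain ⟨a, b, hae, hau, hbe, hub, hab, hli⟩ := exists_three_independent hA hB hue he h6
  have hswap : ∀ x y, B y x = B x y := fun x y => by rw [alt_swap B hA x y, CharTwo.neg_eq]
  have hue' : B u e = 0 := by rw [hswap, heu]
  have hab' : B b a = 0 := by rw [hswap, hab]
  have hbu : B b u = 1 := by rw [hswap, hub]
  have hea : B e a = 0 := by rw [hswap, hae]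
  have hua : B u a = 0 := by rw [hswap, hau]
  have heb : B e b = 0 := by rw [hswap, hbe]
  have h1 : LinearIndependent F ![e, u] := by
    rw [LinearIndependent.pair_iff' he]
    exact fun c h => hue c h.symm
  have h2' : LinearIndependent F ![a, b] := by
    have ha : a ≠ 0 := fun h => by simpa [h] using hli.ne_zero 2
    rw [LinearIndependent.pair_iff' ha]
    rintro c rfl
    simp [hua] at hub
  obtain ⟨g, hge, hgu⟩ := exists_isom_pair hA hB h1 h2' (by rw [heu, hab])
  set z := altSiegel hA hB e u 1 * altTv hA hB e k with hz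
  have hz' : g * z * g⁻¹ = altSiegel hA hB a b 1 * altTv hA hB a k := by
    rw [hz, show g * (altSiegel hA hB e u 1 * altTv hA hB e k) * g⁻¹ =
      (g * altSiegel hA hB e u 1 * g⁻¹) * (g * altTv hA hB e k * g⁻¹) by group,
      altSiegel_conj hA hB, altTv_conj hA hB, hge, hgu]
  have hsq : (z * (g * z * g⁻¹)) ^ 2 = altSiegel hA hB e a 1 := by
    rw [hz', hz, sq]
    refine formIsoms_ext fun x => ?_
    simp only [Subgroup.coe_mul, LinearEquiv.mul_apply, altTv_apply, altSiegel_apply hA hB heu,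
      altSiegel_apply hA hB hab, altSiegel_apply hA hB hea, map_add, map_smul, LinearMap.add_apply,
      LinearMap.smul_apply, hA, heu, hue', hab, hab', hea, hae, heb, hbe, hua, hau, hub, hbu,
      smul_eq_mul]
    match_scalars <;> grind
  have hfour : (z * (g * z * g⁻¹)) ^ 4 = 1 := by
    rw [show (4 : ℕ) = 2 * 2 from rfl, pow_mul, hsq, sq]
    refine formIsoms_ext fun x => ?_
    simp only [Subgroup.coe_mul, LinearEquiv.mul_apply, altSiegel_apply hA hB hea, map_add,
      map_smul, LinearMap.add_apply, LinearMap.smul_apply, hA, hea, hae, smul_eq_mul,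
      OneMemClass.coe_one, LinearEquiv.coe_one, id_eq]
    match_scalars <;> grind
  obtain ⟨x₀, hx₀⟩ := exists_pairing_one hA hB he
  have h0 := congrArg (fun f : formIsoms B => f.1 x₀) (hsq.symm.trans (hno g hfour))
  simp only [altSiegel_apply hA hB hea, OneMemClass.coe_one, LinearEquiv.coe_one, id_eq] at h0
  have hx0' : B x₀ e = 1 := hx₀
  rw [hx0', mul_one, one_smul, add_assoc, add_eq_left] at h0
  have := Fintype.linearIndependent_iff.1 hli ![1 * B x₀ a, 0, 1] (by
    simpa [Fin.sum_univ_three] using h0) 2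
  simp at this

/-- The transvections among the central elements of a Sylow subgroup. -/
theorem central_eq_altTv [Finite F] {p : ℕ} [Fact p.Prime] [CharP F p] {e : V} (he : e ≠ 0)
    (P : Sylow p (formIsoms B)) (hP : ∀ g ∈ P, g.1 e = e)
    (h : (2 : F) ≠ 0 ∨ 6 ≤ Module.finrank F V) {z : formIsoms B} (hz : z ∈ P)
    (hzc : ∀ g ∈ P, g * z = z * g) (hgood : (2 : F) ≠ 0 ∨ NoOrderFour z) :
    ∃ c, z = altTv hA hB e c := by
  obtain ⟨x₀, hx₀⟩ := exists_pairing_one hA hB he
  have hze := hP z hz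
  have key : ∀ w, B w e = 0 →
      z.1 w - w = (-B x₀ (z.1 w - w)) • e ∧ (2 : F) * B x₀ (z.1 w - w) = 0 := by
    intro w hw
    have hew : B e w = 0 := by rw [alt_swap B hA w e, hw, neg_zero]
    have hew' : B e (z.1 w) = 0 := by rw [← hze, z.2, hew]
    have h1 := hzc _ (radStab_le_sylow hA hB he P hP (altSiegel_mem_radStab hA hB hew 1))
    have h2 : altSiegel hA hB e w 1 = altSiegel hA hB e (z.1 w) 1 := by
      have := altSiegel_conj hA hB (e := e) (u := w) 1 z
      rw [hze, ← h1, mul_inv_cancel_right] at this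
      exact this
    have h3 := congrArg (fun f : formIsoms B => f.1 x₀) h2
    simp only [altSiegel_apply hA hB hew, altSiegel_apply hA hB hew', hx₀, one_mul, one_smul] at h3
    have h4 : z.1 w - w = (-B x₀ (z.1 w - w)) • e := by
      rw [map_sub, neg_sub, sub_smul]
      linear_combination (norm := module) -h3
    refine ⟨h4, ?_⟩
    have h5 := congrArg (B x₀) h4
    rw [map_smul, smul_eq_mul, hx₀, mul_one] at h5
    linear_combination h5
  by_cases h2 : (2 : F) = 0
  swap
  · refine eq_altTv_of_fix_perp hA hB he fun w hw => ?_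
    obtain ⟨h4, h5⟩ := key w hw
    rw [(mul_eq_zero.1 h5).resolve_left h2, neg_zero, zero_smul, sub_eq_zero] at h4
    exact h4
  let φ : V →ₗ[F] F := -((B x₀).comp ((z.1 : V →ₗ[F] V) - LinearMap.id))
  obtain ⟨u, hu⟩ := exists_form_rep hA hB φ
  have hφ : ∀ w, B w u = -B x₀ (z.1 w - w) := fun w => by rw [hu]; rfl
  have heu : B e u = 0 := by rw [hφ, hze, sub_self, map_zero, neg_zero]
  obtain ⟨c, hc⟩ := eq_altTv_of_fix_perp hA hB he
    (g := (altSiegel hA hB e u 1)⁻¹ * z) fun w hw => by
    rw [Subgroup.coe_mul, LinearEquiv.mul_apply]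
    refine (altSiegel hA hB e u 1).1.symm_apply_eq.2 ?_
    rw [altSiegel_apply hA hB heu, hw, hφ, one_mul, mul_zero, zero_smul, add_zero, ← (key w hw).1,
      add_sub_cancel]
  rw [inv_mul_eq_iff_eq_mul] at hc
  by_cases hue : ∃ a : F, u = a • e
  · obtain ⟨a, rfl⟩ := hue
    refine eq_altTv_of_fix_perp hA hB he fun w hw => ?_
    rw [hc, Subgroup.coe_mul, LinearEquiv.mul_apply, altTv_apply, hw, mul_zero, zero_smul, add_zero,
      altSiegel_apply hA hB heu, hw, map_smul, smul_eq_mul, hw]
    simp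
  · simp only [not_exists] at hue
    exact absurd (hgood.resolve_left (fun h' => h' h2))
      (hc ▸ not_noOrderFour_siegel hA hB h2 he hue heu (h.resolve_left (fun h' => h' h2)) c)

end CfsgLib.KnownC
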