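import Mathlib
import Cfsg.Prelude.Def_LieTypeDatum
import Cfsg.Agent.Lib.KnownC.AutPSLBasic
import Cfsg.Agent.Lib.KnownC.AutPSpAlt
import Cfsg.Agent.Lib.Geom.Symp

set_option autoImplicit false
set_option linter.unusedSectionVars false

/-!
The standard automorphisms of `PSp_{2m}(F)` and the images of the transvections.
-/

namespace CfsgLib.KnownC

open Matrix CfsgLib.Geom CfsgLib.Classical

variable {m : ℕ} {F : Type*} [Field F]

/-- The vectors of `PSp_{2m}`. -/
abbrev SpVec (m : ℕ) (F : Type*) : Type _ := Fin m ⊕ Fin m → F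

theorem sympForm_map (σ : F ≃+* F) (u v : SpVec m F) :
    Cfsg.sympForm m F (fun i => σ (u i)) (fun i => σ (v i)) = σ (Cfsg.sympForm m F u v) := by
  simp [sympForm_eq_sum, map_sum]

theorem sympBilin_map (σ : F ≃+* F) (u v : SpVec m F) :
    sympBilin m F (fun i => σ (u i)) (fun i => σ (v i)) = σ (sympBilin m F u v) := by
  rw [sympBilin_apply, sympBilin_apply, sympForm_map]

theorem map_mulVec' (σ : F ≃+* F) (A : Matrix (Fin m ⊕ Fin m) (Fin m ⊕ Fin m) F) (v : SpVec m F) :
    A.map σ *ᵥ (fun i => σ (v i)) = fun i => σ ((A *ᵥ v) i) :=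
  funext fun i => (RingHom.map_mulVec (σ : F →+* F) A v i).symm

/-- Conjugation by a conformal symplectic matrix, as a function. -/
def spConjFun (g : Cfsg.GSp m F) (s : symplecticGroup (Fin m) F) : symplecticGroup (Fin m) F :=
  ⟨g.1.1 * s.1 * (g.1⁻¹).1, (mem_symplecticGroup_iff_form _).2 fun u v => by
    obtain ⟨c, hc⟩ := g.2
    have h1 := hc ((g.1⁻¹).1 *ᵥ u) ((g.1⁻¹).1 *ᵥ v)
    rw [mulVec_mulVec, mulVec_mulVec, Units.mul_inv, one_mulVec, one_mulVec] at h1
    rw [← mulVec_mulVec, ← mulVec_mulVec, ← mulVec_mulVec, ← mulVec_mulVec, hc,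
      (mem_symplecticGroup_iff_form _).1 s.2, ← h1]⟩

theorem spConjFun_mul (g h : Cfsg.GSp m F) (s : symplecticGroup (Fin m) F) :
    spConjFun (g * h) s = spConjFun g (spConjFun h s) := by
  apply Subtype.ext
  show (g.1 * h.1).1 * s.1 * ((g.1 * h.1)⁻¹).1 =
    g.1.1 * (h.1.1 * s.1 * (h.1⁻¹).1) * (g.1⁻¹).1
  rw [_root_.mul_inv_rev, Units.val_mul, Units.val_mul]
  simp only [mul_assoc]

theorem spConjFun_one (s : symplecticGroup (Fin m) F) : spConjFun 1 s = s :=
  Subtype.ext (by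
    show (1 : GL (Fin m ⊕ Fin m) F).1 * s.1 * ((1 : GL (Fin m ⊕ Fin m) F)⁻¹).1 = s.1
    rw [inv_one, Units.val_one, one_mul, mul_one])

/-- Conjugation by a conformal symplectic matrix. -/
def spConj : Cfsg.GSp m F →* MulAut (symplecticGroup (Fin m) F) where
  toFun g :=
    { toFun := spConjFun g
      invFun := spConjFun g⁻¹
      left_inv := fun s => by rw [← spConjFun_mul, inv_mul_cancel, spConjFun_one]
      right_inv := fun s => by rw [← spConjFun_mul, mul_inv_cancel, spConjFun_one]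
      map_mul' := fun s t => by
        apply Subtype.ext
        show g.1.1 * (s.1 * t.1) * (g.1⁻¹).1 =
          g.1.1 * s.1 * (g.1⁻¹).1 * (g.1.1 * t.1 * (g.1⁻¹).1)
        simp only [mul_assoc]
        rw [← mul_assoc (g.1⁻¹).1 g.1.1, Units.inv_mul, one_mul] }
  map_one' := MulEquiv.ext spConjFun_one
  map_mul' g h := MulEquiv.ext (spConjFun_mul g h)

theorem map_mem_symplecticGroup (σ : F ≃+* F) {A : Matrix (Fin m ⊕ Fin m) (Fin m ⊕ Fin m) F}
    (hA : A ∈ symplecticGroup (Fin m) F) : A.map σ ∈ symplecticGroup (Fin m) F := by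
  refine (mem_symplecticGroup_iff_form _).2 fun u v => ?_
  obtain ⟨u, rfl⟩ : ∃ u' : SpVec m F, u = fun i => σ (u' i) :=
    ⟨fun i => σ.symm (u i), funext fun i => (σ.apply_symm_apply _).symm⟩
  obtain ⟨v, rfl⟩ : ∃ v' : SpVec m F, v = fun i => σ (v' i) :=
    ⟨fun i => σ.symm (v i), funext fun i => (σ.apply_symm_apply _).symm⟩
  rw [map_mulVec', map_mulVec', sympForm_map, sympForm_map, (mem_symplecticGroup_iff_form _).1 hA]

/-- A field automorphism applied to every entry, on `Sp_{2m}`. -/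
def spField : (F ≃+* F) →* MulAut (symplecticGroup (Fin m) F) where
  toFun σ :=
    { toFun := fun s => ⟨s.1.map σ, map_mem_symplecticGroup σ s.2⟩
      invFun := fun s => ⟨s.1.map σ.symm, map_mem_symplecticGroup σ.symm s.2⟩
      left_inv := fun s => Subtype.ext (Matrix.ext fun i j => σ.symm_apply_apply _)
      right_inv := fun s => Subtype.ext (Matrix.ext fun i j => σ.apply_symm_apply _)
      map_mul' := fun s t => Subtype.ext
        (show (s.1 * t.1).map (σ : F →+* F) = s.1.map σ * t.1.map σ from Matrix.map_mul) }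
  map_one' := MulEquiv.ext fun _ => Subtype.ext (Matrix.ext fun _ _ => rfl)
  map_mul' _ _ := MulEquiv.ext fun _ => Subtype.ext (Matrix.ext fun _ _ => rfl)

theorem map_mem_GSp (σ : F ≃+* F) {g : GL (Fin m ⊕ Fin m) F} (hg : g ∈ Cfsg.GSp m F) :
    GeneralLinearGroup.map (σ : F →+* F) g ∈ Cfsg.GSp m F := by
  obtain ⟨c, hc⟩ := hg
  refine ⟨Units.map (σ : F →+* F).toMonoidHom c, fun u v => ?_⟩
  obtain ⟨u, rfl⟩ : ∃ u' : SpVec m F, u = fun i => σ (u' i) :=
    ⟨fun i => σ.symm (u i), funext fun i => (σ.apply_symm_apply _).symm⟩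
  obtain ⟨v, rfl⟩ : ∃ v' : SpVec m F, v = fun i => σ (v' i) :=
    ⟨fun i => σ.symm (v i), funext fun i => (σ.apply_symm_apply _).symm⟩
  show Cfsg.sympForm m F (g.1.map σ *ᵥ _) (g.1.map σ *ᵥ _) = σ (c : F) * _
  rw [map_mulVec', map_mulVec', sympForm_map, sympForm_map, hc, map_mul]

/-- A field automorphism applied to every entry, on `GSp_{2m}`. -/
def gspMap (σ : F ≃+* F) : Cfsg.GSp m F →* Cfsg.GSp m F where
  toFun g := ⟨GeneralLinearGroup.map (σ : F →+* F) g.1, map_mem_GSp σ g.2⟩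
  map_one' := Subtype.ext (map_one _)
  map_mul' g h := Subtype.ext (map_mul _ g.1 h.1)

/-- The automorphism of `PSp_{2m}(F)` induced by `v ↦ g σ(v)`. -/
def spSemiAut (g : Cfsg.GSp m F) (σ : F ≃+* F) : MulAut (Cfsg.PSp m F) :=
  centerQuotAut _ (spConj g * spField σ)

theorem spField_mul_spConj (σ : F ≃+* F) (g : Cfsg.GSp m F) :
    spField σ * spConj g = spConj (gspMap σ g) * spField σ := by
  refine MulEquiv.ext fun s => Subtype.ext ?_
  show (g.1.1 * s.1 * (g.1⁻¹).1).map (σ : F →+* F) =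
    (GeneralLinearGroup.map (σ : F →+* F) g.1).1 * s.1.map (σ : F →+* F) *
      ((GeneralLinearGroup.map (σ : F →+* F) g.1)⁻¹).1
  rw [Matrix.map_mul, Matrix.map_mul, ← map_inv]
  rfl

theorem spSemiAut_mul (g h : Cfsg.GSp m F) (σ τ : F ≃+* F) :
    spSemiAut g σ * spSemiAut h τ = spSemiAut (g * gspMap σ h) (σ * τ) := by
  rw [spSemiAut, spSemiAut, spSemiAut, ← map_mul, mul_assoc (spConj g), ← mul_assoc (spField σ),
    spField_mul_spConj, map_mul spConj, map_mul spField]
  simp only [mul_assoc]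

theorem spSemiAut_one : spSemiAut (1 : Cfsg.GSp m F) (RingEquiv.refl F) = 1 := by
  rw [spSemiAut, map_one, show spField (RingEquiv.refl F) = 1 from map_one spField, one_mul, map_one]

theorem spSemiAut_mk (g : Cfsg.GSp m F) (σ : F ≃+* F) (s : symplecticGroup (Fin m) F) :
    spSemiAut g σ (QuotientGroup.mk s) = QuotientGroup.mk (spConj g (spField σ s)) :=
  rfl

theorem isInducedBySemilinearPSp_iff {g : GL (Fin m ⊕ Fin m) F} (hg : g ∈ Cfsg.GSp m F)
    (σ : F ≃+* F) (β : Cfsg.PSp m F ≃* Cfsg.PSp m F) :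
    Cfsg.IsInducedBySemilinearPSp g σ β ↔ β = spSemiAut ⟨g, hg⟩ σ := by
  constructor
  · intro h
    refine MulEquiv.ext fun x => ?_
    obtain ⟨s, rfl⟩ := QuotientGroup.mk_surjective x
    exact h s _ rfl
  · rintro rfl s s' hs'
    rw [spSemiAut_mk]
    exact congrArg _ (Subtype.ext hs'.symm)

theorem isStdFieldAutPSp_iff (σ : F ≃+* F) (β : Cfsg.PSp m F ≃* Cfsg.PSp m F) :
    Cfsg.IsStdFieldAutPSp σ β ↔ β = spSemiAut 1 σ := by
  have h := isInducedBySemilinearPSp_iff (one_mem (Cfsg.GSp m F)) σ β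
  rw [show (⟨1, one_mem _⟩ : Cfsg.GSp m F) = 1 from rfl] at h
  rw [← h]
  simp [Cfsg.IsStdFieldAutPSp, Cfsg.IsInducedBySemilinearPSp]

theorem isInnerDiagonalAutPSp_iff (β : Cfsg.PSp m F ≃* Cfsg.PSp m F) :
    Cfsg.IsInnerDiagonalAutPSp β ↔ ∃ g, β = spSemiAut g (RingEquiv.refl F) := by
  constructor
  · rintro ⟨g, hg, h⟩
    exact ⟨⟨g, hg⟩, (isInducedBySemilinearPSp_iff hg _ _).1 h⟩
  · rintro ⟨⟨g, hg⟩, h⟩
    exact ⟨g, hg, (isInducedBySemilinearPSp_iff hg _ _).2 h⟩

/-- The inner-diagonal automorphisms form the image of `GSp_{2m}`. -/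
def spInndiagHom : Cfsg.GSp m F →* MulAut (Cfsg.PSp m F) where
  toFun g := spSemiAut g (RingEquiv.refl F)
  map_one' := spSemiAut_one
  map_mul' g h := by
    rw [spSemiAut_mul]
    congr 1

theorem inndiagPSp_eq_range : Cfsg.inndiagPSp m F = (spInndiagHom (m := m) (F := F)).range := by
  rw [Cfsg.inndiagPSp, Cfsg.autSubgroupOf]
  refine le_antisymm ((Subgroup.closure_le _).2 ?_) ?_
  · intro β hβ
    obtain ⟨g, hg⟩ := (isInnerDiagonalAutPSp_iff β).1 hβ
    exact ⟨g, hg.symm⟩
  · rintro _ ⟨g, rfl⟩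
    exact Subgroup.subset_closure ((isInnerDiagonalAutPSp_iff _).2 ⟨g, rfl⟩)

/-- A transvection of `Sp_{2m}`. -/
noncomputable abbrev spTr (v : SpVec m F) (c : F) : formIsoms (sympBilin m F) :=
  altTv (sympBilin_self (m := m) (F := F)) sympBilin_sep v c

/-- From isometries of the symplectic form onto `PSp`. -/
noncomputable def toPSp : formIsoms (sympBilin m F) →* Cfsg.PSp m F :=
  (QuotientGroup.mk' _).comp (spEquiv m F).toMonoidHom

theorem toPSp_surjective : Function.Surjective (toPSp (m := m) (F := F)) :=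
  (QuotientGroup.mk'_surjective _).comp (spEquiv m F).surjective

theorem toPSp_ker_commute {k : formIsoms (sympBilin m F)} (hk : toPSp k = 1)
    (g : formIsoms (sympBilin m F)) : g * k = k * g := by
  have h : spEquiv m F k ∈ Subgroup.center (symplecticGroup (Fin m) F) :=
    (QuotientGroup.eq_one_iff _).1 hk
  apply (spEquiv m F).injective
  rw [map_mul, map_mul]
  exact Subgroup.mem_center_iff.1 h _

theorem toPSp_eq_one_apply {k : formIsoms (sympBilin m F)} (hk : toPSp k = 1) (v : SpVec m F) :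
    ∃ a : F, k.1 v = a • v ∧ (v ≠ 0 → a * a = 1) := by
  by_cases hv : v = 0
  · exact ⟨1, by simp [hv], fun h => absurd hv h⟩
  obtain ⟨x, hx⟩ := exists_pairing_one (sympBilin_self (m := m) (F := F)) sympBilin_sep
    (e := k.1 v) (fun h => hv (k.1.injective (h.trans (map_zero k.1).symm)))
  have h1 := altTv_conj (sympBilin_self (m := m) (F := F)) sympBilin_sep k v 1
  rw [← toPSp_ker_commute hk, mul_inv_cancel_right] at h1
  have h2 := congrArg (fun f : formIsoms (sympBilin m F) => f.1 x) h1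
  simp only [altTv_apply, add_right_inj, one_mul, hx, one_smul] at h2
  refine ⟨sympBilin m F x v, h2.symm, fun _ => ?_⟩
  have h3 := congrArg (sympBilin m F x) h2
  rw [map_smul, smul_eq_mul, hx] at h3
  exact h3

theorem toPSp_ker_sq {k : formIsoms (sympBilin m F)} (hk : toPSp k = 1) : k * k = 1 := by
  refine formIsoms_ext fun v => ?_
  obtain ⟨a, ha, ha1⟩ := toPSp_eq_one_apply hk v
  by_cases hv : v = 0
  · simp [hv]
  rw [Subgroup.coe_mul, LinearEquiv.mul_apply, ha, map_smul, ha, smul_smul, ha1 hv, one_smul]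
  rfl

theorem eq_one_of_toPSp_of_fix {k : formIsoms (sympBilin m F)} (hk : toPSp k = 1) {x : SpVec m F}
    (hx : x ≠ 0) (hkx : k.1 x = x) : k = 1 := by
  refine formIsoms_ext fun y => ?_
  show k.1 y = y
  obtain ⟨a, ha, -⟩ := toPSp_eq_one_apply hk y
  by_cases hxy : ∃ b : F, y = b • x
  · obtain ⟨b, rfl⟩ := hxy
    rw [map_smul, hkx]
  obtain ⟨b, hb, -⟩ := toPSp_eq_one_apply hk (x + y)
  rw [map_add, hkx, ha, smul_add] at hb
  by_cases hab : a = b
  · subst hab
    rw [add_left_inj] at hb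
    rw [ha]
    have : (a - 1) • x = 0 := by rw [sub_smul, one_smul, sub_eq_zero]; exact hb.symm
    rw [sub_eq_zero.1 ((smul_eq_zero.1 this).resolve_right hx), one_smul]
  · refine absurd ⟨(a - b)⁻¹ * (b - 1), ?_⟩ hxy
    have : (a - b) • y = (b - 1) • x := by
      linear_combination (norm := module) hb
    rw [mul_smul, ← this, inv_smul_smul₀ (sub_ne_zero.2 hab)]

theorem exists_perp_both (hm : 2 ≤ m) (v w : SpVec m F) :
    ∃ x, x ≠ 0 ∧ sympBilin m F x v = 0 ∧ sympBilin m F x w = 0 := by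
  let L : SpVec m F →ₗ[F] F × F := ((sympBilin m F).flip v).prod ((sympBilin m F).flip w)
  have h := L.finrank_range_add_finrank_ker
  have h1 := Submodule.finrank_le (LinearMap.range L)
  rw [Module.finrank_prod, Module.finrank_self] at h1
  rw [Module.finrank_fintype_fun_eq_card, Fintype.card_sum, Fintype.card_fin] at h
  obtain ⟨x, hx, hx0⟩ := Submodule.exists_mem_ne_zero_of_ne_bot (p := LinearMap.ker L)
    (fun hbot => by rw [hbot, finrank_bot] at h; omega)
  have hx' := LinearMap.mem_ker.1 hx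
  exact ⟨x, hx0, congrArg Prod.fst hx', congrArg Prod.snd hx'⟩

theorem toPSp_spTr_inj (hm : 2 ≤ m) {v w : SpVec m F} {c d : F} (hc : c ≠ 0) (hv : v ≠ 0)
    (h : toPSp (spTr v c) = toPSp (spTr w d)) : ∃ a : F, v = a • w := by
  obtain ⟨x, hx, hxv, hxw⟩ := exists_perp_both hm v w
  have hk : (spTr w d)⁻¹ * spTr v c = 1 := by
    refine eq_one_of_toPSp_of_fix (by rw [map_mul, map_inv, h, inv_mul_cancel]) hx ?_
    rw [Subgroup.coe_mul, LinearEquiv.mul_apply, altTv_apply, hxv, mul_zero, zero_smul, add_zero]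
    refine (spTr w d).1.symm_apply_eq.2 ?_
    rw [altTv_apply, hxw, mul_zero, zero_smul, add_zero]
  obtain ⟨y, hy⟩ := exists_pairing_one (sympBilin_self (m := m) (F := F)) sympBilin_sep hv
  have h2 := congrArg (fun f : formIsoms (sympBilin m F) => f.1 y) (inv_mul_eq_one.1 hk)
  simp only [altTv_apply, add_right_inj, hy, mul_one] at h2
  exact ⟨c⁻¹ * (d * sympBilin m F y w), by rw [mul_smul, h2, inv_smul_smul₀ hc]⟩

theorem toPSp_spTr_commute_iff (hm : 2 ≤ m) (v w : SpVec m F) {c d : F} (hc : c ≠ 0)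
    (hd : d ≠ 0) : Commute (toPSp (spTr v c)) (toPSp (spTr w d)) ↔ sympBilin m F v w = 0 := by
  constructor
  · intro h
    by_contra hvw
    obtain ⟨x, hx, hxv, hxw⟩ := exists_perp_both hm v w
    have hfix : ∀ (u : SpVec m F) (e : F), sympBilin m F x u = 0 → (spTr u e).1 x = x := fun u e hu => by
      rw [altTv_apply, hu, mul_zero, zero_smul, add_zero]
    have hk : spTr v c * spTr w d * (spTr v c)⁻¹ * (spTr w d)⁻¹ = 1 := by
      refine eq_one_of_toPSp_of_fix ?_ hx ?_
      · rw [map_mul, map_mul, map_mul, map_inv, map_inv, h.eq]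
        group
      · simp only [Subgroup.coe_mul, LinearEquiv.mul_apply]
        rw [show ((spTr w d)⁻¹).1 x = x from (spTr w d).1.symm_apply_eq.2 (hfix w d hxw).symm,
          show ((spTr v c)⁻¹).1 x = x from (spTr v c).1.symm_apply_eq.2 (hfix v c hxv).symm,
          hfix w d hxw, hfix v c hxv]
    rw [altTv_conj, mul_inv_eq_one] at hk
    obtain ⟨a, ha⟩ := toPSp_spTr_inj hm hd
      (fun h0 => hvw (by
        have : w = 0 := (spTr v c).1.injective (h0.trans (map_zero _).symm)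
        rw [this, map_zero])) (congrArg toPSp hk)
    rw [altTv_apply] at ha
    have h1 := congrArg (sympBilin m F w) ha
    rw [map_add, map_smul, map_smul, sympBilin_self, smul_eq_mul, smul_eq_mul, mul_zero, zero_add,
      mul_assoc] at h1
    exact hvw (by rw [sympBilin_swap w v,
      mul_self_eq_zero.1 ((mul_eq_zero.1 h1).resolve_left hc), neg_zero])
  · intro h
    refine Commute.map (formIsoms_ext fun x => ?_) _
    simp only [Subgroup.coe_mul, LinearEquiv.mul_apply, altTv_apply, map_add, map_smul,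
      LinearMap.add_apply, LinearMap.smul_apply, h, sympBilin_swap v w, smul_eq_mul]
    module

theorem spEquiv_spTr_mulVec (v : SpVec m F) (c : F) (x : SpVec m F) :
    (spEquiv m F (spTr v c)).1 *ᵥ x = x + (c * sympBilin m F x v) • v := by
  rw [spEquiv_mulVec, altTv_apply]

/-- The image of a transvection under a semilinear automorphism. -/
theorem spSemiAut_toPSp_spTr (g : Cfsg.GSp m F) (σ : F ≃+* F) (v : SpVec m F) (c : F) :
    ∃ d : F, (c ≠ 0 → d ≠ 0) ∧
      spSemiAut g σ (toPSp (spTr v c)) = toPSp (spTr (g.1.1 *ᵥ fun i => σ (v i)) d) := by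
  obtain ⟨μ, hμ⟩ := g.2
  refine ⟨σ c * (μ : F)⁻¹, fun hc => mul_ne_zero ((map_ne_zero σ).2 hc) (inv_ne_zero μ.ne_zero), ?_⟩
  refine congrArg QuotientGroup.mk (Subtype.ext (Matrix.ext_iff_mulVec.2 fun x => ?_))
  obtain ⟨y, rfl⟩ : ∃ y : SpVec m F, x = g.1.1 *ᵥ fun i => σ (y i) := by
    refine ⟨fun i => σ.symm (((g.1⁻¹).1 *ᵥ x) i), ?_⟩
    simp only [RingEquiv.apply_symm_apply]
    rw [mulVec_mulVec, Units.mul_inv, one_mulVec]
  show (g.1.1 * (spEquiv m F (spTr v c)).1.map σ * (g.1⁻¹).1) *ᵥ _ = (spEquiv m F _).1 *ᵥ _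
  rw [← mulVec_mulVec, ← mulVec_mulVec, mulVec_mulVec _ (g.1⁻¹).1, Units.inv_mul, one_mulVec,
    map_mulVec', spEquiv_spTr_mulVec, spEquiv_spTr_mulVec, sympBilin_apply (g.1.1 *ᵥ _), hμ,
    sympForm_map, ← sympBilin_apply, ← mulVec_smul, ← mulVec_add]
  refine congrArg _ (funext fun i => ?_)
  simp only [Pi.add_apply, Pi.smul_apply, smul_eq_mul, map_add, map_mul]
  field_simp [μ.ne_zero]

theorem eq_scalar_of_fix_lines {κ : Type*} [Fintype κ] [DecidableEq κ] [Nontrivial κ] (g : GL κ F)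
    (σ : F ≃+* F) (h : ∀ v : κ → F, v ≠ 0 → ∃ a : F, (g.1 *ᵥ fun i => σ (v i)) = a • v) :
    σ = RingEquiv.refl F ∧ ∃ c : Fˣ, g.1 = (c : F) • 1 := by
  have hne : ∀ i : κ, (Pi.single i 1 : κ → F) ≠ 0 := fun i hi => by simpa using congrFun hi i
  have hsσ : ∀ (i : κ) (x : F), (fun k => σ ((Pi.single i x : κ → F) k)) = Pi.single i (σ x) :=
    fun i x => funext fun k => by by_cases hk : k = i <;> simp [Pi.single_apply, hk]
  choose a ha using fun i => h _ (hne i)
  simp only [hsσ, map_one] at ha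
  have hent : ∀ i j, g.1 i j = if i = j then a j else 0 := fun i j => by
    have := congrFun (ha j) i
    simpa [Pi.single_apply] using this
  have hkey : ∀ i j (x : F), i ≠ j → a i = a j * σ x * x⁻¹ ∨ x = 0 := by
    intro i j x hij
    by_cases hx : x = 0
    · exact Or.inr hx
    left
    obtain ⟨b, hb⟩ := h (Pi.single i 1 + Pi.single j x)
      (fun h0 => by simpa [Pi.single_apply, hij] using congrFun h0 i)
    have hσv : (fun k => σ ((Pi.single i 1 + Pi.single j x : κ → F) k)) =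
        Pi.single i 1 + Pi.single j (σ x) := funext fun k => by
      have h1 := congrFun (hsσ i 1) k
      have h2 := congrFun (hsσ j x) k
      simp [map_add, h1, h2]
    rw [hσv, mulVec_add] at hb
    have h1 := congrFun hb i
    have h2 := congrFun hb j
    simp [Pi.single_apply, hent, hij, Ne.symm hij] at h1 h2
    rw [h1, mul_comm (a j), h2]
    field_simp
  obtain ⟨i0, j0, hij0⟩ := exists_pair_ne κ
  have heq : ∀ i, a i = a i0 := fun i => by
    by_cases hi : i = i0
    · rw [hi]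
    · simpa using (hkey i i0 1 hi).resolve_right one_ne_zero
  have ha0 : a i0 ≠ 0 := fun h0 => g.isUnit.ne_zero (Matrix.ext fun i j => by
    rw [hent, heq, h0]; simp)
  refine ⟨RingEquiv.ext fun x => ?_, Units.mk0 (a i0) ha0, Matrix.ext fun i j => ?_⟩
  · by_cases hx : x = 0
    · simp [hx]
    have := (hkey i0 j0 x hij0).resolve_right hx
    rw [heq j0] at this
    show σ x = x
    field_simp at this
    exact (this : _).symm
  · rw [hent, heq, Matrix.smul_apply, Matrix.one_apply, Units.val_mk0]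
    split <;> simp

end CfsgLib.KnownC
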