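import Mathlib
import Cfsg.Agent.Lib.KnownC.AutPSpBasic
import Cfsg.Agent.Lib.KnownC.Collineation

set_option autoImplicit false
set_option linter.unusedSectionVars false

/-!
The automorphism group of `PSp_{2m}(q)`, outside `m = 2`, `q` even: every automorphism is semilinear.
-/

namespace CfsgLib.KnownC

open Matrix CfsgLib.Geom CfsgLib.Classical
open scoped LinearAlgebra.Projectivization

variable {m : ℕ} {F : Type*} [Field F]

theorem spTr_zero (v : SpVec m F) : spTr v (0 : F) = 1 := altTv_zero _ _ v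

theorem spTr_smul (v : SpVec m F) (s c : F) : spTr (s • v) c = spTr v (s ^ 2 * c) :=
  altTv_smul _ _ v s c

theorem spTr_conj (g : formIsoms (sympBilin m F)) (v : SpVec m F) (c : F) :
    g * spTr v c * g⁻¹ = spTr (g.1 v) c := altTv_conj _ _ g v c

theorem finrank_spVec (m : ℕ) (F : Type*) [Field F] :
    Module.finrank F (SpVec m F) = 2 * m := by
  rw [Module.finrank_fintype_fun_eq_card, Fintype.card_sum, Fintype.card_fin]; ring

theorem toPSp_injective_of_two (h2 : (2 : F) = 0) : Function.Injective (toPSp (m := m) (F := F)) := by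
  refine (injective_iff_map_eq_one _).2 fun k hk => formIsoms_ext fun v => ?_
  obtain ⟨a, ha, ha1⟩ := toPSp_eq_one_apply hk v
  by_cases hv : v = 0
  · simp [hv]
  have h0 : (a - 1) * (a - 1) = 0 := by linear_combination (ha1 hv) - (a - 1) * h2
  rw [ha, sub_eq_zero.1 (mul_self_eq_zero.1 h0), one_smul]
  rfl

/-- An automorphism sends a transvection group to central elements of a Sylow subgroup, none of whose
products with conjugates have order four. -/
theorem exists_central_image [Finite F] (β : MulAut (Cfsg.PSp m F)) {v : SpVec m F}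
    (hv : v ≠ 0) : ∃ (p : ℕ) (_ : Fact p.Prime) (_ : CharP F p) (w : SpVec m F)
      (Q : Sylow p (formIsoms (sympBilin m F))), w ≠ 0 ∧ (∀ g ∈ Q, g.1 w = w) ∧ ∀ c, ∃ y ∈ Q,
        (∀ g ∈ Q, g * y = y * g) ∧ ((2 : F) ≠ 0 ∨ NoOrderFour y) ∧
          β (toPSp (spTr v c)) = toPSp y := by
  obtain ⟨p, hp⟩ := CharP.exists F
  haveI : Fact p.Prime := ⟨(CharP.char_is_prime_or_zero F p).resolve_right (CharP.char_ne_zero_of_finite F p)⟩
  haveI : Nontrivial (SpVec m F) := ⟨v, 0, hv⟩
  haveI : Finite (SpVec m F ≃ₗ[F] SpVec m F) :=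
    Finite.of_injective (fun e : SpVec m F ≃ₗ[F] SpVec m F => (e : SpVec m F → SpVec m F))
      DFunLike.coe_injective
  haveI : Finite (Cfsg.PSp m F) := Finite.of_surjective _ toPSp_surjective
  obtain ⟨P, hP⟩ := exists_sylow_fixing (sympBilin_self (m := m) (F := F)) sympBilin_sep (p := p) hv
  obtain ⟨Q, hQ⟩ := Sylow.mapSurjective_surjective (toPSp_surjective (m := m) (F := F)) p
    ((P.mapSurjective toPSp_surjective).mapSurjective (f := β.toMonoidHom) β.surjective)
  have hQ' : (Q : Subgroup _).map toPSp = ((P : Subgroup _).map toPSp).map β.toMonoidHom :=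
    congrArg Sylow.toSubgroup hQ
  obtain ⟨w, hw, hQw⟩ := exists_fixed_vector (sympBilin_self (m := m) (F := F)) sympBilin_sep Q
  refine ⟨p, inferInstance, hp, w, Q, hw, hQw, fun c => ?_⟩
  obtain ⟨htP, htc⟩ := altTv_central (sympBilin_self (m := m) (F := F)) sympBilin_sep hv P hP c
  obtain ⟨y, hy, hyx⟩ : β (toPSp (spTr v c)) ∈ (Q : Subgroup _).map toPSp := by
    rw [hQ']; exact ⟨_, ⟨_, htP, rfl⟩, rfl⟩
  have hyc : ∀ g ∈ Q, g * y = y * g := by
    intro g hg
    obtain ⟨_, ⟨g₀, hg₀, rfl⟩, he⟩ : toPSp g ∈ ((P : Subgroup _).map toPSp).map β.toMonoidHom := by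
      rw [← hQ']; exact ⟨g, hg, rfl⟩
    have hker : toPSp (g * y * (y * g)⁻¹) = 1 := by
      rw [map_mul, map_mul, map_inv, map_mul, hyx, ← he, MulEquiv.coe_toMonoidHom, ← map_mul β,
        ← map_mul β, ← map_mul toPSp, ← map_mul toPSp, htc g₀ hg₀, mul_inv_cancel]
    exact mul_inv_eq_one.1 (eq_one_of_toPSp_of_fix hker hw
      (hQw _ (mul_mem (mul_mem hg hy) (inv_mem (mul_mem hy hg)))))
  refine ⟨y, hy, hyc, ?_, hyx.symm⟩
  by_cases h2 : (2 : F) = 0
  swap
  · exact Or.inl h2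
  right
  intro g hg
  obtain ⟨k, hk⟩ := toPSp_surjective (β.symm (toPSp g))
  have hkg : β (toPSp k) = toPSp g := by rw [hk, MulEquiv.apply_symm_apply]
  have key : ∀ n : ℕ, toPSp ((y * (g * y * g⁻¹)) ^ n) =
      β (toPSp ((spTr v c * (k * spTr v c * k⁻¹)) ^ n)) := fun n => by
    simp only [map_pow, map_mul, map_inv, hkg, hyx]
  have h4 : (spTr v c * (k * spTr v c * k⁻¹)) ^ 4 = 1 := by
    refine toPSp_injective_of_two h2 (β.injective ?_)
    rw [← key 4, hg, map_one, map_one]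
  refine toPSp_injective_of_two h2 ?_
  rw [key 2, altTv_noOrderFour (sympBilin_self (m := m) (F := F)) sympBilin_sep h2 v c k h4,
    map_one, map_one]

/-- An automorphism sends each transvection group into a transvection group. -/
theorem exists_spTr_image [Finite F] (hm : 2 ≤ m) (h : (2 : F) ≠ 0 ∨ 3 ≤ m)
    (β : MulAut (Cfsg.PSp m F)) {v : SpVec m F} (hv : v ≠ 0) :
    ∃ w : SpVec m F, w ≠ 0 ∧ ∀ c, ∃ d, β (toPSp (spTr v c)) = toPSp (spTr w d) := by
  obtain ⟨p, _, _, w, Q, hw, hQw, hQ⟩ := exists_central_image β hv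
  refine ⟨w, hw, fun c => ?_⟩
  obtain ⟨y, hy, hyc, hgood, hyx⟩ := hQ c
  haveI : Finite (SpVec m F ≃ₗ[F] SpVec m F) :=
    Finite.of_injective (fun e : SpVec m F ≃ₗ[F] SpVec m F => (e : SpVec m F → SpVec m F))
      DFunLike.coe_injective
  obtain ⟨d, hd⟩ := central_eq_altTv (sympBilin_self (m := m) (F := F)) sympBilin_sep hw Q hQw
    (h.imp id fun h3 => by rw [finrank_spVec]; omega) hy hyc hgood
  exact ⟨d, by rw [hyx, hd]⟩

theorem toPSp_spTr_ne_one (hm : 2 ≤ m) {v : SpVec m F} {c : F} (hc : c ≠ 0) (hv : v ≠ 0) :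
    toPSp (spTr v c) ≠ 1 := by
  intro h1
  obtain ⟨a, ha⟩ := toPSp_spTr_inj hm (w := 0) (d := 0) hc hv
    (by rw [h1, spTr_zero, map_one])
  exact hv (by rw [ha, smul_zero])

theorem exists_scalar_of_fix_lines {κ : Type*} (k : (κ → F) →ₗ[F] (κ → F))
    (h : ∀ x, ∃ a : F, k x = a • x) : ∃ a : F, ∀ x, k x = a • x := by
  by_cases hall : ∀ x : κ → F, x = 0
  · exact ⟨0, fun x => by rw [hall x, map_zero, smul_zero]⟩
  simp only [not_forall] at hall
  obtain ⟨x₀, hx₀⟩ := hall
  obtain ⟨a, ha⟩ := h x₀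
  refine ⟨a, fun y => ?_⟩
  obtain ⟨b, hb⟩ := h y
  by_cases hy : ∃ t : F, y = t • x₀
  · obtain ⟨t, rfl⟩ := hy
    rw [map_smul, ha, smul_comm]
  obtain ⟨c, hc⟩ := h (x₀ + y)
  rw [map_add, ha, hb] at hc
  by_cases hbc : b = c
  · subst hbc
    have : (a - b) • x₀ = 0 := by linear_combination (norm := module) hc
    rw [hb, sub_eq_zero.1 ((smul_eq_zero.1 this).resolve_right hx₀)]
  · refine absurd ⟨(b - c)⁻¹ * (c - a), ?_⟩ hy
    have : (b - c) • y = (c - a) • x₀ := by linear_combination (norm := module) hc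
    rw [mul_smul, ← this, inv_smul_smul₀ (sub_ne_zero.2 hbc)]

/-- An automorphism fixing every transvection group is trivial. -/
theorem eq_one_of_fix_spTr (hm : 2 ≤ m) (β : MulAut (Cfsg.PSp m F))
    (hβ : ∀ v : SpVec m F, v ≠ 0 → ∃ d, β (toPSp (spTr v 1)) = toPSp (spTr v d)) : β = 1 := by
  refine MulEquiv.ext fun s => ?_
  obtain ⟨g, rfl⟩ := toPSp_surjective s
  obtain ⟨g', hg'⟩ := toPSp_surjective (β (toPSp g))
  rw [MulAut.one_apply, ← hg']
  have hpar : ∀ v : SpVec m F, ∃ a : F, g'.1 v = a • g.1 v := by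
    intro v
    by_cases hv : v = 0
    · exact ⟨0, by simp [hv]⟩
    have hgv : g.1 v ≠ 0 := fun h => hv (g.1.injective (h.trans (map_zero g.1).symm))
    obtain ⟨d, hd⟩ := hβ v hv
    obtain ⟨d', hd'⟩ := hβ (g.1 v) hgv
    have hd0 : d ≠ 0 := by
      rintro rfl
      rw [spTr_zero, map_one, map_eq_one_iff β β.injective] at hd
      exact toPSp_spTr_ne_one hm one_ne_zero hv hd
    have h1 : toPSp (spTr (g'.1 v) d) = toPSp (spTr (g.1 v) d') := by
      rw [← hd', ← spTr_conj, ← spTr_conj, map_mul, map_mul, map_mul, map_mul,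
        map_mul, map_mul, map_inv, map_inv, map_inv, hg', hd]
    exact toPSp_spTr_inj hm hd0 (fun h => hv (g'.1.injective (h.trans (map_zero g'.1).symm))) h1
  obtain ⟨a, ha⟩ := exists_scalar_of_fix_lines ((g⁻¹ * g').1 : SpVec m F →ₗ[F] SpVec m F) fun x => by
    obtain ⟨a, ha⟩ := hpar x
    refine ⟨a, ?_⟩
    show (g⁻¹ * g').1 x = a • x
    rw [Subgroup.coe_mul, LinearEquiv.mul_apply, ha, map_smul]
    exact congrArg _ (g.1.symm_apply_apply x)
  have hker : toPSp (g⁻¹ * g') = 1 := by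
    refine (QuotientGroup.eq_one_iff _).2 (Subgroup.mem_center_iff.2 fun y => ?_)
    obtain ⟨z, rfl⟩ := (spEquiv m F).surjective y
    show spEquiv m F z * spEquiv m F (g⁻¹ * g') = spEquiv m F (g⁻¹ * g') * spEquiv m F z
    rw [← map_mul, ← map_mul]
    refine congrArg _ (formIsoms_ext fun x => ?_)
    show z.1 ((g⁻¹ * g').1 x) = (g⁻¹ * g').1 (z.1 x)
    rw [show (g⁻¹ * g').1 x = a • x from ha x, show (g⁻¹ * g').1 (z.1 x) = a • z.1 x from ha _,
      map_smul]
  rw [map_mul, map_inv, inv_mul_eq_one] at hker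
  exact hker.symm

theorem spSemiAut_inv (g : Cfsg.GSp m F) (σ : F ≃+* F) :
    (spSemiAut g σ)⁻¹ = spSemiAut (gspMap σ.symm g⁻¹) σ.symm := by
  refine inv_eq_of_mul_eq_one_right ?_
  rw [spSemiAut_mul, ← spSemiAut_one]
  congr 1
  · refine Subtype.ext (Units.ext ?_)
    show g.1.1 * ((g.1⁻¹).1.map σ.symm).map σ = 1
    rw [Matrix.map_map, show (σ ∘ σ.symm : F → F) = id from funext σ.apply_symm_apply, Matrix.map_id,
      Units.mul_inv]
  · exact RingEquiv.ext σ.apply_symm_apply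

/-- A linear map preserving orthogonality is a similitude. -/
theorem exists_smul_of_perp_preserving (B' : SpVec m F →ₗ[F] SpVec m F →ₗ[F] F) (hm : 1 ≤ m)
    (h : ∀ u v, sympBilin m F u v = 0 → B' u v = 0) :
    ∃ c : F, ∀ u v, B' u v = c * sympBilin m F u v := by
  have hne : (Pi.single (Sum.inl ⟨0, hm⟩) 1 : SpVec m F) ≠ 0 := fun h0 => by
    simpa using congrFun h0 (Sum.inl ⟨0, hm⟩)
  obtain ⟨u₀, hu₀⟩ := exists_pairing_one (sympBilin_self (m := m) (F := F)) sympBilin_sep hne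
  set v₀ : SpVec m F := Pi.single (Sum.inl ⟨0, hm⟩) 1
  refine ⟨B' u₀ v₀, ?_⟩
  have row : ∀ u v w, B' u v * sympBilin m F u w = B' u w * sympBilin m F u v := by
    intro u v w
    have := h u (sympBilin m F u w • v - sympBilin m F u v • w) (by
      rw [map_sub, map_smul, map_smul, smul_eq_mul, smul_eq_mul]; ring)
    rw [map_sub, map_smul, map_smul, smul_eq_mul, smul_eq_mul] at this
    linear_combination this
  have col : ∀ u w v, B' u v * sympBilin m F w v = B' w v * sympBilin m F u v := by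
    intro u w v
    have := h (sympBilin m F w v • u - sympBilin m F u v • w) v (by
      simp only [map_sub, map_smul, LinearMap.sub_apply, LinearMap.smul_apply, smul_eq_mul]; ring)
    simp only [map_sub, map_smul, LinearMap.sub_apply, LinearMap.smul_apply, smul_eq_mul] at this
    linear_combination this
  have gen : ∀ u, sympBilin m F u v₀ ≠ 0 → ∀ v, B' u v = B' u₀ v₀ * sympBilin m F u v := by
    intro u hu v
    have h1 := row u v v₀
    have h2 := col u u₀ v₀
    rw [hu₀, mul_one] at h2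
    rw [h2] at h1
    refine mul_right_cancel₀ hu ?_
    linear_combination h1
  intro u v
  by_cases hu : sympBilin m F u v₀ = 0
  · have h1 := gen (u + u₀) (by simp [hu, hu₀]) v
    have h2 := gen u₀ (by simp [hu₀]) v
    simp only [map_add, LinearMap.add_apply] at h1
    linear_combination h1 - h2
  · exact gen u hu v

/-- An automorphism preserving transvection groups is semilinear. -/
theorem exists_spSemiAut_of_preserving [Finite F] (hm : 2 ≤ m) (β : MulAut (Cfsg.PSp m F))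
    (hβ : ∀ v : SpVec m F, v ≠ 0 → ∃ w : SpVec m F, w ≠ 0 ∧ ∀ c, ∃ d,
      β (toPSp (spTr v c)) = toPSp (spTr w d))
    (hβ' : ∀ v : SpVec m F, v ≠ 0 → ∃ w : SpVec m F, w ≠ 0 ∧ ∀ c, ∃ d,
      β.symm (toPSp (spTr v c)) = toPSp (spTr w d)) : ∃ g σ, β = spSemiAut g σ := by
  classical
  choose f hf0 hf using fun v : {v : SpVec m F // v ≠ 0} => hβ v.1 v.2
  let π : ℙ F (SpVec m F) → ℙ F (SpVec m F) := fun P =>
    Projectivization.mk F (f ⟨P.rep, P.rep_nonzero⟩) (hf0 _)
  -- the defining property on all representatives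
  have hπ : ∀ v v' : SpVec m F, SendsPt π v v' → ∃ d, d ≠ 0 ∧
      β (toPSp (spTr v 1)) = toPSp (spTr v' d) := by
    rintro v v' ⟨hv, hv', e⟩
    obtain ⟨s, hs⟩ := (Projectivization.mk_eq_mk_iff' F _ _ _ _).1
      (Projectivization.mk_rep (Projectivization.mk F v hv)).symm
    obtain ⟨t, ht⟩ := (Projectivization.mk_eq_mk_iff' F _ _ _ _).1 e
    obtain ⟨d, hd⟩ := hf ⟨_, (Projectivization.mk F v hv).rep_nonzero⟩ (s ^ 2 * 1)
    rw [← spTr_smul, hs, ← ht, spTr_smul] at hd
    refine ⟨_, fun h0 => toPSp_spTr_ne_one hm one_ne_zero hv (β.injective ?_), hd⟩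
    rw [map_one, hd, h0, spTr_zero, map_one]
  have hperp : ∀ u v u' v' : SpVec m F, SendsPt π u u' → SendsPt π v v' →
      (sympBilin m F u v = 0 ↔ sympBilin m F u' v' = 0) := by
    intro u v u' v' hu hv
    obtain ⟨d, hd0, hd⟩ := hπ u u' hu
    obtain ⟨e, he0, he⟩ := hπ v v' hv
    rw [← toPSp_spTr_commute_iff hm u v (c := 1) (d := 1) one_ne_zero one_ne_zero,
      ← toPSp_spTr_commute_iff hm u' v' hd0 he0, ← hd, ← he]
    exact ⟨fun hc => hc.map β.toMonoidHom, fun hc => by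
      simpa using hc.map β.symm.toMonoidHom⟩
  have hinj : Function.Injective π := by
    intro P Q e
    induction P using Projectivization.ind with
    | _ u hu =>
    induction Q using Projectivization.ind with
    | _ v hv =>
    obtain ⟨u', hu'⟩ := exists_sendsPt π hu
    have hv' : SendsPt π v u' := ⟨hv, hu'.2.1, e ▸ hu'.2.2⟩
    obtain ⟨d, hd0, hd⟩ := hπ u u' hu'
    obtain ⟨e', he0, he⟩ := hπ v u' hv'
    obtain ⟨w, hw, hback⟩ := hβ' _ hu'.2.1
    obtain ⟨d1, h1⟩ := hback d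
    obtain ⟨d2, h2⟩ := hback e'
    rw [← hd, MulEquiv.symm_apply_apply] at h1
    rw [← he, MulEquiv.symm_apply_apply] at h2
    obtain ⟨a, ha⟩ := toPSp_spTr_inj hm one_ne_zero hu h1
    obtain ⟨b, hb⟩ := toPSp_spTr_inj hm one_ne_zero hv h2
    have hb0 : b ≠ 0 := fun h0 => hv (by rw [hb, h0, zero_smul])
    exact (Projectivization.mk_eq_mk_iff' F _ _ _ _).2
      ⟨a * b⁻¹, by rw [ha, hb, smul_smul, mul_assoc, inv_mul_cancel₀ hb0, mul_one]⟩
  haveI : Finite (ℙ F (SpVec m F)) := inferInstance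
  have hbij : Function.Bijective π := ⟨hinj, Finite.injective_iff_surjective.1 hinj⟩
  have hBinj : Function.Injective (sympBilin m F) := by
    rw [← LinearMap.ker_eq_bot, Submodule.eq_bot_iff]
    exact fun x hx => sympBilin_sep x fun y => by rw [LinearMap.mem_ker.1 hx]; rfl
  have hlines : PreservesLines π := by
    intro u v w hu hv hw hcomb
    obtain ⟨a, b, rfl⟩ := hcomb
    obtain ⟨u', hu'⟩ := exists_sendsPt π hu
    obtain ⟨v', hv'⟩ := exists_sendsPt π hv
    obtain ⟨w', hw'⟩ := exists_sendsPt π hw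
    have hker : ⨅ i, LinearMap.ker (![sympBilin m F u', sympBilin m F v'] i) ≤
        LinearMap.ker (sympBilin m F w') := by
      intro x hx
      rw [Submodule.mem_iInf] at hx
      by_cases hx0 : x = 0
      · rw [hx0]; exact Submodule.zero_mem _
      obtain ⟨P, hP⟩ := hbij.2 (Projectivization.mk F x hx0)
      induction P using Projectivization.ind with
      | _ x₀ hx₀ =>
      have hxx : SendsPt π x₀ x := ⟨hx₀, hx0, hP⟩
      refine LinearMap.mem_ker.2 ((hperp _ x₀ w' x hw' hxx).1 ?_)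
      rw [map_add, map_smul, map_smul, LinearMap.add_apply, LinearMap.smul_apply,
        LinearMap.smul_apply, (hperp u x₀ u' x hu' hxx).2 (LinearMap.mem_ker.1 (hx 0)),
        (hperp v x₀ v' x hv' hxx).2 (LinearMap.mem_ker.1 (hx 1)), smul_zero, smul_zero, add_zero]
    obtain ⟨c, hc⟩ := Submodule.mem_span_range_iff_exists_fun F |>.1
      (mem_span_of_iInf_ker_le_ker hker)
    rw [Fin.sum_univ_two] at hc
    have hw'' : w' = c 0 • u' + c 1 • v' := hBinj (by rw [map_add, map_smul, map_smul]; exact hc.symm)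
    obtain ⟨_, _, eu⟩ := hu'
    obtain ⟨_, _, ev⟩ := hv'
    obtain ⟨_, _, ew⟩ := hw'
    rw [eu, ev, ew, Projectivization.submodule_mk, Projectivization.submodule_mk,
      Projectivization.submodule_mk, Submodule.span_singleton_le_iff_mem, Submodule.mem_sup]
    exact ⟨c 0 • u', Submodule.smul_mem _ _ (Submodule.mem_span_singleton_self u'), c 1 • v',
      Submodule.smul_mem _ _ (Submodule.mem_span_singleton_self v'), hw''.symm⟩
  obtain ⟨g₀, σ, hσ⟩ := exists_semilinear_of_collineation hbij hlines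
    (by rw [Fintype.card_sum, Fintype.card_fin]; omega)
  have hlin : ∀ u v : SpVec m F, sympBilin m F u v = 0 →
      sympBilin m F (g₀.1 *ᵥ u) (g₀.1 *ᵥ v) = 0 := by
    intro u v huv
    by_cases hu : u = 0
    · simp [hu]
    by_cases hv : v = 0
    · simp [hv]
    obtain ⟨u, rfl⟩ : ∃ u' : SpVec m F, u = fun i => σ (u' i) :=
      ⟨fun i => σ.symm (u i), funext fun i => (σ.apply_symm_apply _).symm⟩
    obtain ⟨v, rfl⟩ : ∃ v' : SpVec m F, v = fun i => σ (v' i) :=
      ⟨fun i => σ.symm (v i), funext fun i => (σ.apply_symm_apply _).symm⟩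
    rw [sympBilin_map] at huv
    refine (hperp u v _ _ (hσ u fun h0 => hu ?_) (hσ v fun h0 => hv ?_)).1
      ((map_eq_zero σ).1 huv)
    · subst h0; funext i; exact map_zero σ
    · subst h0; funext i; exact map_zero σ
  obtain ⟨c, hc⟩ := exists_smul_of_perp_preserving
    ((sympBilin m F).compl₁₂ (Matrix.mulVecLin g₀.1) (Matrix.mulVecLin g₀.1)) (by omega)
    (fun u v huv => hlin u v huv)
  have hg₀ : g₀ ∈ Cfsg.GSp m F := by
    have hc0 : c ≠ 0 := by
      rintro rfl
      have hne : (Pi.single (Sum.inl ⟨0, by omega⟩) 1 : SpVec m F) ≠ 0 := fun h0 => by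
        simpa using congrFun h0 (Sum.inl ⟨0, by omega⟩)
      obtain ⟨x, hx⟩ := exists_pairing_one (sympBilin_self (m := m) (F := F)) sympBilin_sep hne
      have := hc ((g₀⁻¹).1 *ᵥ x) ((g₀⁻¹).1 *ᵥ Pi.single (Sum.inl ⟨0, by omega⟩) 1)
      rw [LinearMap.compl₁₂_apply, mulVecLin_apply, mulVecLin_apply, mulVec_mulVec, mulVec_mulVec,
        Units.mul_inv, one_mulVec, one_mulVec, hx, zero_mul] at this
      exact one_ne_zero this
    refine ⟨Units.mk0 c hc0, fun u v => ?_⟩
    have := hc u v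
    simpa [sympBilin_apply] using this
  refine ⟨⟨g₀, hg₀⟩, σ, ?_⟩
  have key : (spSemiAut ⟨g₀, hg₀⟩ σ)⁻¹ * β = 1 := by
    refine eq_one_of_fix_spTr hm _ fun v hv => ?_
    obtain ⟨d, -, hd⟩ := hπ v _ (hσ v hv)
    rw [MulAut.mul_apply, hd, spSemiAut_inv]
    obtain ⟨d', -, hd'⟩ := spSemiAut_toPSp_spTr (gspMap σ.symm (⟨g₀, hg₀⟩ : Cfsg.GSp m F)⁻¹) σ.symm
      (g₀.1 *ᵥ fun i => σ (v i)) d
    refine ⟨d', hd'.trans ?_⟩
    congr 2
    show (g₀⁻¹).1.map σ.symm *ᵥ (fun i => σ.symm ((g₀.1 *ᵥ fun j => σ (v j)) i)) = v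
    rw [map_mulVec', mulVec_mulVec, Units.inv_mul, one_mulVec]
    exact funext fun i => σ.symm_apply_apply _
  exact (inv_mul_eq_one.1 key).symm

/-- Every automorphism of `PSp_{2m}(q)` is semilinear, outside `m = 2`, `q` even. -/
theorem exists_spSemiAut [Finite F] (hm : 2 ≤ m) (h : (2 : F) ≠ 0 ∨ 3 ≤ m)
    (β : MulAut (Cfsg.PSp m F)) : ∃ g σ, β = spSemiAut g σ :=
  exists_spSemiAut_of_preserving hm β (fun _ hv => exists_spTr_image hm h β hv)
    fun _ hv => exists_spTr_image hm h β.symm hv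

end CfsgLib.KnownC
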