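import Mathlib
import Cfsg.Agent.Lib.KnownC.AutPSpMain
import Cfsg.Agent.Lib.KnownC.FieldUnits
import Cfsg.Agent.Lib.KnownC.SplitClass
import Cfsg.Agent.Lib.Geom.SympSpace

set_option autoImplicit false
set_option linter.unusedSectionVars false

/-!
Field automorphisms of `PSp_{2m}(q)`: conjugacy and centralisers in `Inndiag`.
-/

namespace CfsgLib.KnownC

open Matrix CfsgLib.Geom CfsgLib.Classical

variable {m : ℕ} {F : Type*} [Field F]

theorem gsp_conj_scalar (g : Cfsg.GSp m F) (c : Fˣ)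
    (hg : g.1.1 = (c : F) • 1) : spConj g = 1 := by
  refine MulEquiv.ext fun s => Subtype.ext ?_
  show g.1.1 * s.1 * (g.1⁻¹).1 = s.1
  rw [show g.1.1 * s.1 = s.1 * g.1.1 by rw [hg, smul_mul, one_mul, mul_smul_comm, mul_one],
    mul_assoc, Units.mul_inv, mul_one]

theorem spSemiAut_eq_one_iff (hm : 2 ≤ m) (g : Cfsg.GSp m F) (σ : F ≃+* F) :
    spSemiAut g σ = 1 ↔ σ = RingEquiv.refl F ∧ ∃ c : Fˣ, g.1.1 = (c : F) • 1 := by
  constructor
  · intro h
    haveI : Nontrivial (Fin m ⊕ Fin m) :=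
      ⟨Sum.inl ⟨0, by omega⟩, Sum.inr ⟨0, by omega⟩, Sum.inl_ne_inr⟩
    refine eq_scalar_of_fix_lines g.1 σ fun v hv => ?_
    obtain ⟨d, hd0, hd⟩ := spSemiAut_toPSp_spTr g σ v 1
    rw [h, MulAut.one_apply] at hd
    obtain ⟨a, ha⟩ := toPSp_spTr_inj hm one_ne_zero hv hd
    have ha0 : a ≠ 0 := fun h0 => hv (by rw [ha, h0, zero_smul])
    exact ⟨a⁻¹, by conv_rhs => rw [ha, inv_smul_smul₀ ha0]⟩
  · rintro ⟨rfl, c, hc⟩
    rw [spSemiAut, gsp_conj_scalar g c hc, one_mul, show spField (RingEquiv.refl F) = 1 from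
      map_one spField, map_one]

theorem orderOf_spSemiAut_one (hm : 2 ≤ m) (σ : F ≃+* F) :
    orderOf (spSemiAut (1 : Cfsg.GSp m F) σ) = orderOf σ := by
  have hpow : ∀ k : ℕ, spSemiAut (1 : Cfsg.GSp m F) σ ^ k = spSemiAut 1 (σ ^ k) := by
    intro k
    induction k with
    | zero => rw [pow_zero, pow_zero]; exact spSemiAut_one.symm
    | succ k ih => rw [pow_succ', ih, spSemiAut_mul, map_one, mul_one, pow_succ']
  refine orderOf_eq_orderOf_iff.2 fun k => ?_
  rw [hpow, spSemiAut_eq_one_iff hm]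
  exact ⟨fun h => h.1, fun h => ⟨h, 1, by simp⟩⟩

theorem spInndiagHom_apply (g : Cfsg.GSp m F) :
    spInndiagHom g = spSemiAut g (RingEquiv.refl F) := rfl

theorem spSemiAut_eq_mul (g : Cfsg.GSp m F) (σ : F ≃+* F) :
    spSemiAut g σ = spInndiagHom g * spSemiAut 1 σ := by
  rw [spInndiagHom_apply, spSemiAut_mul, map_one, mul_one]
  rfl

theorem spSemiAut_one_mul_inndiag (σ : F ≃+* F) (h : Cfsg.GSp m F) :
    spSemiAut 1 σ * spInndiagHom h = spInndiagHom (gspMap σ h) * spSemiAut 1 σ := by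
  rw [← spSemiAut_eq_mul, spInndiagHom_apply, spSemiAut_mul, one_mul]
  rfl

theorem spInndiagHom_eq_iff (hm : 2 ≤ m) (g h : Cfsg.GSp m F) :
    spInndiagHom g = spInndiagHom h ↔ ∃ c : Fˣ, g.1.1 = (c : F) • h.1.1 := by
  rw [← inv_mul_eq_one, ← map_inv, ← map_mul, spInndiagHom_apply, spSemiAut_eq_one_iff hm,
    and_iff_right rfl]
  show (∃ c : Fˣ, (g.1⁻¹).1 * h.1.1 = (c : F) • 1) ↔ _
  constructor
  · rintro ⟨c, hc⟩
    refine ⟨c⁻¹, ?_⟩
    have := congrArg (g.1.1 * ·) hc
    simp only [← mul_assoc, Units.mul_inv, one_mul, mul_smul_comm, mul_one] at this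
    rw [this, smul_smul, Units.inv_mul, one_smul]
  · rintro ⟨c, hc⟩
    refine ⟨c⁻¹, ?_⟩
    have h1 : h.1.1 = ((c⁻¹ : Fˣ) : F) • g.1.1 := by rw [hc, smul_smul, Units.inv_mul, one_smul]
    rw [h1, mul_smul_comm, Units.inv_mul]

/-- The multiplier of a similitude. -/
noncomputable def gspMult (g : Cfsg.GSp m F) : Fˣ := Classical.choose g.2

theorem gspMult_spec (g : Cfsg.GSp m F) (u v : SpVec m F) :
    sympBilin m F (g.1.1 *ᵥ u) (g.1.1 *ᵥ v) = (gspMult g : F) * sympBilin m F u v := by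
  rw [sympBilin_apply, sympBilin_apply]
  exact Classical.choose_spec g.2 u v

theorem gspMult_eq (hm : 1 ≤ m) (g : Cfsg.GSp m F) {c : F}
    (h : ∀ u v, sympBilin m F (g.1.1 *ᵥ u) (g.1.1 *ᵥ v) = c * sympBilin m F u v) :
    (gspMult g : F) = c := by
  have hne : (Pi.single (Sum.inl ⟨0, hm⟩) 1 : SpVec m F) ≠ 0 := fun h0 => by
    simpa using congrFun h0 (Sum.inl ⟨0, hm⟩)
  obtain ⟨x, hx⟩ := exists_pairing_one (sympBilin_self (m := m) (F := F)) sympBilin_sep hne
  have := (gspMult_spec g x (Pi.single (Sum.inl ⟨0, hm⟩) 1)).symm.trans (h _ _)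
  rwa [hx, mul_one, mul_one] at this

theorem gspMult_mul (hm : 1 ≤ m) (g h : Cfsg.GSp m F) :
    gspMult (g * h) = gspMult g * gspMult h := by
  refine Units.ext (gspMult_eq hm _ fun u v => ?_)
  show sympBilin m F ((g.1.1 * h.1.1) *ᵥ u) ((g.1.1 * h.1.1) *ᵥ v) = _
  rw [← mulVec_mulVec, ← mulVec_mulVec, gspMult_spec, gspMult_spec, Units.val_mul]
  ring

/-- The multiplier as a homomorphism. -/
noncomputable def gspMultHom (hm : 1 ≤ m) : Cfsg.GSp m F →* Fˣ :=
  MonoidHom.mk' gspMult (gspMult_mul hm)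

/-- Scalar matrices as similitudes. -/
def gspScalar : Fˣ →* Cfsg.GSp m F :=
  (GeneralLinearGroup.scalar (Fin m ⊕ Fin m)).codRestrict _ fun c =>
    ⟨c * c, fun u v => by
      have h : ∀ w : SpVec m F,
          (GeneralLinearGroup.scalar (Fin m ⊕ Fin m) c).1 *ᵥ w = (c : F) • w := fun w => by
        rw [show (GeneralLinearGroup.scalar (Fin m ⊕ Fin m) c).1 = (c : F) • 1 from
          (smul_one_eq_diagonal _).symm, smul_mulVec, one_mulVec]
      rw [h, h, ← sympBilin_apply, ← sympBilin_apply, map_smul, map_smul, LinearMap.smul_apply,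
        smul_eq_mul, smul_eq_mul, Units.val_mul, mul_assoc]⟩

theorem gspScalar_val (c : Fˣ) : (gspScalar (m := m) c).1.1 = (c : F) • 1 :=
  (smul_one_eq_diagonal _).symm

/-- The diagonal similitude with a given multiplier. -/
theorem exists_gspMult_eq (hm : 1 ≤ m) (μ : Fˣ) : ∃ g : Cfsg.GSp m F, gspMult g = μ := by
  let d : Fin m ⊕ Fin m → F := Sum.elim (fun _ => (μ : F)) fun _ => 1
  have hdet : (Matrix.diagonal d).det ≠ 0 := by
    rw [det_diagonal, Finset.prod_ne_zero_iff]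
    rintro (i | i) - <;> simp [d]
  have hgd : ∀ u v, sympBilin m F ((GeneralLinearGroup.mkOfDetNeZero _ hdet).1 *ᵥ u)
      ((GeneralLinearGroup.mkOfDetNeZero _ hdet).1 *ᵥ v) = (μ : F) * sympBilin m F u v := by
    intro u v
    show sympBilin m F (Matrix.diagonal d *ᵥ u) (Matrix.diagonal d *ᵥ v) = _
    rw [sympBilin_apply, sympBilin_apply, sympForm_eq_sum, sympForm_eq_sum, Finset.mul_sum]
    refine Finset.sum_congr rfl fun i _ => ?_
    simp [mulVec_diagonal, d]
    ring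
  refine ⟨⟨GeneralLinearGroup.mkOfDetNeZero _ hdet, μ, fun u v => ?_⟩, Units.ext (gspMult_eq hm _ hgd)⟩
  rw [← sympBilin_apply, ← sympBilin_apply]
  exact hgd u v

/-- The symplectic group inside the similitudes. -/
noncomputable def spToGSp : symplecticGroup (Fin m) F →* Cfsg.GSp m F where
  toFun s := ⟨GeneralLinearGroup.mkOfDetNeZero s.1
      (fun h => by simpa [h] using SymplecticGroup.symplectic_det s.2), 1, fun u v => by
        rw [Units.val_one, one_mul]
        exact (mem_symplecticGroup_iff_form _).1 s.2 u v⟩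
  map_one' := Subtype.ext (Units.ext rfl)
  map_mul' s t := Subtype.ext (Units.ext rfl)

theorem spInndiagHom_spToGSp (s : symplecticGroup (Fin m) F) :
    spInndiagHom (spToGSp s) = MulAut.conj (QuotientGroup.mk s : Cfsg.PSp m F) := by
  rw [spInndiagHom_apply, ← centerQuotAut_conj, spSemiAut,
    show spField (RingEquiv.refl F) = 1 from map_one spField, mul_one]
  congr 1
  refine MulEquiv.ext fun t => Subtype.ext ?_
  show s.1 * t.1 * ((spToGSp s).1⁻¹).1 = s.1 * t.1 * (s⁻¹).1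
  congr 1
  rw [← Subgroup.coe_inv, ← map_inv]
  rfl

theorem spToGSp_range (hm : 1 ≤ m) :
    (spToGSp (m := m) (F := F)).range = (gspMultHom (F := F) hm).ker := by
  ext g
  rw [MonoidHom.mem_ker]
  constructor
  · rintro ⟨s, rfl⟩
    refine Units.ext (gspMult_eq hm _ fun u v => ?_)
    rw [Units.val_one, one_mul, sympBilin_apply, sympBilin_apply]
    exact (mem_symplecticGroup_iff_form _).1 s.2 u v
  · intro h
    refine ⟨⟨g.1.1, (mem_symplecticGroup_iff_form _).2 fun u v => ?_⟩, Subtype.ext (Units.ext rfl)⟩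
    rw [← sympBilin_apply, ← sympBilin_apply, gspMult_spec, show gspMult g = 1 from h, Units.val_one,
      one_mul]

theorem inn_eq_map_ker (hm : 1 ≤ m) :
    Cfsg.Inn (Cfsg.PSp m F) = (gspMultHom (F := F) hm).ker.map spInndiagHom := by
  rw [← spToGSp_range hm, MonoidHom.map_range]
  ext x
  constructor
  · rintro ⟨y, rfl⟩
    obtain ⟨s, rfl⟩ := QuotientGroup.mk_surjective y
    exact ⟨s, spInndiagHom_spToGSp s⟩
  · rintro ⟨s, rfl⟩
    exact ⟨_, (spInndiagHom_spToGSp s).symm⟩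

theorem inn_le_inndiagPSp (hm : 1 ≤ m) : Cfsg.Inn (Cfsg.PSp m F) ≤ Cfsg.inndiagPSp m F := by
  rw [inn_eq_map_ker hm, inndiagPSp_eq_range]
  exact Subgroup.map_le_range _ _

/-- `Inndiag(PSp)` is normal. -/
theorem inndiagPSp_normal [Finite F] (hm : 2 ≤ m) : (Cfsg.inndiagPSp m F).Normal := by
  by_cases h : (2 : F) ≠ 0 ∨ 3 ≤ m
  · refine ⟨fun x hx α => ?_⟩
    rw [inndiagPSp_eq_range] at hx ⊢
    obtain ⟨k, rfl⟩ := hx
    obtain ⟨g, σ, rfl⟩ := exists_spSemiAut hm h α
    refine ⟨g * gspMap σ k * g⁻¹, ?_⟩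
    rw [eq_mul_inv_iff_mul_eq, spSemiAut_eq_mul g σ, mul_assoc (spInndiagHom g), spSemiAut_one_mul_inndiag,
      map_mul, map_mul, map_inv]
    group
  · have h2 : (2 : F) = 0 := not_not.1 fun h2 => h (Or.inl h2)
    haveI : CharP F 2 := CharTwo.of_one_ne_zero_of_two_eq_zero one_ne_zero h2
    have heq : Cfsg.inndiagPSp m F = Cfsg.Inn (Cfsg.PSp m F) := by
      refine le_antisymm ?_ (inn_le_inndiagPSp (by omega))
      rw [inndiagPSp_eq_range, inn_eq_map_ker (m := m) (by omega)]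
      rintro _ ⟨g, rfl⟩
      haveI := Fintype.ofFinite F
      obtain ⟨d, hd⟩ := FiniteField.isSquare_of_char_two (ringChar.eq F 2) (gspMult g : F)
      have hd0 : d ≠ 0 := fun h0 => (gspMult g).ne_zero (by rw [hd, h0, mul_zero])
      refine ⟨gspScalar (Units.mk0 d hd0)⁻¹ * g, MonoidHom.mem_ker.2 (Units.ext ?_), ?_⟩
      · refine gspMult_eq (by omega) _ fun u v => ?_
        rw [show (gspScalar (Units.mk0 d hd0)⁻¹ * g : Cfsg.GSp m F).1.1 =
            (gspScalar (Units.mk0 d hd0)⁻¹).1.1 * g.1.1 from rfl, gspScalar_val, smul_mul, one_mul,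
          smul_mulVec, smul_mulVec, map_smul, map_smul, LinearMap.smul_apply, gspMult_spec, hd,
          Units.val_one, one_mul, Units.val_inv_eq_inv_val, Units.val_mk0, smul_eq_mul, smul_eq_mul]
        field_simp
      · refine (spInndiagHom_eq_iff hm _ _).2 ⟨(Units.mk0 d hd0)⁻¹, ?_⟩
        show (gspScalar (Units.mk0 d hd0)⁻¹).1.1 * g.1.1 = _
        rw [gspScalar_val, smul_mul, one_mul]
    rw [heq]
    infer_instance

/-- Reindexing matrices as a map of groups. -/
def glReindex {κ κ' : Type*} [Fintype κ] [DecidableEq κ] [Fintype κ'] [DecidableEq κ'] (e : κ ≃ κ') :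
    GL κ F ≃* GL κ' F :=
  Units.mapEquiv (Matrix.reindexAlgEquiv F F e).toMulEquiv

theorem glReindex_map {κ κ' : Type*} [Fintype κ] [DecidableEq κ] [Fintype κ'] [DecidableEq κ']
    (e : κ ≃ κ') (σ : F ≃+* F) (g : GL κ F) :
    glReindex e (GeneralLinearGroup.map (σ : F →+* F) g) =
      GeneralLinearGroup.map (σ : F →+* F) (glReindex e g) :=
  Units.ext (Matrix.ext fun _ _ => rfl)

/-- `g σ(g) ⋯ σ^{k-1}(g)` among similitudes. -/
def spNorm (σ : F ≃+* F) (g : Cfsg.GSp m F) : ℕ → Cfsg.GSp m F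
  | 0 => 1
  | k + 1 => g * gspMap σ (spNorm σ g k)

theorem spSemiAut_pow (g : Cfsg.GSp m F) (σ : F ≃+* F) (k : ℕ) :
    spSemiAut g σ ^ k = spSemiAut (spNorm σ g k) (σ ^ k) := by
  induction k with
  | zero => rw [pow_zero, pow_zero]; exact spSemiAut_one.symm
  | succ k ih => rw [pow_succ', ih, spSemiAut_mul, pow_succ']; rfl

/-- Galois descent for similitudes, up to scalars. -/
theorem exists_descent_gsp [Finite F] (hm : 2 ≤ m) (σ : F ≃+* F) (g : Cfsg.GSp m F)
    (hg : spSemiAut g σ ^ orderOf σ = 1) :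
    ∃ (h : GL (Fin m ⊕ Fin m) F) (c : Fˣ),
      g.1.1 * h.1.map σ = (c : F) • h.1 := by
  let R := glReindex (F := F) (finSumFinEquiv : Fin m ⊕ Fin m ≃ Fin (m + m))
  have hnorm : ∀ k, normProd σ (R g.1) k = R (spNorm σ g k).1 := by
    intro k
    induction k with
    | zero => exact (map_one R).symm
    | succ k ih => rw [normProd_succ, ih, ← glReindex_map, ← map_mul]; rfl
  rw [spSemiAut_pow, spSemiAut_eq_one_iff hm] at hg
  obtain ⟨c, hc⟩ := hg.2
  obtain ⟨h, d, hd⟩ := exists_descent_scalar (by omega : 1 ≤ m + m) σ (R g.1) (by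
    rw [hnorm]
    refine Subgroup.mem_center_iff.2 fun z => ?_
    obtain ⟨z, rfl⟩ := R.surjective z
    rw [← map_mul, ← map_mul]
    refine congrArg R (Units.ext ?_)
    show z.1 * (spNorm σ g (orderOf σ)).1.1 = (spNorm σ g (orderOf σ)).1.1 * z.1
    rw [hc, smul_mul, one_mul, mul_smul_comm, mul_one])
  obtain ⟨h, rfl⟩ := R.surjective h
  refine ⟨h, d, ?_⟩
  rw [← glReindex_map, ← map_mul, show GeneralLinearGroup.scalar (Fin (m + m)) d =
    R (GeneralLinearGroup.scalar (Fin m ⊕ Fin m) d) from Units.ext (Matrix.ext fun i j => by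
      simp [R, glReindex, Matrix.diagonal_apply]), ← map_mul] at hd
  have := congrArg Units.val (R.injective hd)
  rw [Units.val_mul, Units.val_mul, show (GeneralLinearGroup.scalar (Fin m ⊕ Fin m) d).1 =
    (d : F) • 1 from (smul_one_eq_diagonal _).symm, smul_mul, one_mul] at this
  exact this

theorem map_single_one {κ : Type*} [DecidableEq κ] (σ : F ≃+* F) (i : κ) :
    (fun k => σ ((Pi.single i 1 : κ → F) k)) = Pi.single i 1 :=
  funext fun k => by by_cases hk : k = i <;> simp [hk]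

/-- Elements of order `orderOf σ` in the coset of a field automorphism are conjugate to it. -/
theorem exists_conj_fieldPSp [Finite F] (hm : 2 ≤ m) (σ : F ≃+* F) {F₀ : Type*} [Field F₀] (ι : F₀ →+* F)
    (hι : ∀ x, σ x = x ↔ ∃ a, ι a = x) (g : Cfsg.GSp m F)
    (hg : spSemiAut g σ ^ orderOf σ = 1) :
    ∃ k : Cfsg.GSp m F,
      spSemiAut g σ = spInndiagHom k * spSemiAut 1 σ * (spInndiagHom k)⁻¹ := by
  obtain ⟨h, c, hc⟩ := exists_descent_gsp hm σ g hg
  set β : SpVec m F → SpVec m F → F := fun u v => sympBilin m F (h.1 *ᵥ u) (h.1 *ᵥ v) with hβ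
  have hev : ∀ v : SpVec m F,
      g.1.1 *ᵥ (fun i => σ ((h.1 *ᵥ v) i)) = (c : F) • h.1 *ᵥ fun i => σ (v i) := fun v => by
    rw [← map_mulVec' σ h.1 v, mulVec_mulVec, hc, smul_mulVec]
  have htw : ∀ u v, (gspMult g : F) * σ (β u v) =
      (c : F) * c * β (fun i => σ (u i)) (fun i => σ (v i)) := fun u v => by
    rw [hβ]
    rw [← sympBilin_map, ← gspMult_spec, hev, hev, map_smul, map_smul, LinearMap.smul_apply,
      smul_eq_mul, smul_eq_mul, mul_assoc]
  obtain ⟨i₀, j₀, hij⟩ : ∃ i j, β (Pi.single i 1) (Pi.single j 1) ≠ 0 := by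
    by_contra hcon
    simp only [not_exists, not_not] at hcon
    have hz : (sympBilin m F).compl₁₂ (Matrix.mulVecLin h.1) (Matrix.mulVecLin h.1) = 0 :=
      LinearMap.ext_basis (Pi.basisFun F _) (Pi.basisFun F _) fun i j => by
        simpa [hβ] using hcon i j
    have hne : (Pi.single (Sum.inl ⟨0, by omega⟩) 1 : SpVec m F) ≠ 0 := fun h0 => by
      simpa using congrFun h0 (Sum.inl ⟨0, by omega⟩)
    obtain ⟨x, hx⟩ := exists_pairing_one (sympBilin_self (m := m) (F := F)) sympBilin_sep hne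
    have := LinearMap.congr_fun₂ hz ((h⁻¹).1 *ᵥ x) ((h⁻¹).1 *ᵥ Pi.single (Sum.inl ⟨0, by omega⟩) 1)
    rw [LinearMap.compl₁₂_apply, mulVecLin_apply, mulVecLin_apply, mulVec_mulVec, mulVec_mulVec,
      Units.mul_inv, one_mulVec, one_mulVec, hx] at this
    exact one_ne_zero this
  set a := β (Pi.single i₀ 1) (Pi.single j₀ 1) with ha
  have hσa : (gspMult g : F) * σ a = (c : F) * c * a := by
    have := htw (Pi.single i₀ 1) (Pi.single j₀ 1)
    rwa [map_single_one, map_single_one] at this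
  have hfix : ∀ i j, σ (a⁻¹ * β (Pi.single i 1) (Pi.single j 1)) =
      a⁻¹ * β (Pi.single i 1) (Pi.single j 1) := fun i j => by
    have h1 := htw (Pi.single i 1) (Pi.single j 1)
    rw [map_single_one, map_single_one] at h1
    rw [map_mul, map_inv₀]
    field_simp [(map_ne_zero σ).2 hij, hij]
    refine mul_left_cancel₀ (gspMult g).ne_zero ?_
    linear_combination (a : F) * h1 - β (Pi.single i 1) (Pi.single j 1) * hσa
  choose M hM using fun i j => (hι _).1 (hfix i j)
  let B1 := Matrix.toBilin' (Matrix.of M)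
  have hB1 : ∀ u v : Fin m ⊕ Fin m → F₀,
      ι (B1 u v) = a⁻¹ * β (fun i => ι (u i)) (fun i => ι (v i)) := fun u v => by
    have hexp : β (fun i => ι (u i)) (fun i => ι (v i)) =
        ∑ i, ∑ j, ι (u i) * ι (v j) * β (Pi.single i 1) (Pi.single j 1) := by
      rw [hβ]
      conv_lhs => rw [pi_eq_sum_univ' fun i => ι (u i), pi_eq_sum_univ' fun i => ι (v i)]
      simp only [mulVec_sum, mulVec_smul, map_sum, map_smul, LinearMap.sum_apply,
        LinearMap.smul_apply, smul_eq_mul, Finset.mul_sum, mul_assoc]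
      rw [Finset.sum_comm]
      exact Finset.sum_congr rfl fun i _ => Finset.sum_congr rfl fun j _ => by ring
    rw [hexp, Matrix.toBilin'_apply, map_sum, Finset.mul_sum]
    refine Finset.sum_congr rfl fun i _ => ?_
    rw [map_sum, Finset.mul_sum]
    refine Finset.sum_congr rfl fun j _ => ?_
    rw [Matrix.of_apply, map_mul, map_mul, hM]
    ring
  have hA1 : ∀ v, B1 v v = 0 := fun v => ι.injective (by
    rw [hB1, hβ, map_zero]
    show a⁻¹ * sympBilin m F _ _ = 0
    rw [sympBilin_self, mul_zero])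
  have hsep1 : ∀ x, (∀ y, B1 x y = 0) → x = 0 := fun x hx => by
    have hz : (sympBilin m F (h.1 *ᵥ fun i => ι (x i))).comp (Matrix.mulVecLin h.1) = 0 :=
      (Pi.basisFun F _).ext fun j => by
        have := hB1 x (Pi.single j 1)
        rw [hx, map_zero, eq_comm, mul_eq_zero] at this
        have h1 := this.resolve_left (inv_ne_zero hij)
        rw [show (fun i => ι ((Pi.single j 1 : Fin m ⊕ Fin m → F₀) i)) = Pi.single j 1 from
          funext fun k => by by_cases hk : k = j <;> simp [hk]] at h1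
        simpa [hβ] using h1
    have h2 : h.1 *ᵥ (fun i => ι (x i)) = 0 := sympBilin_sep _ fun y => by
      have := LinearMap.congr_fun hz ((h⁻¹).1 *ᵥ y)
      rwa [LinearMap.comp_apply, mulVecLin_apply, mulVec_mulVec, Units.mul_inv, one_mulVec,
        LinearMap.zero_apply] at this
    have h3 := Matrix.mulVec_injective_of_isUnit h.isUnit (h2.trans (mulVec_zero _).symm)
    exact funext fun i => ι.injective ((congrFun h3 i).trans (map_zero ι).symm)
  obtain ⟨e, he⟩ := exists_symp_isometry (2 * m) (sympBilin m F₀) B1 sympBilin_self sympBilin_sep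
    hA1 hsep1 (finrank_spVec m F₀) (finrank_spVec m F₀)
  have hk0 : IsUnit (LinearMap.toMatrix' (e : (Fin m ⊕ Fin m → F₀) →ₗ[F₀] _)) :=
    IsUnit.map LinearMap.toMatrixAlgEquiv' ((Module.End.isUnit_iff _).2 e.bijective)
  let k0 : GL (Fin m ⊕ Fin m) F₀ := hk0.unit
  let k1 : GL (Fin m ⊕ Fin m) F := GeneralLinearGroup.map ι k0
  have hk1 : ∀ i, k1.1 *ᵥ Pi.single i 1 = fun l => ι (e (Pi.single i 1) l) := fun i => funext fun l => by
    simp [k1, k0, LinearMap.toMatrix'_apply]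
  have hform : ((sympBilin m F).compl₁₂ (Matrix.mulVecLin (h * k1).1) (Matrix.mulVecLin (h * k1).1)) =
      a • sympBilin m F := by
    refine LinearMap.ext_basis (Pi.basisFun F _) (Pi.basisFun F _) fun i j => ?_
    rw [LinearMap.compl₁₂_apply, mulVecLin_apply, mulVecLin_apply, Units.val_mul, ← mulVec_mulVec,
      ← mulVec_mulVec, Pi.basisFun_apply, Pi.basisFun_apply, hk1, hk1]
    have h1 := hB1 (e (Pi.single i 1)) (e (Pi.single j 1))
    rw [he, sympBilin_apply, show ι (Cfsg.sympForm m F₀ (Pi.single i 1) (Pi.single j 1)) =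
        Cfsg.sympForm m F (Pi.single i 1) (Pi.single j 1) by
      simp only [sympForm_eq_sum, map_sum, map_sub, map_mul]
      refine Finset.sum_congr rfl fun l _ => ?_
      simp [Pi.single_apply, apply_ite ι]] at h1
    rw [LinearMap.smul_apply, LinearMap.smul_apply, smul_eq_mul, sympBilin_apply (Pi.single i 1 : SpVec m F), h1]
    show β _ _ = _
    rw [← mul_assoc, mul_inv_cancel₀ hij, one_mul]
  have hmem : h * k1 ∈ Cfsg.GSp m F := ⟨Units.mk0 a hij, fun u v => by
    have := LinearMap.congr_fun₂ hform u v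
    simpa [sympBilin_apply] using this⟩
  refine ⟨⟨h * k1, hmem⟩, ?_⟩
  rw [eq_mul_inv_iff_mul_eq, spSemiAut_eq_mul g σ, mul_assoc, spSemiAut_one_mul_inndiag, ← mul_assoc,
    ← map_mul, mul_left_inj, spInndiagHom_eq_iff hm]
  refine ⟨c, ?_⟩
  show g.1.1 * ((h * k1).1).map (σ : F →+* F) = (c : F) • (h * k1).1
  rw [Units.val_mul, Matrix.map_mul, ← mul_assoc, show h.1.map (σ : F →+* F) = h.1.map σ from rfl, hc,
    smul_mul, show k1.1.map (σ : F →+* F) = k1.1 from
      Matrix.ext fun i j => (hι _).2 ⟨_, rfl⟩]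

/-- The centraliser in `Inndiag` of a standard field automorphism of `PSp`. -/
theorem centralizer_fieldPSp (hm : 2 ≤ m) (σ : F ≃+* F) {F₀ : Type*} [Field F₀]
    (ι : F₀ →+* F) (hι : ∀ x, σ x = x ↔ ∃ a, ι a = x) :
    ∃ φ : Cfsg.GSp m F₀ →* Cfsg.GSp m F,
      (∀ h, (φ h).1.1 = h.1.1.map ι) ∧
      (∀ h, (gspMult (φ h) : F) = ι (gspMult h)) ∧
      Cfsg.inndiagPSp m F ⊓ Subgroup.centralizer {spSemiAut 1 σ} = (spInndiagHom.comp φ).range := by
  have hB : ∀ (u v : Fin m ⊕ Fin m → F₀), sympBilin m F (fun i => ι (u i)) (fun i => ι (v i)) =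
      ι (sympBilin m F₀ u v) := fun u v => by
    simp [sympBilin_apply, sympForm_eq_sum, map_sum]
  have hform : ∀ (h : Cfsg.GSp m F₀) (u v : SpVec m F),
      sympBilin m F (h.1.1.map ι *ᵥ u) (h.1.1.map ι *ᵥ v) = ι (gspMult h) * sympBilin m F u v := by
    intro h u v
    have key : (sympBilin m F).compl₁₂ (Matrix.mulVecLin (h.1.1.map ι)) (Matrix.mulVecLin (h.1.1.map ι)) =
        ι (gspMult h : F₀) • sympBilin m F := by
      refine LinearMap.ext_basis (Pi.basisFun F _) (Pi.basisFun F _) fun i j => ?_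
      have e1 : ∀ l, h.1.1.map ι *ᵥ Pi.single l 1 =
          fun k => ι ((h.1.1 *ᵥ Pi.single l 1) k) := fun l => funext fun k => by simp
      have e2 : ∀ l, (fun k => ι ((Pi.single l 1 : Fin m ⊕ Fin m → F₀) k)) = Pi.single l 1 :=
        fun l => funext fun k => by by_cases hk : k = l <;> simp [hk]
      rw [LinearMap.compl₁₂_apply, mulVecLin_apply, mulVecLin_apply, Pi.basisFun_apply,
        Pi.basisFun_apply, e1, e1, hB, gspMult_spec, map_mul, ← hB, e2, e2]
      rfl
    exact LinearMap.congr_fun₂ key u v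
  let φ : Cfsg.GSp m F₀ →* Cfsg.GSp m F :=
    ((GeneralLinearGroup.map ι).comp (Cfsg.GSp m F₀).subtype).codRestrict _ fun h =>
      ⟨Units.map ι.toMonoidHom (gspMult h), fun u v => by
        rw [← sympBilin_apply, ← sympBilin_apply]; exact hform h u v⟩
  refine ⟨φ, fun h => rfl, fun h => gspMult_eq (by omega) _ (hform h), le_antisymm ?_ ?_⟩
  · intro x hx
    obtain ⟨g, rfl⟩ : ∃ g, spInndiagHom g = x := by
      have := hx.1; rwa [SetLike.mem_coe, inndiagPSp_eq_range] at this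
    have hcomm := Subgroup.mem_centralizer_singleton_iff.1 hx.2
    rw [spSemiAut_one_mul_inndiag] at hcomm
    obtain ⟨a, ha⟩ := (spInndiagHom_eq_iff hm _ _).1 (mul_right_cancel hcomm).symm
    have hv : ∀ i j, σ (g.1.1 i j) = (a : F) * g.1.1 i j := fun i j =>
      congrArg (fun M : Matrix _ _ F => M i j) ha
    obtain ⟨i, j, hij⟩ : ∃ i j, g.1.1 i j ≠ 0 := by
      by_contra hcon
      simp only [not_exists, not_not] at hcon
      haveI : Nonempty (Fin m ⊕ Fin m) := ⟨Sum.inl ⟨0, by omega⟩⟩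
      exact g.1.isUnit.ne_zero (Matrix.ext hcon)
    let c : Fˣ := (Units.mk0 _ hij)⁻¹
    have hfix : ∀ k l, σ ((c : F) * g.1.1 k l) = (c : F) * g.1.1 k l := fun k l => by
      show σ ((g.1.1 i j)⁻¹ * g.1.1 k l) = (g.1.1 i j)⁻¹ * g.1.1 k l
      rw [map_mul, map_inv₀, hv, hv]
      field_simp [a.ne_zero, hij]
    choose M hM using fun k l => (hι _).1 (hfix k l)
    have hMmap : (Matrix.of M).map ι = (c : F) • g.1.1 := Matrix.ext hM
    have hdet : (Matrix.of M).det ≠ 0 := fun h0 => by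
      have h1 := congrArg ι h0
      rw [RingHom.map_det, map_zero] at h1
      change ((Matrix.of M).map ι).det = 0 at h1
      rw [hMmap, det_smul] at h1
      exact mul_ne_zero (pow_ne_zero _ c.ne_zero)
        ((Matrix.isUnit_iff_isUnit_det _).1 g.1.isUnit).ne_zero h1
    have hval : ∀ u v : Fin m ⊕ Fin m → F₀, ι (sympBilin m F₀ (Matrix.of M *ᵥ u) (Matrix.of M *ᵥ v)) =
        (c : F) * c * gspMult g * ι (sympBilin m F₀ u v) := fun u v => by
      have e1 : ∀ w, (fun k => ι ((Matrix.of M *ᵥ w) k)) = (c : F) • g.1.1 *ᵥ fun k => ι (w k) :=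
        fun w => funext fun k => by
          rw [RingHom.map_mulVec, hMmap, smul_mulVec]; rfl
      rw [← hB, e1, e1, map_smul, map_smul, LinearMap.smul_apply, smul_eq_mul, smul_eq_mul,
        gspMult_spec, hB]
      ring
    have hne : (Pi.single (Sum.inl ⟨0, by omega⟩) 1 : SpVec m F₀) ≠ 0 := fun h0 => by
      simpa using congrFun h0 (Sum.inl ⟨0, by omega⟩)
    obtain ⟨x0, hx0⟩ := exists_pairing_one (sympBilin_self (m := m) (F := F₀)) sympBilin_sep hne
    have hμ := hval x0 (Pi.single (Sum.inl ⟨0, by omega⟩) 1)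
    rw [hx0, map_one, mul_one] at hμ
    set μ := sympBilin m F₀ (Matrix.of M *ᵥ x0) (Matrix.of M *ᵥ Pi.single (Sum.inl ⟨0, by omega⟩) 1)
    have hμ0 : μ ≠ 0 := fun h0 => by
      rw [h0, map_zero, eq_comm] at hμ
      exact mul_ne_zero (mul_ne_zero c.ne_zero c.ne_zero) (gspMult g).ne_zero hμ
    refine ⟨⟨GeneralLinearGroup.mkOfDetNeZero _ hdet, Units.mk0 μ hμ0, fun u v => ι.injective ?_⟩,
      (spInndiagHom_eq_iff hm _ _).2 ⟨c, ?_⟩⟩
    · rw [← sympBilin_apply, ← sympBilin_apply, map_mul]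
      show ι (sympBilin m F₀ (Matrix.of M *ᵥ u) (Matrix.of M *ᵥ v)) = ι μ * _
      rw [hval, hμ]
    · exact hMmap
  · rintro _ ⟨h, rfl⟩
    refine ⟨by rw [SetLike.mem_coe, inndiagPSp_eq_range]; exact ⟨_, rfl⟩,
      Subgroup.mem_centralizer_singleton_iff.2 ?_⟩
    rw [MonoidHom.comp_apply, spSemiAut_one_mul_inndiag]
    congr 2
    exact Subtype.ext (Units.ext (Matrix.ext fun i j => ((hι _).2 ⟨_, rfl⟩).symm))

theorem pgsp_equiv_range (hm : 2 ≤ m) {F₀ : Type*} [Field F₀] (ι : F₀ →+* F)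
    (φ : Cfsg.GSp m F₀ →* Cfsg.GSp m F) (hφ : ∀ h, (φ h).1.1 = h.1.1.map ι) :
    Nonempty (↥(spInndiagHom.comp φ).range ≃* Cfsg.PGSp m F₀) := by
  have hker : (spInndiagHom.comp φ).rangeRestrict.ker =
      (Cfsg.Geo.scalars (Fin m ⊕ Fin m) F₀).subgroupOf (Cfsg.GSp m F₀) := by
    ext u
    rw [MonoidHom.mem_ker, Subgroup.mem_subgroupOf, Cfsg.Geo.mem_scalars_iff, Subtype.ext_iff,
      MonoidHom.coe_rangeRestrict, MonoidHom.comp_apply, Subgroup.coe_one, spInndiagHom_apply,
      spSemiAut_eq_one_iff hm, and_iff_right rfl, hφ]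
    constructor
    · rintro ⟨c, hc⟩
      let i₀ : Fin m ⊕ Fin m := Sum.inl ⟨0, by omega⟩
      have hc0 : ι (u.1.1 i₀ i₀) = c := by
        have := congrArg (fun M : Matrix _ _ F => M i₀ i₀) hc
        simpa using this
      have hne : u.1.1 i₀ i₀ ≠ 0 := fun h0 => c.ne_zero (by rw [← hc0, h0, map_zero])
      refine ⟨Units.mk0 _ hne, Matrix.map_injective ι.injective ?_⟩
      dsimp only
      rw [hc, Units.val_mk0, ← hc0]
      ext k l
      by_cases hkl : k = l <;> simp [hkl, Matrix.one_apply]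
    · rintro ⟨c, hc⟩
      refine ⟨Units.map ι.toMonoidHom c, ?_⟩
      rw [hc]
      ext k l
      by_cases hkl : k = l <;> simp [hkl, Matrix.one_apply]
  exact ⟨((QuotientGroup.quotientMulEquivOfEq hker.symm).trans
    (QuotientGroup.quotientKerEquivOfSurjective _ (spInndiagHom.comp φ).rangeRestrict_surjective)).symm⟩

/-- The number of `Inn`-classes in the `Inndiag`-class, from the multipliers of the centraliser. -/
theorem splitClassCountPSp_eq [Finite F] (hm : 2 ≤ m) (x : MulAut (Cfsg.PSp m F))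
    (D : Subgroup (Cfsg.GSp m F))
    (hD : Cfsg.inndiagPSp m F ⊓ Subgroup.centralizer {x} = D.map spInndiagHom) :
    Cfsg.splitClassCount (Cfsg.inndiagPSp m F) (Cfsg.Inn (Cfsg.PSp m F)) x =
      Nat.gcd (Nat.gcd 2 (Nat.card Fˣ)) (D.map (gspMultHom (m := m) (by omega))).index := by
  have hm1 : 1 ≤ m := by omega
  rw [splitClassCount_eq _ _ (inn_le_inndiagPSp hm1), hD, inn_eq_map_ker hm1, ← Subgroup.map_sup,
    inndiagPSp_eq_range, ← Subgroup.index_comap, Subgroup.comap_map_eq]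
  have hsurj : Function.Surjective (gspMultHom (m := m) (F := F) hm1) := fun μ => exists_gspMult_eq hm1 μ
  have hker : (spInndiagHom (m := m) (F := F)).ker = (gspScalar (m := m) (F := F)).range := by
    ext g
    rw [MonoidHom.mem_ker, spInndiagHom_apply, spSemiAut_eq_one_iff hm, and_iff_right rfl]
    constructor
    · rintro ⟨c, hc⟩
      exact ⟨c, Subtype.ext (Units.ext ((gspScalar_val c).trans hc.symm))⟩
    · rintro ⟨c, rfl⟩
      exact ⟨c, gspScalar_val c⟩
  rw [← Subgroup.index_map_eq _ hsurj (le_trans le_sup_left le_sup_left), Subgroup.map_sup,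
    Subgroup.map_sup, (Subgroup.map_eq_bot_iff _).2 le_rfl, bot_sup_eq, hker]
  have hcen : ((gspScalar (m := m) (F := F)).range).map (gspMultHom hm1) =
      (powMonoidHom 2 : Fˣ →* Fˣ).range := by
    rw [MonoidHom.map_range]
    congr 1
    refine MonoidHom.ext fun c => Units.ext (gspMult_eq hm1 _ fun u v => ?_)
    rw [gspScalar_val, smul_mulVec, smul_mulVec, one_mulVec, one_mulVec, map_smul, map_smul,
      LinearMap.smul_apply, smul_eq_mul, smul_eq_mul, powMonoidHom_apply, Units.val_pow_eq_pow_val]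
    ring
  rw [hcen, index_sup_of_isCyclic, IsCyclic.index_powMonoidHom_range, Nat.gcd_comm _ (Nat.gcd _ _),
    Nat.gcd_comm (Nat.card Fˣ) 2]

end CfsgLib.KnownC
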