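import Mathlib
import Cfsg.Prelude.Def_Sz

set_option autoImplicit false
set_option linter.unusedSectionVars false

/-!
The exceptional endomorphism `g ↦ g*` of `Sp₄` in characteristic two.
-/

namespace CfsgLib.KnownC

open Matrix Cfsg.Lie

variable {F : Type*} [Field F]

/-- `g` preserves `altForm4`. -/
def PreservesAlt4 (g : Matrix (Fin 4) (Fin 4) F) : Prop :=
  ∀ u v, altForm4 (g *ᵥ u) (g *ᵥ v) = altForm4 u v

theorem altForm4_cols {g : Matrix (Fin 4) (Fin 4) F} (hg : PreservesAlt4 g) (i j : Fin 4) :
    altForm4 (fun k => g k i) (fun k => g k j) = if i = Fin.rev j then 1 else 0 := by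
  have h := hg (Pi.single i 1) (Pi.single j 1)
  rw [mulVec_single_one, mulVec_single_one] at h
  refine (show altForm4 (fun k => g k i) (fun k => g k j) = _ from h).trans ?_
  fin_cases i <;> fin_cases j <;> simp [altForm4]

/-- The antidiagonal matrix of `altForm4`. -/
def antiOne (F : Type*) [Field F] : Matrix (Fin 4) (Fin 4) F :=
  Matrix.of fun i j => if i = Fin.rev j then 1 else 0

theorem preservesAlt4_gram {g : Matrix (Fin 4) (Fin 4) F} (hg : PreservesAlt4 g) :
    gᵀ * antiOne F * g = antiOne F := by
  ext i j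
  rw [show antiOne F i j = altForm4 (fun k => g k i) (fun k => g k j) from
    (altForm4_cols hg i j).symm, mul_apply, Fin.sum_univ_four]
  simp only [mul_apply, Fin.sum_univ_four, antiOne, of_apply, transpose_apply]
  simp [altForm4]
  ring

theorem altForm4_rows {g : Matrix (Fin 4) (Fin 4) F} (hg : PreservesAlt4 g) (i j : Fin 4) :
    altForm4 (g i) (g j) = if i = Fin.rev j then 1 else 0 := by
  have hJ : antiOne F * antiOne F = 1 := by
    ext i j
    fin_cases i <;> fin_cases j <;> simp [mul_apply, Fin.sum_univ_four, antiOne]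
  have h1 : (antiOne F * gᵀ * antiOne F) * g = 1 := by
    rw [mul_assoc, mul_assoc, ← mul_assoc gᵀ, preservesAlt4_gram hg, hJ]
  have h2 : g * antiOne F * gᵀ = antiOne F := by
    have h3 := mul_eq_one_comm.1 h1
    calc g * antiOne F * gᵀ = g * (antiOne F * gᵀ * antiOne F) * antiOne F := by
          simp only [mul_assoc]; rw [hJ, mul_one]
      _ = antiOne F := by rw [h3, one_mul]
  rw [show (if i = Fin.rev j then (1 : F) else 0) = (g * antiOne F * gᵀ) i j from by rw [h2]; rfl,
    mul_apply, Fin.sum_univ_four]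
  simp only [mul_apply, Fin.sum_univ_four, antiOne, of_apply, transpose_apply]
  simp [altForm4]
  ring

/-- The minor of `g` with rows `p` and columns `r`. -/
def minor2 (g : Matrix (Fin 4) (Fin 4) F) (k l i j : Fin 4) : F := g k i * g l j - g l i * g k j

theorem star4_mul [CharP F 2] {g h : Matrix (Fin 4) (Fin 4) F} (hg : PreservesAlt4 g)
    (hh : PreservesAlt4 h) : star4 (g * h) = star4 g * star4 h := by
  ext p r
  obtain ⟨k, l, hkl⟩ : ∃ k l, pairOf p = (k, l) := ⟨_, _, rfl⟩
  obtain ⟨i, j, hij⟩ : ∃ i j, pairOf r = (i, j) := ⟨_, _, rfl⟩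
  have hrow : minor2 g k l 0 3 + minor2 g k l 1 2 = 0 := by
    have := altForm4_rows hg k l
    have hne : k ≠ Fin.rev l := by
      fin_cases p <;> simp [pairOf] at hkl <;> obtain ⟨rfl, rfl⟩ := hkl <;> decide
    rw [if_neg hne] at this
    simp only [minor2, altForm4] at this ⊢
    linear_combination (norm := ring_nf) this
    simp [CharTwo.two_eq_zero]
  have hcol : minor2 h 0 3 i j + minor2 h 1 2 i j = 0 := by
    have := altForm4_cols hh i j
    have hne : i ≠ Fin.rev j := by
      fin_cases r <;> simp [pairOf] at hij <;> obtain ⟨rfl, rfl⟩ := hij <;> decide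
    rw [if_neg hne] at this
    simp only [minor2, altForm4] at this ⊢
    linear_combination (norm := ring_nf) this
    simp [CharTwo.two_eq_zero]
  have h2 : (2 : F) = 0 := CharTwo.two_eq_zero
  have key : minor2 (g * h) k l i j =
      minor2 g k l 0 1 * minor2 h 0 1 i j + minor2 g k l 0 2 * minor2 h 0 2 i j +
        minor2 g k l 1 3 * minor2 h 1 3 i j + minor2 g k l 2 3 * minor2 h 2 3 i j +
        (minor2 g k l 0 3 * minor2 h 0 3 i j + minor2 g k l 1 2 * minor2 h 1 2 i j) := by
    simp only [minor2, mul_apply, Fin.sum_univ_four]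
    ring
  have hextra : minor2 g k l 0 3 * minor2 h 0 3 i j + minor2 g k l 1 2 * minor2 h 1 2 i j = 0 := by
    linear_combination (minor2 g k l 0 3) * hcol + (minor2 h 1 2 i j) * hrow
      - minor2 g k l 0 3 * minor2 h 1 2 i j * h2
  rw [hextra, add_zero] at key
  rw [mul_apply, Fin.sum_univ_four]
  simp only [minor2] at key
  simp only [star4, of_apply, hkl, hij]
  simp only [pairOf, Matrix.cons_val_zero, Matrix.cons_val_one, Matrix.cons_val]
  exact key

theorem laplace_two [CharP F 2] (a b c d : Fin 4 → F) (hab : altForm4 a b = 0)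
    (hcd : altForm4 c d = 0) :
    altForm4 (fun p => a (pairOf p).1 * b (pairOf p).2 - a (pairOf p).2 * b (pairOf p).1)
      (fun p => c (pairOf p).1 * d (pairOf p).2 - c (pairOf p).2 * d (pairOf p).1) =
      (Matrix.of ![a, b, c, d]).det := by
  have h2 : (2 : F) = 0 := CharTwo.two_eq_zero
  rw [Matrix.det_succ_row_zero, Fin.sum_univ_four]
  simp [Matrix.det_fin_three, altForm4, pairOf, Fin.succAbove, submatrix_apply] at hab hcd ⊢
  grind

theorem star4_preserves [CharP F 2] {g : Matrix (Fin 4) (Fin 4) F} (hg : PreservesAlt4 g) :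
    PreservesAlt4 (star4 g) := by
  have h2 : (2 : F) = 0 := CharTwo.two_eq_zero
  have hdet : g.det = 1 := by
    have hJ : (antiOne F).det ≠ 0 := by
      intro h0
      have hJ : antiOne F * antiOne F = 1 := by
        ext i j
        fin_cases i <;> fin_cases j <;> simp [mul_apply, Fin.sum_univ_four, antiOne]
      have h := congrArg det hJ
      rw [det_mul, h0, mul_zero, det_one] at h
      exact zero_ne_one h
    have h := congrArg det (preservesAlt4_gram hg)
    rw [det_mul, det_mul, det_transpose] at h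
    have h3 : (g.det - 1) * (g.det - 1) = 0 := by
      have : g.det * g.det = 1 := mul_right_cancel₀ hJ (by linear_combination h)
      linear_combination this - (g.det - 1) * h2
    exact sub_eq_zero.1 (mul_self_eq_zero.1 h3)
  have hent : ∀ p r : Fin 4, altForm4 (fun q => star4 g q p) (fun q => star4 g q r) =
      if p = Fin.rev r then 1 else 0 := by
    intro p r
    have hne : ∀ s : Fin 4, (pairOf s).1 ≠ Fin.rev (pairOf s).2 := by decide
    have hab := altForm4_cols hg (pairOf p).1 (pairOf p).2
    have hcd := altForm4_cols hg (pairOf r).1 (pairOf r).2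
    rw [if_neg (hne p)] at hab
    rw [if_neg (hne r)] at hcd
    refine (laplace_two _ _ _ _ hab hcd).trans ?_
    let f : Fin 4 → Fin 4 := ![(pairOf p).1, (pairOf p).2, (pairOf r).1, (pairOf r).2]
    have hmat : Matrix.of ![fun k => g k (pairOf p).1, fun k => g k (pairOf p).2,
        fun k => g k (pairOf r).1, fun k => g k (pairOf r).2] = gᵀ.submatrix f id := by
      ext x y; fin_cases x <;> simp [f]
    rw [hmat]
    have hinj' : ∀ p r : Fin 4, Function.Injective
        (![(pairOf p).1, (pairOf p).2, (pairOf r).1, (pairOf r).2] : Fin 4 → Fin 4) ↔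
          p = Fin.rev r := by decide
    have hinj : Function.Injective f ↔ p = Fin.rev r := hinj' p r
    by_cases hp : p = Fin.rev r
    · rw [if_pos hp]
      let e := Equiv.ofBijective f (Finite.injective_iff_bijective.1 (hinj.2 hp))
      rw [show gᵀ.submatrix f id = gᵀ.submatrix e id from rfl, det_permute, det_transpose, hdet,
        mul_one]
      rcases Int.units_eq_one_or (Equiv.Perm.sign e) with hs | hs <;> simp [hs, CharTwo.neg_eq]
    · rw [if_neg hp]
      obtain ⟨x, y, hxy, hne'⟩ := Function.not_injective_iff.1 (fun h => hp (hinj.1 h))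
      exact det_zero_of_row_eq hne' (funext fun k => congrArg (fun z => gᵀ z k) hxy)
  intro u v
  have h00 := hent 0 0; have h01 := hent 0 1; have h02 := hent 0 2; have h03 := hent 0 3
  have h10 := hent 1 0; have h11 := hent 1 1; have h12 := hent 1 2; have h13 := hent 1 3
  have h20 := hent 2 0; have h21 := hent 2 1; have h22 := hent 2 2; have h23 := hent 2 3
  have h30 := hent 3 0; have h31 := hent 3 1; have h32 := hent 3 2; have h33 := hent 3 3
  simp [altForm4] at h00 h01 h02 h03 h10 h11 h12 h13 h20 h21 h22 h23 h30 h31 h32 h33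
  simp only [altForm4, mulVec, dotProduct, Fin.sum_univ_four]
  linear_combination u 0 * v 0 * h00 + u 0 * v 1 * h01 + u 0 * v 2 * h02 + u 0 * v 3 * h03 +
    u 1 * v 0 * h10 + u 1 * v 1 * h11 + u 1 * v 2 * h12 + u 1 * v 3 * h13 +
    u 2 * v 0 * h20 + u 2 * v 1 * h21 + u 2 * v 2 * h22 + u 2 * v 3 * h23 +
    u 3 * v 0 * h30 + u 3 * v 1 * h31 + u 3 * v 2 * h32 + u 3 * v 3 * h33

/-- The transvection at `v` for `altForm4`. -/
def alt4Tv (v : Fin 4 → F) (c : F) : Matrix (Fin 4) (Fin 4) F :=
  1 + c • vecMulVec v ![v 3, v 2, v 1, v 0]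

theorem alt4Tv_mulVec (v : Fin 4 → F) (c : F) (x : Fin 4 → F) :
    alt4Tv v c *ᵥ x = x + (c * altForm4 x v) • v := by
  funext i
  fin_cases i <;> simp [alt4Tv, altForm4, mulVec, dotProduct, Fin.sum_univ_four, vecMulVec_apply] <;>
    ring

theorem star4_star4_tv [CharP F 2] (v : Fin 4 → F) (c : F) :
    star4 (star4 (alt4Tv v c)) = (alt4Tv v c).map fun x => x * x := by
  have h2 : (2 : F) = 0 := CharTwo.two_eq_zero
  ext p r
  fin_cases p <;> fin_cases r <;>
    simp [star4, pairOf, alt4Tv, vecMulVec_apply, Matrix.one_apply] <;> grind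

/-- `star4` of a transvection at a basis vector is not a transvection. -/
theorem star4_tv_single_not_tv (w : Fin 4 → F) (d : F) :
    star4 (alt4Tv (Pi.single 0 1) 1) ≠ alt4Tv w d := by
  intro h
  have h02 := congrFun (congrFun h 0) 2
  have h13 := congrFun (congrFun h 1) 3
  have h03 := congrFun (congrFun h 0) 3
  simp [star4, pairOf, alt4Tv, vecMulVec_apply, Matrix.one_apply, Pi.single_apply] at h02 h13 h03
  grind

end CfsgLib.KnownC
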