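import Mathlib
import Cfsg.Agent.Lib.KnownC.AutPSpMain
import Cfsg.Agent.Lib.KnownC.AutPSpField
import Cfsg.Agent.Lib.KnownC.SpStar

set_option autoImplicit false
set_option linter.unusedSectionVars false

/-!
The exceptional automorphism of `PSp₄(2^f)`, and all automorphisms of that group.
-/

namespace CfsgLib.KnownC

open Matrix CfsgLib.Geom CfsgLib.Classical

section Dichotomy

variable {F V : Type*} [Field F] [AddCommGroup V] [Module F V] [FiniteDimensional F V]
variable {B : V →ₗ[F] V →ₗ[F] F}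
variable (hA : ∀ v, B v v = 0) (hB : ∀ x, (∀ y, B x y = 0) → x = 0)
include hA hB

theorem not_noOrderFour_mixed (h2 : (2 : F) = 0) {e u : V} (he : e ≠ 0)
    (hue : ∀ a : F, u ≠ a • e) (heu : B e u = 0) {k : F} (hk : k ≠ 0) :
    ¬ NoOrderFour (altSiegel hA hB e u 1 * altTv hA hB e k) := by
  intro hno
  haveI : CharP F 2 := CharTwo.of_one_ne_zero_of_two_eq_zero one_ne_zero h2
  have hswap : ∀ x y, B y x = B x y := fun x y => by rw [alt_swap B hA x y, CharTwo.neg_eq]
  have h1 : LinearIndependent F ![e, u] := by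
    rw [LinearIndependent.pair_iff' he]
    exact fun c h => hue c h.symm
  obtain ⟨G, hG⟩ := LinearMap.exists_leftInverse_of_injective (Fintype.linearCombination F ![e, u])
    (LinearMap.ker_eq_bot.2 (linearIndependent_iff_injective_fintypeLinearCombination.1 h1))
  obtain ⟨f, hf⟩ := exists_form_rep hA hB ((LinearMap.proj (0 : Fin 2)).comp G)
  have hv : ∀ i : Fin 2, B (![e, u] i) f = (![1, 0] : Fin 2 → F) i := fun i => by
    have h3 := LinearMap.congr_fun hG (Pi.single i 1)
    rw [LinearMap.comp_apply, Fintype.linearCombination_apply_single, one_smul] at h3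
    rw [hf, LinearMap.comp_apply, h3]
    fin_cases i <;> simp
  have hef : B e f = 1 := hv 0
  have huf : B u f = 0 := hv 1
  have hue' : B u e = 0 := by rw [hswap, heu]
  have hfe : B f e = 1 := by rw [hswap, hef]
  have hfu : B f u = 0 := by rw [hswap, huf]
  have hu : u ≠ 0 := fun h => hue 0 (by rw [h, zero_smul])
  have h2' : LinearIndependent F ![u, f] := by
    rw [LinearIndependent.pair_iff' hu]
    intro c hc
    have := congrArg (B e) hc
    rw [map_smul, heu, smul_zero, hef] at this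
    exact zero_ne_one this
  obtain ⟨g, hge, hgu⟩ := exists_isom_pair hA hB h1 h2' (by rw [heu, huf])
  set z := altSiegel hA hB e u 1 * altTv hA hB e k with hz
  have hz' : g * z * g⁻¹ = altSiegel hA hB u f 1 * altTv hA hB u k := by
    rw [hz, show g * (altSiegel hA hB e u 1 * altTv hA hB e k) * g⁻¹ =
      (g * altSiegel hA hB e u 1 * g⁻¹) * (g * altTv hA hB e k * g⁻¹) by group,
      altSiegel_conj hA hB, altTv_conj hA hB, hge, hgu]
  have hsq : (z * (g * z * g⁻¹)) ^ 2 = altSiegel hA hB e u k * altTv hA hB u k := by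
    rw [hz', hz, sq]
    refine formIsoms_ext fun x => ?_
    simp only [Subgroup.coe_mul, LinearEquiv.mul_apply, altTv_apply, altSiegel_apply hA hB heu,
      altSiegel_apply hA hB huf, map_add, map_smul, LinearMap.add_apply, LinearMap.smul_apply,
      hA, heu, hue', hef, hfe, huf, hfu, smul_eq_mul]
    match_scalars <;> grind
  have hfour : (z * (g * z * g⁻¹)) ^ 4 = 1 := by
    rw [show (4 : ℕ) = 2 * 2 from rfl, pow_mul, hsq, sq]
    refine formIsoms_ext fun x => ?_
    simp only [Subgroup.coe_mul, LinearEquiv.mul_apply, altTv_apply, altSiegel_apply hA hB heu,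
      map_add, map_smul, LinearMap.add_apply, LinearMap.smul_apply, hA, heu, hue', smul_eq_mul,
      OneMemClass.coe_one, LinearEquiv.coe_one, id_eq]
    match_scalars <;> grind
  have h0 := congrArg (fun q : formIsoms B => q.1 f) (hsq.symm.trans (hno g hfour))
  simp only [Subgroup.coe_mul, LinearEquiv.mul_apply, altTv_apply, altSiegel_apply hA hB heu, hfu,
    OneMemClass.coe_one, LinearEquiv.coe_one, id_eq, mul_zero, zero_smul, add_zero, hfe, mul_one,
    add_eq_left, smul_eq_zero] at h0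
  exact h0.elim hk hu

theorem central_dichotomy [Finite F] {p : ℕ} [Fact p.Prime] [CharP F p] (h2 : (2 : F) = 0) {e : V}
    (he : e ≠ 0) (P : Sylow p (formIsoms B)) (hP : ∀ g ∈ P, g.1 e = e) {z : formIsoms B}
    (hz : z ∈ P) (hzc : ∀ g ∈ P, g * z = z * g) (hgood : NoOrderFour z) :
    (∃ c, z = altTv hA hB e c) ∨
      ∃ u, (∀ a : F, u ≠ a • e) ∧ B e u = 0 ∧ z = altSiegel hA hB e u 1 := by
  obtain ⟨x₀, hx₀⟩ := exists_pairing_one hA hB he
  have hze := hP z hz
  have key : ∀ w, B w e = 0 → z.1 w - w = (-B x₀ (z.1 w - w)) • e := by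
    intro w hw
    have hew : B e w = 0 := by rw [alt_swap B hA w e, hw, neg_zero]
    have hew' : B e (z.1 w) = 0 := by rw [← hze, z.2, hew]
    have h1 := hzc _ (radStab_le_sylow hA hB he P hP (altSiegel_mem_radStab hA hB hew 1))
    have h3 : altSiegel hA hB e w 1 = altSiegel hA hB e (z.1 w) 1 := by
      have := altSiegel_conj hA hB (e := e) (u := w) 1 z
      rw [hze, ← h1, mul_inv_cancel_right] at this
      exact this
    have h4 := congrArg (fun f : formIsoms B => f.1 x₀) h3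
    simp only [altSiegel_apply hA hB hew, altSiegel_apply hA hB hew', hx₀, one_mul, one_smul] at h4
    rw [map_sub, neg_sub, sub_smul]
    linear_combination (norm := module) -h4
  let φ : V →ₗ[F] F := -((B x₀).comp ((z.1 : V →ₗ[F] V) - LinearMap.id))
  obtain ⟨u, hu⟩ := exists_form_rep hA hB φ
  have hφ : ∀ w, B w u = -B x₀ (z.1 w - w) := fun w => by rw [hu]; rfl
  have heu : B e u = 0 := by rw [hφ, hze, sub_self, map_zero, neg_zero]
  obtain ⟨c, hc⟩ := eq_altTv_of_fix_perp hA hB he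
    (g := (altSiegel hA hB e u 1)⁻¹ * z) fun w hw => by
    rw [Subgroup.coe_mul, LinearEquiv.mul_apply]
    refine (altSiegel hA hB e u 1).1.symm_apply_eq.2 ?_
    rw [altSiegel_apply hA hB heu, hw, hφ, one_mul, mul_zero, zero_smul, add_zero, ← key w hw,
      add_sub_cancel]
  rw [inv_mul_eq_iff_eq_mul] at hc
  by_cases hue : ∃ a : F, u = a • e
  · obtain ⟨a, rfl⟩ := hue
    refine Or.inl (eq_altTv_of_fix_perp hA hB he fun w hw => ?_)
    rw [hc, Subgroup.coe_mul, LinearEquiv.mul_apply, altTv_apply, hw, mul_zero, zero_smul, add_zero,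
      altSiegel_apply hA hB heu, hw, map_smul, smul_eq_mul, hw]
    simp
  · simp only [not_exists] at hue
    refine Or.inr ⟨u, hue, heu, ?_⟩
    by_cases hc0 : c = 0
    · rw [hc, hc0, altTv_zero, mul_one]
    · exact absurd hgood (hc ▸ not_noOrderFour_mixed hA hB h2 he hue heu hc0)

end Dichotomy

variable {F : Type*} [Field F] [CharP F 2]

/-- The ordering of coordinates turning `sympForm` into `altForm4`. -/
def e4 : Fin 4 ≃ Fin 2 ⊕ Fin 2 where
  toFun := ![Sum.inl 0, Sum.inl 1, Sum.inr 1, Sum.inr 0]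
  invFun := Sum.elim ![0, 1] ![3, 2]
  left_inv := by decide
  right_inv := by decide

theorem sympBilin_eq_alt4 (u v : SpVec 2 F) :
    sympBilin 2 F u v = Cfsg.Lie.altForm4 (u ∘ e4) (v ∘ e4) := by
  rw [sympBilin_apply, sympForm_eq_sum, Fin.sum_univ_two]
  simp [Cfsg.Lie.altForm4, e4, sub_eq_add_neg, CharTwo.neg_eq]
  ring

theorem preservesAlt4_iff (A : Matrix (Fin 2 ⊕ Fin 2) (Fin 2 ⊕ Fin 2) F) :
    PreservesAlt4 (A.submatrix e4 e4) ↔ A ∈ symplecticGroup (Fin 2) F := by
  rw [mem_symplecticGroup_iff_form]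
  simp only [← sympBilin_apply, sympBilin_eq_alt4, PreservesAlt4]
  constructor
  · intro h u v
    have := h (u ∘ e4) (v ∘ e4)
    rwa [submatrix_mulVec_equiv, submatrix_mulVec_equiv, Function.comp_assoc, Function.comp_assoc,
      Equiv.self_comp_symm, Function.comp_id, Function.comp_id] at this
  · intro h u v
    have := h (u ∘ e4.symm) (v ∘ e4.symm)
    rw [submatrix_mulVec_equiv, submatrix_mulVec_equiv]
    simpa [Function.comp_assoc] using this

/-- `g ↦ g*` on `Sp₄`. -/
def spStar : symplecticGroup (Fin 2) F →* symplecticGroup (Fin 2) F where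
  toFun s := ⟨(Cfsg.Lie.star4 (s.1.submatrix e4 e4)).submatrix e4.symm e4.symm,
    (preservesAlt4_iff _).1 (by
      rw [submatrix_submatrix, Equiv.symm_comp_self, submatrix_id_id]
      exact star4_preserves ((preservesAlt4_iff s.1).2 s.2))⟩
  map_one' := Subtype.ext (by
    show (Cfsg.Lie.star4 ((1 : Matrix (Fin 2 ⊕ Fin 2) (Fin 2 ⊕ Fin 2) F).submatrix e4 e4)).submatrix
      e4.symm e4.symm = 1
    rw [submatrix_one_equiv,
      show Cfsg.Lie.star4 (1 : Matrix (Fin 4) (Fin 4) F) = 1 from by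
        ext p r; fin_cases p <;> fin_cases r <;> simp [Cfsg.Lie.star4, Cfsg.Lie.pairOf, Matrix.one_apply],
      submatrix_one_equiv])
  map_mul' s t := Subtype.ext (by
    show (Cfsg.Lie.star4 ((s.1 * t.1).submatrix e4 e4)).submatrix e4.symm e4.symm =
      (Cfsg.Lie.star4 (s.1.submatrix e4 e4)).submatrix e4.symm e4.symm *
        (Cfsg.Lie.star4 (t.1.submatrix e4 e4)).submatrix e4.symm e4.symm
    rw [← submatrix_mul_equiv s.1 t.1 _ e4, star4_mul ((preservesAlt4_iff s.1).2 s.2)
      ((preservesAlt4_iff t.1).2 t.2), submatrix_mul_equiv])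

theorem spStar_coe (s : symplecticGroup (Fin 2) F) :
    (spStar s).1.submatrix e4 e4 = Cfsg.Lie.star4 (s.1.submatrix e4 e4) := by
  show ((Cfsg.Lie.star4 (s.1.submatrix e4 e4)).submatrix e4.symm e4.symm).submatrix e4 e4 = _
  rw [submatrix_submatrix, Equiv.symm_comp_self, submatrix_id_id]

theorem submatrix_spTr (v : SpVec 2 F) (c : F) :
    (spEquiv 2 F (spTr v c)).1.submatrix e4 e4 = alt4Tv (v ∘ e4) c := by
  refine Matrix.ext_iff_mulVec.2 fun x => ?_
  rw [submatrix_mulVec_equiv, alt4Tv_mulVec, spEquiv_spTr_mulVec, sympBilin_eq_alt4,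
    Function.comp_assoc, Equiv.symm_comp_self, Function.comp_id]
  funext i
  simp

variable [Finite F]

/-- The Frobenius automorphism. -/
noncomputable def frobTwo : F ≃+* F :=
  RingEquiv.ofBijective (frobenius F 2)
    ⟨frobenius_inj F 2, Finite.injective_iff_surjective.1 (frobenius_inj F 2)⟩

theorem frobTwo_apply (x : F) : frobTwo x = x * x := by
  show frobenius F 2 x = x * x
  rw [frobenius_def, sq]

theorem spStar_spStar (s : symplecticGroup (Fin 2) F) :
    spStar (spStar s) = spField frobTwo s := by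
  have hsub : ∀ A B : Matrix (Fin 2 ⊕ Fin 2) (Fin 2 ⊕ Fin 2) F,
      A.submatrix e4 e4 = B.submatrix e4 e4 → A = B := fun A B h => by
    have := congrArg (fun M : Matrix (Fin 4) (Fin 4) F => M.submatrix e4.symm e4.symm) h
    simpa [submatrix_submatrix] using this
  have hext : (spStar.comp spStar : symplecticGroup (Fin 2) F →* symplecticGroup (Fin 2) F) =
      (spField frobTwo).toMonoidHom := by
    refine MonoidHom.eq_of_eqOn_dense (closure_sympTransvection 2) ?_
    rintro A ⟨w, c, hA⟩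
    obtain rfl : A = spEquiv 2 F (spTr w c) := Subtype.ext (Matrix.ext_iff_mulVec.2 fun x => by
      rw [hA, sympTransvection_mulVec, spEquiv_spTr_mulVec])
    refine Subtype.ext (hsub _ _ ?_)
    show (spStar (spStar (spEquiv 2 F (spTr w c)))).1.submatrix e4 e4 =
      ((spEquiv 2 F (spTr w c)).1.map (frobTwo : F ≃+* F)).submatrix e4 e4
    rw [spStar_coe, spStar_coe, submatrix_spTr, star4_star4_tv, submatrix_map, submatrix_spTr]
    exact Matrix.ext fun i j => (frobTwo_apply _).symm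
  exact DFunLike.congr_fun hext s

theorem spStar_bijective : Function.Bijective (spStar (F := F)) := by
  have hinj : Function.Injective (spStar (F := F)) := fun a b h => (spField frobTwo).injective (by
    rw [← spStar_spStar, ← spStar_spStar, h])
  haveI : Finite (symplecticGroup (Fin 2) F) := Subtype.finite
  exact ⟨hinj, Finite.injective_iff_surjective.1 hinj⟩

/-- The exceptional automorphism of `Sp₄` in characteristic two. -/
noncomputable def spStarEquiv : MulAut (symplecticGroup (Fin 2) F) :=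
  MulEquiv.ofBijective spStar spStar_bijective

/-- The exceptional automorphism of `PSp₄(2^f)`. -/
noncomputable def starAut : MulAut (Cfsg.PSp 2 F) := centerQuotAut _ spStarEquiv

theorem starAut_mul_self : starAut * starAut = spSemiAut (1 : Cfsg.GSp 2 F) frobTwo := by
  rw [starAut, spSemiAut, ← map_mul, map_one, one_mul]
  congr 1
  exact MulEquiv.ext fun s => spStar_spStar s

/-- `x` is the image of a transvection. -/
def IsTvImg (x : Cfsg.PSp 2 F) : Prop := ∃ w : SpVec 2 F, w ≠ 0 ∧ ∃ d, x = toPSp (spTr w d)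

/-- `x` is the image of a short root element. -/
def IsShortImg (x : Cfsg.PSp 2 F) : Prop :=
  ∃ w u : SpVec 2 F, w ≠ 0 ∧ (∀ a : F, u ≠ a • w) ∧ sympBilin 2 F w u = 0 ∧
    x = toPSp (altSiegel (sympBilin_self (m := 2) (F := F)) sympBilin_sep w u 1)

theorem two_eq_zero' : (2 : F) = 0 := CharTwo.two_eq_zero

/-- Images of transvection groups. -/
theorem image_dichotomy (β : MulAut (Cfsg.PSp 2 F)) {v : SpVec 2 F} (hv : v ≠ 0) :
    ∃ w : SpVec 2 F, w ≠ 0 ∧
      ((∀ c, ∃ d, β (toPSp (spTr v c)) = toPSp (spTr w d)) ∨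
        IsShortImg (β (toPSp (spTr v 1)))) := by
  obtain ⟨p, _, hp, w, Q, hw, hQw, hQ⟩ := exists_central_image β hv
  obtain rfl : p = 2 := CharP.eq F hp ‹CharP F 2›
  refine ⟨w, hw, ?_⟩
  haveI : Finite (SpVec 2 F ≃ₗ[F] SpVec 2 F) :=
    Finite.of_injective (fun e : SpVec 2 F ≃ₗ[F] SpVec 2 F => (e : SpVec 2 F → SpVec 2 F))
      DFunLike.coe_injective
  have hd : ∀ c, ∃ y, (∀ g ∈ Q, g * y = y * g) ∧ y ∈ Q ∧ NoOrderFour y ∧
      β (toPSp (spTr v c)) = toPSp y ∧
      ((∃ d, y = spTr w d) ∨ ∃ u, (∀ a : F, u ≠ a • w) ∧ sympBilin 2 F w u = 0 ∧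
        y = altSiegel (sympBilin_self (m := 2) (F := F)) sympBilin_sep w u 1) := fun c => by
    obtain ⟨y, hy, hyc, hgood, hyx⟩ := hQ c
    have hg := hgood.resolve_left fun h => h two_eq_zero'
    exact ⟨y, hyc, hy, hg, hyx, central_dichotomy (sympBilin_self (m := 2) (F := F)) sympBilin_sep
      two_eq_zero' hw Q hQw hy hyc hg⟩
  obtain ⟨y1, -, -, -, hyx1, ⟨d1, rfl⟩ | ⟨u, hu, hwu, rfl⟩⟩ := hd 1
  swap
  · exact Or.inr ⟨w, u, hw, hu, hwu, hyx1⟩
  refine Or.inl fun c => ?_
  obtain ⟨y, -, -, -, hyx, ⟨d, rfl⟩ | ⟨u, hu, hwu, rfl⟩⟩ := hd c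
  · exact ⟨d, hyx⟩
  exfalso
  have hd1 : d1 ≠ 0 := fun h => by
    rw [h, spTr_zero, map_one, map_eq_one_iff β β.injective] at hyx1
    exact toPSp_spTr_ne_one le_rfl one_ne_zero hv hyx1
  obtain ⟨y, -, -, hgood, hyx2, -⟩ := hd (c + 1)
  have he : y = altSiegel (sympBilin_self (m := 2) (F := F)) sympBilin_sep w u 1 * spTr w d1 := by
    refine toPSp_injective_of_two two_eq_zero' ?_
    rw [← hyx2, map_mul, ← hyx, ← hyx1, ← map_mul, ← map_mul,
      show spTr v (c + 1) = spTr v c * spTr v 1 from altTv_add _ _ v c 1]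
  exact not_noOrderFour_mixed (sympBilin_self (m := 2) (F := F)) sympBilin_sep two_eq_zero' hw hu hwu
    hd1 (he ▸ hgood)

theorem exists_conj_spTr {v v' : SpVec 2 F} (hv : v ≠ 0) (hv' : v' ≠ 0) :
    ∃ g : formIsoms (sympBilin 2 F), g * spTr v 1 * g⁻¹ = spTr v' 1 := by
  obtain ⟨g, hg⟩ := exists_isom_one (sympBilin_self (m := 2) (F := F)) sympBilin_sep hv hv'
  exact ⟨g, by rw [spTr_conj, hg]⟩

theorem isShortImg_ne_tv {x : Cfsg.PSp 2 F} (hx : IsShortImg x) : ¬ IsTvImg x := by
  rintro ⟨w', hw', d, hd⟩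
  obtain ⟨w, u, hw, hu, hwu, rfl⟩ := hx
  have he := toPSp_injective_of_two two_eq_zero' hd
  have hval : ∀ y, (sympBilin 2 F y u) • w + (sympBilin 2 F y w) • u =
      (d * sympBilin 2 F y w') • w' := fun y => by
    have h := congrArg (fun f : formIsoms (sympBilin 2 F) => f.1 y) he
    simpa [altSiegel_apply _ _ hwu, altTv_apply, add_assoc] using h
  obtain ⟨y₁, hy₁⟩ := exists_pairing_one (sympBilin_self (m := 2) (F := F)) sympBilin_sep hw
  have h1 := hval y₁
  rw [hy₁, one_smul] at h1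
  have hu0 : u ≠ 0 := fun h => hu 0 (by rw [h, zero_smul])
  obtain ⟨y₂, hy₂⟩ := exists_pairing_one (sympBilin_self (m := 2) (F := F)) sympBilin_sep hu0
  have h2 := hval y₂
  rw [hy₂, one_smul] at h2
  set a := sympBilin 2 F y₁ u
  set b := sympBilin 2 F y₂ w
  set s := d * sympBilin 2 F y₁ w'
  set t := d * sympBilin 2 F y₂ w'
  have hs : s ≠ 0 := fun h => hu (-a) (by
    rw [h, zero_smul] at h1; rw [neg_smul, eq_neg_of_add_eq_zero_right h1])
  -- w lies on the line of w'
  have hww : (t * a - s) • w + (t - s * b) • u = 0 := by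
    have e : t • (a • w + u) = s • (w + b • u) := by rw [h1, h2, smul_smul, smul_smul, mul_comm]
    linear_combination (norm := module) e
  have hind : t - s * b = 0 := by
    by_contra hne
    refine hu (-(t - s * b)⁻¹ * (t * a - s)) ?_
    rw [← inv_smul_smul₀ hne u, eq_neg_of_add_eq_zero_right hww, smul_neg, smul_smul, neg_mul,
      neg_smul]
  rw [hind, zero_smul, add_zero, smul_eq_zero] at hww
  have hts : t * a = s := sub_eq_zero.1 (hww.resolve_right hw)
  have ht : t = s * b := sub_eq_zero.1 hind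
  have h3 := hval (b • y₁ + y₂)
  simp only [map_add, map_smul, LinearMap.add_apply, LinearMap.smul_apply, hy₁, hy₂, smul_eq_mul,
    mul_one] at h3
  have hba : b * a = 1 := mul_left_cancel₀ hs (by rw [← mul_assoc, ← ht, hts, mul_one])
  change (b * a + 1) • w + (b + b) • u = (d * (b * sympBilin 2 F y₁ w' + sympBilin 2 F y₂ w')) • w' at h3
  obtain ⟨y₃, hy₃u, hy₃w⟩ : ∃ y, sympBilin 2 F y u = 1 ∧ sympBilin 2 F y w = 0 := by
    have hli : LinearIndependent F ![u, w] := by
      rw [LinearIndependent.pair_iff' hu0]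
      intro c hc
      rcases eq_or_ne c 0 with rfl | hc0
      · exact hw (by rw [← hc, zero_smul])
      · exact hu c⁻¹ (by rw [← hc, inv_smul_smul₀ hc0])
    obtain ⟨G, hG⟩ := LinearMap.exists_leftInverse_of_injective (Fintype.linearCombination F ![u, w])
      (LinearMap.ker_eq_bot.2 (linearIndependent_iff_injective_fintypeLinearCombination.1 hli))
    obtain ⟨f, hf⟩ := exists_form_rep (sympBilin_self (m := 2) (F := F)) sympBilin_sep
      ((LinearMap.proj (0 : Fin 2)).comp G)
    have hv : ∀ i : Fin 2, sympBilin 2 F (![u, w] i) f = (![1, 0] : Fin 2 → F) i := fun i => by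
      have h3 := LinearMap.congr_fun hG (Pi.single i 1)
      rw [LinearMap.comp_apply, Fintype.linearCombination_apply_single, one_smul] at h3
      rw [hf, LinearMap.comp_apply, h3]
      fin_cases i <;> simp
    exact ⟨f, by rw [sympBilin_swap u f, show sympBilin 2 F u f = 1 from hv 0, CharTwo.neg_eq],
      by rw [sympBilin_swap w f, show sympBilin 2 F w f = 0 from hv 1, neg_zero]⟩
  have h4 := hval y₃
  rw [hy₃u, hy₃w, one_smul, zero_smul, add_zero] at h4
  -- `w'` is a multiple of `w`, so `u` is one too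
  have hd0 : d * sympBilin 2 F y₃ w' ≠ 0 := fun h => hw (by rw [h4, h, zero_smul])
  refine hu (s * (d * sympBilin 2 F y₃ w')⁻¹ - a) ?_
  rw [sub_smul, mul_smul]
  nth_rewrite 2 [h4]
  rw [h4, inv_smul_smul₀ hd0, ← h1, h4]
  abel

/-- Either all transvection groups go to transvection groups, or all go to short root groups. -/
theorem type_dichotomy (β : MulAut (Cfsg.PSp 2 F)) :
    (∀ v : SpVec 2 F, v ≠ 0 → ∃ w : SpVec 2 F, w ≠ 0 ∧ ∀ c, ∃ d,
      β (toPSp (spTr v c)) = toPSp (spTr w d)) ∨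
    ∀ v : SpVec 2 F, v ≠ 0 → IsShortImg (β (toPSp (spTr v 1))) := by
  by_cases h : ∀ v : SpVec 2 F, v ≠ 0 → IsShortImg (β (toPSp (spTr v 1)))
  · exact Or.inr h
  left
  simp only [not_forall] at h
  obtain ⟨v₀, hv₀, hns⟩ := h
  obtain ⟨w₀, hw₀, h₀ | h₀⟩ := image_dichotomy β hv₀
  swap
  · exact absurd h₀ hns
  obtain ⟨d, hd⟩ := h₀ 1
  intro v hv
  obtain ⟨w, hw, h1 | h1⟩ := image_dichotomy β hv
  · exact ⟨w, hw, h1⟩
  exfalso
  obtain ⟨g, hg⟩ := exists_conj_spTr hv₀ hv
  obtain ⟨g', hg'⟩ := toPSp_surjective (β (toPSp g))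
  refine isShortImg_ne_tv h1 ⟨g'.1 w₀, fun h => hw₀ (g'.1.injective (h.trans (map_zero g'.1).symm)),
    d, ?_⟩
  rw [← hg, ← spTr_conj, map_mul, map_mul, map_inv, map_mul, map_mul, map_inv, map_mul, map_mul,
    map_inv, hg', hd]

theorem starAut_toPSp_not_tv : ∃ v : SpVec 2 F, v ≠ 0 ∧ ¬ IsTvImg (starAut (toPSp (spTr v 1))) := by
  refine ⟨Pi.single (e4 0) 1, fun h => by simpa using congrFun h (e4 0), ?_⟩
  rintro ⟨w, -, d, h⟩
  have h' : toPSp (F := F) (m := 2) ((spEquiv 2 F).symm (spStar (spEquiv 2 F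
      (spTr (Pi.single (e4 0) 1) 1)))) = toPSp (spTr w d) := by
    rw [← h, starAut]
    simp only [toPSp, MonoidHom.comp_apply, MulEquiv.coe_toMonoidHom, MulEquiv.apply_symm_apply]
    rfl
  have he := congrArg (fun g => (spEquiv 2 F g).1.submatrix e4 e4) (toPSp_injective_of_two two_eq_zero' h')
  simp only [MulEquiv.apply_symm_apply] at he
  rw [spStar_coe, submatrix_spTr, submatrix_spTr,
    show (Pi.single (e4 0) (1 : F)) ∘ e4 = Pi.single 0 1 from funext fun i => by
      by_cases hi : i = 0 <;> simp [hi, Pi.single_apply]] at he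
  exact star4_tv_single_not_tv _ _ he

theorem starAut_short : ∀ v : SpVec 2 F, v ≠ 0 → IsShortImg (starAut (toPSp (spTr v 1))) := by
  rcases type_dichotomy (starAut (F := F)) with h | h
  · obtain ⟨v, hv, hn⟩ := starAut_toPSp_not_tv (F := F)
    obtain ⟨w, hw, hd⟩ := h v hv
    obtain ⟨d, hd⟩ := hd 1
    exact absurd ⟨w, hw, d, hd⟩ hn
  · exact h

/-- `starAut` sends short root elements to transvections. -/
theorem starAut_short_tv {x : Cfsg.PSp 2 F} (hx : IsShortImg x) : IsTvImg (starAut x) := by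
  obtain ⟨w, u, hw, hu, hwu, rfl⟩ := hx
  obtain ⟨v₀, hv₀⟩ : ∃ v : SpVec 2 F, v ≠ 0 :=
    ⟨Pi.single (Sum.inl 0) 1, fun h => by simpa using congrFun h (Sum.inl 0)⟩
  obtain ⟨w', u', hw', hu', hwu', he⟩ := starAut_short v₀ hv₀
  obtain ⟨g, hgw, hgu⟩ := exists_isom_pair (sympBilin_self (m := 2) (F := F)) sympBilin_sep
    (show LinearIndependent F ![w', u'] by
      rw [LinearIndependent.pair_iff' hw']; exact fun c h => hu' c h.symm)
    (show LinearIndependent F ![w, u] by
      rw [LinearIndependent.pair_iff' hw]; exact fun c h => hu c h.symm) (by rw [hwu, hwu'])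
  obtain ⟨k, hk⟩ := toPSp_surjective (starAut.symm (toPSp g))
  have hkg : starAut (toPSp k) = toPSp g := by rw [hk, MulEquiv.apply_symm_apply]
  have hconj : toPSp (altSiegel (sympBilin_self (m := 2) (F := F)) sympBilin_sep w u 1) =
      starAut (toPSp (spTr (k.1 v₀) 1)) := by
    rw [← spTr_conj, map_mul, map_mul, map_inv, map_mul, map_mul, map_inv, hkg, he, ← map_inv,
      ← map_mul, ← map_mul, altSiegel_conj, hgw, hgu]
  rw [hconj, ← MulAut.mul_apply, starAut_mul_self]
  obtain ⟨d, -, hd⟩ := spSemiAut_toPSp_spTr (1 : Cfsg.GSp 2 F) frobTwo (k.1 v₀) 1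
  refine ⟨_, ?_, d, hd⟩
  rw [show ((1 : Cfsg.GSp 2 F).1).1 = 1 from rfl, one_mulVec]
  intro h0
  exact hv₀ (k.1.injective ((funext fun i => (map_eq_zero frobTwo).1 (congrFun h0 i)).trans
    (map_zero k.1).symm))

/-- Every automorphism of `PSp₄(2^f)` is semilinear or exceptional times semilinear. -/
theorem mulAut_psp_four (β : MulAut (Cfsg.PSp 2 F)) :
    (∃ g σ, β = spSemiAut g σ) ∨ ∃ g σ, β = starAut⁻¹ * spSemiAut g σ := by
  have hfin : Finite (Cfsg.PSp 2 F) := by
    haveI : Finite (SpVec 2 F ≃ₗ[F] SpVec 2 F) :=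
      Finite.of_injective (fun e : SpVec 2 F ≃ₗ[F] SpVec 2 F => (e : SpVec 2 F → SpVec 2 F))
        DFunLike.coe_injective
    exact Finite.of_surjective _ toPSp_surjective
  have key : ∀ γ : MulAut (Cfsg.PSp 2 F),
      (∀ v : SpVec 2 F, v ≠ 0 → IsTvImg (γ (toPSp (spTr v 1)))) → ∃ g σ, γ = spSemiAut g σ := by
    intro γ hγ
    have hpres : ∀ δ : MulAut (Cfsg.PSp 2 F),
        (∀ v : SpVec 2 F, v ≠ 0 → IsTvImg (δ (toPSp (spTr v 1)))) →
        ∀ v : SpVec 2 F, v ≠ 0 → ∃ w : SpVec 2 F, w ≠ 0 ∧ ∀ c, ∃ d,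
          δ (toPSp (spTr v c)) = toPSp (spTr w d) := by
      intro δ hδ
      rcases type_dichotomy δ with h | h
      · exact h
      · intro v hv
        exact absurd (hδ v hv) (isShortImg_ne_tv (h v hv))
    refine exists_spSemiAut_of_preserving le_rfl γ (hpres γ hγ) (hpres γ.symm fun v hv => ?_)
    -- `γ` permutes the finitely many images of transvections
    let S : Set (Cfsg.PSp 2 F) := {x | IsTvImg x}
    have hmaps : γ '' S ⊆ S := by
      rintro _ ⟨_, ⟨w, hw, d, rfl⟩, rfl⟩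
      obtain ⟨w', hw', hd'⟩ := hpres γ hγ w hw
      obtain ⟨d', hd'⟩ := hd' d
      exact ⟨w', hw', d', hd'⟩
    have heq : γ '' S = S := Set.eq_of_subset_of_ncard_le hmaps
      (by rw [Set.ncard_image_of_injective _ γ.injective]) (Set.toFinite S)
    obtain ⟨x, hx, hx'⟩ : toPSp (spTr v 1) ∈ γ '' S := by rw [heq]; exact ⟨v, hv, 1, rfl⟩
    rw [← hx', MulEquiv.symm_apply_apply]
    exact hx
  rcases type_dichotomy β with h | h
  · refine Or.inl (key β fun v hv => ?_)
    obtain ⟨w, hw, hd⟩ := h v hv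
    obtain ⟨d, hd⟩ := hd 1
    exact ⟨w, hw, d, hd⟩
  · obtain ⟨g, σ, hgσ⟩ := key (starAut * β) fun v hv => starAut_short_tv (h v hv)
    exact Or.inr ⟨g, σ, by rw [← hgσ, inv_mul_cancel_left]⟩

theorem starAut_ne_spSemiAut (g : Cfsg.GSp 2 F) (σ : F ≃+* F) : starAut ≠ spSemiAut g σ := by
  intro h
  obtain ⟨v, hv, hn⟩ := starAut_toPSp_not_tv (F := F)
  obtain ⟨d, -, hd⟩ := spSemiAut_toPSp_spTr g σ v 1
  refine hn ⟨_, fun h0 => hv ?_, d, by rw [h]; exact hd⟩
  exact funext fun i => (map_eq_zero σ).1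
    (congrFun (Matrix.mulVec_injective_of_isUnit g.1.isUnit (h0.trans (mulVec_zero _).symm)) i)

end CfsgLib.KnownC
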