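import Mathlib
import Cfsg.Agent.Lib.KnownC.AutPSpFour
import Cfsg.Agent.Lib.KnownC.FieldAut

set_option autoImplicit false
set_option linter.unusedSectionVars false

/-!
The order of the automorphism group of `PSp_{2m}(q)`.
-/

namespace CfsgLib.KnownC

open Matrix CfsgLib.Geom

variable {m : ℕ} {F : Type*} [Field F]

theorem conjHom_psp_injective (hm : 2 ≤ m) :
    Function.Injective (MulAut.conj : Cfsg.PSp m F →* MulAut (Cfsg.PSp m F)) := by
  refine (injective_iff_map_eq_one _).2 fun x hx => ?_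
  obtain ⟨s, rfl⟩ := QuotientGroup.mk_surjective x
  rw [← spInndiagHom_spToGSp, spInndiagHom_apply, spSemiAut_eq_one_iff hm] at hx
  obtain ⟨-, c, hc⟩ := hx
  refine (QuotientGroup.eq_one_iff _).2 (Subgroup.mem_center_iff.2 fun t => Subtype.ext ?_)
  show t.1 * s.1 = s.1 * t.1
  rw [show s.1 = (c : F) • 1 from hc, smul_mul, one_mul, mul_smul_comm, mul_one]

theorem card_inn_psp (hm : 2 ≤ m) :
    Nat.card (Cfsg.Inn (Cfsg.PSp m F)) = Nat.card (Cfsg.PSp m F) :=
  (Nat.card_congr (MonoidHom.ofInjective (conjHom_psp_injective hm)).toEquiv).symm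

theorem card_inndiagPSp [Finite F] (hm : 2 ≤ m) :
    Nat.card (Cfsg.inndiagPSp m F) = Nat.gcd 2 (Nat.card Fˣ) * Nat.card (Cfsg.PSp m F) := by
  have hm1 : 1 ≤ m := by omega
  have hidx : (Cfsg.Inn (Cfsg.PSp m F)).relIndex (Cfsg.inndiagPSp m F) =
      Nat.gcd 2 (Nat.card Fˣ) := by
    rw [inn_eq_map_ker hm1, inndiagPSp_eq_range, ← Subgroup.index_comap, Subgroup.comap_map_eq]
    have hsurj : Function.Surjective (gspMultHom (m := m) (F := F) hm1) :=
      fun μ => exists_gspMult_eq hm1 μ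
    rw [← Subgroup.index_map_eq _ hsurj le_sup_left, Subgroup.map_sup,
      (Subgroup.map_eq_bot_iff _).2 le_rfl, bot_sup_eq]
    have hker : (spInndiagHom (m := m) (F := F)).ker = (gspScalar (m := m) (F := F)).range := by
      ext g
      rw [MonoidHom.mem_ker, spInndiagHom_apply, spSemiAut_eq_one_iff hm, and_iff_right rfl]
      constructor
      · rintro ⟨c, hc⟩
        exact ⟨c, Subtype.ext (Units.ext ((gspScalar_val c).trans hc.symm))⟩
      · rintro ⟨c, rfl⟩
        exact ⟨c, gspScalar_val c⟩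
    rw [hker, MonoidHom.map_range, show (gspMultHom hm1).comp (gspScalar (m := m)) =
        (powMonoidHom 2 : Fˣ →* Fˣ) from MonoidHom.ext fun c => Units.ext (gspMult_eq hm1 _ fun u v => by
          rw [gspScalar_val, smul_mulVec, smul_mulVec, one_mulVec, one_mulVec, map_smul, map_smul,
            LinearMap.smul_apply, smul_eq_mul, smul_eq_mul, powMonoidHom_apply,
            Units.val_pow_eq_pow_val]
          ring),
      IsCyclic.index_powMonoidHom_range, Nat.gcd_comm]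
  rw [← hidx, ← card_inn_psp hm, mul_comm, Subgroup.relIndex,
    ← Nat.card_congr (Subgroup.subgroupOfEquivOfLe (inn_le_inndiagPSp hm1)).toEquiv,
    Subgroup.card_mul_index]

/-- The set of semilinear automorphisms, as a subgroup. -/
def spSemiSubgroup (m : ℕ) (F : Type*) [Field F] : Subgroup (MulAut (Cfsg.PSp m F)) where
  carrier := {β | ∃ g σ, β = spSemiAut g σ}
  one_mem' := ⟨1, _, spSemiAut_one.symm⟩
  mul_mem' := by
    rintro _ _ ⟨g, σ, rfl⟩ ⟨h, τ, rfl⟩
    exact ⟨_, _, spSemiAut_mul g h σ τ⟩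
  inv_mem' := by
    rintro _ ⟨g, σ, rfl⟩
    exact ⟨_, _, spSemiAut_inv g σ⟩

theorem card_spSemiSubgroup [Finite F] (hm : 2 ≤ m) :
    Nat.card (spSemiSubgroup m F) = Nat.card (F ≃+* F) * Nat.card (Cfsg.inndiagPSp m F) := by
  let E : Cfsg.inndiagPSp m F × (F ≃+* F) → spSemiSubgroup m F := fun x =>
    ⟨x.1.1 * spSemiAut 1 x.2, by
      obtain ⟨g, hg⟩ := inndiagPSp_eq_range.le x.1.2
      exact ⟨g, x.2, by rw [← hg]; exact (spSemiAut_eq_mul g x.2).symm⟩⟩
  have hbij : Function.Bijective E := by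
    constructor
    · rintro ⟨⟨d, hd⟩, σ⟩ ⟨⟨d', hd'⟩, τ⟩ he
      have he' : d * spSemiAut 1 σ = d' * spSemiAut 1 τ := congrArg Subtype.val he
      have hmem : spSemiAut (1 : Cfsg.GSp m F) (σ * τ⁻¹) ∈ Cfsg.inndiagPSp m F := by
        have : spSemiAut (1 : Cfsg.GSp m F) (σ * τ⁻¹) = d⁻¹ * d' := by
          have hsplit : spSemiAut (1 : Cfsg.GSp m F) (σ * τ⁻¹) =
              spSemiAut 1 σ * (spSemiAut (1 : Cfsg.GSp m F) τ)⁻¹ := by
            rw [spSemiAut_inv, inv_one, map_one, spSemiAut_mul, map_one, mul_one]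
            rfl
          rw [hsplit, eq_inv_mul_iff_mul_eq, ← mul_assoc, he', mul_inv_cancel_right]
        rw [this]
        exact mul_mem (inv_mem hd) hd'
      rw [inndiagPSp_eq_range] at hmem
      obtain ⟨g, hg⟩ := hmem
      have h1 : spSemiAut ((g : Cfsg.GSp m F)⁻¹) (σ * τ⁻¹) = 1 := by
        rw [spSemiAut_eq_mul, map_inv, ← hg, inv_mul_cancel]
      have hστ : σ = τ := mul_inv_eq_one.1 ((spSemiAut_eq_one_iff hm _ _).1 h1).1
      subst hστ
      exact Prod.ext (Subtype.ext (mul_right_cancel he')) rfl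
    · rintro ⟨_, g, σ, rfl⟩
      exact ⟨(⟨spInndiagHom g, by rw [inndiagPSp_eq_range]; exact ⟨g, rfl⟩⟩, σ),
        Subtype.ext (spSemiAut_eq_mul g σ).symm⟩
  rw [← Nat.card_eq_of_bijective E hbij, Nat.card_prod, mul_comm]

theorem card_mulAut_psp [Finite F] (hm : 2 ≤ m) (h : (2 : F) ≠ 0 ∨ 3 ≤ m) :
    Nat.card (MulAut (Cfsg.PSp m F)) =
      Nat.card (F ≃+* F) * Nat.gcd 2 (Nat.card Fˣ) * Nat.card (Cfsg.PSp m F) := by
  have htop : spSemiSubgroup m F = ⊤ := eq_top_iff.2 fun β _ => exists_spSemiAut hm h β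
  rw [← Subgroup.card_top, ← htop, card_spSemiSubgroup hm, card_inndiagPSp hm, mul_assoc]

theorem card_mulAut_psp_four [Finite F] [CharP F 2] :
    Nat.card (MulAut (Cfsg.PSp 2 F)) =
      2 * (Nat.card (F ≃+* F) * Nat.gcd 2 (Nat.card Fˣ) * Nat.card (Cfsg.PSp 2 F)) := by
  let E : spSemiSubgroup 2 F ⊕ spSemiSubgroup 2 F → MulAut (Cfsg.PSp 2 F) :=
    Sum.elim (fun x => x.1) fun x => starAut⁻¹ * x.1
  have hne : ∀ x y : spSemiSubgroup 2 F, x.1 ≠ starAut⁻¹ * y.1 := fun x y he => by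
    obtain ⟨g, σ, hg⟩ := mul_mem y.2 (inv_mem x.2)
    refine starAut_ne_spSemiAut g σ ?_
    rw [← hg, he]
    group
  have hbij : Function.Bijective E := by
    constructor
    · rintro (x | x) (y | y) he
      · exact congrArg Sum.inl (Subtype.ext he)
      · exact absurd he (hne x y)
      · exact absurd he.symm (hne y x)
      · exact congrArg Sum.inr (Subtype.ext (mul_left_cancel he))
    · intro β
      rcases mulAut_psp_four β with h | ⟨g, σ, h⟩
      · exact ⟨Sum.inl ⟨β, h⟩, rfl⟩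
      · exact ⟨Sum.inr ⟨_, g, σ, rfl⟩, h.symm⟩
  haveI : Finite (MulAut (Cfsg.PSp 2 F)) := by
    haveI : Finite (Cfsg.PSp 2 F) := by
      haveI : Finite (symplecticGroup (Fin 2) F) := Subtype.finite
      infer_instance
    exact Finite.of_injective (fun e : MulAut (Cfsg.PSp 2 F) => (e : Cfsg.PSp 2 F → Cfsg.PSp 2 F))
      DFunLike.coe_injective
  rw [← Nat.card_eq_of_bijective E hbij, Nat.card_sum, card_spSemiSubgroup le_rfl,
    card_inndiagPSp le_rfl, mul_assoc]
  ring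

theorem gcd_two_card_units [Fintype F] [CharP F 2] : Nat.gcd 2 (Nat.card Fˣ) = 1 := by
  obtain ⟨k, -, hk⟩ := FiniteField.card F 2
  refine Nat.prime_two.coprime_iff_not_dvd.2 fun h => ?_
  rw [Nat.card_units, Nat.card_eq_fintype_card, hk] at h
  have h2 : 2 ∣ 2 ^ (k : ℕ) := dvd_pow_self 2 k.pos.ne'
  have h3 : 1 ≤ 2 ^ (k : ℕ) := Nat.one_le_two_pow
  omega

/-- The outer automorphism group of `PSp₄(2^f)` is generated by the exceptional one. -/
theorem isCyclic_out_psp_four [Fintype F] [CharP F 2] :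
    IsCyclic (Cfsg.Out (Cfsg.PSp 2 F)) := by
  obtain ⟨f, -, hF⟩ := FiniteField.card F 2
  obtain ⟨φ, hφ, -, hgen⟩ := exists_ringAut_generator hF
  haveI : Finite (F ≃+* F) :=
    Finite.of_injective (fun s : F ≃+* F => (s : F → F)) DFunLike.coe_injective
  have hfrob : φ = frobTwo := RingEquiv.ext fun x => by rw [hφ, frobTwo_apply, sq]
  let π := QuotientGroup.mk' (Cfsg.Inn (Cfsg.PSp 2 F))
  have hinn : ∀ g : Cfsg.GSp 2 F, π (spInndiagHom g) = 1 := fun g => by
    refine (QuotientGroup.eq_one_iff _).2 ?_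
    have hle : Cfsg.Inn (Cfsg.PSp 2 F) = Cfsg.inndiagPSp 2 F := by
      haveI : Finite (MulAut (Cfsg.PSp 2 F)) := by
        haveI : Finite (symplecticGroup (Fin 2) F) := Subtype.finite
        exact Finite.of_injective (fun e : MulAut (Cfsg.PSp 2 F) => (e : Cfsg.PSp 2 F → Cfsg.PSp 2 F))
          DFunLike.coe_injective
      refine Subgroup.eq_of_le_of_card_ge (inn_le_inndiagPSp one_le_two) (le_of_eq ?_)
      rw [card_inndiagPSp le_rfl, card_inn_psp le_rfl, gcd_two_card_units, one_mul]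
    rw [hle, inndiagPSp_eq_range]
    exact ⟨g, rfl⟩
  have hsemi : ∀ g σ, π (spSemiAut g σ) ∈ Subgroup.zpowers (π starAut) := fun g σ => by
    obtain ⟨k, rfl⟩ := mem_powers_iff_mem_zpowers.2 (hgen σ)
    rw [spSemiAut_eq_mul, map_mul, hinn, one_mul]
    have : spSemiAut (1 : Cfsg.GSp 2 F) (φ ^ k) = (starAut * starAut) ^ k := by
      rw [starAut_mul_self, spSemiAut_pow, ← hfrob]
      congr 1
      induction k with
      | zero => rfl
      | succ k ih => show (1 : Cfsg.GSp 2 F) = 1 * gspMap φ (spNorm φ 1 k); rw [← ih, map_one, mul_one]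
    rw [this, ← sq, ← pow_mul, map_pow]
    exact Subgroup.npow_mem_zpowers _ _
  refine ⟨⟨π starAut, fun x => ?_⟩⟩
  obtain ⟨β, rfl⟩ := QuotientGroup.mk'_surjective _ x
  rcases mulAut_psp_four β with ⟨g, σ, rfl⟩ | ⟨g, σ, rfl⟩
  · exact hsemi g σ
  · rw [map_mul, map_inv]
    exact mul_mem (inv_mem (Subgroup.mem_zpowers _)) (hsemi g σ)

end CfsgLib.KnownC
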