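import Cfsg.Agent.Lib.KnownC.RegNilCommutant

set_option autoImplicit false

/-!
The symplectic adjoint and a regular unipotent element of `Sp_2m` (any characteristic).
-/

namespace CfsgLib.KnownC

open Matrix

variable {F : Type*} [Field F] {m : ℕ}

/-- The adjoint with respect to the standard alternating form. -/
def spAdj (A : Matrix (Fin m ⊕ Fin m) (Fin m ⊕ Fin m) F) : Matrix (Fin m ⊕ Fin m) (Fin m ⊕ Fin m) F :=
  -(Matrix.J (Fin m) F * Aᵀ * Matrix.J (Fin m) F)

theorem spAdj_mul (A B : Matrix (Fin m ⊕ Fin m) (Fin m ⊕ Fin m) F) :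
    spAdj (A * B) = spAdj B * spAdj A := by
  simp only [spAdj, transpose_mul, neg_mul, mul_neg, neg_neg, ← mul_assoc]
  rw [mul_assoc (Matrix.J (Fin m) F * Bᵀ) (Matrix.J (Fin m) F) (Matrix.J (Fin m) F),
    Matrix.J_squared, mul_neg_one, neg_mul, neg_mul]

theorem spAdj_one : spAdj (1 : Matrix (Fin m ⊕ Fin m) (Fin m ⊕ Fin m) F) = 1 := by
  simp [spAdj, Matrix.J_squared]

theorem spAdj_add (A B : Matrix (Fin m ⊕ Fin m) (Fin m ⊕ Fin m) F) :
    spAdj (A + B) = spAdj A + spAdj B := by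
  simp only [spAdj, transpose_add, mul_add, add_mul, neg_add]

theorem spAdj_sub (A B : Matrix (Fin m ⊕ Fin m) (Fin m ⊕ Fin m) F) :
    spAdj (A - B) = spAdj A - spAdj B := by
  simp only [spAdj, transpose_sub, mul_sub, sub_mul]; abel

theorem spAdj_neg (A : Matrix (Fin m ⊕ Fin m) (Fin m ⊕ Fin m) F) : spAdj (-A) = -spAdj A := by
  simp [spAdj]

theorem spAdj_zero : spAdj (0 : Matrix (Fin m ⊕ Fin m) (Fin m ⊕ Fin m) F) = 0 := by simp [spAdj]

theorem spAdj_smul (c : F) (A : Matrix (Fin m ⊕ Fin m) (Fin m ⊕ Fin m) F) :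
    spAdj (c • A) = c • spAdj A := by
  simp [spAdj]

theorem spAdj_pow (A : Matrix (Fin m ⊕ Fin m) (Fin m ⊕ Fin m) F) (k : ℕ) :
    spAdj (A ^ k) = spAdj A ^ k := by
  induction k with
  | zero => simp [spAdj_one]
  | succ k ih => rw [pow_succ, spAdj_mul, ih, ← pow_succ']

theorem spAdj_spAdj (A : Matrix (Fin m ⊕ Fin m) (Fin m ⊕ Fin m) F) : spAdj (spAdj A) = A := by
  simp only [spAdj, transpose_neg, transpose_mul, Matrix.J_transpose, transpose_transpose, neg_mul,
    mul_neg, neg_neg, ← mul_assoc, Matrix.J_squared, one_mul]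
  rw [mul_assoc A, Matrix.J_squared, mul_neg_one, neg_neg]

/-- The adjoint as a linear map. -/
def spAdjLin : Matrix (Fin m ⊕ Fin m) (Fin m ⊕ Fin m) F →ₗ[F] Matrix (Fin m ⊕ Fin m) (Fin m ⊕ Fin m) F where
  toFun := spAdj
  map_add' := spAdj_add
  map_smul' := spAdj_smul

theorem mem_symplectic_iff_spAdj (A : Matrix (Fin m ⊕ Fin m) (Fin m ⊕ Fin m) F) :
    A ∈ Matrix.symplecticGroup (Fin m) F ↔ spAdj A * A = 1 := by
  rw [SymplecticGroup.mem_iff']
  constructor
  · intro h
    rw [spAdj, neg_mul, mul_assoc, mul_assoc, ← mul_assoc Aᵀ, h, Matrix.J_squared, neg_neg]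
  · intro h
    calc Aᵀ * Matrix.J (Fin m) F * A
        = -(Matrix.J (Fin m) F * Matrix.J (Fin m) F) * (Aᵀ * Matrix.J (Fin m) F * A) := by
          rw [Matrix.J_squared, neg_neg, one_mul]
      _ = Matrix.J (Fin m) F * (spAdj A * A) := by
          simp only [spAdj, neg_mul, mul_neg, mul_assoc]
      _ = Matrix.J (Fin m) F := by rw [h, mul_one]

theorem spAdj_symplectic (u : Matrix.symplecticGroup (Fin m) F) :
    spAdj (u : Matrix (Fin m ⊕ Fin m) (Fin m ⊕ Fin m) F) =
      ((u⁻¹ : Matrix.symplecticGroup (Fin m) F) : Matrix (Fin m ⊕ Fin m) (Fin m ⊕ Fin m) F) := by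
  refine left_inv_eq_right_inv ((mem_symplectic_iff_spAdj _).1 u.2) ?_
  exact congrArg Subtype.val (mul_inv_cancel u)

theorem card_symp_index (m : ℕ) : Fintype.card (Fin m ⊕ Fin m) = 2 * m := by
  rw [Fintype.card_sum, Fintype.card_fin]; omega

theorem isRegNil_symp_iff (hm : 1 ≤ m) (N : Matrix (Fin m ⊕ Fin m) (Fin m ⊕ Fin m) F) :
    IsRegNil N ↔ N ^ (2 * m) = 0 ∧ N.rank = 2 * m - 1 := by
  rw [← card_symp_index m]
  exact ⟨fun h => ⟨h.nil, h.rank_eq⟩,
    fun h => ⟨by rw [card_symp_index]; omega, h.1, h.2⟩⟩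

/-- A nilpotent matrix with small kernel is regular. -/
theorem IsRegNil.of_kernel {ι : Type*} [Fintype ι] [DecidableEq ι] {N : Matrix ι ι F}
    (hpos : 1 ≤ Fintype.card ι) (hnil : N ^ Fintype.card ι = 0) (φ : (ι → F) →ₗ[F] F)
    (hker : ∀ x, N *ᵥ x = 0 → φ x = 0 → x = 0) : IsRegNil N := by
  refine ⟨hpos, hnil, ?_⟩
  have h1 := N.mulVecLin.finrank_range_add_finrank_ker
  rw [Module.finrank_fintype_fun_eq_card] at h1
  have h2 : N.rank = Module.finrank F (LinearMap.range N.mulVecLin) := rfl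
  have h3 : Module.finrank F (LinearMap.ker N.mulVecLin) ≤ 1 := by
    refine (LinearMap.finrank_le_finrank_of_injective
      (f := φ.comp (LinearMap.ker N.mulVecLin).subtype) ?_).trans (Module.finrank_self F).le
    rw [← LinearMap.ker_eq_bot, Submodule.eq_bot_iff]
    exact fun x hx => Subtype.ext (hker x.1 (LinearMap.mem_ker.1 x.2) hx)
  have h4 : 1 ≤ Module.finrank F (LinearMap.ker N.mulVecLin) := by
    rw [Nat.one_le_iff_ne_zero, Ne, Submodule.finrank_eq_zero]
    intro hbot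
    have hu : IsUnit N := Matrix.mulVec_injective_iff_isUnit.1 (LinearMap.ker_eq_bot.1 hbot)
    haveI : Nonempty ι := Fintype.card_pos_iff.1 hpos
    have := hu.pow (Fintype.card ι)
    rw [hnil] at this
    exact not_isUnit_zero this
  omega

theorem fromBlocks_pow_lower {α β : Type*} [Fintype α] [Fintype β] [DecidableEq α] [DecidableEq β]
    (a : Matrix α α F) (c : Matrix β α F) (d : Matrix β β F) (k : ℕ) :
    ∃ c', (Matrix.fromBlocks a 0 c d) ^ k = Matrix.fromBlocks (a ^ k) 0 c' (d ^ k) := by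
  induction k with
  | zero => exact ⟨0, by simp [Matrix.fromBlocks_one]⟩
  | succ k ih =>
    obtain ⟨c', hc'⟩ := ih
    exact ⟨c' * a + d ^ k * c, by rw [pow_succ, hc', Matrix.fromBlocks_multiply]; simp [pow_succ]⟩

/-- `Sp_2m` has a regular unipotent element. -/
theorem exists_regular_symplectic (hm : 1 ≤ m) :
    ∃ u : Matrix.symplecticGroup (Fin m) F,
      IsRegNil ((u : Matrix (Fin m ⊕ Fin m) (Fin m ⊕ Fin m) F) - 1) := by
  classical
  set L := shiftMat m F with hL
  have hLn : L ^ m = 0 := (shiftMat_regular hm).1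
  have hu : IsUnit (1 + L) := IsNilpotent.isUnit_one_add ⟨m, hLn⟩
  obtain ⟨A', hA'A, hAA'⟩ : ∃ A', A' * (1 + L) = 1 ∧ (1 + L) * A' = 1 :=
    ⟨_, hu.val_inv_mul, hu.mul_val_inv⟩
  set z : Fin m := ⟨0, hm⟩ with hz
  set l : Fin m := ⟨m - 1, by omega⟩ with hl
  set S : Matrix (Fin m) (Fin m) F := Matrix.single z z 1 with hS
  have hSt : Sᵀ = S := by rw [hS, Matrix.transpose_single]
  set M : Matrix (Fin m ⊕ Fin m) (Fin m ⊕ Fin m) F :=
    Matrix.fromBlocks (1 + L) 0 (A'ᵀ * S) A'ᵀ with hM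
  have hmem : M ∈ Matrix.symplecticGroup (Fin m) F := by
    have e1 : (1 + L)ᵀ * A'ᵀ = 1 := by rw [← transpose_mul, hA'A, transpose_one]
    rw [SymplecticGroup.mem_iff', hM, Matrix.J, Matrix.fromBlocks_transpose, Matrix.fromBlocks_multiply,
      Matrix.fromBlocks_multiply]
    refine Matrix.fromBlocks_inj.2 ⟨?_, ?_, ?_, ?_⟩
    · simp only [transpose_mul, transpose_transpose, hSt, mul_zero, mul_one, zero_add, add_zero,
        mul_neg, neg_mul, mul_assoc, hA'A]
      rw [← mul_assoc, e1, one_mul]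
      abel
    · simp
      rw [show (-Lᵀ + -1 : Matrix (Fin m) (Fin m) F) = -((1 + L)ᵀ) by simp [add_comm], neg_mul, e1]
    · simp [hA'A]
    · simp
  refine ⟨⟨M, hmem⟩, ?_⟩
  have hd : A'ᵀ - 1 = -(A'ᵀ * Lᵀ) := by
    have e1 : A'ᵀ * (1 + L)ᵀ = 1 := by rw [← transpose_mul, hAA', transpose_one]
    rw [transpose_add, transpose_one, mul_add, mul_one] at e1
    rw [← e1]; abel
  have hN : M - 1 = Matrix.fromBlocks L 0 (A'ᵀ * S) (-(A'ᵀ * Lᵀ)) := by
    rw [hM, ← Matrix.fromBlocks_one, sub_eq_add_neg, Matrix.fromBlocks_neg, Matrix.fromBlocks_add,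
      ← sub_eq_add_neg, ← sub_eq_add_neg (b := (1 : Matrix (Fin m) (Fin m) F)), add_sub_cancel_left,
      hd]
    simp
  show IsRegNil (M - 1)
  rw [hN]
  refine IsRegNil.of_kernel (by rw [card_symp_index]; omega) ?_ (LinearMap.proj (Sum.inr l)) ?_
  · have hcomm : Commute A'ᵀ Lᵀ := by
      have h1 : Commute A' (1 + L) := hA'A.trans hAA'.symm
      have h2 : Commute A' L := by simpa using h1.sub_right (Commute.one_right A')
      show A'ᵀ * Lᵀ = Lᵀ * A'ᵀ
      rw [← transpose_mul, ← transpose_mul, h2.eq]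
    obtain ⟨c', hc'⟩ := fromBlocks_pow_lower L (A'ᵀ * S) (-(A'ᵀ * Lᵀ)) m
    rw [card_symp_index, two_mul, pow_add, hc', hLn,
      show (-(A'ᵀ * Lᵀ)) ^ m = 0 by
        rw [neg_pow, hcomm.mul_pow, ← transpose_pow L, hLn, transpose_zero, mul_zero, mul_zero],
      Matrix.fromBlocks_multiply]
    simp
  · intro x hx hlast
    rw [show x = Sum.elim (x ∘ Sum.inl) (x ∘ Sum.inr) from (Sum.elim_comp_inl_inr x).symm,
      Matrix.fromBlocks_mulVec] at hx
    have htop : L *ᵥ (x ∘ Sum.inl) = 0 := by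
      funext i
      have := congrFun hx (Sum.inl i)
      simpa using this
    have hbot : (A'ᵀ * S) *ᵥ (x ∘ Sum.inl) + (-(A'ᵀ * Lᵀ)) *ᵥ (x ∘ Sum.inr) = 0 := by
      funext i
      have := congrFun hx (Sum.inr i)
      simpa using this
    rw [neg_mulVec, ← sub_eq_add_neg, sub_eq_zero, ← mulVec_mulVec, ← mulVec_mulVec] at hbot
    have hbot' := Matrix.mulVec_injective_of_isUnit
      (show IsUnit A'ᵀ from Matrix.isUnit_transpose A' |>.2 ⟨⟨A', 1 + L, hA'A, hAA'⟩, rfl⟩) hbot
    have hshiftT : ∀ (w : Fin m → F) (i : Fin m), (Lᵀ *ᵥ w) i =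
        if h : 1 ≤ (i : ℕ) then w ⟨i - 1, by omega⟩ else 0 := by
      intro w i
      rw [mulVec, dotProduct]
      by_cases h : 1 ≤ (i : ℕ)
      · rw [dif_pos h, Finset.sum_eq_single ⟨(i : ℕ) - 1, by omega⟩]
        · rw [transpose_apply, hL, shiftMat, Matrix.of_apply, if_pos (by show (i : ℕ) = i - 1 + 1; omega),
            one_mul]
        · intro j _ hj
          rw [transpose_apply, hL, shiftMat, Matrix.of_apply, if_neg (fun e => hj (Fin.ext (by
            show (j : ℕ) = i - 1; omega))), zero_mul]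
        · intro hh; exact absurd (Finset.mem_univ _) hh
      · rw [dif_neg h]
        exact Finset.sum_eq_zero fun j _ => by
          rw [transpose_apply, hL, shiftMat, Matrix.of_apply, if_neg (by omega), zero_mul]
    have hx0 : x (Sum.inl z) = 0 := by
      have h1 := congrFun hbot' z
      rw [hshiftT, dif_neg (by simp [hz]), hS, Matrix.single_mulVec] at h1
      simpa using h1
    have hxl : ∀ i : Fin m, x (Sum.inl i) = 0 := by
      intro i
      by_cases hi : (i : ℕ) = 0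
      · rw [show i = z from Fin.ext hi, hx0]
      · have h2 := shiftMat_pow_mulVec 1 (x ∘ Sum.inl) (⟨(i : ℕ) - 1, by omega⟩ : Fin m)
        have hlt : (i : ℕ) - 1 + 1 < m := by omega
        rw [pow_one, dif_pos hlt, ← hL, htop, Pi.zero_apply] at h2
        rw [h2]
        exact congrArg (fun j => x (Sum.inl j)) (Fin.ext (by show (i : ℕ) = i - 1 + 1; omega))
    have hxr : ∀ i : Fin m, x (Sum.inr i) = 0 := by
      intro i
      by_cases hi : (i : ℕ) + 1 < m
      · have h1 := congrFun hbot' ⟨(i : ℕ) + 1, hi⟩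
        rw [hshiftT, dif_pos (by show 1 ≤ (i : ℕ) + 1; omega),
          show x ∘ Sum.inl = 0 from funext hxl, mulVec_zero, Pi.zero_apply] at h1
        simpa using h1.symm
      · rw [show i = l from Fin.ext (by show (i : ℕ) = m - 1; omega)]
        exact hlast
    funext i
    rcases i with i | i
    · exact hxl i
    · exact hxr i

end CfsgLib.KnownC
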