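import Mathlib
import Cfsg.Prelude.Def_Classical
import Cfsg.Agent.Lib.Classical.SemiPalin
import Cfsg.Agent.Lib.Classical.SemiSympExists
import Cfsg.Agent.Lib.KnownC.SympRegularBasic
import Cfsg.Agent.Lib.KnownC.MatrixPrimary
import Cfsg.Agent.Lib.KnownB.SpElem

/-!
Element orders of `PSp_2n(q)`, `q` odd: an element either has the order of its multiple by an
involution inside the group, or its order divides the odd one of `(q^n ± 1) / 2`, or it is
unipotent up to sign.
-/

set_option autoImplicit false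
set_option maxHeartbeats 400000

namespace CfsgLib.KnownC.SympSpectrum

open Matrix Polynomial CfsgLib.Classical.SemiPalin CfsgLib.KnownC
open scoped Matrix

variable {F : Type*} [Field F] {n : ℕ}

local notation "M2" => Matrix (Fin n ⊕ Fin n) (Fin n ⊕ Fin n) F
local notation "π" => QuotientGroup.mk' (Subgroup.center (Matrix.symplecticGroup (Fin n) F))

/-! ### Signs -/

theorem mk_eq_one_of_smul (g : Matrix.symplecticGroup (Fin n) F) (c : F) (h : g.1 = c • (1 : M2)) :
    π g = 1 := by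
  rw [QuotientGroup.mk'_apply, QuotientGroup.eq_one_iff, Subgroup.mem_center_iff]
  intro x
  refine Subtype.ext ?_
  show x.1 * g.1 = g.1 * x.1
  rw [h]
  simp

theorem sign_of_mk_eq_one (hn : 1 ≤ n) (g : Matrix.symplecticGroup (Fin n) F) (h : π g = 1) :
    ∃ c : F, c * c = 1 ∧ g.1 = c • (1 : M2) := by
  rw [QuotientGroup.mk'_apply, QuotientGroup.eq_one_iff] at h
  rcases CfsgLib.Geom.spLin_center hn h with hv | hv
  · refine ⟨1, one_mul 1, Matrix.ext_iff_mulVec.2 fun v => ?_⟩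
    rw [one_smul, Matrix.one_mulVec, ← CfsgLib.Geom.spLin_apply, hv]
  · refine ⟨-1, by rw [neg_one_mul, neg_neg], Matrix.ext_iff_mulVec.2 fun v => ?_⟩
    rw [neg_one_smul, Matrix.neg_mulVec, Matrix.one_mulVec, ← CfsgLib.Geom.spLin_apply, hv]

/-- The order in `Sp` divides twice the order in `PSp`. -/
theorem orderOf_dvd_two_mul (hn : 1 ≤ n) (s : Matrix.symplecticGroup (Fin n) F) :
    orderOf s ∣ 2 * orderOf (π s) := by
  obtain ⟨c, hc, hs⟩ := sign_of_mk_eq_one hn (s ^ orderOf (π s))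
    (by rw [map_pow, pow_orderOf_eq_one])
  refine orderOf_dvd_of_pow_eq_one (Subtype.ext ?_)
  rw [mul_comm, pow_mul, sq]
  show (s ^ orderOf (π s)).1 * (s ^ orderOf (π s)).1 = 1
  rw [hs, smul_mul_smul_comm, one_mul, hc, one_smul]

/-! ### Orthogonal sums -/

/-- Splitting of the index set of `Sp(2a+2b)`. -/
def spSplit₂ (a b : ℕ) : (Fin a ⊕ Fin a) ⊕ (Fin b ⊕ Fin b) ≃ Fin (a + b) ⊕ Fin (a + b) :=
  (Equiv.sumSumSumComm _ _ _ _).trans (Equiv.sumCongr finSumFinEquiv finSumFinEquiv)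

/-- Orthogonal sum of symplectic matrices of any sizes. -/
def spSum₂ (a b : ℕ) :
    Matrix.symplecticGroup (Fin a) F × Matrix.symplecticGroup (Fin b) F →*
      Matrix.symplecticGroup (Fin (a + b)) F where
  toFun A := ⟨Matrix.reindex (spSplit₂ a b) (spSplit₂ a b) (fromBlocks A.1.1 0 0 A.2.1), by
    have hJ : (Matrix.J (Fin (a + b)) F) = Matrix.reindex (spSplit₂ a b) (spSplit₂ a b)
        (fromBlocks (Matrix.J (Fin a) F) 0 0 (Matrix.J (Fin b) F)) := by
      ext i j
      obtain ⟨i, rfl⟩ := (spSplit₂ a b).surjective i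
      obtain ⟨j, rfl⟩ := (spSplit₂ a b).surjective j
      rw [Matrix.reindex_apply, Matrix.submatrix_apply, Equiv.symm_apply_apply, Equiv.symm_apply_apply]
      rcases i with (i | i) | (i | i) <;> rcases j with (j | j) | (j | j) <;>
        simp [spSplit₂, Matrix.J, Matrix.one_apply, Fin.ext_iff] <;> omega
    have h1 := SymplecticGroup.mem_iff.mp A.1.2
    have h2 := SymplecticGroup.mem_iff.mp A.2.2
    rw [SymplecticGroup.mem_iff, hJ]
    simp only [Matrix.reindex_apply, transpose_submatrix, fromBlocks_transpose, submatrix_mul_equiv,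
      fromBlocks_multiply, Matrix.transpose_zero, Matrix.mul_zero, Matrix.zero_mul, add_zero,
      zero_add, h1, h2]⟩
  map_one' := Subtype.ext (by simp [fromBlocks_one])
  map_mul' A B := Subtype.ext (by
    simp [Matrix.reindex_apply, submatrix_mul_equiv, fromBlocks_multiply])

theorem spSum₂_eq_smul {a b : ℕ} {s : Matrix.symplecticGroup (Fin a) F}
    {u : Matrix.symplecticGroup (Fin b) F} {c : F}
    (h : (spSum₂ a b (s, u)).1 = c • 1) : s.1 = c • 1 ∧ u.1 = c • 1 := by
  change Matrix.reindex (spSplit₂ a b) (spSplit₂ a b) (fromBlocks s.1 0 0 u.1) = c • 1 at h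
  have h2 := congrArg (Matrix.reindex (spSplit₂ a b) (spSplit₂ a b)).symm h
  rw [Equiv.symm_apply_apply] at h2
  have h3 : (Matrix.reindex (spSplit₂ a b) (spSplit₂ a b)).symm (c • (1 : Matrix _ _ F)) =
      fromBlocks (c • 1) 0 0 (c • 1) := by
    simp [Matrix.reindex_symm, Matrix.reindex_apply, Matrix.smul_one_eq_diagonal, fromBlocks_diagonal]
  rw [h3] at h2
  obtain ⟨e1, -, -, e4⟩ := fromBlocks_inj.mp h2
  exact ⟨e1, e4⟩

/-! ### Elements of given orders -/

/-- `diag(γ, γ⁻¹)`. -/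
def diagHom (L : Type*) [Field L] : Lˣ →* SpecialLinearGroup (Fin 2) L where
  toFun x := ⟨!![(x : L), 0; 0, ((x⁻¹ : Lˣ) : L)], by simp [Matrix.det_fin_two]⟩
  map_one' := Subtype.ext (by ext i j; fin_cases i <;> fin_cases j <;> simp)
  map_mul' x y := Subtype.ext (by
    show (!![((x * y : Lˣ) : L), 0; 0, (((x * y)⁻¹ : Lˣ) : L)] : Matrix (Fin 2) (Fin 2) L) =
      !![(x : L), 0; 0, ((x⁻¹ : Lˣ) : L)] * !![(y : L), 0; 0, ((y⁻¹ : Lˣ) : L)]
    simp [Matrix.mul_fin_two, mul_comm])

theorem diagHom_injective (L : Type*) [Field L] : Function.Injective (diagHom L) := fun x y h =>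
  Units.ext (congrFun (congrFun (congrArg Subtype.val h) 0) 0 :)

theorem exists_orderOf_plus [Fintype F] (p : ℕ) [Fact p.Prime] [CharP F p] (m : ℕ) (hm : 1 ≤ m) :
    ∃ s : Matrix.symplecticGroup (Fin m) F, orderOf s = Fintype.card F ^ m + 1 := by
  have : NeZero m := ⟨by omega⟩
  exact CfsgLib.KnownB.SpElem.exists_orderOf p m

theorem exists_orderOf_minus [Fintype F] (p : ℕ) [Fact p.Prime] [CharP F p] (m : ℕ) (hm : 1 ≤ m) :
    ∃ s : Matrix.symplecticGroup (Fin m) F, orderOf s = Fintype.card F ^ m - 1 := by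
  classical
  have : NeZero m := ⟨by omega⟩
  let L := FiniteField.Extension F p m
  obtain ⟨γ, hγ⟩ := IsCyclic.exists_ofOrder_eq_natCard (α := Lˣ)
  refine ⟨CfsgLib.KnownB.SpElem.restrictSp
    ((Module.finBasis F L).reindex (finCongr (FiniteField.finrank_extension F p m))) (diagHom L γ), ?_⟩
  rw [orderOf_injective _ (CfsgLib.KnownB.SpElem.restrictSp_injective _),
    orderOf_injective _ (diagHom_injective L), hγ, Nat.card_units, FiniteField.natCard_extension,
    Nat.card_eq_fintype_card]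

/-- A unipotent element of order `p ^ clog_p (2m)`. -/
theorem exists_orderOf_unipotent (p : ℕ) [hp : Fact p.Prime] [CharP F p] (m : ℕ) (hm : 1 ≤ m) :
    ∃ u : Matrix.symplecticGroup (Fin m) F, orderOf u = p ^ Nat.clog p (2 * m) := by
  obtain ⟨u, hu⟩ := exists_regular_symplectic (F := F) (m := m) hm
  have : Nonempty (Fin m) := ⟨⟨0, hm⟩⟩
  have : CharP (Matrix (Fin m ⊕ Fin m) (Fin m ⊕ Fin m) F) p :=
    charP_of_injective_algebraMap (algebraMap F _).injective p
  have hpow : ∀ k, (u ^ p ^ k).1 - 1 = (u.1 - 1) ^ p ^ k := fun k => by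
    rw [sub_pow_char_pow_of_commute p k (Commute.one_right u.1), one_pow]
    rfl
  obtain ⟨E, hE⟩ : ∃ E, Nat.clog p (2 * m) = E + 1 := by
    exact ⟨Nat.clog p (2 * m) - 1, by have := Nat.clog_pos hp.out.one_lt (show 2 ≤ 2 * m by omega); omega⟩
  refine ⟨u, ?_⟩
  rw [hE]
  refine orderOf_eq_prime_pow ?_ (Subtype.ext ?_)
  · intro h
    have h1 := hpow E
    rw [h] at h1
    have h0 : (u.1 - 1) ^ p ^ E = 0 := h1.symm.trans (sub_self _)
    have hlt : p ^ E < 2 * m := by
      have := Nat.pow_pred_clog_lt_self hp.out.one_lt (show 1 < 2 * m by omega)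
      rw [hE] at this
      exact this
    obtain ⟨v, hv⟩ := hu.exists_cyclic
    rw [card_symp_index] at hv
    rw [pow_eq_zero_of_le (show p ^ E ≤ 2 * m - 1 by omega) h0, Matrix.zero_mulVec] at hv
    exact hv rfl
  · refine sub_eq_zero.1 ?_
    show (u ^ p ^ (E + 1)).1 - 1 = 0
    rw [hpow]
    refine pow_eq_zero_of_le ?_ hu.nil
    rw [card_symp_index, ← hE]
    exact Nat.le_pow_clog hp.out.one_lt _

theorem eq_one_of_sq_of_pow {c : F} {k : ℕ} (hk : Odd k) (hc : c * c = 1) (h : c ^ k = 1) : c = 1 := by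
  obtain ⟨j, rfl⟩ := hk
  rwa [pow_succ, pow_mul, sq, hc, one_pow, one_mul] at h

/-- The image of `s ⊕ u`, `u` unipotent, has order divisible by the orders of `s` and `u`. -/
theorem exists_mixed (p : ℕ) [hp : Fact p.Prime] (hp2 : p ≠ 2) {a b : ℕ} (ha : 1 ≤ a)
    (hab : a + b = n) (s : Matrix.symplecticGroup (Fin a) F) (u : Matrix.symplecticGroup (Fin b) F)
    (hb : 1 ≤ b) {e : ℕ} (hu : orderOf u = p ^ e) :
    ∃ t : Cfsg.PSp n F, orderOf s ∣ orderOf t ∧ p ^ e ∣ orderOf t := by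
  subst hab
  have : Nonempty (Fin b) := ⟨⟨0, hb⟩⟩
  refine ⟨QuotientGroup.mk' _ (spSum₂ a b (s, u)), ?_⟩
  set o := orderOf (QuotientGroup.mk' (Subgroup.center (Matrix.symplecticGroup (Fin (a + b)) F))
    (spSum₂ a b (s, u))) with ho
  obtain ⟨c, hc, hso⟩ := sign_of_mk_eq_one (n := a + b) (by omega) (spSum₂ a b (s, u) ^ o)
    (by rw [map_pow, ho, pow_orderOf_eq_one])
  rw [← map_pow] at hso
  obtain ⟨h1, h2⟩ := spSum₂_eq_smul (s := s ^ o) (u := u ^ o) hso
  have h3 : ((u ^ o) ^ p ^ e).1 = c ^ p ^ e • 1 := by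
    rw [SubmonoidClass.coe_pow, h2, _root_.smul_pow, one_pow]
  rw [← pow_mul, mul_comm, pow_mul, ← hu, pow_orderOf_eq_one, one_pow] at h3
  have h4 : c ^ p ^ e = 1 := by
    have h5 := congrFun (congrFun h3 (Sum.inl ⟨0, hb⟩)) (Sum.inl ⟨0, hb⟩)
    rw [hu] at h5
    simpa using h5.symm
  have hc1 : c = 1 := eq_one_of_sq_of_pow (hp.out.odd_of_ne_two hp2).pow hc h4
  subst hc1
  rw [one_smul] at h1 h2
  exact ⟨orderOf_dvd_of_pow_eq_one (Subtype.ext h1), hu ▸ orderOf_dvd_of_pow_eq_one (Subtype.ext h2)⟩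

/-! ### The symmetric idempotent -/

theorem spAdj_aeval (G : M2) (f : F[X]) : spAdj (aeval G f) = aeval (spAdj G) f := by
  induction f using Polynomial.induction_on' with
  | add f g hf hg => rw [map_add, map_add, spAdj_add, hf, hg]
  | monomial k c =>
    rw [aeval_monomial, aeval_monomial, ← Algebra.smul_def, ← Algebra.smul_def, spAdj_smul, spAdj_pow]

theorem aeval_congr {G : M2} {f f' : F[X]}
    (h : AdjoinRoot.mk G.charpoly f = AdjoinRoot.mk G.charpoly f') : aeval G f = aeval G f' := by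
  obtain ⟨w, hw⟩ := AdjoinRoot.mk_eq_mk.1 h
  rw [← sub_eq_zero, ← map_sub, hw, map_mul, Matrix.aeval_self_charpoly, zero_mul]

theorem aeval_reverse_of_mul_eq_one {R : Type*} [CommRing R] [Algebra F R] {x xi : R} (h : x * xi = 1)
    (f : F[X]) : aeval x f.reverse * xi ^ f.natDegree = aeval xi f := by
  letI : Invertible xi := ⟨x, h, by rw [mul_comm, h]⟩
  exact eval₂_reverse_mul_pow (algebraMap F R) xi f

theorem reverse_of_tilde {f : F[X]} (h0 : f.coeff 0 ≠ 0) (h : tilde (RingHom.id F) f = f) :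
    f.reverse = C (f.coeff 0) * f := by
  have h1 : C (f.coeff 0) * tilde (RingHom.id F) f = f.reverse := by
    rw [tilde, srev, Polynomial.map_id, RingHom.id_apply, ← mul_assoc, ← C_mul, mul_inv_cancel₀ h0,
      map_one, one_mul]
  rw [h] at h1
  exact h1.symm

/-- A coprime factorisation into self-reciprocal parts gives a commuting involution. -/
theorem exists_involution (g : Matrix.symplecticGroup (Fin n) F) {A B : F[X]}
    (hA : A.coeff 0 ≠ 0) (hAt : tilde (RingHom.id F) A = A) (hχ0 : (g.1).charpoly.coeff 0 = 1)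
    (hχ : (g.1).charpoly = A * B) (hcop : IsCoprime A B) (hA1 : 0 < A.natDegree)
    (hB1 : 0 < B.natDegree)
    (hμA : ¬ minpoly F g.1 ∣ A) (hμB : ¬ minpoly F g.1 ∣ B) (h2 : (2 : F) ≠ 0) :
    ∃ z : Matrix.symplecticGroup (Fin n) F, z * z = 1 ∧ Commute z g ∧
      ∀ c : F, c * c = 1 → z.1 ≠ c • 1 := by
  classical
  set χ := (g.1).charpoly with hχdef
  obtain ⟨x₁, z₁, hbez⟩ := hcop
  obtain ⟨r, w, hrw⟩ : IsCoprime X χ := by
    refine (irreducible_X.coprime_iff_not_dvd).2 ?_
    rw [X_dvd_iff, hχ0]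
    exact one_ne_zero
  let R := AdjoinRoot χ
  set x : R := AdjoinRoot.root χ with hx
  set xi : R := AdjoinRoot.mk χ r with hxi
  have hinv : x * xi = 1 := by
    rw [hx, hxi, ← AdjoinRoot.mk_X, ← map_mul, ← map_one (AdjoinRoot.mk χ), AdjoinRoot.mk_eq_mk]
    exact ⟨-w, by linear_combination hrw⟩
  have hmk : ∀ f : F[X], aeval x f = AdjoinRoot.mk χ f := fun f => AdjoinRoot.aeval_eq f
  set ε := aeval x (z₁ * B) with hε
  set ε' := aeval xi (z₁ * B) with hε'
  have hχx : aeval x χ = 0 := by rw [hmk, AdjoinRoot.mk_self]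
  have hrevχ : χ.reverse = χ := CfsgLib.Classical.SemiSympExists.charpoly_symp g
  have hχxi : aeval xi χ = 0 := by
    rw [← aeval_reverse_of_mul_eq_one hinv, hrevχ, hχx, zero_mul]
  have hAxi : aeval x A * xi ^ A.natDegree * algebraMap F R (A.coeff 0) = aeval xi A := by
    rw [← aeval_reverse_of_mul_eq_one hinv A, reverse_of_tilde hA hAt, map_mul, aeval_C]
    ring
  have hone : ∀ y : R, aeval y x₁ * aeval y A + aeval y (z₁ * B) = 1 := fun y => by
    rw [← map_mul, ← map_add, hbez, map_one]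
  have h1 : ε * aeval x A = 0 := by
    rw [hε, ← map_mul, mul_assoc, mul_comm B, ← hχ, map_mul, hχx, mul_zero]
  have h1' : ε' * aeval xi A = 0 := by
    rw [hε', ← map_mul, mul_assoc, mul_comm B, ← hχ, map_mul, hχxi, mul_zero]
  have h2' : ε' * aeval x A = 0 := by
    have hu : algebraMap F R (A.coeff 0) * algebraMap F R (A.coeff 0)⁻¹ = 1 := by
      rw [← map_mul, mul_inv_cancel₀ hA, map_one]
    have hp : xi ^ A.natDegree * x ^ A.natDegree = 1 := by rw [← mul_pow, mul_comm xi, hinv, one_pow]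
    calc ε' * aeval x A
        = ε' * (aeval x A * (xi ^ A.natDegree * x ^ A.natDegree) *
            (algebraMap F R (A.coeff 0) * algebraMap F R (A.coeff 0)⁻¹)) := by
          rw [hu, hp, mul_one, mul_one]
      _ = ε' * (aeval x A * xi ^ A.natDegree * algebraMap F R (A.coeff 0)) *
            (x ^ A.natDegree * algebraMap F R (A.coeff 0)⁻¹) := by ring
      _ = 0 := by rw [hAxi, h1', zero_mul]
  have h2'' : ε * aeval xi A = 0 := by
    rw [← hAxi, ← mul_assoc, ← mul_assoc, h1, zero_mul, zero_mul]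
  have hεε : ε = ε' := by
    have e1 : ε' = ε' * ε := by
      conv_lhs => rw [← mul_one ε', ← hone x, mul_add, mul_left_comm, h2', mul_zero, zero_add, ← hε]
    have e2 : ε = ε * ε' := by
      conv_lhs => rw [← mul_one ε, ← hone xi, mul_add, mul_left_comm, h2'', mul_zero, zero_add, ← hε']
    rw [e2, mul_comm, ← e1]
  have hid : ε * ε = ε := by
    conv_rhs => rw [← mul_one ε, ← hone x, mul_add, mul_left_comm, h1, mul_zero, zero_add, ← hε]
  -- transport to matrices
  set G : M2 := g.1 with hG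
  have hGr : aeval G r = (g⁻¹ : Matrix.symplecticGroup (Fin n) F).1 := by
    have hl : aeval G r * G = 1 := by
      have : aeval G (r * X) = aeval G 1 := aeval_congr (by
        rw [map_mul, AdjoinRoot.mk_X, map_one, mul_comm]; exact hinv)
      rwa [map_mul, aeval_X, map_one] at this
    exact left_inv_eq_right_inv hl (congrArg Subtype.val (mul_inv_cancel g))
  set e : M2 := aeval G (z₁ * B) with he
  have hadj : spAdj e = e := by
    rw [he, spAdj_aeval, spAdj_symplectic, ← hGr, ← aeval_comp]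
    refine aeval_congr ?_
    rw [← hmk, ← hmk, aeval_comp, hmk r]
    exact hεε.symm
  have hee : e * e = e := by
    rw [he, ← map_mul]
    refine aeval_congr ?_
    rw [← hmk, map_mul, ← hmk, ← hε]
    exact hid
  set z : M2 := 1 - (2 : F) • e with hz
  have hzz : z * z = 1 := by
    simp only [hz, sub_mul, mul_sub, one_mul, mul_one, smul_mul_smul_comm, hee]
    module
  have hadjz : spAdj z = z := by rw [hz, spAdj_sub, spAdj_one, spAdj_smul, hadj]
  refine ⟨⟨z, (mem_symplectic_iff_spAdj z).2 (by rw [hadjz, hzz])⟩, Subtype.ext hzz, ?_, ?_⟩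
  · refine Subtype.ext ?_
    show z * G = G * z
    have hc : Commute e G :=
      (Algebra.commute_of_mem_adjoin_self (Polynomial.aeval_mem_adjoin_singleton F G)).symm
    exact (((Commute.one_left G).sub_left (hc.smul_left (2 : F)))).eq
  · intro c hc hzc
    replace hzc : z = c • 1 := hzc
    have hAB : aeval G A = 0 ∨ aeval G B = 0 := by
      have hsum : aeval G x₁ * aeval G A + e = 1 := by rw [he, ← map_mul, ← map_add, hbez, map_one]
      have hprod : e * aeval G A = 0 := by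
        rw [he, ← map_mul, mul_assoc, mul_comm B, ← hχ, map_mul, Matrix.aeval_self_charpoly, mul_zero]
      rcases mul_self_eq_one_iff.1 hc with rfl | rfl
      · rw [hz, one_smul, sub_eq_self, smul_eq_zero] at hzc
        have he0 := hzc.resolve_left h2
        right
        rw [he0, add_zero] at hsum
        calc aeval G B = aeval G x₁ * aeval G A * aeval G B := by rw [hsum, one_mul]
          _ = 0 := by rw [mul_assoc, ← map_mul, ← hχ, Matrix.aeval_self_charpoly, mul_zero]
      · left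
        have he1 : e = 1 := by
          have h3 : (2 : F) • e = (2 : F) • (1 : M2) := by
            rw [hz, sub_eq_iff_eq_add] at hzc
            rw [neg_smul, one_smul] at hzc
            rw [two_smul F (1 : M2)]
            linear_combination (norm := module) (-1 : F) • hzc
          exact smul_right_injective M2 h2 h3
        rw [← hprod, he1, one_mul]
    rcases hAB with h | h
    · exact hμA (minpoly.dvd F G h)
    · exact hμB (minpoly.dvd F G h)

/-! ### Roots of self-reciprocal irreducibles -/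

theorem aeval_inv_root {K : Type*} [Field K] [Algebra F K] {S : F[X]} (h0 : S.coeff 0 ≠ 0) {γ : K}
    (hγ : aeval γ (tilde (RingHom.id F) S) = 0) (hγ0 : γ ≠ 0) : aeval γ⁻¹ S = 0 := by
  rw [tilde, srev, Polynomial.map_id, RingHom.id_apply, map_mul, aeval_C, mul_eq_zero] at hγ
  rw [← aeval_reverse_of_mul_eq_one (mul_inv_cancel₀ hγ0) S]
  rw [hγ.resolve_left (by simpa using h0), zero_mul]

theorem dvd_of_root_pow {S : F[X]} [Fact (Irreducible S)] {M : ℕ} {c : F}
    (h : (AdjoinRoot.root S) ^ M = algebraMap F (AdjoinRoot S) c) : S ∣ X ^ M - C c := by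
  rw [← AdjoinRoot.mk_eq_zero, map_sub, map_pow, AdjoinRoot.mk_X, AdjoinRoot.mk_C, h,
    AdjoinRoot.algebraMap_eq, sub_self]

theorem root_ne_zero {S : F[X]} [Fact (Irreducible S)] (h0 : S.coeff 0 ≠ 0) :
    AdjoinRoot.root S ≠ 0 := by
  intro h
  have h1 : aeval (AdjoinRoot.root S) S = 0 := by rw [AdjoinRoot.aeval_eq, AdjoinRoot.mk_self]
  rw [h, aeval_def, eval₂_at_zero, _root_.map_eq_zero] at h1
  exact h0 h1

theorem card_adjoinRoot [Fintype F] {S : F[X]} (hS : Irreducible S) :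
    Nat.card (AdjoinRoot S) = Fintype.card F ^ S.natDegree := by
  have : Module.Finite F (AdjoinRoot S) := (AdjoinRoot.powerBasis hS.ne_zero).finite
  rw [Module.natCard_eq_pow_finrank (K := F), (AdjoinRoot.powerBasis hS.ne_zero).finrank,
    AdjoinRoot.powerBasis_dim, Nat.card_eq_fintype_card]

/-- A self-reciprocal irreducible is linear, or has degree `2k` and divides `X ^ ((q^k+1)/2) ± 1`. -/
theorem irreducible_self_cases [Fintype F] {S : F[X]} (hS : Irreducible S) (hm : S.Monic)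
    (h0 : S.coeff 0 ≠ 0) (ht : tilde (RingHom.id F) S = S) (hodd : Odd (Fintype.card F)) :
    (∃ c : F, c * c = 1 ∧ S = X - C c) ∨
      ∃ (k M : ℕ) (c : F), 1 ≤ k ∧ S.natDegree = 2 * k ∧ 2 * M = Fintype.card F ^ k + 1 ∧
        c * c = 1 ∧ S ∣ X ^ M - C c := by
  have := Fact.mk hS
  let K := AdjoinRoot S
  have : Module.Finite F K := (AdjoinRoot.powerBasis hS.ne_zero).finite
  have : Finite K := Module.finite_of_finite F
  set β : K := AdjoinRoot.root S with hβ
  have hβ0 : β ≠ 0 := root_ne_zero h0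
  have hinvroot : aeval β⁻¹ S = 0 :=
    aeval_inv_root h0 (by rw [ht, hβ, AdjoinRoot.aeval_eq, AdjoinRoot.mk_self]) hβ0
  let τ : K →ₐ[F] K := AdjoinRoot.liftAlgHom S (Algebra.ofId F K) β⁻¹ (by simpa [aeval_def] using hinvroot)
  have hτ : τ β = β⁻¹ := AdjoinRoot.liftAlgHom_root S _ _ _
  let τ' : K ≃ₐ[F] K := AlgEquiv.ofBijective τ
    ⟨τ.toRingHom.injective, Finite.injective_iff_surjective.1 τ.toRingHom.injective⟩
  obtain ⟨⟨i, hi⟩, hpow⟩ := (FiniteField.bijective_frobeniusAlgEquivOfAlgebraic_pow F K).2 τ'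
  have hd : Module.finrank F K = S.natDegree := by
    rw [(AdjoinRoot.powerBasis hS.ne_zero).finrank, AdjoinRoot.powerBasis_dim]
  rw [hd] at hi
  have hβi : β ^ Fintype.card F ^ i = β⁻¹ := by
    have h1 := DFunLike.congr_fun hpow β
    rw [AlgEquiv.coe_pow, FiniteField.coe_frobeniusAlgEquivOfAlgebraic_iterate] at h1
    exact h1.trans hτ
  rcases Nat.eq_zero_or_pos i with rfl | hipos
  · left
    rw [pow_zero, pow_one] at hβi
    have h2 : β = 1 ∨ β = -1 := mul_self_eq_one_iff.1 (by nth_rw 2 [hβi]; exact mul_inv_cancel₀ hβ0)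
    obtain ⟨c, hc, hβc⟩ : ∃ c : F, c * c = 1 ∧ β = algebraMap F K c := by
      rcases h2 with h | h
      · exact ⟨1, one_mul 1, by rw [h, map_one]⟩
      · exact ⟨-1, by rw [neg_one_mul, neg_neg], by rw [h, map_neg, map_one]⟩
    refine ⟨c, hc, eq_of_monic_of_associated hm (monic_X_sub_C c) ?_⟩
    have h3 : S ∣ X ^ 1 - C c := dvd_of_root_pow (by rw [pow_one]; exact hβc)
    rw [pow_one] at h3
    exact hS.associated_of_dvd (irreducible_X_sub_C c) h3
  · right
    have hfix : β ^ Fintype.card F ^ (i + i) = β := by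
      rw [pow_add, pow_mul, hβi, inv_pow, hβi, inv_inv]
    have hone : (FiniteField.frobeniusAlgEquivOfAlgebraic F K) ^ (i + i) = 1 := by
      refine AlgEquiv.coe_algHom_injective (AdjoinRoot.algHom_ext ?_)
      show ((FiniteField.frobeniusAlgEquivOfAlgebraic F K) ^ (i + i)) β = β
      rw [AlgEquiv.coe_pow, FiniteField.coe_frobeniusAlgEquivOfAlgebraic_iterate]
      exact hfix
    have hdvd := orderOf_dvd_of_pow_eq_one hone
    rw [FiniteField.orderOf_frobeniusAlgEquivOfAlgebraic, hd] at hdvd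
    have hdeg : S.natDegree = 2 * i := by
      obtain ⟨t, ht⟩ := hdvd
      rcases t with _ | _ | t
      · omega
      · omega
      · nlinarith
    obtain ⟨M, hM⟩ : ∃ M, 2 * M = Fintype.card F ^ i + 1 := by
      obtain ⟨a, ha⟩ := (hodd.pow (n := i))
      exact ⟨a + 1, by omega⟩
    have hsq : β ^ M * β ^ M = 1 := by
      rw [← pow_add, ← two_mul, hM, pow_succ, hβi, inv_mul_cancel₀ hβ0]
    rcases mul_self_eq_one_iff.1 hsq with h | h
    · exact ⟨i, M, 1, hipos, hdeg, hM, one_mul 1, dvd_of_root_pow (by rw [map_one]; exact h)⟩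
    · exact ⟨i, M, -1, hipos, hdeg, hM, by rw [neg_one_mul, neg_neg],
        dvd_of_root_pow (by rw [map_neg, map_one]; exact h)⟩

/-- A pair of irreducibles exchanged by `tilde` divides `X ^ ((q^k-1)/2) ± 1`. -/
theorem irreducible_pair [Fintype F] {P Q : F[X]} (hP : Irreducible P) (hQ : Irreducible Q)
    (hPm : P.Monic) (hQm : Q.Monic) (hPQ : P ≠ Q) (hQP : Q = tilde (RingHom.id F) P)
    (hP0 : P.coeff 0 ≠ 0) (hodd : Odd (Fintype.card F)) :
    ∃ (k M : ℕ) (c : F), 1 ≤ k ∧ P.natDegree = k ∧ Q.natDegree = k ∧ 2 * M + 1 = Fintype.card F ^ k ∧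
      c * c = 1 ∧ P * Q ∣ X ^ M - C c := by
  have := Fact.mk hP
  have := Fact.mk hQ
  have : Module.Finite F (AdjoinRoot P) := (AdjoinRoot.powerBasis hP.ne_zero).finite
  have : Finite (AdjoinRoot P) := Module.finite_of_finite F
  obtain ⟨hQm', hQd, hQc⟩ := tilde_facts (RingHom.id F) hPm hP0
  have hQ0 : Q.coeff 0 ≠ 0 := by rw [hQP, hQc]; simpa using hP0
  set k := P.natDegree with hk
  obtain ⟨M, hM⟩ : ∃ M, Fintype.card F ^ k = 2 * M + 1 := hodd.pow
  set β : AdjoinRoot P := AdjoinRoot.root P with hβ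
  have hβ0 : β ≠ 0 := root_ne_zero hP0
  have hsq : β ^ M * β ^ M = 1 := by
    letI : Fintype (AdjoinRoot P) := Fintype.ofFinite _
    have h1 := FiniteField.pow_card_sub_one_eq_one β hβ0
    rw [← Nat.card_eq_fintype_card, card_adjoinRoot hP, ← hk, hM, Nat.add_sub_cancel] at h1
    rw [← pow_add, ← two_mul, h1]
  obtain ⟨c, hc, hβc⟩ : ∃ c : F, c * c = 1 ∧ β ^ M = algebraMap F (AdjoinRoot P) c := by
    rcases mul_self_eq_one_iff.1 hsq with h | h
    · exact ⟨1, one_mul 1, by rw [map_one]; exact h⟩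
    · exact ⟨-1, by rw [neg_one_mul, neg_neg], by rw [map_neg, map_one]; exact h⟩
  set γ : AdjoinRoot Q := AdjoinRoot.root Q with hγ
  have hγ0 : γ ≠ 0 := root_ne_zero hQ0
  have hinv : aeval γ⁻¹ P = 0 :=
    aeval_inv_root hP0 (by rw [← hQP, hγ, AdjoinRoot.aeval_eq, AdjoinRoot.mk_self]) hγ0
  let ρ : AdjoinRoot P →ₐ[F] AdjoinRoot Q :=
    AdjoinRoot.liftAlgHom P (Algebra.ofId F (AdjoinRoot Q)) γ⁻¹ (by simpa [aeval_def] using hinv)
  have hρ : ρ β = γ⁻¹ := AdjoinRoot.liftAlgHom_root P _ _ _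
  have hγc : γ ^ M = algebraMap F (AdjoinRoot Q) c := by
    have h1 := congrArg ρ hβc
    rw [map_pow, hρ, AlgHom.commutes, inv_pow] at h1
    rw [← inv_inv (γ ^ M), h1]
    refine inv_eq_of_mul_eq_one_right ?_
    rw [← map_mul, hc, map_one]
  exact ⟨k, M, c, hP.natDegree_pos, rfl, by rw [hQP]; exact hQd, hM.symm, hc,
    IsCoprime.mul_dvd ((hP.coprime_iff_not_dvd).2 fun h =>
        hPQ (eq_of_monic_of_associated hPm hQm (hP.associated_of_dvd hQ h)))
      (dvd_of_root_pow hβc) (dvd_of_root_pow hγc)⟩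

/-! ### The classification of orders -/

theorem pow_eq_smul_of_dvd (p : ℕ) [hp : Fact p.Prime] [CharP F p] (hp2 : p ≠ 2)
    (g : Matrix.symplecticGroup (Fin n) F) {S : F[X]} {j M b : ℕ} {c : F}
    (hχ : (g.1).charpoly = S ^ j) (hS : S ∣ X ^ M - C c) (hc : c * c = 1) (hj : j ≤ p ^ b) :
    (g ^ (M * p ^ b)).1 = c • (1 : M2) := by
  have hcp : c ^ p ^ b = c := by
    obtain ⟨i, hi⟩ := (hp.out.odd_of_ne_two hp2).pow (n := b)
    rw [hi, pow_succ, pow_mul, sq, hc, one_pow, one_mul]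
  have hd : (g.1).charpoly ∣ X ^ (M * p ^ b) - C c := by
    rw [hχ, pow_mul, ← hcp, C_pow, ← sub_pow_char_pow]
    exact (pow_dvd_pow_of_dvd hS j).trans (pow_dvd_pow _ hj)
  obtain ⟨w, hw⟩ := hd
  have h0 := congrArg (aeval g.1) hw
  rw [map_mul, Matrix.aeval_self_charpoly, zero_mul, map_sub, map_pow, aeval_X, aeval_C, sub_eq_zero,
    Algebra.algebraMap_eq_smul_one] at h0
  rw [SubmonoidClass.coe_pow, h0]

theorem classify [Fintype F] (p : ℕ) [hp : Fact p.Prime] [CharP F p] (hp2 : p ≠ 2) (hn : 1 ≤ n)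
    {E : ℕ} (hE : 2 * n ≤ p ^ E) (y : Cfsg.PSp n F) :
    (∃ y' : Cfsg.PSp n F, orderOf y ∣ orderOf y' ∧ 2 ∣ orderOf y') ∨
      (∃ M, (2 * M = Fintype.card F ^ n + 1 ∨ 2 * M + 1 = Fintype.card F ^ n) ∧ Odd M ∧
        orderOf y ∣ M) ∨ orderOf y ∣ p ^ E := by
  classical
  have hodd : Odd (Fintype.card F) := by
    obtain ⟨m, -, hm⟩ := FiniteField.card F p
    rw [hm]; exact (hp.out.odd_of_ne_two hp2).pow
  have h2 : (2 : F) ≠ 0 := by
    intro h
    have h' : p ∣ 2 := (CharP.cast_eq_zero_iff F p 2).1 (by exact_mod_cast h)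
    exact hp2 ((Nat.prime_dvd_prime_iff_eq hp.out Nat.prime_two).1 h')
  by_cases hev : 2 ∣ orderOf y
  · exact Or.inl ⟨y, dvd_rfl, hev⟩
  obtain ⟨g, rfl⟩ := QuotientGroup.mk'_surjective _ y
  set χ := (g.1).charpoly with hχdef
  have hχm : χ.Monic := (g.1).charpoly_monic
  have hχd : χ.natDegree = 2 * n := by
    rw [hχdef, Matrix.charpoly_natDegree_eq_dim, card_symp_index]
  have hrev : χ.reverse = χ := CfsgLib.Classical.SemiSympExists.charpoly_symp g
  have hχ0 : χ.coeff 0 = 1 := coeff_zero_of_rev hrev hχm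
  have hχt : tilde (RingHom.id F) χ = χ := by
    rw [tilde, srev, Polynomial.map_id, RingHom.id_apply, hχ0, inv_one, map_one, one_mul, hrev]
  obtain ⟨S, hSm, hSd, hSχ, hSt, hS0, hcopS, hShape⟩ : ∃ S : F[X], S.Monic ∧ 0 < S.natDegree ∧
      S ∣ χ ∧
      tilde (RingHom.id F) S = S ∧ S.coeff 0 ≠ 0 ∧
      (∀ h : F[X], h.Monic → tilde (RingHom.id F) h = h → ¬ S ∣ h → IsCoprime S h) ∧
      (Irreducible S ∨ ∃ P : F[X], Irreducible P ∧ P.Monic ∧ P.coeff 0 ≠ 0 ∧
        tilde (RingHom.id F) P ≠ P ∧ S = P * tilde (RingHom.id F) P) := by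
    obtain ⟨P, hPm, hP, R, hR⟩ := exists_monic_irreducible_factor χ (fun hu => by
      have := natDegree_eq_zero_of_isUnit hu; omega)
    have hP0 : P.coeff 0 ≠ 0 := fun h0 => by
      rw [hR, mul_coeff_zero, h0, zero_mul] at hχ0
      exact zero_ne_one hχ0
    by_cases hPQ : tilde (RingHom.id F) P = P
    · exact ⟨P, hPm, hP.natDegree_pos, ⟨R, hR⟩, hPQ, hP0,
        fun h _ _ hnd => hP.coprime_iff_not_dvd.2 hnd, Or.inl hP⟩
    · obtain ⟨hQm, hQd, hQ0⟩ := tilde_facts (RingHom.id F) hPm hP0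
      have hQ := tilde_irreducible (RingHom.id F) (fun _ => rfl) hPm hP0 hP
      refine ⟨P * tilde (RingHom.id F) P, hPm.mul hQm, ?_, ?_, ?_, ?_, ?_,
        Or.inr ⟨P, hP, hPm, hP0, hPQ, rfl⟩⟩
      · rw [hPm.natDegree_mul hQm]; have := hP.natDegree_pos; omega
      · refine IsCoprime.mul_dvd ((hP.coprime_iff_not_dvd).2 fun hd =>
          hPQ (eq_of_monic_of_associated hPm hQm (hP.associated_of_dvd hQ hd)).symm) ⟨R, hR⟩ ?_
        exact ⟨tilde (RingHom.id F) R, by rw [← tilde_mul, ← hR, hχt]⟩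
      · rw [tilde_mul, tilde_tilde _ (fun _ => rfl) hPm hP0, mul_comm]
      · rw [mul_coeff_zero]
        exact mul_ne_zero hP0 (by rw [hQ0]; simpa using hP0)
      · intro h hhm hht hnd
        have hcPQ : IsCoprime P (tilde (RingHom.id F) P) := (hP.coprime_iff_not_dvd).2 fun hd =>
          hPQ (eq_of_monic_of_associated hPm hQm (hP.associated_of_dvd hQ hd)).symm
        refine IsCoprime.mul_left ((hP.coprime_iff_not_dvd).2 fun hd => hnd ?_)
          ((hQ.coprime_iff_not_dvd).2 fun hd => hnd ?_)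
        · refine hcPQ.mul_dvd hd ?_
          obtain ⟨w, hw⟩ := hd
          exact ⟨tilde (RingHom.id F) w, by rw [← tilde_mul, ← hw, hht]⟩
        · refine hcPQ.mul_dvd ?_ hd
          obtain ⟨w, hw⟩ := hd
          exact ⟨tilde (RingHom.id F) w, by
            conv_lhs => rw [← hht, hw, tilde_mul, tilde_tilde _ (fun _ => rfl) hPm hP0]⟩
  obtain ⟨j, h, hnd, hj⟩ := WfDvdMonoid.max_power_factor' (a₀ := χ) (x := S) hχm.ne_zero
    (fun hu => by have := natDegree_eq_zero_of_isUnit hu; omega)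
  have hhm : h.Monic := (hSm.pow j).of_mul_monic_left (hj ▸ hχm)
  have hSjt : tilde (RingHom.id F) (S ^ j) = S ^ j := by
    clear hj hhm
    induction j with
    | zero =>
      rw [pow_zero, tilde, srev, Polynomial.map_id, RingHom.id_apply, coeff_one_zero, inv_one,
        map_one, one_mul, ← C_1, Polynomial.reverse_C]
    | succ i ih => rw [pow_succ, tilde_mul, ih, hSt]
  have hht : tilde (RingHom.id F) h = h := by
    refine mul_left_cancel₀ (pow_ne_zero j hSm.ne_zero) ?_
    rw [← hj]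
    conv_rhs => rw [← hχt, hj, tilde_mul, hSjt]
  have hcop : IsCoprime (S ^ j) h := (hcopS h hhm hht hnd).pow_left
  have hdeg : χ.natDegree = j * S.natDegree + h.natDegree := by
    rw [hj, (hSm.pow j).natDegree_mul hhm, hSm.natDegree_pow]
  by_cases hh0 : 0 < h.natDegree
  · -- an involution commutes with `g`
    left
    have hμ : ∀ Rp : F[X], Irreducible Rp → Rp ∣ χ → Rp ∣ minpoly F g.1 := by
      intro Rp hRp hRd
      let e := (Fintype.equivFinOfCardEq (card_symp_index n))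
      have h1 := irreducible_dvd_minpoly_of_dvd_charpoly (Matrix.reindexAlgEquiv F F e g.1) hRp
        (by rw [Matrix.reindexAlgEquiv_apply, Matrix.charpoly_reindex]; exact hRd)
      rwa [minpoly.algEquiv_eq] at h1
    have hj1 : 0 < j := by
      rcases Nat.eq_zero_or_pos j with rfl | hj1
      · rw [pow_zero, one_mul] at hj
        exact absurd (hj ▸ hSχ) hnd
      · exact hj1
    obtain ⟨z, hz2, hzc, hzne⟩ := exists_involution g (A := S ^ j) (B := h)
      (by rw [coeff_zero_eq_eval_zero, eval_pow, ← coeff_zero_eq_eval_zero]; exact pow_ne_zero _ hS0)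
      hSjt hχ0 hj hcop (by rw [hSm.natDegree_pow]; exact Nat.mul_pos hj1 hSd) hh0
      (fun hd => by
        obtain ⟨R, hR, hRd⟩ := WfDvdMonoid.exists_irreducible_factor
          (fun hu => by have := natDegree_eq_zero_of_isUnit hu; omega) hhm.ne_zero
        exact hR.not_isUnit (hcop.isUnit_of_dvd'
          ((hμ R hR (hRd.trans (hj ▸ dvd_mul_left h _))).trans hd) hRd))
      (fun hd => by
        obtain ⟨R, hR, hRd⟩ := WfDvdMonoid.exists_irreducible_factor (a := S)
          (fun hu => by have := natDegree_eq_zero_of_isUnit hu; omega) hSm.ne_zero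
        exact hR.not_isUnit (hcop.isUnit_of_dvd' (hRd.trans (dvd_pow_self S hj1.ne'))
          ((hμ R hR ((hRd.trans (dvd_pow_self S hj1.ne')).trans (hj ▸ dvd_mul_right _ h))).trans hd)))
      h2
    have hzo : orderOf (π z) = 2 := by
      refine orderOf_eq_prime (by rw [sq, ← map_mul, hz2, map_one]) fun h1 => ?_
      obtain ⟨c, hc, hzc'⟩ := sign_of_mk_eq_one hn z h1
      exact hzne c hc hzc'
    have hcomm : Commute (π g) (π z) := (Commute.map hzc.symm π)
    have hcop2 : (orderOf (π g)).Coprime (orderOf (π z)) := by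
      rw [hzo]
      exact (Nat.prime_two.coprime_iff_not_dvd.2 hev).symm
    refine ⟨π g * π z, ?_, ?_⟩
    · rw [hcomm.orderOf_mul_eq_mul_orderOf_of_coprime hcop2]; exact dvd_mul_right _ _
    · rw [hcomm.orderOf_mul_eq_mul_orderOf_of_coprime hcop2, hzo]; exact dvd_mul_left _ _
  have hh1 : h = 1 := hhm.natDegree_eq_zero.1 (by omega)
  rw [hh1, mul_one] at hj
  have key : ∀ (k M : ℕ) (c : F), 1 ≤ k → k * j = n →
      (2 * M = Fintype.card F ^ k + 1 ∨ 2 * M + 1 = Fintype.card F ^ k) → c * c = 1 →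
      S ∣ X ^ M - C c →
      (∃ y' : Cfsg.PSp n F, orderOf (π g) ∣ orderOf y' ∧ 2 ∣ orderOf y') ∨
      (∃ M, (2 * M = Fintype.card F ^ n + 1 ∨ 2 * M + 1 = Fintype.card F ^ n) ∧ Odd M ∧
        orderOf (π g) ∣ M) ∨ orderOf (π g) ∣ p ^ E := by
    intro k M c hk hkj hM hc hS
    obtain ⟨s, hs⟩ : ∃ s : Matrix.symplecticGroup (Fin k) F, orderOf s = 2 * M := by
      rcases hM with hM | hM
      · rw [hM]; exact exists_orderOf_plus p k hk
      · obtain ⟨s, hs⟩ := exists_orderOf_minus (F := F) p k hk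
        exact ⟨s, by rw [hs, ← hM, Nat.add_sub_cancel]⟩
    have hord : ∀ b, j ≤ p ^ b → orderOf (π g) ∣ M * p ^ b := fun b hb =>
      orderOf_dvd_of_pow_eq_one (by
        rw [← map_pow]; exact mk_eq_one_of_smul _ c (pow_eq_smul_of_dvd p hp2 g hj hS hc hb))
    rcases Nat.lt_or_ge j 2 with hj2 | hj2
    · obtain rfl : j = 1 := by
        rcases Nat.eq_zero_or_pos j with rfl | hj0
        · omega
        · omega
      rw [mul_one] at hkj
      subst k
      have hgM := hord 0 (by simp)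
      rw [pow_zero, mul_one] at hgM
      rcases Nat.even_or_odd M with hMe | hMo
      · left
        have h1 : M ∣ orderOf (π s) :=
          (Nat.mul_dvd_mul_iff_left (by norm_num : 0 < 2)).1 (hs ▸ orderOf_dvd_two_mul hk s)
        exact ⟨π s, hgM.trans h1, (even_iff_two_dvd.1 hMe).trans h1⟩
      · exact Or.inr (Or.inl ⟨M, hM, hMo, hgM⟩)
    · left
      have hn2 : 2 * k ≤ n := by rw [← hkj, mul_comm]; exact Nat.mul_le_mul_left k hj2
      obtain ⟨u, hu⟩ := exists_orderOf_unipotent (F := F) p (n - k) (by omega)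
      obtain ⟨t, ht1, ht2⟩ := exists_mixed (n := n) p hp2 hk (by omega) s u (by omega) hu
      have hjb : j ≤ p ^ Nat.clog p (2 * (n - k)) := by
        refine le_trans ?_ (Nat.le_pow_clog hp.out.one_lt _)
        have : j ≤ n := hkj ▸ Nat.le_mul_of_pos_left j hk
        omega
      have hcopp : (2 * M).Coprime (p ^ Nat.clog p (2 * (n - k))) := by
        refine (Nat.Coprime.pow_right _ ((hp.out.coprime_iff_not_dvd.2 fun hd => ?_).symm))
        obtain ⟨m', -, hq⟩ := FiniteField.card F p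
        have hpq : p ∣ Fintype.card F ^ k := hq ▸ (dvd_pow_self p m'.ne_zero).trans (dvd_pow_self _ (by omega))
        rcases hM with hM | hM
        · exact hp.out.one_lt.ne' (Nat.dvd_one.1 ((Nat.dvd_add_right hpq).1 (hM ▸ hd)))
        · exact hp.out.one_lt.ne' (Nat.dvd_one.1 ((Nat.dvd_add_right hd).1 (hM ▸ hpq)))
      refine ⟨t, ((hord _ hjb).trans (Nat.mul_dvd_mul_right (dvd_mul_left M 2) _)).trans
        (hcopp.mul_dvd_of_dvd_of_dvd (hs ▸ ht1) ht2), (dvd_mul_right 2 M).trans (hs ▸ ht1)⟩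
  rw [hh1, natDegree_one, add_zero, hχd] at hdeg
  rcases hShape with hS | ⟨P, hP, hPm, hP0, hPQ, rfl⟩
  · rcases irreducible_self_cases hS hSm hS0 hSt hodd with ⟨c, hc, rfl⟩ | ⟨k, M, c, hk, hkd, hM, hc, hdvd⟩
    · rw [natDegree_X_sub_C, mul_one] at hdeg
      refine Or.inr (Or.inr (orderOf_dvd_of_pow_eq_one ?_))
      rw [← one_mul (p ^ E), ← map_pow]
      exact mk_eq_one_of_smul _ c (pow_eq_smul_of_dvd p hp2 g hj (by rw [pow_one]) hc (by omega))
    · exact key k M c hk (by rw [hkd] at hdeg; nlinarith) (Or.inl hM) hc hdvd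
  · obtain ⟨hQm, hQd, -⟩ := tilde_facts (RingHom.id F) hPm hP0
    obtain ⟨k, M, c, hk, hkP, hkQ, hM, hc, hdvd⟩ := irreducible_pair hP
      (tilde_irreducible _ (fun _ => rfl) hPm hP0 hP) hPm hQm (Ne.symm hPQ) rfl hP0 hodd
    refine key k M c hk ?_ (Or.inr hM) hc hdvd
    rw [hPm.natDegree_mul hQm, hkQ, hkP] at hdeg
    nlinarith

end CfsgLib.KnownC.SympSpectrum
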