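import Cfsg.Agent.Lib.KnownB.SSMatrix
import Cfsg.Agent.Lib.KnownC.MatrixPrimary

set_option autoImplicit false

/-!
Classes of elements of prime order `r ≠ p` in `GL_n(q)`.
-/

namespace CfsgLib.KnownC

open Polynomial CfsgLib.KnownB
open scoped MatrixGroups

/-- Stars and bars. -/
theorem card_fun_sum_le (t N : ℕ) :
    Nat.card {a : Fin t → ℕ // ∑ j, a j ≤ N} = Nat.choose (N + t) t := by
  classical
  let e : {a : Fin t → ℕ // ∑ j, a j ≤ N} ≃ {P : Option (Fin t) → ℕ // ∑ j, P j = N} :=
    { toFun := fun a => ⟨fun o => o.elim (N - ∑ j, a.1 j) a.1, by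
        rw [Fintype.sum_option]
        simp only [Option.elim_none, Option.elim_some]
        have := a.2; omega⟩
      invFun := fun P => ⟨fun j => P.1 (some j), by
        have := P.2; rw [Fintype.sum_option] at this
        show ∑ j, P.1 (some j) ≤ N
        omega⟩
      left_inv := fun a => rfl
      right_inv := fun P => Subtype.ext (funext fun o => by
        rcases o with _ | j
        · have := P.2
          rw [Fintype.sum_option] at this
          show N - ∑ j, P.1 (some j) = P.1 none
          omega
        · rfl) }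
  rw [Nat.card_congr (e.trans (Sym.equivNatSumOfFintype (Option (Fin t)) N).symm),
    Nat.card_eq_fintype_card, Sym.card_sym_eq_choose, Fintype.card_option, Fintype.card_fin,
    ← Nat.choose_symm_of_eq_add (show N + t = N + t from rfl)]
  congr 1
  omega

variable {F : Type*} [Field F] [Fintype F]

theorem irreducible_factor_cases {r : ℕ} [hr : Fact r.Prime] {P : F[X]} (hP : Irreducible P)
    (hPm : P.Monic) (h : P ∣ X ^ r - 1) : P = X - 1 ∨ P ∣ cyclotomic r F := by
  rw [← cyclotomic_prime_mul_X_sub_one F r] at h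
  refine ((hP.prime.dvd_or_dvd h).symm.imp_left fun h1 => ?_)
  have hm : (X - 1 : F[X]).Monic := by rw [← C_1]; exact monic_X_sub_C 1
  refine eq_of_monic_of_associated hPm hm (hP.associated_of_dvd ?_ h1)
  rw [← C_1]; exact irreducible_X_sub_C 1

variable {p : ℕ} [Fact p.Prime] [CharP F p] {n : ℕ}

theorem isConj_of_charpoly_of_order {r : ℕ} (hrp : r.Coprime p) {g h : GL (Fin n) F}
    (hg : g ^ r = 1) (hh : h ^ r = 1)
    (hc : (g : Matrix (Fin n) (Fin n) F).charpoly = (h : Matrix (Fin n) (Fin n) F).charpoly) :
    IsConj g h :=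
  SSClass.gl_isConj_of_charpoly p (hrp.coprime_dvd_left (orderOf_dvd_of_pow_eq_one hg))
    (hrp.coprime_dvd_left (orderOf_dvd_of_pow_eq_one hh)) hc

/-- The irreducible factors of the characteristic polynomial of an element of exponent `r`. -/
theorem factor_dvd_of_pow_eq_one {r : ℕ} {g : GL (Fin n) F} (hg : g ^ r = 1) {P : F[X]}
    (hP : Irreducible P) (h : P ∣ (g : Matrix (Fin n) (Fin n) F).charpoly) : P ∣ X ^ r - 1 := by
  refine (irreducible_dvd_minpoly_of_dvd_charpoly _ hP h).trans (minpoly.dvd F _ ?_)
  rw [map_sub, map_pow, aeval_X, map_one, ← Units.val_pow_eq_pow_val, hg, Units.val_one, sub_self]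

/-- Existence of an element of exponent `r` with given characteristic polynomial. -/
theorem exists_pow_eq_one_charpoly {r : ℕ} (hr : 0 < r) {f : F[X]} (hf : f.Monic)
    (hn : f.natDegree = n) (h : f ∣ (X ^ r - 1) ^ n) :
    ∃ g : GL (Fin n) F, g ^ r = 1 ∧ (g : Matrix (Fin n) (Fin n) F).charpoly = f := by
  obtain ⟨p, hpc⟩ := CharP.exists F
  have : Fact p.Prime := ⟨CharP.char_is_prime F p⟩
  have h0 : f.coeff 0 ≠ 0 := by
    intro h0
    have hX : (X : F[X]) ∣ (X ^ r - 1) ^ n := (Polynomial.X_dvd_iff.2 h0).trans h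
    have := Polynomial.X_dvd_iff.1 (Polynomial.prime_X.dvd_of_dvd_pow hX)
    simp [coeff_X_pow, hr.ne] at this
  obtain ⟨g, hg, hgc⟩ := SSClass.exists_gl p hf hn h0
  refine ⟨g, Units.ext ?_, hgc⟩
  have hss := ((SSClass.ss_iff_coprime p g).2 hg).isSemisimple
  have hsq := hss.minpoly_squarefree
  rw [minpoly.algEquiv_eq] at hsq
  have hd : minpoly F (g : Matrix (Fin n) (Fin n) F) ∣ (X ^ r - 1) ^ n :=
    (Matrix.minpoly_dvd_charpoly _).trans (hgc ▸ h)
  have hd' := hsq.isRadical n _ hd
  have := aeval_eq_zero_of_dvd_aeval_eq_zero hd' (minpoly.aeval F _)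
  rwa [map_sub, map_pow, aeval_X, map_one, sub_eq_zero, ← Units.val_one] at this

theorem card_prime_order_classes_gl {q : ℕ} (hF : Fintype.card F = q) (n r i t : ℕ) (hr : r.Prime)
    (hrp : r ≠ p) (hi : i = orderOf (q : ZMod r)) (ht : t * i = r - 1) :
    Nat.card {C : ConjClasses (GL (Fin n) F) // ∃ g : GL (Fin n) F,
      ConjClasses.mk g = C ∧ orderOf g = r} = Nat.choose (n / i + t) t - 1 := by
  classical
  haveI : Fact r.Prime := ⟨hr⟩
  have hcop : r.Coprime p := (Nat.coprime_primes hr Fact.out).2 hrp
  obtain ⟨fe, -, hfe⟩ := FiniteField.card F p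
  have hi0 : 0 < i := Nat.pos_of_ne_zero fun h => by
    rw [h, mul_zero] at ht
    have := hr.two_le
    omega
  have hord : orderOf (ZMod.unitOfCoprime _ (hcop.symm.pow_left (fe : ℕ)) : (ZMod r)ˣ) = i := by
    rw [← orderOf_units, ZMod.coe_unitOfCoprime, hi, ← hF, hfe]
  set S := (UniqueFactorizationMonoid.normalizedFactors (cyclotomic r F)).toFinset with hS
  have hScard : S.card = t := by
    rw [hS, normalizedFactors_cyclotomic_card hfe hcop.symm, Nat.totient_prime hr, hord, ← ht,
      Nat.mul_div_cancel _ hi0]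
  let Pf : Fin t → F[X] := fun j => ((S.equivFinOfCardEq hScard).symm j).1
  have hPmem : ∀ j, Pf j ∈ UniqueFactorizationMonoid.normalizedFactors (cyclotomic r F) := fun j =>
    Multiset.mem_toFinset.1 ((S.equivFinOfCardEq hScard).symm j).2
  have hPirr : ∀ j, Irreducible (Pf j) := fun j =>
    UniqueFactorizationMonoid.irreducible_of_normalized_factor _ (hPmem j)
  have hPmonic : ∀ j, (Pf j).Monic := fun j => by
    rw [← UniqueFactorizationMonoid.normalize_normalized_factor _ (hPmem j)]
    exact Polynomial.monic_normalize (hPirr j).ne_zero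
  have hPdeg : ∀ j, (Pf j).natDegree = i := fun j => by
    rw [natDegree_of_mem_normalizedFactors_cyclotomic hfe hcop.symm (hPmem j), hord]
  have hPinj : Function.Injective Pf := fun a b h => (S.equivFinOfCardEq hScard).symm.injective (Subtype.ext h)
  have hPall : ∀ Q : F[X], Irreducible Q → Q.Monic → Q ∣ cyclotomic r F → ∃ j, Pf j = Q := by
    intro Q hQ hQm hd
    obtain ⟨Q', hQ', hass⟩ := UniqueFactorizationMonoid.exists_mem_normalizedFactors_of_dvd
      (cyclotomic_ne_zero r F) hQ hd
    have : Q = Q' := eq_of_monic_of_associated hQm (by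
      rw [← UniqueFactorizationMonoid.normalize_normalized_factor _ hQ']
      exact Polynomial.monic_normalize (UniqueFactorizationMonoid.irreducible_of_normalized_factor _ hQ').ne_zero) hass
    exact ⟨S.equivFinOfCardEq hScard ⟨Q', Multiset.mem_toFinset.2 hQ'⟩, by simp [Pf, this]⟩
  have hPne : ∀ j, Pf j ≠ X - 1 := fun j h => by
    have h1 : IsRoot (cyclotomic r F) 1 := by
      rw [← dvd_iff_isRoot, C_1, ← h]
      exact UniqueFactorizationMonoid.dvd_of_mem_normalizedFactors (hPmem j)
    have : NeZero (r : F) := ⟨fun h0 => hrp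
      (((Nat.prime_dvd_prime_iff_eq Fact.out hr).1 ((CharP.cast_eq_zero_iff F p r).1 h0)).symm)⟩
    exact hr.ne_one ((isRoot_cyclotomic_iff.1 h1).eq_orderOf.trans orderOf_one)
  -- polynomials from multiplicities
  let N := n / i
  let mult : (Fin t → ℕ) → Option (Fin t) → ℕ := fun a o => o.elim (n - i * ∑ j, a j) a
  let fac : Option (Fin t) → F[X] := fun o => o.elim (X - 1) Pf
  have hfacI : Function.Injective fac := by
    rintro (_ | a) (_ | b) h
    · rfl
    · exact absurd h.symm (hPne b)
    · exact absurd h (hPne a)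
    · exact congrArg some (hPinj h)
  have hfacirr : ∀ o, Irreducible (fac o) := by
    rintro (_ | a)
    · show Irreducible (X - 1 : F[X]); rw [← C_1]; exact irreducible_X_sub_C 1
    · exact hPirr a
  have hfacm : ∀ o, (fac o).Monic := by
    rintro (_ | a)
    · show (X - 1 : F[X]).Monic; rw [← C_1]; exact monic_X_sub_C 1
    · exact hPmonic a
  have hfacd : ∀ o, fac o ∣ X ^ r - 1 := by
    rw [← cyclotomic_prime_mul_X_sub_one F r]
    rintro (_ | a)
    · exact dvd_mul_left _ _
    · exact (UniqueFactorizationMonoid.dvd_of_mem_normalizedFactors (hPmem a)).trans (dvd_mul_right _ _)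
  let ms : (Fin t → ℕ) → Multiset F[X] := fun a => ∑ o, (mult a o) • {fac o}
  have hcount : ∀ a o, (ms a).count (fac o) = mult a o := by
    intro a o
    simp only [ms, Multiset.count_sum', Multiset.count_nsmul, Multiset.count_singleton, hfacI.eq_iff]
    simp
  let poly : (Fin t → ℕ) → F[X] := fun a => ∏ o, fac o ^ mult a o
  have hpolym : ∀ a, (poly a).Monic := fun a => monic_prod_of_monic _ _ fun o _ => (hfacm o).pow _
  have hpolyd : ∀ a, ∑ j, a j ≤ N → (poly a).natDegree = n := by
    intro a ha
    rw [natDegree_prod_of_monic _ _ fun o _ => (hfacm o).pow _, Fintype.sum_option]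
    simp only [natDegree_pow, fac, mult, Option.elim_none, Option.elim_some, hPdeg]
    rw [show (X - 1 : F[X]).natDegree = 1 by rw [← C_1]; exact natDegree_X_sub_C 1, ← Finset.sum_mul]
    have hle : i * ∑ j, a j ≤ n := (Nat.mul_le_mul_left i ha).trans (Nat.mul_div_le n i)
    rw [mul_one, mul_comm _ i]
    omega
  have hnf : ∀ a, UniqueFactorizationMonoid.normalizedFactors (poly a) = ms a := by
    intro a
    have hms : ∀ P ∈ ms a, Irreducible P ∧ normalize P = P := by
      intro P hP
      simp only [ms, Multiset.mem_sum] at hP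
      obtain ⟨o, -, ho⟩ := hP
      rw [Multiset.mem_nsmul] at ho
      obtain rfl := Multiset.mem_singleton.1 ho.2
      exact ⟨hfacirr o, (hfacm o).normalize_eq_self⟩
    have hprod : (ms a).prod = poly a := by
      simp [ms, poly, Multiset.prod_sum, Multiset.prod_nsmul]
    rw [← hprod, UniqueFactorizationMonoid.normalizedFactors_prod_eq _ fun P hP => (hms P hP).1]
    exact (Multiset.map_congr rfl fun P hP => (hms P hP).2).trans (Multiset.map_id _)
  -- classes of exponent r
  let T := {C : ConjClasses (GL (Fin n) F) // ∃ g : GL (Fin n) F, ConjClasses.mk g = C ∧ g ^ r = 1}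
  have hex : ∀ a : {a : Fin t → ℕ // ∑ j, a j ≤ N}, ∃ g : GL (Fin n) F, g ^ r = 1 ∧
      (g : Matrix (Fin n) (Fin n) F).charpoly = poly a.1 := fun a => by
    refine exists_pow_eq_one_charpoly hr.pos (hpolym _) (hpolyd _ a.2) ?_
    have h1 : (poly a.1) ∣ ∏ o, (X ^ r - 1 : F[X]) ^ mult a.1 o :=
      Finset.prod_dvd_prod_of_dvd _ _ fun o _ => pow_dvd_pow_of_dvd (hfacd o) _
    rw [Finset.prod_pow_eq_pow_sum] at h1
    refine h1.trans (pow_dvd_pow _ ?_)
    rw [Fintype.sum_option]
    simp only [mult, Option.elim_none, Option.elim_some]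
    have hle : i * ∑ j, a.1 j ≤ n := (Nat.mul_le_mul_left i a.2).trans (Nat.mul_div_le n i)
    have := Nat.le_mul_of_pos_left (∑ j, a.1 j) hi0
    omega
  choose G hG1 hG2 using hex
  let Φ : {a : Fin t → ℕ // ∑ j, a j ≤ N} → T := fun a => ⟨ConjClasses.mk (G a), G a, rfl, hG1 a⟩
  have hΦ : Function.Bijective Φ := by
    constructor
    · intro a b h
      have hc := SSClass.charpoly_isConj (ConjClasses.mk_eq_mk_iff_isConj.1 (congrArg Subtype.val h))
      rw [hG2, hG2] at hc
      refine Subtype.ext (funext fun j => ?_)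
      have := congrArg (fun m : Multiset F[X] => m.count (fac (some j)))
        ((hnf a.1).symm.trans ((congrArg _ hc).trans (hnf b.1)))
      simpa [hcount, mult] using this
    · rintro ⟨C, g, rfl, hg⟩
      set f := (g : Matrix (Fin n) (Fin n) F).charpoly with hf
      have hfm : f.Monic := Matrix.charpoly_monic _
      have hfd : f.natDegree = n := by rw [hf, Matrix.charpoly_natDegree_eq_dim, Fintype.card_fin]
      set M := UniqueFactorizationMonoid.normalizedFactors f with hM
      have hmem : ∀ P ∈ M, ∃ o, fac o = P := by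
        intro P hP
        have hPi := UniqueFactorizationMonoid.irreducible_of_normalized_factor _ hP
        have hPm : P.Monic := by
          rw [← UniqueFactorizationMonoid.normalize_normalized_factor _ hP]
          exact Polynomial.monic_normalize hPi.ne_zero
        rcases irreducible_factor_cases hPi hPm (factor_dvd_of_pow_eq_one hg hPi
          (UniqueFactorizationMonoid.dvd_of_mem_normalizedFactors hP)) with rfl | h
        · exact ⟨none, rfl⟩
        · obtain ⟨j, hj⟩ := hPall P hPi hPm h
          exact ⟨some j, hj⟩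
      have hMe : M = ∑ o, (M.count (fac o)) • {fac o} := by
        refine Multiset.ext.2 fun P => ?_
        simp only [Multiset.count_sum', Multiset.count_nsmul, Multiset.count_singleton]
        by_cases hP : P ∈ M
        · obtain ⟨o, rfl⟩ := hmem P hP
          simp [hfacI.eq_iff]
        · rw [Multiset.count_eq_zero.2 hP]
          refine (Finset.sum_eq_zero fun o _ => ?_).symm
          by_cases ho : P = fac o
          · subst ho; simp [Multiset.count_eq_zero.2 hP]
          · simp [ho]
      have hfprod : f = ∏ o, fac o ^ M.count (fac o) := by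
        have h1 := UniqueFactorizationMonoid.prod_normalizedFactors hfm.ne_zero
        rw [← hM, hMe] at h1
        simp only [Multiset.prod_sum, Multiset.prod_nsmul, Multiset.prod_singleton] at h1
        exact (eq_of_monic_of_associated (monic_prod_of_monic _ _ fun o _ => (hfacm o).pow _) hfm h1).symm
      have hdeg : n = M.count (fac none) + i * ∑ j, M.count (fac (some j)) := by
        have h1 := congrArg natDegree hfprod
        rw [hfd, natDegree_prod_of_monic _ _ fun o _ => (hfacm o).pow _, Fintype.sum_option] at h1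
        simp only [natDegree_pow, fac, Option.elim_none, Option.elim_some, hPdeg] at h1
        rw [show (X - 1 : F[X]).natDegree = 1 by rw [← C_1]; exact natDegree_X_sub_C 1, mul_one,
          ← Finset.sum_mul, mul_comm _ i] at h1
        exact h1
      let a : {a : Fin t → ℕ // ∑ j, a j ≤ N} := ⟨fun j => M.count (fac (some j)), by
        show ∑ j, M.count (fac (some j)) ≤ n / i
        rw [Nat.le_div_iff_mul_le hi0, mul_comm]; omega⟩
      refine ⟨a, Subtype.ext (ConjClasses.mk_eq_mk_iff_isConj.2
        (isConj_of_charpoly_of_order hcop (hG1 a) hg ?_))⟩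
      rw [hG2, ← hf, hfprod]
      refine Finset.prod_congr rfl fun o _ => ?_
      rcases o with _ | j
      · congr 1
        show n - i * ∑ j, M.count (fac (some j)) = M.count (fac none)
        omega
      · rfl
  have hT : Nat.card T = Nat.choose (N + t) t := by
    rw [← Nat.card_eq_of_bijective Φ hΦ, card_fun_sum_le]
  haveI : Finite T := Subtype.finite
  have h1 : Nat.card {C : ConjClasses (GL (Fin n) F) // ∃ g : GL (Fin n) F,
      ConjClasses.mk g = C ∧ orderOf g = r} + 1 = Nat.card T := by
    let one : T := ⟨ConjClasses.mk 1, 1, rfl, one_pow r⟩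
    rw [← Finite.card_option]
    refine Nat.card_eq_of_bijective (fun o => o.elim one fun C => ⟨C.1, by
      obtain ⟨g, hg, ho⟩ := C.2
      exact ⟨g, hg, ho ▸ pow_orderOf_eq_one g⟩⟩) ⟨?_, ?_⟩
    · have hne : ∀ C : {C : ConjClasses (GL (Fin n) F) // ∃ g : GL (Fin n) F,
          ConjClasses.mk g = C ∧ orderOf g = r}, C.1 ≠ ConjClasses.mk 1 := by
        rintro ⟨C, g, rfl, ho⟩ h
        have := ConjClasses.mk_eq_mk_iff_isConj.1 h
        rw [isConj_one_left] at this
        rw [this, orderOf_one] at ho
        exact hr.ne_one ho.symm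
      rintro (_ | C) (_ | D) h
      · rfl
      · exact absurd (congrArg Subtype.val h).symm (hne D)
      · exact absurd (congrArg Subtype.val h) (hne C)
      · exact congrArg some (Subtype.ext (congrArg Subtype.val h :))
    · rintro ⟨C, g, rfl, hg⟩
      by_cases h : g = 1
      · exact ⟨none, by subst h; rfl⟩
      · exact ⟨some ⟨ConjClasses.mk g, g, rfl, orderOf_eq_prime hg h⟩, rfl⟩
  rw [hT] at h1
  show _ = (N + t).choose t - 1
  omega

end CfsgLib.KnownC
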