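import Mathlib

set_option autoImplicit false

/-!
Monic polynomials fixed by a multiplicative involution, with prescribed irreducible factors.
-/

namespace CfsgLib.KnownC.StarCount

open Polynomial
open scoped Polynomial

variable {F : Type*} [Field F]

/-- Stars and bars. -/
theorem natCard_le (k N : ℕ) : Nat.card {a : Fin k → ℕ // ∑ j, a j ≤ N} = (N + k).choose k := by
  classical
  have e : {a : Fin k → ℕ // ∑ j, a j ≤ N} ≃ {b : Fin (k + 1) → ℕ // ∑ j, b j = N} :=
    { toFun := fun a => ⟨Fin.cons (N - ∑ j, a.1 j) a.1, by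
        rw [Fin.sum_univ_succ, Fin.cons_zero]
        simp only [Fin.cons_succ]
        exact Nat.sub_add_cancel a.2⟩
      invFun := fun b => ⟨fun j => b.1 j.succ, by
        have := b.2; rw [Fin.sum_univ_succ] at this
        show ∑ j : Fin k, b.1 j.succ ≤ N
        omega⟩
      left_inv := fun a => Subtype.ext (funext fun j => by simp)
      right_inv := fun b => Subtype.ext (funext fun j => by
        induction j using Fin.cases with
        | zero =>
          have := b.2; rw [Fin.sum_univ_succ] at this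
          simp only [Fin.cons_zero]
          show N - ∑ j : Fin k, b.1 j.succ = b.1 0
          omega
        | succ j => simp) }
  rw [Nat.card_congr (e.trans (Sym.equivNatSumOfFintype (Fin (k + 1)) N).symm),
    Nat.card_eq_fintype_card, Sym.card_sym_eq_choose, Fintype.card_fin,
    show k + 1 + N - 1 = N + k by omega, Nat.choose_symm_add]

theorem natCard_eq (k N : ℕ) :
    Nat.card {a : Fin (k + 1) → ℕ // ∑ j, a j = N} = (N + k).choose k := by
  classical
  rw [Nat.card_congr (Sym.equivNatSumOfFintype (Fin (k + 1)) N).symm, Nat.card_eq_fintype_card,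
    Sym.card_sym_eq_choose, Fintype.card_fin, show k + 1 + N - 1 = N + k by omega, Nat.choose_symm_add]

/-- Building blocks for an operation `S`. -/
structure Blocks (S : F[X] → F[X]) (d k r : ℕ) where
  /-- The blocks. -/
  B : Fin k → F[X]
  /-- A distinguished prime factor of each block. -/
  P : Fin k → F[X]
  S_mul : ∀ f g, S (f * g) = S f * S g
  S_root : S (X - C 1) = X - C 1
  monic : ∀ j, (B j).Monic
  deg : ∀ j, (B j).natDegree = d
  dpos : 0 < d
  fix : ∀ j, S (B j) = B j
  prime : ∀ j, Prime (P j)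
  dvd : ∀ j, P j ∣ B j
  sep : ∀ j l, P j ∣ B l → j = l
  ne_one : ∀ j, ¬ P j ∣ (X - C (1 : F))
  allowed : ∀ j (Q : F[X]), Irreducible Q → Q ∣ B j → Q ∣ X ^ r - 1
  cover : ∀ f : F[X], f.Monic → S f = f → ∀ Q : F[X], Q.Monic → Irreducible Q → Q ∣ f → Q ∣ X ^ r - 1 →
    Q ≠ X - C 1 → ∃ j, B j ∣ f

variable {S : F[X] → F[X]} {d k r : ℕ} (D : Blocks S d k r)

/-- The polynomial of a tuple. -/
noncomputable def Blocks.poly (n : ℕ) (a : Fin k → ℕ) : F[X] :=
  (X - C 1) ^ (n - d * ∑ j, a j) * ∏ j, D.B j ^ a j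

theorem Blocks.monic_poly (n : ℕ) (a : Fin k → ℕ) : (D.poly n a).Monic :=
  ((monic_X_sub_C 1).pow _).mul (monic_prod_of_monic _ _ fun j _ => (D.monic j).pow _)

theorem Blocks.natDegree_prod (a : Fin k → ℕ) : (∏ j, D.B j ^ a j).natDegree = d * ∑ j, a j := by
  rw [natDegree_prod_of_monic _ _ fun j _ => (D.monic j).pow _, Finset.mul_sum]
  exact Finset.sum_congr rfl fun j _ => by rw [(D.monic j).natDegree_pow, D.deg, Nat.mul_comm]

theorem Blocks.natDegree_poly {n : ℕ} (a : Fin k → ℕ) (ha : d * ∑ j, a j ≤ n) :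
    (D.poly n a).natDegree = n := by
  rw [Blocks.poly, ((monic_X_sub_C 1).pow _).natDegree_mul
      (monic_prod_of_monic _ _ fun j _ => (D.monic j).pow _), D.natDegree_prod,
    (monic_X_sub_C 1).natDegree_pow, natDegree_X_sub_C]
  omega

include D in
theorem Blocks.S_one : S 1 = 1 := by
  have h := D.S_mul 1 (X - C 1)
  rw [one_mul, D.S_root] at h
  exact (mul_eq_right₀ (X_sub_C_ne_zero (1 : F))).1 h.symm

include D in
theorem Blocks.S_pow {f : F[X]} (hf : S f = f) (e : ℕ) : S (f ^ e) = f ^ e := by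
  induction e with
  | zero => rw [pow_zero, D.S_one]
  | succ e ih => rw [pow_succ, D.S_mul, ih, hf]

theorem Blocks.S_poly (n : ℕ) (a : Fin k → ℕ) : S (D.poly n a) = D.poly n a := by
  classical
  rw [Blocks.poly, D.S_mul, D.S_pow D.S_root]
  congr 1
  refine Finset.prod_induction (fun j => D.B j ^ a j) (fun f => S f = f) (fun f g hf hg => ?_) D.S_one
    fun j _ => D.S_pow (D.fix j) _
  rw [D.S_mul, hf, hg]

theorem Blocks.allowed_poly (n : ℕ) (a : Fin k → ℕ) {Q : F[X]} (hQ : Irreducible Q)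
    (h : Q ∣ D.poly n a) : Q ∣ X ^ r - 1 := by
  rcases hQ.prime.dvd_or_dvd h with h | h
  · exact (hQ.prime.dvd_of_dvd_pow h).trans (dvd_iff_isRoot.2 (by simp))
  · obtain ⟨j, -, hj⟩ := hQ.prime.exists_mem_finset_dvd h
    exact D.allowed j Q hQ (hQ.prime.dvd_of_dvd_pow hj)

theorem Blocks.dvd_poly_iff (n : ℕ) (a : Fin k → ℕ) (j : Fin k) : D.P j ∣ D.poly n a ↔ a j ≠ 0 := by
  constructor
  · intro h h0
    rcases (D.prime j).dvd_or_dvd h with h | h
    · exact D.ne_one j ((D.prime j).dvd_of_dvd_pow h)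
    · obtain ⟨l, -, hl⟩ := (D.prime j).exists_mem_finset_dvd h
      have := D.sep j l ((D.prime j).dvd_of_dvd_pow hl)
      subst this
      rw [h0, pow_zero] at hl
      exact (D.prime j).not_isUnit (isUnit_of_dvd_one hl)
  · intro h
    have h1 : D.P j ∣ D.B j ^ a j := dvd_trans (D.dvd j) (dvd_pow_self (D.B j) h)
    exact dvd_mul_of_dvd_right (dvd_trans h1 (Finset.dvd_prod_of_mem (fun l => D.B l ^ a l) (Finset.mem_univ j))) _

theorem Blocks.poly_update {n : ℕ} (a : Fin k → ℕ) (j : Fin k) (ha : a j ≠ 0)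
    (hn : d * ∑ l, a l ≤ n) :
    D.poly n a = D.B j * D.poly (n - d) (Function.update a j (a j - 1)) ∧
      d * ∑ l, Function.update a j (a j - 1) l ≤ n - d ∧ d ≤ n := by
  classical
  obtain ⟨b, hb⟩ : ∃ b, a j = b + 1 := ⟨a j - 1, by omega⟩
  have hs : ∑ l, a l = ∑ l, Function.update a j (a j - 1) l + 1 := by
    rw [Finset.sum_update_of_mem (Finset.mem_univ j), ← Finset.add_sum_erase _ _ (Finset.mem_univ j),
      Finset.sdiff_singleton_eq_erase]
    omega
  have hp : ∏ l, D.B l ^ a l = D.B j * ∏ l, D.B l ^ Function.update a j (a j - 1) l := by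
    rw [← Finset.mul_prod_erase _ _ (Finset.mem_univ j), ← Finset.mul_prod_erase _ _ (Finset.mem_univ j),
      Function.update_self, hb, Nat.add_sub_cancel, pow_succ', mul_assoc]
    congr 2
    exact Finset.prod_congr rfl fun l hl => by rw [Function.update_of_ne (Finset.ne_of_mem_erase hl)]
  rw [hs, Nat.mul_succ] at hn
  refine ⟨?_, by omega, by omega⟩
  rw [Blocks.poly, Blocks.poly, hp, hs, Nat.mul_succ,
    show n - (d * ∑ l, Function.update a j (a j - 1) l + d) =
      n - d - d * ∑ l, Function.update a j (a j - 1) l by omega]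
  ring

theorem Blocks.poly_injective : ∀ (s : ℕ) {n : ℕ} (a b : Fin k → ℕ), ∑ l, a l = s →
    d * ∑ l, a l ≤ n → d * ∑ l, b l ≤ n → D.poly n a = D.poly n b → a = b := by
  classical
  intro s
  induction s using Nat.strong_induction_on with
  | _ s ih =>
    intro n a b hs ha hb hab
    by_cases h0 : ∃ j, a j ≠ 0
    · obtain ⟨j, hj⟩ := h0
      have hbj : b j ≠ 0 := (D.dvd_poly_iff n b j).1 (hab ▸ (D.dvd_poly_iff n a j).2 hj)
      obtain ⟨e1, l1, -⟩ := D.poly_update a j hj ha
      obtain ⟨e2, l2, -⟩ := D.poly_update b j hbj hb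
      rw [e1, e2] at hab
      have hlt : ∑ l, Function.update a j (a j - 1) l < s := by
        rw [← hs]
        exact Finset.sum_lt_sum (fun l _ => by
          rcases eq_or_ne l j with rfl | h
          · rw [Function.update_self]; omega
          · rw [Function.update_of_ne h]) ⟨j, Finset.mem_univ j, by rw [Function.update_self]; omega⟩
      have h := ih _ hlt _ _ rfl l1 l2 (mul_left_cancel₀ (D.monic j).ne_zero hab)
      funext l
      rcases eq_or_ne l j with rfl | hl
      · have := congrFun h l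
        rw [Function.update_self, Function.update_self] at this
        omega
      · have := congrFun h l
        rwa [Function.update_of_ne hl, Function.update_of_ne hl] at this
    · simp only [not_exists, not_not] at h0
      funext l
      rw [h0 l]
      by_contra hne
      exact (D.dvd_poly_iff n a l).1 (hab ▸ (D.dvd_poly_iff n b l).2 (Ne.symm hne)) (h0 l)

include D in
theorem Blocks.exists_tuple : ∀ (n : ℕ) {f : F[X]}, f.Monic → S f = f → f.natDegree = n →
    (∀ Q : F[X], Q.Monic → Irreducible Q → Q ∣ f → Q ∣ X ^ r - 1) →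
    ∃ a : Fin k → ℕ, d * ∑ l, a l ≤ n ∧ f = D.poly n a := by
  classical
  intro n
  induction n using Nat.strong_induction_on with
  | _ n ih =>
    intro f hf hS hdeg hall
    by_cases hQ : ∃ Q : F[X], Q.Monic ∧ Irreducible Q ∧ Q ∣ f ∧ Q ≠ X - C 1
    · obtain ⟨Q, hQm, hQi, hQf, hQ1⟩ := hQ
      obtain ⟨j, g, hg⟩ := D.cover f hf hS Q hQm hQi hQf (hall Q hQm hQi hQf) hQ1
      have hgm : g.Monic := (D.monic j).of_mul_monic_left (hg ▸ hf)
      have hgd : g.natDegree + d = n := by
        rw [← hdeg, hg, (D.monic j).natDegree_mul hgm, D.deg, Nat.add_comm]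
      have hgS : S g = g := by
        rw [hg, D.S_mul, D.fix] at hS
        exact mul_left_cancel₀ (D.monic j).ne_zero hS
      obtain ⟨a, ha, hga⟩ := ih g.natDegree (by have := D.dpos; omega) hgm hgS rfl
        (fun Q hQm hQi hQd => hall Q hQm hQi (hg ▸ hQd.trans (dvd_mul_left _ _)))
      obtain ⟨a', ha'⟩ : ∃ a', a' = Function.update a j (a j + 1) := ⟨_, rfl⟩
      have hsum : ∑ l, a' l = ∑ l, a l + 1 := by
        rw [ha', Finset.sum_update_of_mem (Finset.mem_univ j), ← Finset.add_sum_erase _ _ (Finset.mem_univ j),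
          Finset.sdiff_singleton_eq_erase]
        omega
      refine ⟨a', by rw [hsum, Nat.mul_succ]; omega, ?_⟩
      obtain ⟨e, -, -⟩ := D.poly_update (n := n) a' j (by rw [ha', Function.update_self]; omega)
        (by rw [hsum, Nat.mul_succ]; omega)
      rw [e, hg, hga, show n - d = g.natDegree by omega]
      congr 2
      rw [ha', Function.update_self, Nat.add_sub_cancel, Function.update_idem, Function.update_eq_self]
    · simp only [not_exists, not_and, not_not] at hQ
      refine ⟨fun _ => 0, by simp, ?_⟩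
      have hp : ∀ (e : ℕ) (f : F[X]), f.Monic → f.natDegree = e →
          (∀ Q : F[X], Q.Monic → Irreducible Q → Q ∣ f → Q = X - C 1) → f = (X - C 1) ^ e := by
        intro e
        induction e with
        | zero => intro f hf hd _; rw [pow_zero, hf.natDegree_eq_zero.mp hd]
        | succ e ihe =>
          intro f hf hd h
          obtain ⟨Q, hQm, hQi, R, hR⟩ := exists_monic_irreducible_factor f (fun hu => by
            have := natDegree_eq_zero_of_isUnit hu; omega)
          have hQ1 := h Q hQm hQi ⟨R, hR⟩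
          have hRm : R.Monic := hQm.of_mul_monic_left (hR ▸ hf)
          rw [hQ1] at hR
          have hRd : R.natDegree = e := by
            rw [hR, (monic_X_sub_C 1).natDegree_mul hRm, natDegree_X_sub_C] at hd; omega
          rw [hR, ihe R hRm hRd fun S h1 h2 h3 => h S h1 h2 (hR ▸ h3.trans (dvd_mul_left _ _)), pow_succ']
      rw [Blocks.poly, hp n f hf hdeg hQ]
      simp

/-- The allowed polynomials of degree `n`. -/
def polys (S : F[X] → F[X]) (r n : ℕ) : Set F[X] :=
  {f | f.Monic ∧ S f = f ∧ f.natDegree = n ∧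
    ∀ Q : F[X], Q.Monic → Irreducible Q → Q ∣ f → Q ∣ X ^ r - 1}

theorem Blocks.poly_mem {n : ℕ} (a : Fin k → ℕ) (ha : d * ∑ j, a j ≤ n) :
    D.poly n a ∈ polys S r n :=
  ⟨D.monic_poly _ _, D.S_poly _ _, D.natDegree_poly a ha, fun _ _ hQ h => D.allowed_poly _ _ hQ h⟩

include D in
/-- Counting allowed polynomials through a predicate on multiplicities. -/
theorem Blocks.natCard_subtype (n : ℕ) (C : F[X] → Prop) (Cₐ : (Fin k → ℕ) → Prop)
    (hC : ∀ a, d * ∑ j, a j ≤ n → (C (D.poly n a) ↔ Cₐ a)) :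
    Nat.card {f : F[X] // f ∈ polys S r n ∧ C f} =
      Nat.card {a : Fin k → ℕ // ∑ j, a j ≤ n / d ∧ Cₐ a} := by
  have hle : ∀ a : Fin k → ℕ, ∑ j, a j ≤ n / d ↔ d * ∑ j, a j ≤ n := fun a => by
    rw [Nat.le_div_iff_mul_le D.dpos, Nat.mul_comm]
  symm
  refine Nat.card_congr (Equiv.ofBijective
    (fun a => ⟨D.poly n a.1, D.poly_mem _ ((hle _).1 a.2.1), (hC _ ((hle _).1 a.2.1)).2 a.2.2⟩) ⟨?_, ?_⟩)
  · intro a b h
    exact Subtype.ext (D.poly_injective _ a.1 b.1 rfl ((hle _).1 a.2.1) ((hle _).1 b.2.1)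
      (congrArg Subtype.val h))
  · rintro ⟨f, ⟨hf, hS, hdeg, hall⟩, hfC⟩
    obtain ⟨a, ha, rfl⟩ := D.exists_tuple n hf hS hdeg hall
    exact ⟨⟨a, (hle a).2 ha, (hC a ha).1 hfC⟩, rfl⟩

include D in
/-- The count of the allowed polynomials. -/
theorem Blocks.natCard (n : ℕ) : (polys S r n).ncard = (n / d + k).choose k := by
  rw [← natCard_le k (n / d), ← Nat.card_coe_set_eq]
  have h := D.natCard_subtype n (fun _ => True) (fun _ => True) fun _ _ => Iff.rfl
  calc Nat.card ↥(polys S r n) = Nat.card {f : F[X] // f ∈ polys S r n ∧ True} :=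
        Nat.card_congr (Equiv.subtypeEquivRight fun f => (and_iff_left trivial).symm)
    _ = _ := h
    _ = _ := Nat.card_congr (Equiv.subtypeEquivRight fun a => and_iff_left trivial)

theorem Blocks.isRoot_one_iff {n : ℕ} (a : Fin k → ℕ) (ha : d * ∑ j, a j ≤ n) :
    (D.poly n a).IsRoot 1 ↔ d * ∑ j, a j ≠ n := by
  rw [← dvd_iff_isRoot]
  constructor
  · intro h heq
    rw [Blocks.poly, heq, Nat.sub_self, pow_zero, one_mul] at h
    obtain ⟨l, -, hl⟩ := (irreducible_X_sub_C (1 : F)).prime.exists_mem_finset_dvd h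
    have h1 := (irreducible_X_sub_C (1 : F)).prime.dvd_of_dvd_pow hl
    -- the quotient is again fixed and contains no other prime of the block
    obtain ⟨g, hg⟩ := h1
    have hP : D.P l ∣ g := by
      have := hg ▸ D.dvd l
      exact ((D.prime l).dvd_or_dvd this).resolve_left (D.ne_one l)
    have hgS : S g = g := by
      have := D.fix l
      rw [hg, D.S_mul, D.S_root] at this
      exact mul_left_cancel₀ (X_sub_C_ne_zero 1) this
    have hgm : g.Monic := (monic_X_sub_C 1).of_mul_monic_left (hg ▸ D.monic l)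
    have hgd : g.natDegree + 1 = d := by
      rw [← D.deg l, hg, (monic_X_sub_C 1).natDegree_mul hgm, natDegree_X_sub_C, Nat.add_comm]
    obtain ⟨b, hb, hgb⟩ := D.exists_tuple g.natDegree hgm hgS rfl fun Q _ hQ hd =>
      D.allowed l Q hQ (hg ▸ hd.trans (dvd_mul_left _ _))
    have hbl : b l ≠ 0 := (D.dvd_poly_iff _ b l).1 (hgb ▸ hP)
    have := D.poly_update (n := g.natDegree) b l hbl hb
    omega
  · intro hne
    rw [Blocks.poly]
    exact dvd_mul_of_dvd_left (dvd_pow_self _ (by omega)) _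

theorem natCard_le_of_excluded (k N : ℕ) {c : Prop} [Decidable c] :
    Nat.card {a : Fin k → ℕ // ∑ j, a j ≤ N ∧ (c → ∑ j, a j ≠ N)} =
      (N + k).choose k - (if c then Nat.card {a : Fin k → ℕ // ∑ j, a j = N} else 0) := by
  classical
  rw [← natCard_le k N]
  split_ifs with hc
  · have hfin : {a : Fin k → ℕ | ∑ j, a j ≤ N}.Finite := by
      refine Set.Finite.subset (Set.finite_Iic (fun _ : Fin k => N)) fun a ha j => ?_
      exact (Finset.single_le_sum (fun _ _ => Nat.zero_le _) (Finset.mem_univ j)).trans ha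
    show Nat.card ↥{a : Fin k → ℕ | ∑ j, a j ≤ N ∧ (c → ∑ j, a j ≠ N)} =
      Nat.card ↥{a : Fin k → ℕ | ∑ j, a j ≤ N} - Nat.card ↥{a : Fin k → ℕ | ∑ j, a j = N}
    have hsub : {a : Fin k → ℕ | ∑ j, a j = N} ⊆ {a | ∑ j, a j ≤ N} := fun a ha => by
      rw [Set.mem_ofPred_eq] at ha ⊢
      exact ha.le
    rw [Nat.card_coe_set_eq, Nat.card_coe_set_eq, Nat.card_coe_set_eq,
      ← Set.ncard_sdiff hsub (hfin.subset hsub)]
    congr 1
    ext a
    simp [hc]
  · rw [Nat.sub_zero]
    exact Nat.card_congr (Equiv.subtypeEquivRight fun a => and_iff_left fun h => absurd h hc)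

end CfsgLib.KnownC.StarCount
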