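import Mathlib
import Cfsg.Agent.Lib.Classical.SympOrderR
import Cfsg.Agent.Lib.KnownC.StarCount

set_option autoImplicit false

/-!
The factors of the cyclotomic polynomial of prime index under the twisted reciprocal `f ↦ f~`.
-/

namespace CfsgLib.KnownC.SigmaFactors

open Polynomial CfsgLib.Classical UniqueFactorizationMonoid
open scoped Polynomial

variable {K : Type*} [Field K] [Fintype K] {p : ℕ} [Fact p.Prime] [CharP K p] {r e : ℕ}
  (hr : r.Prime) (hrp : r ≠ p) (he : e = orderOf (Fintype.card K : ZMod r))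
  (σ : K →+* K) (hσ : ∀ x, σ (σ x) = x) {c : ℕ} (hc : ∀ x, σ x = x ^ p ^ c)

theorem tilde_X_sub_one : SemiPalin.tilde σ (X - C (1 : K)) = X - C 1 := by
  rw [SemiPalin.tilde, SemiPalin.srev, PalinCount.reverse_X_sub_one]
  simp

section Root

variable {g : K[X]} [Fact (Irreducible g)]

include hr hrp in
omit [Fintype K] in
theorem root_primitive (hg : g ∈ SympOrderR.factors K r) :
    IsPrimitiveRoot (AdjoinRoot.root g) r := by
  haveI : Fact r.Prime := ⟨hr⟩
  have hd : g ∣ cyclotomic r K := ((SympOrderR.mem_factors).1 hg).2.2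
  have h0 : aeval (AdjoinRoot.root g) (cyclotomic r K) = 0 :=
    aeval_eq_zero_of_dvd_aeval_eq_zero hd (by rw [AdjoinRoot.aeval_eq, AdjoinRoot.mk_self])
  rw [aeval_def, eval₂_eq_eval_map, map_cyclotomic] at h0
  have : NeZero ((r : ℕ) : AdjoinRoot g) := ⟨fun h => SympOrderR.r_ne_zero (F := K) hr hrp (by
    apply (algebraMap K (AdjoinRoot g)).injective
    rw [map_natCast, map_zero, h])⟩
  exact isRoot_cyclotomic_iff.1 h0

include hr hrp he in
theorem root_iff (hg : g ∈ SympOrderR.factors K r) (y : AdjoinRoot g) :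
    aeval y g = 0 ↔ ∃ j : ℕ, y = AdjoinRoot.root g ^ (Fintype.card K ^ j) := by
  classical
  haveI : Fact r.Prime := ⟨hr⟩
  have hω := root_primitive hr hrp hg
  have hroot : aeval (AdjoinRoot.root g) g = 0 := by rw [AdjoinRoot.aeval_eq, AdjoinRoot.mk_self]
  have hpow : ∀ j : ℕ, aeval (AdjoinRoot.root g ^ (Fintype.card K ^ j)) g = 0 := fun j => by
    induction j with
    | zero => rw [pow_zero, pow_one, hroot]
    | succ j ih =>
      rw [pow_succ, pow_mul]
      have h := congrArg (fun f => aeval (AdjoinRoot.root g ^ (Fintype.card K ^ j)) f)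
        (FiniteField.expand_card g)
      simp only [expand_aeval, map_pow, ih] at h
      rw [h, zero_pow Fintype.card_ne_zero]
  refine ⟨fun hy => ?_, by rintro ⟨j, rfl⟩; exact hpow j⟩
  have hgm : g.Monic := ((SympOrderR.mem_factors).1 hg).1
  have hne : g.map (algebraMap K (AdjoinRoot g)) ≠ 0 := (hgm.map _).ne_zero
  set R := (Finset.range e).image fun j => AdjoinRoot.root g ^ (Fintype.card K ^ j) with hR
  have hsub : R ⊆ (g.map (algebraMap K (AdjoinRoot g))).roots.toFinset := by
    intro z hz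
    obtain ⟨j, -, rfl⟩ := Finset.mem_image.1 hz
    rw [Multiset.mem_toFinset, mem_roots hne, IsRoot, ← eval₂_eq_eval_map, ← aeval_def]
    exact hpow j
  have hcard : R.card = e := by
    rw [hR, Finset.card_image_of_injOn, Finset.card_range]
    intro a ha b hb hab
    simp only [Finset.coe_range, Set.mem_Iio] at ha hb
    have h1 : Fintype.card K ^ a ≡ Fintype.card K ^ b [MOD orderOf (AdjoinRoot.root g)] :=
      (IsOfFinOrder.pow_eq_pow_iff_modEq (hω.isOfFinOrder hr.ne_zero)).1 hab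
    rw [← hω.eq_orderOf, ← ZMod.natCast_eq_natCast_iff, Nat.cast_pow, Nat.cast_pow] at h1
    exact pow_injOn_Iio_orderOf (by rw [Set.mem_Iio, ← he]; exact ha) (by rw [Set.mem_Iio, ← he]; exact hb) h1
  have heq : R = (g.map (algebraMap K (AdjoinRoot g))).roots.toFinset := by
    refine Finset.eq_of_subset_of_card_le hsub ?_
    rw [hcard, ← SympOrderR.natDegree_factor (F := K) (p := p) rfl hr hrp he hg,
      ← natDegree_map (algebraMap K (AdjoinRoot g))]
    exact (Multiset.toFinset_card_le _).trans (card_roots' _)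
  have hyR : y ∈ R := by
    rw [heq, Multiset.mem_toFinset, mem_roots hne, IsRoot, ← eval₂_eq_eval_map, ← aeval_def]
    exact hy
  obtain ⟨j, -, hj⟩ := Finset.mem_image.1 hyR
  exact ⟨j, hj.symm⟩

include hr hrp hc in
omit [Fintype K] in
theorem tilde_root (hg : g ∈ SympOrderR.factors K r) :
    aeval (((AdjoinRoot.root g)⁻¹) ^ p ^ c) (SemiPalin.tilde σ g) = 0 := by
  haveI : CharP (AdjoinRoot g) p := charP_of_injective_algebraMap (algebraMap K (AdjoinRoot g)).injective p
  have hω := root_primitive hr hrp hg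
  have hω0 : AdjoinRoot.root g ≠ 0 := hω.ne_zero hr.ne_zero
  have hroot : aeval (AdjoinRoot.root g) g = 0 := by rw [AdjoinRoot.aeval_eq, AdjoinRoot.mk_self]
  have h1 : eval₂ (algebraMap K (AdjoinRoot g)) (AdjoinRoot.root g ^ p ^ c) (g.map σ) = 0 := by
    rw [eval₂_map]
    have h2 := hom_eval₂ g (algebraMap K (AdjoinRoot g)) (iterateFrobenius (AdjoinRoot g) p c)
      (AdjoinRoot.root g)
    rw [← aeval_def, hroot, map_zero, iterateFrobenius_def] at h2
    rw [h2]
    congr 1
    ext x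
    show algebraMap K (AdjoinRoot g) (σ x) = algebraMap K (AdjoinRoot g) x ^ p ^ c
    rw [hc, map_pow]
  have hrev : SemiPalin.srev σ g = (g.map σ).reverse := by
    rw [SemiPalin.srev, Polynomial.reverse, Polynomial.reverse, ← Polynomial.reflect_map,
      natDegree_map_eq_of_injective σ.injective]
  let : Invertible (AdjoinRoot.root g ^ p ^ c) := invertibleOfNonzero (pow_ne_zero _ hω0)
  have h3 := eval₂_reverse_mul_pow (algebraMap K (AdjoinRoot g)) (AdjoinRoot.root g ^ p ^ c) (g.map σ)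
  rw [h1, mul_eq_zero, or_iff_left (pow_ne_zero _ (pow_ne_zero _ hω0)), invOf_eq_inv, ← inv_pow] at h3
  rw [SemiPalin.tilde, map_mul, hrev, aeval_def _ (g.map σ).reverse, h3, mul_zero]

end Root

include hr hrp σ hσ hc in
omit [Fintype K] in
theorem tilde_mem {g : K[X]} (hg : g ∈ SympOrderR.factors K r) :
    SemiPalin.tilde σ g ∈ SympOrderR.factors K r ∧ SemiPalin.tilde σ (SemiPalin.tilde σ g) = g := by
  obtain ⟨hm, hi, -⟩ := (SympOrderR.mem_factors).1 hg
  obtain ⟨-, -, h0⟩ := SympOrderR.facts (F := K) hr hrp hg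
  haveI : Fact (Irreducible g) := ⟨hi⟩
  haveI : Fact r.Prime := ⟨hr⟩
  have htm := (SemiPalin.tilde_facts σ hm h0).1
  have hti := SemiPalin.tilde_irreducible σ hσ hm h0 hi
  refine ⟨(SympOrderR.mem_factors).2 ⟨htm, hti, ?_⟩, SemiPalin.tilde_tilde σ hσ hm h0⟩
  have hv : IsPrimitiveRoot (((AdjoinRoot.root g)⁻¹) ^ p ^ c) r :=
    (root_primitive hr hrp hg).inv.pow_of_coprime _
      (((Nat.coprime_primes Fact.out hr).2 (Ne.symm hrp)).pow_left c)
  rw [minpoly.eq_of_irreducible_of_monic hti (tilde_root hr hrp σ hc hg) htm]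
  refine minpoly.dvd K _ ?_
  rw [aeval_def, eval₂_eq_eval_map, map_cyclotomic]
  exact hv.isRoot_cyclotomic hr.pos

include hr hrp he σ hσ hc in
theorem tilde_fix_iff {g : K[X]} (hg : g ∈ SympOrderR.factors K r) :
    SemiPalin.tilde σ g = g ↔ ∃ j : ℕ, (Fintype.card K : ZMod r) ^ j = -((p : ZMod r) ^ c) := by
  obtain ⟨hm, hi, -⟩ := (SympOrderR.mem_factors).1 hg
  obtain ⟨-, -, h0⟩ := SympOrderR.facts (F := K) hr hrp hg
  haveI : Fact (Irreducible g) := ⟨hi⟩
  have hω := root_primitive hr hrp hg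
  have hω0 : AdjoinRoot.root g ≠ 0 := hω.ne_zero hr.ne_zero
  have key : ∀ j : ℕ, ((AdjoinRoot.root g)⁻¹) ^ p ^ c = AdjoinRoot.root g ^ (Fintype.card K ^ j) ↔
      (Fintype.card K : ZMod r) ^ j = -((p : ZMod r) ^ c) := fun j => by
    rw [inv_pow, ← mul_eq_one_iff_inv_eq₀ (pow_ne_zero _ hω0), ← pow_add, hω.pow_eq_one_iff_dvd,
      ← ZMod.natCast_eq_zero_iff, Nat.cast_add, Nat.cast_pow, Nat.cast_pow, add_comm,
      ← eq_neg_iff_add_eq_zero]
  have htr := tilde_root hr hrp σ hc hg
  constructor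
  · intro h
    rw [h] at htr
    obtain ⟨j, hj⟩ := (root_iff hr hrp he hg _).1 htr
    exact ⟨j, (key j).1 hj⟩
  · rintro ⟨j, hj⟩
    have h2 : aeval (((AdjoinRoot.root g)⁻¹) ^ p ^ c) g = 0 :=
      (root_iff hr hrp he hg _).2 ⟨j, (key j).2 hj⟩
    rw [minpoly.eq_of_irreducible_of_monic (SemiPalin.tilde_irreducible σ hσ hm h0 hi) htr
      (SemiPalin.tilde_facts σ hm h0).1]
    exact (minpoly.eq_of_irreducible_of_monic hi h2 hm).symm

include hr hrp he σ hσ hc in
theorem blocks_fixed (h : ∃ j : ℕ, (Fintype.card K : ZMod r) ^ j = -((p : ZMod r) ^ c)) :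
    Nonempty (StarCount.Blocks (SemiPalin.tilde σ) e ((r - 1) / e) r) := by
  classical
  let E := ((SympOrderR.factors K r).equivFinOfCardEq
    (SympOrderR.card_factors (F := K) (p := p) rfl hr hrp he)).symm
  exact ⟨{
    B := fun j => (E j).1
    P := fun j => (E j).1
    S_mul := fun f g => SemiPalin.tilde_mul σ f g
    S_root := tilde_X_sub_one σ
    monic := fun j => (SympOrderR.mem_factors.1 (E j).2).1
    deg := fun j => SympOrderR.natDegree_factor (F := K) (p := p) rfl hr hrp he (E j).2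
    dpos := SympOrderR.i_pos (F := K) (p := p) rfl hr hrp he
    fix := fun j => (tilde_fix_iff hr hrp he σ hσ hc (E j).2).2 h
    prime := fun j => (SympOrderR.mem_factors.1 (E j).2).2.1.prime
    dvd := fun j => dvd_rfl
    sep := fun j l hd => E.injective (Subtype.ext (SympOrderR.eq_of_dvd (E j).2 (E l).2 hd))
    ne_one := fun j => SympOrderR.not_dvd_X_sub_one (F := K) hr hrp (E j).2
    allowed := fun j Q _ hd => hd.trans (SympOrderR.facts (F := K) hr hrp (E j).2).2.1
    cover := fun f _ _ Q hQm hQi hQf hQx hQ1 =>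
      ⟨E.symm ⟨Q, SympOrderR.mem_factors_of_cover hr hQm hQi hQx hQ1⟩, by
        rw [E.apply_symm_apply]; exact hQf⟩ }⟩

include hr hrp he σ hσ hc in
theorem blocks_pair (h : ¬ ∃ j : ℕ, (Fintype.card K : ZMod r) ^ j = -((p : ZMod r) ^ c)) :
    Nonempty (StarCount.Blocks (SemiPalin.tilde σ) (2 * e) ((r - 1) / e / 2) r) := by
  classical
  have hne : ∀ g ∈ SympOrderR.factors K r, SemiPalin.tilde σ g ≠ g := fun g hg hf =>
    h ((tilde_fix_iff hr hrp he σ hσ hc hg).1 hf)
  obtain ⟨S, hS, hcard, hmem⟩ := SympOrderR.exists_half (SympOrderR.factors K r) (SemiPalin.tilde σ)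
    (fun g hg => (tilde_mem hr hrp σ hσ hc hg).1) (fun g hg => (tilde_mem hr hrp σ hσ hc hg).2) hne
  rw [SympOrderR.card_factors (F := K) (p := p) rfl hr hrp he] at hcard
  let E := (S.equivFinOfCardEq (show S.card = (r - 1) / e / 2 by omega)).symm
  have hf : ∀ j, (E j).1 ∈ SympOrderR.factors K r := fun j => hS (E j).2
  have hs : ∀ j, SemiPalin.tilde σ (E j).1 ∈ SympOrderR.factors K r := fun j =>
    (tilde_mem hr hrp σ hσ hc (hf j)).1
  exact ⟨{
    B := fun j => (E j).1 * SemiPalin.tilde σ (E j).1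
    P := fun j => (E j).1
    S_mul := fun f g => SemiPalin.tilde_mul σ f g
    S_root := tilde_X_sub_one σ
    monic := fun j => (SympOrderR.mem_factors.1 (hf j)).1.mul (SympOrderR.mem_factors.1 (hs j)).1
    deg := fun j => by
      rw [(SympOrderR.mem_factors.1 (hf j)).1.natDegree_mul (SympOrderR.mem_factors.1 (hs j)).1,
        SympOrderR.natDegree_factor (F := K) (p := p) rfl hr hrp he (hf j),
        SympOrderR.natDegree_factor (F := K) (p := p) rfl hr hrp he (hs j), two_mul]
    dpos := by have := SympOrderR.i_pos (F := K) (p := p) rfl hr hrp he; omega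
    fix := fun j => by rw [SemiPalin.tilde_mul, (tilde_mem hr hrp σ hσ hc (hf j)).2, mul_comm]
    prime := fun j => (SympOrderR.mem_factors.1 (hf j)).2.1.prime
    dvd := fun j => dvd_mul_right _ _
    sep := fun j l hd => by
      rcases (SympOrderR.mem_factors.1 (hf j)).2.1.prime.dvd_or_dvd hd with hd | hd
      · exact E.injective (Subtype.ext (SympOrderR.eq_of_dvd (hf j) (hf l) hd))
      · have h2 := SympOrderR.eq_of_dvd (hf j) (hs l) hd
        exact absurd (h2 ▸ (E j).2) ((hmem _ (hf l)).1 (E l).2)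
    ne_one := fun j => SympOrderR.not_dvd_X_sub_one (F := K) hr hrp (hf j)
    allowed := fun j Q hQ hd => (hQ.prime.dvd_or_dvd hd).elim
      (fun hd => hd.trans (SympOrderR.facts (F := K) hr hrp (hf j)).2.1)
      (fun hd => hd.trans (SympOrderR.facts (F := K) hr hrp (hs j)).2.1)
    cover := fun f _ hfS Q hQm hQi hQf hQx hQ1 => by
      have hQ := SympOrderR.mem_factors_of_cover hr hQm hQi hQx hQ1
      have hQs := (tilde_mem hr hrp σ hσ hc hQ).1
      have hQt : SemiPalin.tilde σ Q ∣ f := by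
        obtain ⟨R, hR⟩ := hQf
        exact ⟨SemiPalin.tilde σ R, by rw [← SemiPalin.tilde_mul, ← hR, hfS]⟩
      have hdvd : Q * SemiPalin.tilde σ Q ∣ f := by
        refine IsCoprime.mul_dvd ?_ hQf hQt
        exact hQi.coprime_iff_not_dvd.2 fun hd => hne Q hQ (SympOrderR.eq_of_dvd hQ hQs hd).symm
      by_cases hQS : Q ∈ S
      · exact ⟨E.symm ⟨Q, hQS⟩, by rw [E.apply_symm_apply]; exact hdvd⟩
      · have hsS : SemiPalin.tilde σ Q ∈ S := by
          by_contra hh
          exact hQS ((hmem Q hQ).2 hh)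
        refine ⟨E.symm ⟨SemiPalin.tilde σ Q, hsS⟩, ?_⟩
        rw [E.apply_symm_apply, (tilde_mem hr hrp σ hσ hc hQ).2, mul_comm]
        exact hdvd }⟩

end CfsgLib.KnownC.SigmaFactors
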