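import Mathlib
import Cfsg.Agent.Lib.KnownC.SigmaFactors
import Cfsg.Agent.Lib.KnownC.OrthTypeTools
import Cfsg.Agent.Lib.KnownC.GLPrimeOrderClasses
import Cfsg.Agent.Lib.Classical.SemiSympExists
import Cfsg.Agent.Lib.Classical.SLTwoTori
import Cfsg.Agent.Lib.Classical.SemiUnitaryExists

set_option autoImplicit false
set_option linter.unusedSectionVars false

/-!
Isometries of prime order `r ≠ p`: characteristic polynomials, conjugacy, type, existence.
-/

namespace CfsgLib.KnownC.OrthPrime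

open Polynomial CfsgLib.Geom CfsgLib.Classical CfsgLib.KnownC.OrthType
open QuadraticMap (polar)
open scoped Polynomial Matrix

universe u v w

variable {F : Type u} [Field F] [Fintype F] {p : ℕ} [Fact p.Prime] [CharP F p]
  {V : Type v} [AddCommGroup V] [Module F V] [FiniteDimensional F V] {r : ℕ}

/-- The matrix of an automorphism in a basis, as a homomorphism. -/
noncomputable def toGL {n : ℕ} (b : Module.Basis (Fin n) F V) : (V ≃ₗ[F] V) →* GL (Fin n) F :=
  (Units.map (LinearMap.toMatrixAlgEquiv b).toAlgHom.toRingHom.toMonoidHom).comp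
    (LinearMap.GeneralLinearGroup.generalLinearEquiv F V).symm.toMonoidHom

theorem coe_toGL {n : ℕ} (b : Module.Basis (Fin n) F V) (g : V ≃ₗ[F] V) :
    (toGL b g : Matrix (Fin n) (Fin n) F) = LinearMap.toMatrix b b g.toLinearMap := rfl

theorem charpoly_toGL {n : ℕ} (b : Module.Basis (Fin n) F V) (g : V ≃ₗ[F] V) :
    (toGL b g : Matrix (Fin n) (Fin n) F).charpoly = g.toLinearMap.charpoly := by
  rw [coe_toGL, LinearMap.charpoly_toMatrix]

theorem toGL_injective {n : ℕ} (b : Module.Basis (Fin n) F V) : Function.Injective (toGL b) := by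
  intro g h e
  have e' := congrArg Units.val e
  rw [coe_toGL, coe_toGL] at e'
  exact LinearEquiv.toLinearMap_injective ((LinearMap.toMatrix b b).injective e')

theorem iterate_eq (g : V ≃ₗ[F] V) (k : ℕ) (v : V) : (g^[k]) v = (g ^ k) v := by
  induction k with
  | zero => rfl
  | succ k ih => rw [Function.iterate_succ_apply', ih, pow_succ', LinearEquiv.mul_apply]

theorem eq_id_tilde {f : F[X]} : SemiPalin.tilde (RingHom.id F) f = C (f.coeff 0)⁻¹ * f.reverse := by
  rw [SemiPalin.tilde, SemiPalin.srev, Polynomial.map_id, RingHom.id_apply]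

theorem tilde_charpoly (Q : QuadraticForm F V) (hQ : ∀ x, (∀ y, polar Q x y = 0) → x = 0) {g : V ≃ₗ[F] V}
    (hg : g ∈ quadIsoms Q) :
    SemiPalin.tilde (RingHom.id F) g.toLinearMap.charpoly = g.toLinearMap.charpoly := by
  classical
  set b := Module.finBasis F V
  set G : Matrix (Fin (Module.finrank F V)) (Fin (Module.finrank F V)) F := LinearMap.toMatrix₂ b b Q.polarBilin
  have hG : G.det ≠ 0 := (LinearMap.separatingLeft_iff_det_ne_zero b).1 (fun x hx => hQ x hx)
  set A := toGL b g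
  have hB : Q.polarBilin.compl₁₂ g.toLinearMap g.toLinearMap = Q.polarBilin :=
    LinearMap.ext fun x => LinearMap.ext fun y => polar_quadIsom hg x y
  have hinv : (A.val)ᵀ * G * A.val = G := by
    conv_rhs => rw [show G = LinearMap.toMatrix₂ b b Q.polarBilin from rfl, ← hB,
      LinearMap.toMatrix₂_compl₁₂ b b]
    rw [show A.val = LinearMap.toMatrix b b g.toLinearMap from rfl]
  let Gu := Matrix.GeneralLinearGroup.mkOfDetNeZero G hG
  have hconj : (A.val)ᵀ = Gu.val * (A⁻¹).val *
      (Gu⁻¹).val := by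
    rw [Units.eq_mul_inv_iff_mul_eq, Units.eq_mul_inv_iff_mul_eq]
    exact hinv
  have hc := congrArg Matrix.charpoly hconj
  rw [Matrix.charpoly_transpose, Matrix.coe_units_inv Gu, Matrix.charpoly_units_conj, Matrix.coe_units_inv,
    SemiUnitaryExists.charpoly_inv_eq, charpoly_toGL] at hc
  rw [eq_id_tilde]
  exact hc.symm

theorem charpoly_mem (Q : QuadraticForm F V) (hQ : ∀ x, (∀ y, polar Q x y = 0) → x = 0) {g : V ≃ₗ[F] V}
    (hg : g ∈ quadIsoms Q) (hgr : g ^ r = 1) :
    g.toLinearMap.charpoly ∈ StarCount.polys (SemiPalin.tilde (RingHom.id F)) r (Module.finrank F V) := by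
  refine ⟨g.toLinearMap.charpoly_monic, tilde_charpoly Q hQ hg, g.toLinearMap.charpoly_natDegree, fun P _ hPi hP => ?_⟩
  refine factor_dvd_of_pow_eq_one (g := toGL (Module.finBasis F V) g) ?_ hPi (by rw [charpoly_toGL]; exact hP)
  rw [← map_pow, hgr, map_one]

theorem no_fixed {g : V ≃ₗ[F] V} (h : ¬ g.toLinearMap.charpoly.IsRoot 1) (v : V) (hv : g v = v) : v = 0 := by
  by_contra hne
  refine h ((Module.End.hasEigenvalue_iff_isRoot_charpoly g.toLinearMap 1).1 ?_)
  exact Module.End.hasEigenvalue_of_hasEigenvector (x := v)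
    ⟨Module.End.mem_eigenspace_iff.2 (by simpa using hv), hne⟩

include p in
/-- Isometries of order dividing `r` with equal characteristic polynomial are conjugate. -/
theorem isConj_of_charpoly (hr : r.Prime) (hr2 : r ≠ 2) (hrp : r ≠ p) (Q : QuadraticForm F V)
    (hQ : ∀ x, (∀ y, polar Q x y = 0) → x = 0) (A B : ↥(quadIsoms Q)) (hA : A ^ r = 1) (hB : B ^ r = 1)
    (h : (A : V ≃ₗ[F] V).toLinearMap.charpoly = (B : V ≃ₗ[F] V).toLinearMap.charpoly) : IsConj A B := by
  classical
  set b := Module.finBasis F V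
  have hA' : (A : V ≃ₗ[F] V) ^ r = 1 := by rw [← SubmonoidClass.coe_pow, hA]; rfl
  have hB' : (B : V ≃ₗ[F] V) ^ r = 1 := by rw [← SubmonoidClass.coe_pow, hB]; rfl
  obtain ⟨y, hy⟩ := isConj_iff.1 (isConj_of_charpoly_of_order (p := p)
    ((Nat.coprime_primes hr Fact.out).2 hrp) (g := toGL b (A : V ≃ₗ[F] V)) (h := toGL b (B : V ≃ₗ[F] V))
    (by rw [← map_pow, hA', map_one]) (by rw [← map_pow, hB', map_one])
    (by rw [charpoly_toGL, charpoly_toGL, h]))
  obtain ⟨x, rfl⟩ : ∃ x, toGL b x = y := by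
    obtain ⟨L, hL⟩ : ∃ L : V →ₗ[F] V, LinearMap.toMatrix b b L = y.val :=
      (LinearMap.toMatrix b b).surjective _
    obtain ⟨L', hL'⟩ : ∃ L' : V →ₗ[F] V, LinearMap.toMatrix b b L' = (y⁻¹).val :=
      (LinearMap.toMatrix b b).surjective _
    refine ⟨LinearEquiv.ofLinearMap L L' ((LinearMap.toMatrix b b).injective ?_)
      ((LinearMap.toMatrix b b).injective ?_), Units.ext hL⟩
    · rw [LinearMap.toMatrix_comp b b b, hL, hL', Units.mul_inv, LinearMap.toMatrix_id]
    · rw [LinearMap.toMatrix_comp b b b, hL, hL', Units.inv_mul, LinearMap.toMatrix_id]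
  have hxA : x * (A : V ≃ₗ[F] V) = (B : V ≃ₗ[F] V) * x := toGL_injective b (by
    rw [map_mul, map_mul]; exact mul_inv_eq_iff_eq_mul.1 hy)
  obtain ⟨e, he, heQ⟩ := SemiForms.exists_comm_quad Q (Q.comp x.toLinearMap) (A : V ≃ₗ[F] V)
    (N := r) (SympOrderR.r_ne_zero (F := F) hr hrp) (hr.odd_of_ne_two hr2)
    (fun v => by rw [iterate_eq, hA']; rfl) hQ
    (fun v hv => x.map_eq_zero_iff.1 (hQ _ fun w => by
      obtain ⟨w, rfl⟩ := x.surjective w
      have := hv w
      simpa [QuadraticMap.polar] using this))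
    (fun v => A.2 v)
    (fun v => by
      show Q (x ((A : V ≃ₗ[F] V) v)) = Q (x v)
      rw [← LinearEquiv.mul_apply, hxA, LinearEquiv.mul_apply, B.2])
    x (fun v => rfl)
  have hm : x * e⁻¹ ∈ quadIsoms Q := fun v => by
    have := heQ (e⁻¹ v)
    rw [← LinearEquiv.mul_apply e, mul_inv_cancel] at this
    exact this.symm
  have hcom : e * (A : V ≃ₗ[F] V) = (A : V ≃ₗ[F] V) * e := LinearEquiv.ext he
  refine isConj_iff.2 ⟨⟨_, hm⟩, mul_inv_eq_iff_eq_mul.2 (Subtype.ext ?_)⟩
  show x * e⁻¹ * (A : V ≃ₗ[F] V) = (B : V ≃ₗ[F] V) * (x * e⁻¹)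
  rw [mul_assoc, ← mul_assoc (B : V ≃ₗ[F] V), ← hxA, mul_assoc]
  congr 1
  rw [inv_mul_eq_iff_eq_mul, ← mul_assoc, hcom, mul_inv_cancel_right]

/-- The singular vectors of a fixed-point-free isometry of prime order. -/
theorem zeros_modEq (hr : r.Prime) (Q : QuadraticForm F V) {g : V ≃ₗ[F] V} (hg : g ∈ quadIsoms Q)
    (hgr : g ^ r = 1) (hfix : ∀ v, g v = v → v = 0) : Nat.card {v : V // Q v = 0} ≡ 1 [MOD r] := by
  classical
  haveI : Fact r.Prime := ⟨hr⟩
  haveI : Finite V := Module.finite_of_finite F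
  haveI := Fintype.ofFinite {v : V // Q v = 0}
  let σ : Equiv.Perm {v : V // Q v = 0} := g.toEquiv.subtypeEquiv fun v => by
    show Q v = 0 ↔ Q (g v) = 0
    rw [hg]
  have hpow : ∀ (k : ℕ) (v : {v : V // Q v = 0}), ((σ ^ k) v : V) = (g ^ k) v := fun k v => by
    induction k with
    | zero => rfl
    | succ k ih => rw [pow_succ', Equiv.Perm.mul_apply, pow_succ', LinearEquiv.mul_apply, ← ih]; rfl
  have hσ : σ ^ r ^ 1 = 1 := by
    rw [pow_one]
    exact Equiv.ext fun v => Subtype.ext (by rw [hpow, hgr]; rfl)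
  have h := Equiv.Perm.card_compl_support_modEq (p := r) hσ
  have h1 : σ.supportᶜ = {(⟨0, by simp⟩ : {v : V // Q v = 0})} := by
    ext v
    simp only [Finset.mem_compl, Equiv.Perm.mem_support, not_not, Finset.mem_singleton]
    constructor
    · exact fun hv => Subtype.ext (hfix v.1 (congrArg Subtype.val hv))
    · rintro rfl
      exact Subtype.ext (map_zero g)
  rw [h1, Finset.card_singleton] at h
  rw [Nat.card_eq_fintype_card]
  exact h.symm

/-- The type of a space with a fixed-point-free isometry of order `r`, when `q` is not `1` modulo `r`. -/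
theorem type_of_no_fixed (hr : r.Prime) (hr2 : r ≠ 2) (hrp : r ≠ p) (hq1 : (Fintype.card F : ZMod r) ≠ 1)
    (Q : QuadraticForm F V) (hQ : ∀ x, (∀ y, polar Q x y = 0) → x = 0) {g : V ≃ₗ[F] V}
    (hg : g ∈ quadIsoms Q) (hgr : g ^ r = 1) (hfix : ∀ v, g v = v → v = 0) {k : ℕ} (hk1 : 1 ≤ k)
    (hk : Module.finrank F V = 2 * k) :
    ((Fintype.card F : ZMod r) ^ k = -1 → ¬ IsPlus Q k) ∧
      ((Fintype.card F : ZMod r) ^ k = 1 → IsPlus Q k) := by
  haveI : Fact r.Prime := ⟨hr⟩
  have h2 : (2 : ZMod r) ≠ 0 := fun h => hr2 ((Nat.prime_dvd_prime_iff_eq hr Nat.prime_two).1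
    ((ZMod.natCast_eq_zero_iff 2 r).1 (by exact_mod_cast h)))
  have hz := (ZMod.natCast_eq_natCast_iff _ _ _).2 (zeros_modEq hr Q hg hgr hfix)
  have hpos : ∀ e, 1 ≤ Fintype.card F ^ e := fun e => Nat.one_le_pow _ _ Fintype.card_pos
  constructor
  · intro hd hP
    rw [card_zeros_plus hP] at hz
    push_cast [hpos] at hz
    rw [hd] at hz
    have h4 : (Fintype.card F : ZMod r) ^ (k - 1) = -1 := by
      refine sub_eq_zero.1 ((mul_eq_zero.1 (show (2 : ZMod r) * ((Fintype.card F : ZMod r) ^ (k - 1) - -1) = 0 by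
        linear_combination -hz)).resolve_left h2)
    have h5 : (Fintype.card F : ZMod r) ^ (k - 1) * (Fintype.card F : ZMod r) = -1 := by
      rw [← pow_succ, Nat.sub_add_cancel hk1, hd]
    rw [h4] at h5
    exact hq1 (by linear_combination -h5)
  · intro hd
    refine (dichotomy Q hQ hk).resolve_right ?_
    rintro ⟨l, rfl, hM⟩
    obtain ⟨a, b, hab⟩ := exists_anisotropic_binary (F := F)
    rw [card_zeros_minus hab (hM a b hab)] at hz
    push_cast [hpos] at hz
    rcases Nat.eq_zero_or_pos l with rfl | hl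
    · rw [zero_add, pow_one] at hd
      exact hq1 hd
    have h6 : (Fintype.card F : ZMod r) ^ (l - 1) * (Fintype.card F : ZMod r) ^ 2 = 1 := by
      rw [← pow_add, show l - 1 + 2 = l + 1 by omega, hd]
    rw [mul_assoc, h6, mul_one] at hz
    have h4 : (Fintype.card F : ZMod r) ^ l = 1 := sub_eq_zero.1 ((mul_eq_zero.1
      (show (2 : ZMod r) * ((Fintype.card F : ZMod r) ^ l - 1) = 0 by linear_combination hz)).resolve_left h2)
    rw [pow_succ, h4, one_mul] at hd
    exact hq1 hd

/-- A fixed polynomial without self-reciprocal factors is `h * h~`. -/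
theorem exists_split {S : F[X] → F[X]} (hS : ∀ f g, S (f * g) = S f * S g) : ∀ (n : ℕ) {f : F[X]}, f.Monic →
    f.natDegree = n → S f = f →
    (∀ Q : F[X], Q.Monic → Irreducible Q → Q ∣ f →
      (S Q).Monic ∧ Irreducible (S Q) ∧ S Q ≠ Q ∧ S (S Q) = Q) →
    ∃ h : F[X], h.Monic ∧ (S h).Monic ∧ f = h * S h := by
  intro n
  induction n using Nat.strong_induction_on with
  | _ n ih =>
    intro f hf hn hSf hall
    rcases Nat.eq_zero_or_pos n with rfl | hpos
    · have h1 := hf.natDegree_eq_zero.mp hn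
      subst h1
      exact ⟨1, monic_one, hSf.symm ▸ monic_one, by rw [hSf, one_mul]⟩
    · obtain ⟨Q, hQm, hQi, R, hR⟩ := exists_monic_irreducible_factor f (fun hu => by
        have := natDegree_eq_zero_of_isUnit hu; omega)
      obtain ⟨hSm, hSi, hne, hSS⟩ := hall Q hQm hQi ⟨R, hR⟩
      have hd2 : S Q ∣ R := by
        have h3 : S Q ∣ Q * R := ⟨S R, by rw [← hR, ← hS, ← hR, hSf]⟩
        exact (hSi.prime.dvd_or_dvd h3).resolve_left fun h4 =>
          hne (eq_of_monic_of_associated hSm hQm (hSi.associated_of_dvd hQi h4))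
      obtain ⟨T, rfl⟩ := hd2
      have hTm : T.Monic := hSm.of_mul_monic_left (hQm.of_mul_monic_left (hR ▸ hf))
      have hST : S T = T := by
        have h5 : S f = f := hSf
        rw [hR, hS, hS, hSS] at h5
        exact mul_left_cancel₀ hSm.ne_zero (mul_left_cancel₀ hQm.ne_zero (by linear_combination h5))
      have hdeg : T.natDegree < n := by
        rw [hR, hQm.natDegree_mul (hSm.mul hTm), hSm.natDegree_mul hTm] at hn
        have := hQi.natDegree_pos
        omega
      obtain ⟨h, hm, hm', hh⟩ := ih _ hdeg hTm rfl hST fun P hP1 hP2 hP3 =>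
        hall P hP1 hP2 (hR ▸ hP3.trans ((dvd_mul_left _ _).mul_left _))
      refine ⟨Q * h, hQm.mul hm, by rw [hS]; exact hSm.mul hm', ?_⟩
      rw [hR, hS, hh]
      ring

theorem coeff_zero_eq_one {f : F[X]} (hf : SemiPalin.tilde (RingHom.id F) f = f) (h1 : ¬ f.IsRoot 1) :
    f.coeff 0 = 1 := by
  rw [eq_id_tilde] at hf
  have h := congrArg (eval 1) hf
  have hev : f.reverse.eval 1 = f.eval 1 := by
    let : Invertible (1 : F) := invertibleOne
    have := eval₂_reverse_mul_pow (RingHom.id F) (1 : F) f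
    rw [one_pow, mul_one, invOf_one] at this
    exact this
  rw [eval_mul, eval_C, hev] at h
  exact inv_eq_one.1 ((mul_eq_right₀ h1).1 h)

theorem reverse_eq {f : F[X]} (hf : SemiPalin.tilde (RingHom.id F) f = f) (h1 : ¬ f.IsRoot 1) :
    f.reverse = f :=
  SympOrderR.reverse_eq_of_star (coeff_zero_eq_one hf h1) hf

theorem even_natDegree {f : F[X]} (hr : r.Prime) (hr2 : r ≠ 2) {n : ℕ}
    (hf : f ∈ StarCount.polys (SemiPalin.tilde (RingHom.id F)) r n) (h1 : ¬ f.IsRoot 1) : Even n := by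
  rw [← hf.2.2.1]
  refine SemiPalin.even_natDegree_of_eval_ne_zero (reverse_eq hf.2.1 h1) fun h => ?_
  have hd : (X - C (-1 : F)) ∣ f := dvd_iff_isRoot.2 h
  have h2 := hf.2.2.2 _ (monic_X_sub_C _) (irreducible_X_sub_C _) hd
  rw [dvd_iff_isRoot, IsRoot, eval_sub, eval_pow, eval_X, eval_one, (hr.odd_of_ne_two hr2).neg_one_pow] at h2
  have h20 : (1 : F) = -1 := by linear_combination -h2
  exact h1 (show f.IsRoot 1 by rw [h20]; exact h)

include p in
/-- A quadratic space with a fixed-point-free isometry of given characteristic polynomial. -/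
theorem exists_model (hr : r.Prime) (hr2 : r ≠ 2) (hrp : r ≠ p) {k : ℕ} {f : F[X]}
    (hf : f ∈ StarCount.polys (SemiPalin.tilde (RingHom.id F)) r (2 * k)) (h1 : ¬ f.IsRoot 1) :
    ∃ (Q₀ : QuadraticForm F (Fin k ⊕ Fin k → F)) (A : (Fin k ⊕ Fin k → F) ≃ₗ[F] (Fin k ⊕ Fin k → F)),
      (∀ x, (∀ y, polar Q₀ x y = 0) → x = 0) ∧ A ∈ quadIsoms Q₀ ∧ A ^ r = 1 ∧
        A.toLinearMap.charpoly = f := by
  obtain ⟨M, hMo, hMf⟩ := SemiSympExists.exists_symp p f hf.1 (reverse_eq hf.2.1 h1) hf.2.2.1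
  have hMr : M ^ r = 1 := SympOrderR.pow_eq_one_of_factors M hMo (hMf ▸ hf.2.2.2)
  set B := SemiSymp.sympB (F := F) (l := Fin k)
  have hB := (SemiSymp.mem_iff_sympB (M : Matrix (Fin k ⊕ Fin k) (Fin k ⊕ Fin k) F)).1 M.2
  let T := Matrix.toLin' (M : Matrix (Fin k ⊕ Fin k) (Fin k ⊕ Fin k) F)
  have hTr : T ^ r = 1 := by
    have h2 := congrArg Subtype.val hMr
    rw [SubmonoidClass.coe_pow, OneMemClass.coe_one] at h2
    show Matrix.toLinAlgEquiv' M.1 ^ r = 1
    rw [← map_pow, h2, map_one]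
  have hTinj : Function.Injective T := (injective_iff_map_eq_zero T).2 fun v hv => by
    have h2 := LinearMap.congr_fun hTr v
    rw [← Nat.sub_add_cancel hr.one_le, pow_succ, Module.End.mul_apply, hv, map_zero] at h2
    exact h2.symm
  let A := LinearEquiv.ofInjectiveEndo T hTinj
  have hA : A.toLinearMap = T := rfl
  have hAr : A ^ r = 1 := LinearEquiv.toLinearMap_injective (by
    rw [show ((A ^ r : _ ≃ₗ[F] _) : _ →ₗ[F] _) = T ^ r from
      map_pow LinearEquiv.automorphismGroup.toLinearMapMonoidHom A r, hTr]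
    rfl)
  have hAB : ∀ u v, B (A u) (A v) = B u v := fun u v => by
    show B (T u) (T v) = B u v
    simp only [T, Matrix.toLin'_apply]
    exact hB u v
  let Q₀ : QuadraticForm F (Fin k ⊕ Fin k → F) := LinearMap.BilinMap.toQuadraticMap (B.compl₂ T)
  have hQ₀ : ∀ v, Q₀ v = B v (A v) := fun v => rfl
  have hfix : ∀ v, A v = v → v = 0 :=
    no_fixed (g := A) (by rw [hA, Matrix.charpoly_toLin', hMf]; exact h1)
  have hswap : ∀ u v, B v u = -B u v := fun u v => by
    have h2 := SemiSymp.sympB_alt (F := F) (u + v)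
    simp only [map_add, LinearMap.add_apply, SemiSymp.sympB_alt, zero_add, add_zero] at h2
    linear_combination h2
  refine ⟨Q₀, A, fun x hx => ?_, fun v => ?_, hAr, by rw [hA, Matrix.charpoly_toLin', hMf]⟩
  · -- `polar x y = B (A⁻¹ x - A x) y`
    have h3 : ∀ y, B (A.symm x - A x) y = 0 := fun y => by
      have h4 := hx y
      simp only [QuadraticMap.polar, hQ₀, map_add, LinearMap.add_apply] at h4
      have h5 : B x (A y) = B (A.symm x) y := by rw [← hAB (A.symm x) y, A.apply_symm_apply]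
      rw [map_sub, LinearMap.sub_apply, ← h5, hswap y (A x)]
      linear_combination h4
    have h6 := sub_eq_zero.1 (SemiSymp.sympB_sep (F := F) _ h3)
    refine hfix x ?_
    have h7 : A (A x) = x := by rw [← h6, A.apply_symm_apply]
    obtain ⟨j, hj⟩ := hr.odd_of_ne_two hr2
    have h8 : ∀ j : ℕ, (A ^ (2 * j + 1)) x = A x := fun j => by
      induction j with
      | zero => rfl
      | succ j ih => rw [show 2 * (j + 1) + 1 = 2 * j + 1 + 1 + 1 by ring, pow_succ', pow_succ',
          LinearEquiv.mul_apply, LinearEquiv.mul_apply, ih, h7]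
    rw [← h8 j, ← hj, hAr]
    rfl
  · rw [hQ₀, hQ₀, hAB]

/-- A plus space with an isometry having characteristic polynomial `h * h~`. -/
theorem exists_plus_model (hr : r.Prime) {h : F[X]} (hh : h.Monic)
    (hd : ∀ Q : F[X], Q.Monic → Irreducible Q → Q ∣ h → Q ∣ X ^ r - 1) :
    ∃ g : (Fin h.natDegree ⊕ Fin h.natDegree → F) ≃ₗ[F] (Fin h.natDegree ⊕ Fin h.natDegree → F),
      g ∈ quadIsoms (qfPlus h.natDegree F) ∧ g ^ r = 1 ∧
        g.toLinearMap.charpoly = h * SemiPalin.tilde (RingHom.id F) h := by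
  classical
  obtain ⟨A, hA, hAc⟩ := exists_pow_eq_one_charpoly hr.pos hh rfl (SympOrderR.dvd_pow_of_factors _ hh rfl hd)
  set A' : Matrix (Fin h.natDegree) (Fin h.natDegree) F := (A⁻¹).val
  set M : Matrix (Fin h.natDegree ⊕ Fin h.natDegree) (Fin h.natDegree ⊕ Fin h.natDegree) F :=
    Matrix.fromBlocks A.val 0 0 A'ᵀ with hM
  have hMpow : ∀ j : ℕ, M ^ j = Matrix.fromBlocks (A.val ^ j) 0 0 (A'ᵀ ^ j) := fun j => by
    induction j with
    | zero => rw [pow_zero, pow_zero, pow_zero, Matrix.fromBlocks_one]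
    | succ j ih => rw [pow_succ, ih, hM, Matrix.fromBlocks_multiply]; simp [pow_succ]
  have hMr : M ^ r = 1 := by
    rw [hMpow, ← Units.val_pow_eq_pow_val, hA, ← Matrix.transpose_pow, ← Units.val_pow_eq_pow_val, inv_pow, hA,
      inv_one, Units.val_one, Matrix.transpose_one, Matrix.fromBlocks_one]
  have hTinj : Function.Injective (Matrix.toLin' M) := (injective_iff_map_eq_zero _).2 fun v hv => by
    rw [Matrix.toLin'_apply] at hv
    have h2 : (M ^ r).mulVec v = v := by rw [hMr, Matrix.one_mulVec]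
    rw [← Nat.sub_add_cancel hr.one_le, pow_succ, ← Matrix.mulVec_mulVec, hv, Matrix.mulVec_zero] at h2
    exact h2.symm
  refine ⟨LinearEquiv.ofInjectiveEndo (Matrix.toLin' M) hTinj, fun v => ?_, LinearEquiv.toLinearMap_injective ?_, ?_⟩
  · show qfPlus _ F (M.mulVec v) = qfPlus _ F v
    rw [hM, Matrix.fromBlocks_mulVec, qfPlus_apply, qfPlus_apply]
    simp only [Cfsg.quadFormPlus, Sum.elim_inl, Sum.elim_inr, Matrix.zero_mulVec, add_zero, zero_add]
    show Matrix.mulVec A.val (v ∘ Sum.inl) ⬝ᵥ Matrix.mulVec A'ᵀ (v ∘ Sum.inr) = (v ∘ Sum.inl) ⬝ᵥ (v ∘ Sum.inr)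
    rw [dotProduct_comm, Matrix.dotProduct_mulVec, Matrix.mulVec_transpose, Matrix.vecMul_vecMul,
      show A' * A.val = 1 from A.inv_mul, Matrix.vecMul_one, dotProduct_comm]
  · rw [show ((LinearEquiv.ofInjectiveEndo (Matrix.toLin' M) hTinj ^ r : _ ≃ₗ[F] _) : _ →ₗ[F] _) =
      Matrix.toLinAlgEquiv' M ^ r from
        map_pow LinearEquiv.automorphismGroup.toLinearMapMonoidHom (LinearEquiv.ofInjectiveEndo _ hTinj) r,
      ← map_pow, hMr, map_one]
    rfl
  · show (Matrix.toLin' M).charpoly = _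
    rw [Matrix.charpoly_toLin', hM, Matrix.charpoly_fromBlocks_zero₁₂, Matrix.charpoly_transpose,
      show A' = A.val⁻¹ from Matrix.coe_units_inv A, SemiUnitaryExists.charpoly_inv_eq, hAc, eq_id_tilde]

/-- Transport of an isometry along an isometric isomorphism. -/
theorem transport {W : Type w} [AddCommGroup W] [Module F W] [FiniteDimensional F W] {Q : QuadraticForm F V}
    {R : QuadraticForm F W} (e : V ≃ₗ[F] W) (he : ∀ v, R (e v) = Q v) {g : V ≃ₗ[F] V} (hg : g ∈ quadIsoms Q)
    (hgr : g ^ r = 1) :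
    ∃ g' : W ≃ₗ[F] W, g' ∈ quadIsoms R ∧ g' ^ r = 1 ∧
      g'.toLinearMap.charpoly = g.toLinearMap.charpoly := by
  refine ⟨e.symm.trans (g.trans e), fun w => ?_, LinearEquiv.ext fun w => ?_, ?_⟩
  · show R (e (g (e.symm w))) = R w
    rw [he, hg, ← he, e.apply_symm_apply]
  · have h : ∀ j : ℕ, ((e.symm.trans (g.trans e)) ^ j) w = e ((g ^ j) (e.symm w)) := fun j => by
      induction j with
      | zero => exact (e.apply_symm_apply w).symm
      | succ j ih => rw [pow_succ', LinearEquiv.mul_apply, ih, pow_succ', LinearEquiv.mul_apply]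
                     simp
    rw [h, hgr]
    exact e.apply_symm_apply w
  · rw [← e.charpoly_conj g.toLinearMap]
    rfl

/-- A space with a fixed-point-free isometry whose factors are never self-reciprocal is of plus type. -/
theorem plus_of_pairs (hr : r.Prime) (hr2 : r ≠ 2) (hrp : r ≠ p) (Q : QuadraticForm F V)
    (hQ : ∀ x, (∀ y, polar Q x y = 0) → x = 0) {g : V ≃ₗ[F] V} (hg : g ∈ quadIsoms Q) (hgr : g ^ r = 1)
    (h1 : ¬ g.toLinearMap.charpoly.IsRoot 1)
    (hne : ∀ P ∈ SympOrderR.factors F r, SemiPalin.tilde (RingHom.id F) P ≠ P) {k : ℕ}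
    (hk : Module.finrank F V = 2 * k) : IsPlus Q k := by
  classical
  obtain ⟨hm, hS, hdeg, hall⟩ := charpoly_mem Q hQ hg hgr
  obtain ⟨h, hh, hh', hfh⟩ := exists_split (S := SemiPalin.tilde (RingHom.id F))
    (fun a b => SemiPalin.tilde_mul _ a b) _ hm rfl hS fun P hPm hPi hPd => by
    have hP := SympOrderR.mem_factors_of_cover hr hPm hPi (hall P hPm hPi hPd) fun e =>
      h1 (dvd_iff_isRoot.1 (e ▸ hPd))
    have hP' := SigmaFactors.tilde_mem hr hrp (RingHom.id F) (fun _ => rfl) (c := 0) (fun x => by simp) hP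
    exact ⟨(SympOrderR.mem_factors.1 hP'.1).1, (SympOrderR.mem_factors.1 hP'.1).2.1, hne P hP, hP'.2⟩
  obtain ⟨g', hg', hg'r, hg'c⟩ := exists_plus_model hr hh fun P hPm hPi hPd =>
    hall P hPm hPi (hfh ▸ hPd.trans (dvd_mul_right _ _))
  have hh0 : h.coeff 0 ≠ 0 := by
    intro h0
    have := congrArg (fun f : F[X] => f.coeff 0) hfh
    simp only [mul_coeff_zero, h0, zero_mul] at this
    rw [coeff_zero_eq_one hS h1] at this
    exact one_ne_zero this
  have hkd : h.natDegree = k := by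
    have := congrArg natDegree hfh
    rw [hdeg, hk, hh.natDegree_mul hh', (SemiPalin.tilde_facts (RingHom.id F) hh hh0).2.1] at this
    omega
  subst hkd
  let b := Module.finBasisOfFinrankEq F V hk
  let b' := Module.finBasisOfFinrankEq F (Fin h.natDegree ⊕ Fin h.natDegree → F)
    (show _ = 2 * h.natDegree by simp; omega)
  obtain ⟨y, hy⟩ := isConj_iff.1 (isConj_of_charpoly_of_order (p := p)
    ((Nat.coprime_primes hr Fact.out).2 hrp) (g := toGL b' g') (h := toGL b g)
    (by rw [← map_pow, hg'r, map_one]) (by rw [← map_pow, hgr, map_one])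
    (by rw [charpoly_toGL, charpoly_toGL, hg'c, ← hfh]))
  let x : (Fin h.natDegree ⊕ Fin h.natDegree → F) ≃ₗ[F] V :=
    b'.equivFun.trans ((Matrix.toLinearEquiv' y.val inferInstance).trans b.equivFun.symm)
  have hx : ∀ v, x (g' v) = g (x v) := fun v => b.equivFun.injective (by
    have e := congrArg (fun M : GL (Fin (2 * h.natDegree)) F => M.val.mulVec (b'.equivFun v))
      (mul_inv_eq_iff_eq_mul.1 hy)
    simp only [Units.val_mul, coe_toGL, ← Matrix.mulVec_mulVec] at e
    simp only [x, LinearEquiv.trans_apply, LinearEquiv.apply_symm_apply, Module.Basis.equivFun_apply,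
      Matrix.toLinearEquiv'_apply, Matrix.toLin'_apply]
    simp only [Module.Basis.equivFun_apply] at e
    rw [LinearMap.toMatrix_mulVec_repr] at e
    rw [show ⇑(b.repr (g _)) = (LinearMap.toMatrix b b g.toLinearMap).mulVec (⇑(b.repr _)) from
      (LinearMap.toMatrix_mulVec_repr b b g.toLinearMap _).symm]
    refine e.trans ?_
    congr 1
    have : ∀ w : Fin (2 * h.natDegree) → F, ⇑(b.repr (b.equivFun.symm w)) = w := fun w => by
      rw [← Module.Basis.equivFun_apply, LinearEquiv.apply_symm_apply]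
    exact (this _).symm)
  obtain ⟨e, he⟩ := isometric_of_invariant (Q.comp x.toLinearMap) (qfPlus h.natDegree F) g'
    (hr.odd_of_ne_two hr2) (fun v => by rw [iterate_eq, hg'r]; rfl)
    (no_fixed (by rw [hg'c, ← hfh]; exact h1))
    (fun v hv => x.map_eq_zero_iff.1 (hQ _ fun w => by
      obtain ⟨w, rfl⟩ := x.surjective w
      have := hv w
      simpa [QuadraticMap.polar] using this))
    (qfPlus_sep _)
    (fun v => by
      show Q (x (g' v)) = Q (x v)
      rw [hx, hg]) hg'
  exact ⟨e.trans x, fun v => he v⟩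

/-- Extension of an isometry of a non-degenerate subspace by the identity. -/
theorem exists_extension {W : Type w} [AddCommGroup W] [Module F W] [FiniteDimensional F W]
    (Q : QuadraticForm F V) (Q₀ : QuadraticForm F W)
    (hQ₀ : ∀ x, (∀ y, polar Q₀ x y = 0) → x = 0) (φ : W →ₗ[F] V) (hφ : ∀ w, Q (φ w) = Q₀ w) {A : W ≃ₗ[F] W}
    (hA : A ∈ quadIsoms Q₀) (hAr : A ^ r = 1) :
    ∃ g : V ≃ₗ[F] V, g ∈ quadIsoms Q ∧ g ^ r = 1 ∧ g.toLinearMap.charpoly =
      (X - C 1) ^ (Module.finrank F V - Module.finrank F W) * A.toLinearMap.charpoly := by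
  classical
  let d : W ≃ₗ[F] Module.Dual F W := LinearEquiv.ofInjectiveOfFinrankEq Q₀.polarBilin
    ((injective_iff_map_eq_zero _).2 fun x hx => hQ₀ x fun y => LinearMap.congr_fun hx y)
    Subspace.dual_finrank_eq.symm
  let π : V →ₗ[F] W := d.symm.toLinearMap ∘ₗ (Q.polarBilin.compl₂ φ)
  have hπ : ∀ v w, polar Q₀ (π v) w = polar Q v (φ w) := fun v w =>
    LinearMap.congr_fun (d.apply_symm_apply (Q.polarBilin.compl₂ φ v)) w
  have hπφ : ∀ w, π (φ w) = w := fun w => sub_eq_zero.1 (hQ₀ _ fun y => by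
    rw [sub_eq_add_neg, QuadraticMap.polar_add_left, QuadraticMap.polar_neg_left, hπ]
    simp [QuadraticMap.polar, ← map_add, hφ])
  let E : (W × LinearMap.ker π) →ₗ[F] V := φ.coprod (LinearMap.ker π).subtype
  have hE : Function.Bijective E := by
    refine ⟨(injective_iff_map_eq_zero E).2 fun x hx => ?_, fun v => ?_⟩
    · have h1 : φ x.1 + x.2.1 = 0 := hx
      have h2 := congrArg π h1
      rw [map_add, hπφ, show π x.2.1 = 0 from x.2.2, add_zero, map_zero] at h2
      rw [h2, map_zero, zero_add] at h1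
      exact Prod.ext h2 (Subtype.ext h1)
    · exact ⟨(π v, ⟨v - φ (π v), by rw [LinearMap.mem_ker, map_sub, hπφ, sub_self]⟩),
        add_sub_cancel (φ (π v)) v⟩
  let e := LinearEquiv.ofBijective E hE
  have hQE : ∀ x : W × LinearMap.ker π, Q (e x) = Q₀ x.1 + Q x.2.1 := fun x => by
    show Q (φ x.1 + x.2.1) = _
    rw [QuadraticMap.map_add Q, hφ, QuadraticMap.polar_comm, ← hπ, show π x.2.1 = 0 from x.2.2,
      QuadraticMap.polar_zero_left, add_zero]
  let g₀ := A.prodCongr (LinearEquiv.refl F (LinearMap.ker π))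
  have hg₀ : ∀ (j : ℕ) (x : W × LinearMap.ker π), (g₀ ^ j) x = ((A ^ j) x.1, x.2) := fun j x => by
    induction j with
    | zero => rfl
    | succ j ih => rw [pow_succ', LinearEquiv.mul_apply, ih, pow_succ', LinearEquiv.mul_apply]; rfl
  refine ⟨e.symm.trans (g₀.trans e), fun v => ?_, LinearEquiv.ext fun v => ?_, ?_⟩
  · show Q (e (g₀ (e.symm v))) = Q v
    conv_rhs => rw [← e.apply_symm_apply v, hQE]
    rw [hQE]
    show Q₀ (A _) + _ = _
    rw [hA]
    rfl
  · have h : ∀ j : ℕ, ((e.symm.trans (g₀.trans e)) ^ j) v = e ((g₀ ^ j) (e.symm v)) := fun j => by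
      induction j with
      | zero => exact (e.apply_symm_apply v).symm
      | succ j ih => rw [pow_succ', LinearEquiv.mul_apply, ih, pow_succ', LinearEquiv.mul_apply]
                     simp
    rw [h, hg₀, hAr]
    exact e.apply_symm_apply v
  · have hfr : Module.finrank F (LinearMap.ker π) = Module.finrank F V - Module.finrank F W := by
      have := e.finrank_eq
      rw [Module.finrank_prod] at this
      omega
    rw [show (e.symm.trans (g₀.trans e)).toLinearMap = e.conj g₀.toLinearMap from rfl, e.charpoly_conj,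
      show g₀.toLinearMap = A.toLinearMap.prodMap (1 : LinearMap.ker π →ₗ[F] LinearMap.ker π) from rfl,
      LinearMap.charpoly_prodMap, LinearMap.charpoly_one, hfr, mul_comm, map_one]

end CfsgLib.KnownC.OrthPrime
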