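import Mathlib

/-!
Largest products of positive integers with a given sum.
-/

set_option autoImplicit false

namespace CfsgLib.KnownC.AbPerm

/-- The largest product of positive integers with sum `n`. -/
def fmax (n : ℕ) : ℕ :=
  if n % 3 = 0 then 3 ^ (n / 3)
  else if n % 3 = 1 then (if n = 1 then 1 else 4 * 3 ^ (n / 3 - 1))
  else 2 * 3 ^ (n / 3)

/-- The largest product of positive integers, none equal to `2`, with sum `n`. -/
def gmax (n : ℕ) : ℕ :=
  if n % 3 = 0 then 3 ^ (n / 3)
  else if n % 3 = 1 then (if n = 1 then 1 else 4 * 3 ^ (n / 3 - 1))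
  else (if n = 2 then 1 else if n = 5 then 5 else 16 * 3 ^ (n / 3 - 2))

theorem fmax_three (k : ℕ) : fmax (3 * k) = 3 ^ k := by
  simp [fmax]

theorem fmax_three_one {k : ℕ} (hk : 1 ≤ k) : fmax (3 * k + 1) = 4 * 3 ^ (k - 1) := by
  rw [fmax, if_neg (by omega), if_pos (by omega), if_neg (by omega),
    show (3 * k + 1) / 3 = k by omega]

theorem fmax_three_two (k : ℕ) : fmax (3 * k + 2) = 2 * 3 ^ k := by
  rw [fmax, if_neg (by omega), if_neg (by omega), show (3 * k + 2) / 3 = k by omega]

theorem gmax_three (k : ℕ) : gmax (3 * k) = 3 ^ k := by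
  simp [gmax]

theorem gmax_three_one {k : ℕ} (hk : 1 ≤ k) : gmax (3 * k + 1) = 4 * 3 ^ (k - 1) := by
  rw [gmax, if_neg (by omega), if_pos (by omega), if_neg (by omega),
    show (3 * k + 1) / 3 = k by omega]

theorem gmax_three_two {k : ℕ} (hk : 2 ≤ k) : gmax (3 * k + 2) = 16 * 3 ^ (k - 2) := by
  rw [gmax, if_neg (by omega), if_neg (by omega), if_neg (by omega), if_neg (by omega),
    show (3 * k + 2) / 3 = k by omega]

theorem three_pow_succ_pred {a : ℕ} (ha : 1 ≤ a) : 3 ^ a = 3 * 3 ^ (a - 1) := by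
  conv_lhs => rw [show a = a - 1 + 1 by omega, pow_succ']

theorem fmax_add_three {n : ℕ} (hn : 2 ≤ n) : fmax (n + 3) = 3 * fmax n := by
  obtain ⟨k, r, hr, rfl⟩ : ∃ k r, r < 3 ∧ n = 3 * k + r := ⟨n / 3, n % 3, Nat.mod_lt _ (by norm_num), by omega⟩
  interval_cases r
  · rw [add_zero, show 3 * k + 3 = 3 * (k + 1) by ring, fmax_three, fmax_three, pow_succ']
  · rw [show 3 * k + 1 + 3 = 3 * (k + 1) + 1 by ring, fmax_three_one (by omega), fmax_three_one (by omega),
      Nat.add_sub_cancel, three_pow_succ_pred (show 1 ≤ k by omega)]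
    ring
  · rw [show 3 * k + 2 + 3 = 3 * (k + 1) + 2 by ring, fmax_three_two, fmax_three_two, pow_succ']
    ring

theorem gmax_add_three {n : ℕ} (hn : 6 ≤ n) : gmax (n + 3) = 3 * gmax n := by
  obtain ⟨k, r, hr, rfl⟩ : ∃ k r, r < 3 ∧ n = 3 * k + r := ⟨n / 3, n % 3, Nat.mod_lt _ (by norm_num), by omega⟩
  interval_cases r
  · rw [add_zero, show 3 * k + 3 = 3 * (k + 1) by ring, gmax_three, gmax_three, pow_succ']
  · rw [show 3 * k + 1 + 3 = 3 * (k + 1) + 1 by ring, gmax_three_one (by omega), gmax_three_one (by omega),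
      Nat.add_sub_cancel, three_pow_succ_pred (show 1 ≤ k by omega)]
    ring
  · rw [show 3 * k + 2 + 3 = 3 * (k + 1) + 2 by ring, gmax_three_two (by omega), gmax_three_two (by omega),
      show k + 1 - 2 = k - 2 + 1 by omega, pow_succ']
    ring

theorem fmax_pos (n : ℕ) : 1 ≤ fmax n := by
  unfold fmax
  have := Nat.one_le_pow (n / 3) 3 (by norm_num)
  have := Nat.one_le_pow (n / 3 - 1) 3 (by norm_num)
  split_ifs <;> omega

theorem gmax_pos (n : ℕ) : 1 ≤ gmax n := by
  unfold gmax
  have := Nat.one_le_pow (n / 3) 3 (by norm_num)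
  have := Nat.one_le_pow (n / 3 - 1) 3 (by norm_num)
  have := Nat.one_le_pow (n / 3 - 2) 3 (by norm_num)
  split_ifs <;> omega

/-- Extend a property from small arguments using period three. -/
theorem of_small {P : ℕ → Prop} (N : ℕ) (h0 : ∀ b < N + 3, P b) (hs : ∀ b, N ≤ b → P b → P (b + 3)) :
    ∀ b, P b := by
  intro b
  induction b using Nat.strong_induction_on with
  | _ b ih =>
    rcases Nat.lt_or_ge b (N + 3) with h | h
    · exact h0 b h
    · have := hs (b - 3) (by omega) (ih (b - 3) (by omega))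
      rwa [show b - 3 + 3 = b by omega] at this

theorem fmax_step : ∀ b, fmax b ≤ fmax (b + 1) ∧ 2 * fmax b ≤ fmax (b + 2) ∧ 3 * fmax b ≤ fmax (b + 3) :=
  of_small 2 (by decide) fun b hb h => by
    rw [fmax_add_three hb, show b + 3 + 1 = b + 1 + 3 by ring, fmax_add_three (by omega),
      show b + 3 + 2 = b + 2 + 3 by ring, fmax_add_three (by omega),
      show b + 3 + 3 = (b + 3) + 3 by ring, fmax_add_three (show 2 ≤ b + 3 by omega), fmax_add_three hb]
    omega

theorem mul_fmax_le : ∀ a b, 1 ≤ a → a * fmax b ≤ fmax (b + a) := by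
  intro a
  induction a using Nat.strong_induction_on with
  | _ a ih =>
    intro b ha
    have h := fmax_step b
    rcases Nat.lt_or_ge a 4 with h4 | h4
    · interval_cases a <;> omega
    rcases eq_or_lt_of_le h4 with h4 | h5
    · subst h4
      have h' := fmax_step (b + 2)
      rw [show b + 4 = b + 2 + 2 by ring]
      omega
    · have h1 := ih (a - 3) (by omega) b (by omega)
      have h2 := (fmax_step (b + (a - 3))).2.2
      rw [show b + (a - 3) + 3 = b + a by omega] at h2
      calc a * fmax b ≤ (3 * (a - 3)) * fmax b := Nat.mul_le_mul_right _ (by omega)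
        _ = 3 * ((a - 3) * fmax b) := by ring
        _ ≤ 3 * fmax (b + (a - 3)) := Nat.mul_le_mul_left _ h1
        _ ≤ fmax (b + a) := h2

theorem gmax_step : ∀ b, (gmax b ≤ gmax (b + 1) ∧ (2 ≤ b → gmax b < gmax (b + 1))) ∧
    3 * gmax b ≤ gmax (b + 3) ∧ 4 * gmax b ≤ gmax (b + 4) ∧
    (5 * gmax b ≤ gmax (b + 5) ∧ (1 ≤ b → 5 * gmax b < gmax (b + 5))) :=
  of_small 6 (by decide) fun b hb h => by
    rw [gmax_add_three hb, show b + 3 + 1 = b + 1 + 3 by ring, gmax_add_three (show 6 ≤ b + 1 by omega),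
      show b + 3 + 4 = b + 4 + 3 by ring, gmax_add_three (show 6 ≤ b + 4 by omega),
      show b + 3 + 5 = b + 5 + 3 by ring, gmax_add_three (show 6 ≤ b + 5 by omega),
      gmax_add_three (show 6 ≤ b + 3 by omega), gmax_add_three hb]
    obtain ⟨⟨h1, h1'⟩, h3, h4, h5, h5'⟩ := h
    have := h1' (by omega)
    have := h5' (by omega)
    omega

theorem mul_gmax_le : ∀ a b, 1 ≤ a → a ≠ 2 →
    a * gmax b ≤ gmax (b + a) ∧ (6 ≤ a → a * gmax b < gmax (b + a)) := by
  intro a
  induction a using Nat.strong_induction_on with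
  | _ a ih =>
    intro b ha ha2
    have h := gmax_step b
    rcases Nat.lt_or_ge a 6 with h6 | h6
    · interval_cases a
      all_goals first
        | exact absurd rfl ha2
        | (refine ⟨?_, fun h => absurd h (by norm_num)⟩; omega)
    · have h1 := (ih (a - 3) (by omega) b (by omega) (by omega)).1
      have h2 := (gmax_step (b + (a - 3))).2.1
      rw [show b + (a - 3) + 3 = b + a by omega] at h2
      have hlt : a * gmax b < gmax (b + a) :=
        calc a * gmax b < (3 * (a - 3)) * gmax b := Nat.mul_lt_mul_of_pos_right (by omega) (gmax_pos b)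
          _ = 3 * ((a - 3) * gmax b) := by ring
          _ ≤ 3 * gmax (b + (a - 3)) := Nat.mul_le_mul_left _ h1
          _ ≤ gmax (b + a) := h2
      exact ⟨hlt.le, fun _ => hlt⟩

theorem fmax_lt_two_gmax : ∀ b, b ≠ 2 → fmax b < 2 * gmax b :=
  of_small 6 (by decide) fun b hb h _ => by
    rw [fmax_add_three (by omega), gmax_add_three hb]
    have := h (by omega)
    omega

theorem prod_le_fmax {ι : Type*} (s : Finset ι) (w : ι → ℕ) (hw : ∀ i ∈ s, 1 ≤ w i) :
    ∏ i ∈ s, w i ≤ fmax (∑ i ∈ s, w i) := by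
  classical
  induction s using Finset.induction with
  | empty => simp [fmax]
  | insert a s ha ih =>
    rw [Finset.prod_insert ha, Finset.sum_insert ha, add_comm]
    exact le_trans (Nat.mul_le_mul_left _ (ih fun i hi => hw i (Finset.mem_insert_of_mem hi)))
      (mul_fmax_le _ _ (hw a (Finset.mem_insert_self a s)))

theorem prod_le_gmax {ι : Type*} (s : Finset ι) (w : ι → ℕ) (hw : ∀ i ∈ s, 1 ≤ w i)
    (hw2 : ∀ i ∈ s, w i ≠ 2) : ∏ i ∈ s, w i ≤ gmax (∑ i ∈ s, w i) := by
  classical
  induction s using Finset.induction with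
  | empty => simp [gmax]
  | insert a s ha ih =>
    rw [Finset.prod_insert ha, Finset.sum_insert ha, add_comm]
    exact le_trans (Nat.mul_le_mul_left _ (ih (fun i hi => hw i (Finset.mem_insert_of_mem hi))
      (fun i hi => hw2 i (Finset.mem_insert_of_mem hi))))
      (mul_gmax_le _ _ (hw a (Finset.mem_insert_self a s)) (hw2 a (Finset.mem_insert_self a s))).1

theorem shape_of_eq_gmax {ι : Type*} (s : Finset ι) (w : ι → ℕ) (hw : ∀ i ∈ s, 1 ≤ w i)
    (hw2 : ∀ i ∈ s, w i ≠ 2) (hn : 3 ≤ ∑ i ∈ s, w i) (hn5 : ∑ i ∈ s, w i ≠ 5)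
    (heq : ∏ i ∈ s, w i = gmax (∑ i ∈ s, w i)) :
    (∀ i ∈ s, w i = 3 ∨ w i = 4) ∧ (s.filter fun i => w i = 4).card = (∑ i ∈ s, w i) % 3 := by
  classical
  have h34 : ∀ i ∈ s, w i = 3 ∨ w i = 4 := by
    intro i hi
    have hsum := Finset.add_sum_erase s w hi
    have hprod := Finset.mul_prod_erase s w hi
    have hle : w i * ∏ x ∈ s.erase i, w x ≤ w i * gmax (∑ x ∈ s.erase i, w x) :=
      Nat.mul_le_mul_left _ (prod_le_gmax _ w (fun j hj => hw j (Finset.mem_of_mem_erase hj))
        (fun j hj => hw2 j (Finset.mem_of_mem_erase hj)))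
    rw [hprod, heq] at hle
    set B := ∑ x ∈ s.erase i, w x
    rw [show ∑ x ∈ s, w x = B + w i by omega] at hle hn hn5
    have h1 := hw i hi
    have h2 := hw2 i hi
    rcases Nat.lt_or_ge (w i) 6 with h6 | h6
    · have hg := gmax_step B
      rcases (show w i = 1 ∨ w i = 3 ∨ w i = 4 ∨ w i = 5 by omega) with h | h | h | h
      · rw [h, one_mul] at hle
        rw [h] at hn
        have := hg.1.2 (by omega)
        omega
      · exact Or.inl h
      · exact Or.inr h
      · rw [h] at hle hn5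
        have := hg.2.2.2.2 (by omega)
        omega
    · have := (mul_gmax_le (w i) B h1 h2).2 h6
      omega
  refine ⟨h34, ?_⟩
  have hsplit := Finset.sum_filter_add_sum_filter_not s (fun i => w i = 4) w
  have e4 : ∑ i ∈ s.filter (fun i => w i = 4), w i = 4 * (s.filter fun i => w i = 4).card := by
    rw [Finset.sum_congr rfl (fun i hi => (Finset.mem_filter.1 hi).2), Finset.sum_const, smul_eq_mul,
      mul_comm]
  have e3 : ∑ i ∈ s.filter (fun i => ¬ w i = 4), w i = 3 * (s.filter fun i => ¬ w i = 4).card := by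
    rw [Finset.sum_congr rfl (fun i hi => (h34 i (Finset.mem_filter.1 hi).1).resolve_right
      (Finset.mem_filter.1 hi).2), Finset.sum_const, smul_eq_mul, mul_comm]
  have hlt : (s.filter fun i => w i = 4).card < 3 := by
    by_contra hc
    obtain ⟨T, hTs, hT⟩ := Finset.exists_subset_card_eq (Nat.not_lt.1 hc)
    have hTs' : T ⊆ s := fun x hx => (Finset.mem_filter.1 (hTs hx)).1
    have hP : ∏ i ∈ T, w i = 64 := by
      rw [Finset.prod_congr rfl (fun i hi => (Finset.mem_filter.1 (hTs hi)).2), Finset.prod_const, hT]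
      rfl
    have hS : ∑ i ∈ T, w i = 12 := by
      rw [Finset.sum_congr rfl (fun i hi => (Finset.mem_filter.1 (hTs hi)).2), Finset.sum_const, hT]
      rfl
    have hrest := prod_le_gmax (s \ T) w (fun j hj => hw j (Finset.mem_sdiff.1 hj).1)
      (fun j hj => hw2 j (Finset.mem_sdiff.1 hj).1)
    rw [← Finset.prod_sdiff hTs', hP] at heq
    rw [← Finset.sum_sdiff hTs', hS] at heq
    obtain ⟨B, hB⟩ : ∃ B, B = ∑ i ∈ s \ T, w i := ⟨_, rfl⟩
    rw [← hB] at hrest heq
    have a1 := (gmax_step B).2.1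
    have a2 := (gmax_step (B + 3)).2.1
    have a3 := (gmax_step (B + 6)).2.1
    have a4 := (gmax_step (B + 9)).2.1
    have hpos := gmax_pos B
    rw [show B + 3 + 3 = B + 6 by ring] at a2
    rw [show B + 6 + 3 = B + 9 by ring] at a3
    rw [show B + 9 + 3 = B + 12 by ring] at a4
    omega
  omega

end CfsgLib.KnownC.AbPerm
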