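import Mathlib
import Cfsg.Agent.Lib.KnownC.AbelianPermArith

/-!
Abelian permutation groups of largest order.
-/

set_option autoImplicit false

namespace CfsgLib.KnownC.AbPerm

open Equiv MulAction

variable {α : Type} [Fintype α] (A : Subgroup (Perm α))

/-- The orbits of a permutation group. -/
abbrev Orbs : Type := orbitRel.Quotient A α

/-- The length of an orbit. -/
noncomputable def len (O : Orbs A) : ℕ := Nat.card (orbit A (Quotient.out O))

theorem one_le_len (O : Orbs A) : 1 ≤ len A O := by
  have : Nonempty (orbit A (Quotient.out O)) := ⟨⟨_, mem_orbit_self _⟩⟩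
  exact Nat.card_pos

theorem sum_len [Fintype (Orbs A)] : ∑ O : Orbs A, len A O = Fintype.card α := by
  classical
  rw [← Nat.card_eq_fintype_card, Nat.card_congr (selfEquivSigmaOrbits A α), Nat.card_sigma]
  rfl

variable {A}

theorem orb_rep (x : α) : ∃ b : A, b • x = Quotient.out (Quotient.mk'' x : Orbs A) := by
  have : Quotient.out (Quotient.mk'' x : Orbs A) ∈ orbit A x :=
    Quotient.eq''.1 (Quotient.out_eq' (Quotient.mk'' x : Orbs A))
  exact this

variable (hA : ∀ a b : A, a * b = b * a)
include hA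

/-- An element fixing a point fixes its orbit. -/
theorem fix_of_same_orbit {a : A} {x y : α} (h : y ∈ orbit A x) (ha : a • x = x) : a • y = y := by
  obtain ⟨c, rfl⟩ := h
  show a • c • x = c • x
  rw [← mul_smul, hA, mul_smul, ha]

theorem eq_of_agree_out {a b : A} (h : ∀ O : Orbs A, a • Quotient.out O = b • Quotient.out O) :
    a = b := by
  refine Subtype.ext (Equiv.ext fun x => ?_)
  obtain ⟨c, hc⟩ := orb_rep (A := A) x
  show a • x = b • x
  have h' := h (Quotient.mk'' x)
  rw [← hc, ← mul_smul, hA, mul_smul, ← mul_smul b, hA b, mul_smul] at h'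
  exact MulAction.injective c h'

/-- The order divides the product of the orbit lengths, with equality exactly for full products. -/
theorem card_structure [Fintype (Orbs A)] : Nat.card A ∣ ∏ O : Orbs A, len A O ∧
    (Nat.card A = ∏ O : Orbs A, len A O →
      ∀ c : Orbs A → α, (∀ O, c O ∈ orbit A (Quotient.out O)) →
        ∃ a : A, ∀ O, a • Quotient.out O = c O) := by
  classical
  have hN : ∀ O : Orbs A, (stabilizer A (Quotient.out O)).Normal := fun O =>
    ⟨fun s hs g => by rwa [hA g s, mul_inv_cancel_right]⟩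
  have := hN
  let f : A →* ((O : Orbs A) → A ⧸ stabilizer A (Quotient.out O)) :=
    MonoidHom.pi fun O => QuotientGroup.mk' (stabilizer A (Quotient.out O))
  have hf : ∀ a b, f a = f b ↔ ∀ O : Orbs A, a • Quotient.out O = b • Quotient.out O := by
    intro a b
    rw [funext_iff]
    refine forall_congr' fun O => ?_
    show (a : A ⧸ stabilizer A (Quotient.out O)) = b ↔ _
    rw [QuotientGroup.eq, mem_stabilizer_iff, mul_smul, inv_smul_eq_iff]
    exact eq_comm
  have hinj : Function.Injective f := fun a b h => eq_of_agree_out hA ((hf a b).1 h)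
  have hc : Nat.card ((O : Orbs A) → A ⧸ stabilizer A (Quotient.out O)) = ∏ O : Orbs A, len A O := by
    rw [Nat.card_pi]
    refine Finset.prod_congr rfl fun O _ => ?_
    exact (Nat.card_congr (orbitEquivQuotientStabilizer A (Quotient.out O))).symm
  have hdvd : Nat.card A ∣ ∏ O : Orbs A, len A O := by
    rw [← hc, Nat.card_congr (MonoidHom.ofInjective hinj).toEquiv]
    exact Subgroup.card_subgroup_dvd_card _
  refine ⟨hdvd, fun heq c hcmem => ?_⟩
  have hbij : Function.Bijective f :=
    (Nat.bijective_iff_injective_and_card _).2 ⟨hinj, by rw [heq, hc]⟩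
  choose b hb using hcmem
  obtain ⟨a, ha⟩ := hbij.2 fun O => (b O : A ⧸ stabilizer A (Quotient.out O))
  refine ⟨a, fun O => ?_⟩
  have h : (a : A ⧸ stabilizer A (Quotient.out O)) = b O := congrFun ha O
  rw [QuotientGroup.eq, mem_stabilizer_iff, mul_smul, inv_smul_eq_iff] at h
  exact h.symm.trans (hb O)

theorem card_le_fmax : Nat.card A ≤ fmax (Fintype.card α) := by
  classical
  have : Fintype (Orbs A) := Fintype.ofFinite _
  rw [← sum_len A]
  exact le_trans (Nat.le_of_dvd (Finset.prod_pos fun O _ => one_le_len A O) (card_structure hA).1)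
    (prod_le_fmax _ _ fun O _ => one_le_len A O)

/-- With every orbit full, an element can act on one orbit alone. -/
theorem exists_local [Fintype (Orbs A)] (hfull : Nat.card A = ∏ O : Orbs A, len A O) (O : Orbs A)
    {y : α} (hy : y ∈ orbit A (Quotient.out O)) :
    ∃ a : A, a • Quotient.out O = y ∧ ∀ x ∉ orbit A (Quotient.out O), a • x = x := by
  classical
  obtain ⟨a, ha⟩ := (card_structure hA).2 hfull (Function.update (fun P => Quotient.out P) O y)
    fun P => by
      by_cases h : P = O
      · subst h; rw [Function.update_self]; exact hy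
      · rw [Function.update_of_ne h]; exact mem_orbit_self _
  refine ⟨a, by rw [ha O, Function.update_self], fun x hx => ?_⟩
  obtain ⟨b, hb⟩ := orb_rep (A := A) x
  have hne : (Quotient.mk'' x : Orbs A) ≠ O := fun h => hx (by
    rw [← h, ← hb]; exact ⟨b⁻¹, inv_smul_smul b x⟩)
  have h1 := ha (Quotient.mk'' x)
  rw [Function.update_of_ne hne] at h1
  exact fix_of_same_orbit hA ⟨b⁻¹, by show b⁻¹ • _ = x; rw [← hb, inv_smul_smul]⟩ h1

variable [DecidableEq α] (heven : A ≤ alternatingGroup α)
include heven

/-- An even group with an orbit of length two is not a full product. -/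
theorem two_card_le_of_len_two [Fintype (Orbs A)] {O : Orbs A} (hO : len A O = 2) :
    2 * Nat.card A ≤ ∏ P : Orbs A, len A P := by
  obtain ⟨c, hc⟩ := (card_structure hA).1
  have hpos : 0 < ∏ P : Orbs A, len A P := Finset.prod_pos fun P _ => one_le_len A P
  rcases Nat.lt_or_ge c 2 with h | h
  swap
  · rw [hc, mul_comm 2]; exact Nat.mul_le_mul_left _ h
  exfalso
  have hc0 : c ≠ 0 := fun h0 => by rw [hc, h0, mul_zero] at hpos; omega
  have hc1 : c = 1 := by omega
  rw [hc1, mul_one] at hc
  obtain ⟨u, v, huv, huniv⟩ := Nat.card_eq_two_iff.1 hO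
  obtain ⟨y, hy, hyx⟩ : ∃ y ∈ orbit A (Quotient.out O), y ≠ Quotient.out O := by
    by_cases h : (u : α) = Quotient.out O
    · exact ⟨v, v.2, fun h' => huv (Subtype.ext (h.trans h'.symm))⟩
    · exact ⟨u, u.2, h⟩
  have hmem : ∀ x ∈ orbit A (Quotient.out O), x = Quotient.out O ∨ x = y := by
    intro x hx
    by_contra hcon
    push Not at hcon
    have : Fintype (orbit A (Quotient.out O)) := Fintype.ofFinite _
    have h1 : ({Quotient.out O, y, x} : Finset α).card ≤ 2 := by
      rw [← hO, len, Nat.card_eq_fintype_card, ← Set.toFinset_card]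
      refine Finset.card_le_card fun z hz => ?_
      simp only [Finset.mem_insert, Finset.mem_singleton] at hz
      rw [Set.mem_toFinset]
      rcases hz with rfl | rfl | rfl
      · exact mem_orbit_self _
      · exact hy
      · exact hx
    rw [Finset.card_eq_three.2 ⟨_, _, _, hyx.symm, Ne.symm hcon.1, Ne.symm hcon.2, rfl⟩] at h1
    omega
  obtain ⟨a, ha, hout⟩ := exists_local hA hc.symm O hy
  have haswap : (a : Perm α) = Equiv.swap (Quotient.out O) y := by
    refine Equiv.ext fun x => ?_
    by_cases hx : x ∈ orbit A (Quotient.out O)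
    · rcases hmem x hx with rfl | rfl
      · rw [Equiv.swap_apply_left]; exact ha
      · rw [Equiv.swap_apply_right]
        have hay : a • x ∈ orbit A (Quotient.out O) := by
          rw [← ha, ← mul_smul]; exact ⟨_, rfl⟩
        rcases hmem _ hay with h | h
        · exact h
        · exact absurd (MulAction.injective a (ha.trans h.symm)) hyx.symm
    · rw [Equiv.swap_apply_of_ne_of_ne (fun (h : x = Quotient.out O) => hx (by rw [h]; exact mem_orbit_self _)) (fun (h : x = y) => hx (by rw [h]; exact hy))]
      exact hout x hx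
  have hs := Equiv.Perm.mem_alternatingGroup.1 (heven a.2)
  rw [haswap, Equiv.Perm.sign_swap hyx.symm] at hs
  exact absurd hs (by decide)

/-- The bound for even abelian groups, with the shape of the orbits in case of equality. -/
theorem even_structure [Fintype (Orbs A)] :
    Nat.card A ≤ gmax (Fintype.card α) ∧
    (Nat.card A = gmax (Fintype.card α) → 3 ≤ Fintype.card α → Fintype.card α ≠ 5 →
      Nat.card A = ∏ O : Orbs A, len A O ∧ (∀ O : Orbs A, len A O = 3 ∨ len A O = 4) ∧
        (Finset.univ.filter fun O : Orbs A => len A O = 4).card = Fintype.card α % 3) := by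
  classical
  have hle := Nat.le_of_dvd (Finset.prod_pos fun O _ => one_le_len A O) (card_structure hA).1
  have h1 : ∀ O ∈ (Finset.univ : Finset (Orbs A)), 1 ≤ len A O := fun O _ => one_le_len A O
  by_cases h : ∃ O : Orbs A, len A O = 2
  · obtain ⟨O, hO⟩ := h
    have hb := two_card_le_of_len_two hA heven hO
    have hf := prod_le_fmax Finset.univ (len A) h1
    rw [sum_len] at hf
    have hlt : Fintype.card α ≠ 2 → Nat.card A < gmax (Fintype.card α) := fun h2 => by
      have := fmax_lt_two_gmax _ h2
      omega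
    refine ⟨?_, fun heq h3 _ => absurd heq (hlt (by omega)).ne⟩
    by_cases h2 : Fintype.card α = 2
    · rw [h2] at hf ⊢
      have : fmax 2 = 2 := rfl
      have : gmax 2 = 1 := rfl
      omega
    · exact (hlt h2).le
  · push Not at h
    have hg := prod_le_gmax Finset.univ (len A) h1 (fun O _ => h O)
    have hs : ∑ O : Orbs A, len A O = Fintype.card α := sum_len A
    rw [hs] at hg
    refine ⟨hle.trans hg, fun heq h3 h5 => ?_⟩
    have heq' : Nat.card A = ∏ O : Orbs A, len A O := le_antisymm hle (heq ▸ hg)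
    obtain ⟨h34, h4⟩ := shape_of_eq_gmax Finset.univ (len A) h1 (fun O _ => h O) (by rw [hs]; exact h3)
      (by rw [hs]; exact h5) (by rw [hs, ← heq', heq])
    exact ⟨heq', fun O => h34 O (Finset.mem_univ O), by rw [h4, hs]⟩

omit hA heven

/-- An abelian permutation group of given order, inside a given degree. -/
def HasAb (n c : ℕ) : Prop :=
  ∃ (G : Type) (_ : CommGroup G) (_ : Fintype G) (f : G →* Perm (Fin n)),
    Function.Injective f ∧ Nat.card G = c

/-- An even abelian permutation group of given order, inside a given degree. -/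
def HasEvenAb (n c : ℕ) : Prop :=
  ∃ (G : Type) (_ : CommGroup G) (_ : Fintype G) (f : G →* Perm (Fin n)),
    Function.Injective f ∧ Nat.card G = c ∧ ∀ g, Equiv.Perm.sign (f g) = 1

theorem hasAb_one (n : ℕ) : HasAb n 1 ∧ HasEvenAb n 1 :=
  ⟨⟨Unit, inferInstance, inferInstance, 1, fun _ _ _ => rfl, Nat.card_unique⟩,
    ⟨Unit, inferInstance, inferInstance, 1, fun _ _ _ => rfl, Nat.card_unique, fun _ => map_one _⟩⟩

/-- Juxtaposition. -/
noncomputable def addPerm (n m : ℕ) : Perm (Fin n) × Perm (Fin m) →* Perm (Fin (n + m)) :=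
  (finSumFinEquiv.permCongrHom).toMonoidHom.comp (Equiv.Perm.sumCongrHom (Fin n) (Fin m))

theorem addPerm_injective (n m : ℕ) : Function.Injective (addPerm n m) :=
  (finSumFinEquiv.permCongrHom).injective.comp Equiv.Perm.sumCongrHom_injective

theorem sign_addPerm (n m : ℕ) (p : Perm (Fin n) × Perm (Fin m)) :
    Equiv.Perm.sign (addPerm n m p) = Equiv.Perm.sign p.1 * Equiv.Perm.sign p.2 := by
  show Equiv.Perm.sign (finSumFinEquiv.permCongr (Equiv.Perm.sumCongr p.1 p.2)) = _
  rw [Equiv.Perm.sign_permCongr, Equiv.Perm.sign_sumCongr]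

theorem HasAb.add {n m c d : ℕ} (h : HasAb n c) (h' : HasAb m d) : HasAb (n + m) (c * d) := by
  obtain ⟨G, _, _, f, hf, hc⟩ := h
  obtain ⟨H, _, _, f', hf', hd⟩ := h'
  exact ⟨G × H, inferInstance, inferInstance, (addPerm n m).comp (f.prodMap f'),
    (addPerm_injective n m).comp (Function.Injective.prodMap hf hf'),
    by rw [Nat.card_prod, hc, hd]⟩

theorem HasEvenAb.add {n m c d : ℕ} (h : HasEvenAb n c) (h' : HasEvenAb m d) :
    HasEvenAb (n + m) (c * d) := by
  obtain ⟨G, _, _, f, hf, hc, hs⟩ := h
  obtain ⟨H, _, _, f', hf', hd, hs'⟩ := h'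
  exact ⟨G × H, inferInstance, inferInstance, (addPerm n m).comp (f.prodMap f'),
    (addPerm_injective n m).comp (Function.Injective.prodMap hf hf'),
    by rw [Nat.card_prod, hc, hd], fun g => by
      show Equiv.Perm.sign (addPerm n m (f g.1, f' g.2)) = 1
      rw [sign_addPerm, hs, hs', one_mul]⟩

theorem hasAb_regular (G : Type) [CommGroup G] [Fintype G] [DecidableEq G] {n : ℕ}
    (hn : Fintype.card G = n) :
    HasAb n n ∧ ((∀ g : G, Equiv.Perm.sign (Equiv.mulLeft g) = 1) → HasEvenAb n n) := by
  obtain ⟨e⟩ : Nonempty (G ≃ Fin n) := ⟨Fintype.equivFinOfCardEq hn⟩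
  have hinj : Function.Injective (e.permCongrHom.toMonoidHom.comp (MulAction.toPermHom G G)) :=
    e.permCongrHom.injective.comp fun a b h => by
      simpa using Equiv.congr_fun h (1 : G)
  refine ⟨⟨G, inferInstance, inferInstance, _, hinj, by rw [Nat.card_eq_fintype_card, hn]⟩,
    fun hs => ⟨G, inferInstance, inferInstance, _, hinj, by rw [Nat.card_eq_fintype_card, hn],
      fun g => ?_⟩⟩
  show Equiv.Perm.sign (e.permCongr (Equiv.mulLeft g)) = 1
  rw [Equiv.Perm.sign_permCongr, hs]

theorem sign_c3 : ∀ g : Multiplicative (ZMod 3), Equiv.Perm.sign (Equiv.mulLeft g) = 1 := by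
  decide +kernel

theorem sign_c5 : ∀ g : Multiplicative (ZMod 5), Equiv.Perm.sign (Equiv.mulLeft g) = 1 := by
  decide +kernel

theorem sign_v4 :
    ∀ g : Multiplicative (ZMod 2 × ZMod 2), Equiv.Perm.sign (Equiv.mulLeft g) = 1 := by
  decide +kernel

theorem hasEvenAb_gmax : ∀ n, HasEvenAb n (gmax n) := by
  have b3 : HasEvenAb 3 3 := (hasAb_regular (Multiplicative (ZMod 3)) rfl).2 sign_c3
  have b4 : HasEvenAb 4 4 := (hasAb_regular (Multiplicative (ZMod 2 × ZMod 2)) rfl).2 sign_v4
  have b5 : HasEvenAb 5 5 := (hasAb_regular (Multiplicative (ZMod 5)) rfl).2 sign_c5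
  refine of_small 6 (fun n hn => ?_) fun n hn h => ?_
  · interval_cases n
    · exact (hasAb_one 0).2
    · exact (hasAb_one 1).2
    · exact (hasAb_one 2).2
    · exact b3
    · exact b4
    · exact b5
    · exact b3.add b3
    · exact b4.add b3
    · exact b4.add b4
  · rw [gmax_add_three hn, mul_comm]
    exact h.add b3

theorem hasAb_fmax : ∀ n, HasAb n (fmax n) := by
  have b2 : HasAb 2 2 := (hasAb_regular (Multiplicative (ZMod 2)) rfl).1
  have b3 : HasAb 3 3 := (hasAb_regular (Multiplicative (ZMod 3)) rfl).1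
  refine of_small 2 (fun n hn => ?_) fun n hn h => ?_
  · interval_cases n
    · exact (hasAb_one 0).1
    · exact (hasAb_one 1).1
    · exact b2
    · exact b3
    · exact b2.add b2
  · rw [fmax_add_three hn, mul_comm]
    exact h.add b3

theorem isGreatest_perm (n : ℕ) :
    IsGreatest {c : ℕ | ∃ A : Subgroup (Perm (Fin n)), IsMulCommutative A ∧ Nat.card A = c} (fmax n) := by
  refine ⟨?_, ?_⟩
  · obtain ⟨G, _, _, f, hf, hc⟩ := hasAb_fmax n
    refine ⟨f.range, ⟨⟨?_⟩⟩, by rw [← Nat.card_congr (MonoidHom.ofInjective hf).toEquiv, hc]⟩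
    rintro ⟨_, a, rfl⟩ ⟨_, b, rfl⟩
    exact Subtype.ext (by simp [← map_mul, mul_comm a b])
  · rintro c ⟨A, hA, rfl⟩
    have h := card_le_fmax (A := A) fun a b => hA.is_comm.comm a b
    rwa [Fintype.card_fin] at h

theorem card_map_subtype {n : ℕ} (A : Subgroup (alternatingGroup (Fin n))) :
    Nat.card (A.map (alternatingGroup (Fin n)).subtype) = Nat.card A :=
  Subgroup.card_map_of_injective Subtype.val_injective

theorem comm_map_subtype {n : ℕ} {A : Subgroup (alternatingGroup (Fin n))} (hA : IsMulCommutative A)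
    (a b : A.map (alternatingGroup (Fin n)).subtype) : a * b = b * a := by
  obtain ⟨_, a, ha, rfl⟩ := a
  obtain ⟨_, b, hb, rfl⟩ := b
  have h := congrArg (fun x : A => (alternatingGroup (Fin n)).subtype x.1)
    (hA.is_comm.comm ⟨a, ha⟩ ⟨b, hb⟩)
  exact Subtype.ext (by simpa using h)

theorem isGreatest_alternating (n : ℕ) :
    IsGreatest {c : ℕ | ∃ A : Subgroup (alternatingGroup (Fin n)), IsMulCommutative A ∧ Nat.card A = c}
      (gmax n) := by
  refine ⟨?_, ?_⟩
  · obtain ⟨G, _, _, f, hf, hc, hs⟩ := hasEvenAb_gmax n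
    let f' : G →* alternatingGroup (Fin n) :=
      f.codRestrict _ fun g => Equiv.Perm.mem_alternatingGroup.2 (hs g)
    have hf' : Function.Injective f' := fun a b h => hf (congrArg Subtype.val h)
    refine ⟨f'.range, ⟨⟨?_⟩⟩, by rw [← Nat.card_congr (MonoidHom.ofInjective hf').toEquiv, hc]⟩
    rintro ⟨_, a, rfl⟩ ⟨_, b, rfl⟩
    exact Subtype.ext (by simp [← map_mul, mul_comm a b])
  · rintro c ⟨A, hA, rfl⟩
    have : Fintype (Orbs (A.map (alternatingGroup (Fin n)).subtype)) := Fintype.ofFinite _
    have h := (even_structure (comm_map_subtype hA) (Subgroup.map_subtype_le _)).1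
    rwa [Fintype.card_fin, card_map_subtype] at h

end CfsgLib.KnownC.AbPerm
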