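import Mathlib
import Cfsg.Agent.Lib.KnownC.AbelianPerm

/-!
Abelian subgroups of largest order of alternating groups are conjugate.
-/

set_option autoImplicit false

namespace CfsgLib.KnownC.AbPerm

open Equiv MulAction
open scoped Pointwise

variable {α : Type} [Fintype α]

/-- Permutations regular on every class, of exponent two on classes of size four. -/
def IsBlockPerm (r : α → α → Prop) (σ : Perm α) : Prop :=
  (∀ x, r x (σ x)) ∧ (∀ x y, r x y → σ x = x → σ y = y) ∧
    ∀ x, Nat.card {y // r x y} = 4 → σ (σ x) = x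

theorem isBlockPerm_conj {r s : α → α → Prop} {π : Perm α} (h : ∀ x y, s (π x) (π y) ↔ r x y)
    (σ : Perm α) : IsBlockPerm s (π * σ * π⁻¹) ↔ IsBlockPerm r σ := by
  have hc : ∀ x, Nat.card {y // s (π x) y} = Nat.card {y // r x y} := fun x =>
    (Nat.card_congr (π.subtypeEquiv fun y => (h x y).symm)).symm
  have hap : ∀ x, (π * σ * π⁻¹) (π x) = π (σ x) := fun x => by simp
  constructor
  · rintro ⟨h1, h2, h3⟩
    refine ⟨fun x => ?_, fun x y hxy hx => ?_, fun x hx => ?_⟩
    · have := h1 (π x)
      rwa [hap, h] at this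
    · have := h2 (π x) (π y) ((h x y).2 hxy) (by rw [hap, hx])
      rw [hap] at this
      exact π.injective this
    · have := h3 (π x) (by rw [hc, hx])
      rw [hap, hap] at this
      exact π.injective this
  · rintro ⟨h1, h2, h3⟩
    refine ⟨fun x => ?_, fun x y hxy hx => ?_, fun x hx => ?_⟩ <;>
      obtain ⟨u, rfl⟩ := π.surjective x
    · rw [hap, h]; exact h1 u
    · obtain ⟨v, rfl⟩ := π.surjective y
      rw [hap] at hx ⊢
      rw [h2 u v ((h u v).1 hxy) (π.injective hx)]
    · rw [hap, hap, h3 u (by rw [← hc, hx])]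

theorem pair_eq [DecidableEq α] {C S : Finset α} (hS : S ⊆ C) (hc : C.card ≤ S.card + 1) {u v : α}
    (hu : u ∈ C) (hv : v ∈ C) (hu' : u ∉ S) (hv' : v ∉ S) : u = v := by
  by_contra hne
  have h : (insert u (insert v S)).card ≤ C.card :=
    Finset.card_le_card (Finset.insert_subset hu (Finset.insert_subset hv hS))
  rw [Finset.card_insert_of_notMem (by simp [hne, hu']), Finset.card_insert_of_notMem hv'] at h
  omega

/-- A block permutation is determined on a class by one value. -/
theorem block_unique [DecidableEq α] {r : α → α → Prop} (hr : Equivalence r) {σ τ : Perm α}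
    (hσ : IsBlockPerm r σ) (hτ : IsBlockPerm r τ) {x : α}
    (hcard : Nat.card {y // r x y} = 3 ∨ Nat.card {y // r x y} = 4)
    (hx : σ x = τ x) {y : α} (hy : r x y) : σ y = τ y := by
  classical
  by_cases hfix : σ x = x
  · rw [hσ.2.1 x y hy hfix, hτ.2.1 x y hy (hx ▸ hfix)]
  have hne : ∀ {ρ : Perm α}, IsBlockPerm r ρ → ρ x ≠ x → ∀ z, r x z → ρ z ≠ z := fun hρ hρx z hz h =>
    hρx (hρ.2.1 z x (hr.symm hz) h)
  have hfix' : τ x ≠ x := hx ▸ hfix
  obtain ⟨C, hC⟩ : ∃ C : Finset α, C = Finset.univ.filter fun z => r x z := ⟨_, rfl⟩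
  have hCm : ∀ z, z ∈ C ↔ r x z := fun z => by simp [hC]
  have hCc : C.card = Nat.card {y // r x y} := by
    rw [hC, Nat.card_eq_fintype_card, Fintype.card_subtype]
  have hxC : x ∈ C := (hCm x).2 (hr.refl x)
  have hσxC : σ x ∈ C := (hCm _).2 (hσ.1 x)
  have hσmem : ∀ z, r x z → σ z ∈ C := fun z hz => (hCm _).2 (hr.trans hz (hσ.1 z))
  have hτmem : ∀ z, r x z → τ z ∈ C := fun z hz => (hCm _).2 (hr.trans hz (hτ.1 z))
  by_cases hyx : y = x
  · rw [hyx, hx]
  rcases hcard with h3 | h4
  · -- three points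
    have hsq : ∀ {ρ : Perm α}, IsBlockPerm r ρ → ρ x ≠ x → ρ (ρ x) ≠ x := by
      intro ρ hρ hρx h
      obtain ⟨z, hz, hz'⟩ : ∃ z ∈ C, z ∉ ({x, ρ x} : Finset α) := by
        by_contra hall
        push Not at hall
        have := (Finset.card_le_card hall).trans Finset.card_le_two
        omega
      simp only [Finset.mem_insert, Finset.mem_singleton, not_or] at hz'
      have hρz := hne hρ hρx z ((hCm z).1 hz)
      refine hρz (pair_eq (S := {x, ρ x}) ?_ ?_ ((hCm _).2 (hr.trans ((hCm z).1 hz) (hρ.1 z))) hz ?_ ?_)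
      · exact Finset.insert_subset hxC (Finset.singleton_subset_iff.2 ((hCm _).2 (hρ.1 x)))
      · rw [Finset.card_pair (Ne.symm hρx)]; omega
      · simp only [Finset.mem_insert, Finset.mem_singleton, not_or]
        exact ⟨fun e => hz'.2 (ρ.injective (e.trans h.symm)), fun e => hz'.1 (ρ.injective e)⟩
      · simp [hz'.1, hz'.2]
    by_cases hys : y = σ x
    · subst hys
      refine pair_eq (S := {x, σ x}) (Finset.insert_subset hxC (Finset.singleton_subset_iff.2 hσxC))
        (by rw [Finset.card_pair (Ne.symm hfix)]; omega) (hσmem _ hy) (hτmem _ hy) ?_ ?_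
      · simp only [Finset.mem_insert, Finset.mem_singleton, not_or]
        exact ⟨hsq hσ hfix, fun e => hfix (σ.injective e)⟩
      · simp only [Finset.mem_insert, Finset.mem_singleton, not_or]
        exact ⟨fun e => hsq hτ hfix' (by rw [← hx]; exact e),
          fun e => hyx (τ.injective (e.trans hx))⟩
    · refine pair_eq (S := {σ x, y}) (Finset.insert_subset hσxC (Finset.singleton_subset_iff.2 ((hCm y).2 hy)))
        (by rw [Finset.card_pair (Ne.symm hys)]; omega) (hσmem y hy) (hτmem y hy) ?_ ?_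
      · simp only [Finset.mem_insert, Finset.mem_singleton, not_or]
        exact ⟨fun e => hyx (σ.injective e), hne hσ hfix y hy⟩
      · simp only [Finset.mem_insert, Finset.mem_singleton, not_or]
        exact ⟨fun e => hyx (τ.injective (e.trans hx)), hne hτ hfix' y hy⟩
  · -- four points
    have hsσ := hσ.2.2 x h4
    have hsτ := hτ.2.2 x h4
    by_cases hys : y = σ x
    · rw [hys, hsσ, hx, hsτ]
    · refine pair_eq (S := {x, σ x, y}) ?_ ?_ (hσmem y hy) (hτmem y hy) ?_ ?_
      · exact Finset.insert_subset hxC (Finset.insert_subset hσxC (Finset.singleton_subset_iff.2 ((hCm y).2 hy)))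
      · rw [Finset.card_eq_three.2 ⟨x, σ x, y, Ne.symm hfix, Ne.symm hyx, Ne.symm hys, rfl⟩]; omega
      · simp only [Finset.mem_insert, Finset.mem_singleton, not_or]
        exact ⟨fun e => hys (σ.injective (e.trans hsσ.symm)), fun e => hyx (σ.injective e),
          hne hσ hfix y hy⟩
      · simp only [Finset.mem_insert, Finset.mem_singleton, not_or]
        exact ⟨fun e => hys (by rw [hx]; exact τ.injective (e.trans hsτ.symm)),
          fun e => hyx (τ.injective (e.trans hx)), hne hτ hfix' y hy⟩

theorem sq_eq_one_of_even_support_four [DecidableEq α] {σ : Perm α} (hs : Equiv.Perm.sign σ = 1)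
    (h : σ.support.card = 4) : σ * σ = 1 := by
  obtain ⟨m, hm⟩ : ∃ m, m = σ.cycleType := ⟨_, rfl⟩
  have hsum : m.sum = 4 := by rw [hm, Equiv.Perm.sum_cycleType, h]
  have h2 : ∀ a ∈ m, 2 ≤ a := fun a ha => Equiv.Perm.two_le_of_mem_cycleType (hm ▸ ha)
  have hle := Multiset.card_nsmul_le_sum h2
  rw [hsum, smul_eq_mul] at hle
  have hsign : Equiv.Perm.sign σ = (-1 : ℤˣ) ^ (m.sum + Multiset.card m) := by
    rw [Equiv.Perm.sign_of_cycleType, hm]
  rcases (show Multiset.card m = 0 ∨ Multiset.card m = 1 ∨ Multiset.card m = 2 by omega) with hc | hc | hc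
  · rw [Multiset.card_eq_zero.1 hc] at hsum; simp at hsum
  · exfalso
    rw [hs, hsum, hc] at hsign
    exact absurd hsign (by decide)
  · obtain ⟨a, b, hab⟩ := Multiset.card_eq_two.1 hc
    have ha := h2 a (by simp [hab])
    have hb := h2 b (by simp [hab])
    rw [hab] at hsum
    simp at hsum
    obtain ⟨rfl, rfl⟩ : a = 2 ∧ b = 2 := ⟨by omega, by omega⟩
    have ho : orderOf σ = 2 := by
      rw [← Equiv.Perm.lcm_cycleType, ← hm, hab]
      rfl
    rw [← sq, ← ho, pow_orderOf_eq_one]

variable {A : Subgroup (Perm α)}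

/-- The orbit relation. -/
def orbRel (A : Subgroup (Perm α)) (x y : α) : Prop := (Quotient.mk'' x : Orbs A) = Quotient.mk'' y

omit [Fintype α] in
theorem orbRel_equivalence : Equivalence (orbRel A) :=
  ⟨fun _ => rfl, fun h => h.symm, fun h h' => h.trans h'⟩

omit [Fintype α] in
theorem orbRel_iff {x y : α} : orbRel A x y ↔ y ∈ orbit A x :=
  ⟨fun h => Quotient.eq''.1 h.symm, fun h => (Quotient.eq''.2 h).symm⟩

omit [Fintype α] in
theorem card_fibre (O : Orbs A) : Nat.card {x // (Quotient.mk'' x : Orbs A) = O} = len A O := by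
  refine Nat.card_congr (Equiv.subtypeEquivRight fun x => ?_)
  constructor
  · rintro rfl
    have := Quotient.eq''.1 (Quotient.out_eq' (Quotient.mk'' x : Orbs A)).symm
    exact this
  · intro h
    exact (Quotient.eq''.2 h).trans (Quotient.out_eq' O)

omit [Fintype α] in
theorem card_orbRel (x : α) : Nat.card {y // orbRel A x y} = len A (Quotient.mk'' x) := by
  rw [← card_fibre]
  exact Nat.card_congr (Equiv.subtypeEquivRight fun y => eq_comm)

theorem mem_iff_isBlockPerm [DecidableEq α] [Fintype (Orbs A)] (hA : ∀ a b : A, a * b = b * a)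
    (heven : A ≤ alternatingGroup α) (hfull : Nat.card A = ∏ O : Orbs A, len A O)
    (h34 : ∀ O : Orbs A, len A O = 3 ∨ len A O = 4) (σ : Perm α) :
    σ ∈ A ↔ IsBlockPerm (orbRel A) σ := by
  have hsub : ∀ a : A, IsBlockPerm (orbRel A) (a : Perm α) := by
    intro a
    refine ⟨fun x => orbRel_iff.2 ⟨a, rfl⟩, fun x y hxy hx => fix_of_same_orbit hA (orbRel_iff.1 hxy) hx,
      fun x hx => ?_⟩
    show a • a • x = x
    obtain ⟨b, hb⟩ := orb_rep (A := A) x
    set O : Orbs A := Quotient.mk'' x
    rw [card_orbRel] at hx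
    by_cases hfix : a • Quotient.out O = Quotient.out O
    · have hxfix : a • x = x :=
        fix_of_same_orbit hA ⟨b⁻¹, by show b⁻¹ • _ = x; rw [← hb, inv_smul_smul]⟩ hfix
      rw [hxfix, hxfix]
    obtain ⟨a', ha', hout⟩ := exists_local hA hfull O (y := a • Quotient.out O) ⟨a, rfl⟩
    have hag : ∀ z ∈ orbit A (Quotient.out O), a' • z = a • z := fun z hz => by
      have h1 := fix_of_same_orbit hA (a := a⁻¹ * a') hz (by rw [mul_smul, ha', inv_smul_smul])
      rw [mul_smul, inv_smul_eq_iff] at h1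
      exact h1
    have hsupp : (a' : Perm α).support.card = 4 := by
      have : Fintype (orbit A (Quotient.out O)) := Fintype.ofFinite _
      rw [← hx, len, Nat.card_eq_fintype_card, ← Set.toFinset_card]
      refine congrArg Finset.card (Finset.ext fun z => ?_)
      rw [Equiv.Perm.mem_support, Set.mem_toFinset]
      refine ⟨fun hz => not_not.1 fun hn => hz (hout z hn), fun hz hfz => ?_⟩
      have h1 : a' • Quotient.out O = Quotient.out O :=
        fix_of_same_orbit hA (mem_orbit_symm.1 hz) hfz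
      exact hfix (by rw [← hag _ (mem_orbit_self _), h1])
    have hsq := sq_eq_one_of_even_support_four (Equiv.Perm.mem_alternatingGroup.1 (heven a'.2)) hsupp
    have hxmem : x ∈ orbit A (Quotient.out O) := ⟨b⁻¹, by show b⁻¹ • _ = x; rw [← hb, inv_smul_smul]⟩
    have haxmem : a • x ∈ orbit A (Quotient.out O) :=
      (orbit_eq_iff.2 hxmem) ▸ (⟨a, rfl⟩ : a • x ∈ orbit A x)
    rw [← hag _ haxmem, ← hag _ hxmem]
    exact Equiv.congr_fun hsq x
  refine ⟨fun h => hsub ⟨σ, h⟩, fun hσ => ?_⟩
  obtain ⟨a, ha⟩ := (card_structure hA).2 hfull (fun O => σ (Quotient.out O))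
    fun O => orbRel_iff.1 (hσ.1 _)
  suffices σ = (a : Perm α) by rw [this]; exact a.2
  refine Equiv.ext fun y => ?_
  have hy : orbRel A (Quotient.out (Quotient.mk'' y : Orbs A)) y := Quotient.out_eq' _
  refine block_unique orbRel_equivalence hσ (hsub a) ?_ (ha _).symm hy
  rw [card_orbRel]
  exact h34 _

theorem exists_conj_of_shape [DecidableEq α] {B : Subgroup (Perm α)} [Fintype (Orbs A)] [Fintype (Orbs B)]
    (hA : ∀ a b : A, a * b = b * a) (hB : ∀ a b : B, a * b = b * a)
    (hAe : A ≤ alternatingGroup α) (hBe : B ≤ alternatingGroup α)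
    (fA : Nat.card A = ∏ O : Orbs A, len A O) (fB : Nat.card B = ∏ O : Orbs B, len B O)
    (sA : ∀ O : Orbs A, len A O = 3 ∨ len A O = 4) (sB : ∀ O : Orbs B, len B O = 3 ∨ len B O = 4)
    (h4 : (Finset.univ.filter fun O : Orbs A => len A O = 4).card =
      (Finset.univ.filter fun O : Orbs B => len B O = 4).card) (hne : Nonempty α) :
    ∃ g ∈ alternatingGroup α, ∀ σ, g * σ * g⁻¹ ∈ B ↔ σ ∈ A := by
  classical
  have hsum := (sum_len A).trans (sum_len B).symm
  have hsplit : ∀ (C : Subgroup (Perm α)) [Fintype (Orbs C)], (∀ O : Orbs C, len C O = 3 ∨ len C O = 4) →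
      ∑ O : Orbs C, len C O = 3 * (Finset.univ.filter fun O : Orbs C => len C O = 3).card +
        4 * (Finset.univ.filter fun O : Orbs C => len C O = 4).card := by
    intro C _ sC
    rw [← Finset.sum_filter_add_sum_filter_not Finset.univ (fun O : Orbs C => len C O = 3)]
    congr 1
    · rw [Finset.sum_congr rfl fun O hO => (Finset.mem_filter.1 hO).2, Finset.sum_const, smul_eq_mul,
        mul_comm]
    · rw [Finset.sum_congr rfl fun O hO => (sC O).resolve_left (Finset.mem_filter.1 hO).2,
        Finset.sum_const, smul_eq_mul, mul_comm]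
      congr 2
      refine Finset.filter_congr fun O _ => ⟨fun h => (sC O).resolve_left h, fun h h' => ?_⟩
      omega
  have h3 : (Finset.univ.filter fun O : Orbs A => len A O = 3).card =
      (Finset.univ.filter fun O : Orbs B => len B O = 3).card := by
    have e1 := hsplit A sA
    have e2 := hsplit B sB
    omega
  have hfib : ∀ k, Fintype.card {O : Orbs A // len A O = k} = Fintype.card {O : Orbs B // len B O = k} := by
    intro k
    rw [Fintype.card_subtype, Fintype.card_subtype]
    rcases eq_or_ne k 3 with rfl | hk3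
    · exact h3
    rcases eq_or_ne k 4 with rfl | hk4
    · exact h4
    rw [Finset.filter_false_of_mem, Finset.filter_false_of_mem]
    · simp
    · intro O _ h
      rcases sB O with h' | h' <;> omega
    · intro O _ h
      rcases sA O with h' | h' <;> omega
  let e : Orbs A ≃ Orbs B := Equiv.ofFiberEquiv fun k => Fintype.equivOfCardEq (hfib k)
  have he : ∀ O, len B (e O) = len A O := fun O =>
    Equiv.ofFiberEquiv_map (fun k => Fintype.equivOfCardEq (hfib k)) O
  have hfibα : ∀ P : Orbs B, Fintype.card {x // e (Quotient.mk'' x) = P} =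
      Fintype.card {x // (Quotient.mk'' x : Orbs B) = P} := by
    intro P
    rw [← Nat.card_eq_fintype_card, ← Nat.card_eq_fintype_card, card_fibre,
      Nat.card_congr (Equiv.subtypeEquivRight fun x => (Equiv.eq_symm_apply e).symm),
      card_fibre, ← he, Equiv.apply_symm_apply]
  let π : Perm α := Equiv.ofFiberEquiv fun P => Fintype.equivOfCardEq (hfibα P)
  have hπ : ∀ x, (Quotient.mk'' (π x) : Orbs B) = e (Quotient.mk'' x) := fun x =>
    Equiv.ofFiberEquiv_map (fun P => Fintype.equivOfCardEq (hfibα P)) x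
  have hrel : ∀ x y, orbRel B (π x) (π y) ↔ orbRel A x y := fun x y => by
    unfold orbRel
    rw [hπ, hπ, e.injective.eq_iff]
  obtain ⟨g, hg, hgrel⟩ : ∃ g ∈ alternatingGroup α, ∀ x y, orbRel B (g x) (g y) ↔ orbRel A x y := by
    rcases Int.units_eq_one_or (Equiv.Perm.sign π) with hs | hs
    · exact ⟨π, Equiv.Perm.mem_alternatingGroup.2 hs, hrel⟩
    · obtain ⟨u⟩ := hne
      have hlen : 1 < Nat.card {y // orbRel B u y} := by
        rw [card_orbRel]
        rcases sB (Quotient.mk'' u) with h | h <;> omega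
      haveI : Nontrivial {y // orbRel B u y} := Finite.one_lt_card_iff_nontrivial.1 hlen
      obtain ⟨⟨v, hv⟩, hvu⟩ := exists_ne (⟨u, rfl⟩ : {y // orbRel B u y})
      have huv : u ≠ v := fun h => hvu (Subtype.ext h.symm)
      have hτ : ∀ x, orbRel B (Equiv.swap u v x) x := fun x => by
        by_cases h1 : x = u
        · subst h1; rw [Equiv.swap_apply_left]; exact hv.symm
        by_cases h2 : x = v
        · subst h2; rw [Equiv.swap_apply_right]; exact hv
        · rw [Equiv.swap_apply_of_ne_of_ne h1 h2]; rfl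
      refine ⟨Equiv.swap u v * π, Equiv.Perm.mem_alternatingGroup.2 ?_, fun x y => ?_⟩
      · rw [map_mul, Equiv.Perm.sign_swap huv, hs]; decide
      · rw [← hrel x y, Equiv.Perm.mul_apply, Equiv.Perm.mul_apply]
        unfold orbRel
        rw [show (Quotient.mk'' (Equiv.swap u v (π x)) : Orbs B) = Quotient.mk'' (π x) from hτ _,
          show (Quotient.mk'' (Equiv.swap u v (π y)) : Orbs B) = Quotient.mk'' (π y) from hτ _]
  refine ⟨g, hg, fun σ => ?_⟩
  rw [mem_iff_isBlockPerm hB hBe fB sB, mem_iff_isBlockPerm hA hAe fA sA, isBlockPerm_conj hgrel]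

theorem alternating_max_abelian_conj (n : ℕ) (A B : Subgroup (alternatingGroup (Fin n)))
    (hA : IsMulCommutative A) (hB : IsMulCommutative B)
    (hAmax : ∀ C : Subgroup (alternatingGroup (Fin n)), IsMulCommutative C → Nat.card C ≤ Nat.card A)
    (hBmax : ∀ C : Subgroup (alternatingGroup (Fin n)), IsMulCommutative C → Nat.card C ≤ Nat.card B) :
    ∃ g : alternatingGroup (Fin n), B = MulAut.conj g • A := by
  classical
  have hg : ∀ C : Subgroup (alternatingGroup (Fin n)), IsMulCommutative C →
      (∀ D : Subgroup (alternatingGroup (Fin n)), IsMulCommutative D → Nat.card D ≤ Nat.card C) →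
      Nat.card C = gmax n := by
    intro C hC hmax
    obtain ⟨⟨D, hD, hDc⟩, hub⟩ := isGreatest_alternating n
    exact le_antisymm (hub ⟨C, hC, rfl⟩) (hDc ▸ hmax D hD)
  have cA := hg A hA hAmax
  have cB := hg B hB hBmax
  rcases Nat.lt_or_ge n 3 with hn | hn
  · have : Subsingleton (alternatingGroup (Fin n)) := by
      refine Finite.card_le_one_iff_subsingleton.1 ?_
      rw [Nat.card_eq_fintype_card]
      interval_cases n <;> decide
    exact ⟨1, Subsingleton.elim _ _⟩
  by_cases h5 : n = 5
  · subst h5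
    haveI : Fact (Nat.Prime 5) := ⟨by norm_num⟩
    have h60 : Nat.card (alternatingGroup (Fin 5)) = 60 := by
      have h := two_mul_nat_card_alternatingGroup (α := Fin 5)
      rw [Nat.card_perm, Nat.card_fin, show Nat.factorial 5 = 120 from rfl] at h
      omega
    have hf : 5 ^ (Nat.card (alternatingGroup (Fin 5))).factorization 5 = 5 := by
      rw [h60, show (60 : ℕ).factorization 5 = 1 by
        rw [show (60 : ℕ) = 5 * 12 by norm_num, Nat.factorization_mul (by norm_num) (by norm_num),
          Finsupp.add_apply, Nat.Prime.factorization_self (by norm_num),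
          Nat.factorization_eq_zero_of_not_dvd (by norm_num)]]
      rfl
    have hg5 : gmax 5 = 5 := rfl
    obtain ⟨g, hg'⟩ := MulAction.exists_smul_eq (alternatingGroup (Fin 5))
      (Sylow.ofCard A (by rw [hf, cA, hg5])) (Sylow.ofCard B (by rw [hf, cB, hg5]))
    refine ⟨g, ?_⟩
    have h := congrArg (fun P : Sylow 5 (alternatingGroup (Fin 5)) =>
      (P : Subgroup (alternatingGroup (Fin 5)))) hg'
    simp only [Sylow.coe_subgroup_smul, Sylow.coe_ofCard] at h
    exact h.symm
  let A' := A.map (alternatingGroup (Fin n)).subtype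
  let B' := B.map (alternatingGroup (Fin n)).subtype
  have : Fintype (Orbs A') := Fintype.ofFinite _
  have : Fintype (Orbs B') := Fintype.ofFinite _
  obtain ⟨fA, sA, qA⟩ := (even_structure (comm_map_subtype hA) (Subgroup.map_subtype_le _)).2
    (by rw [Fintype.card_fin, card_map_subtype, cA]) (by rw [Fintype.card_fin]; exact hn)
    (by rw [Fintype.card_fin]; exact h5)
  obtain ⟨fB, sB, qB⟩ := (even_structure (comm_map_subtype hB) (Subgroup.map_subtype_le _)).2
    (by rw [Fintype.card_fin, card_map_subtype, cB]) (by rw [Fintype.card_fin]; exact hn)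
    (by rw [Fintype.card_fin]; exact h5)
  obtain ⟨g, hge, hgc⟩ := exists_conj_of_shape (comm_map_subtype hA) (comm_map_subtype hB)
    (Subgroup.map_subtype_le _) (Subgroup.map_subtype_le _) fA fB sA sB (qA.trans qB.symm)
    ⟨⟨0, by omega⟩⟩
  refine ⟨⟨g, hge⟩, Subgroup.ext fun x => ?_⟩
  rw [Subgroup.mem_pointwise_smul_iff_inv_smul_mem]
  have h := hgc (g⁻¹ * (x : Perm (Fin n)) * g)
  rw [show g * (g⁻¹ * (x : Perm (Fin n)) * g) * g⁻¹ = (x : Perm (Fin n)) by group] at h
  rw [show ((MulAut.conj (⟨g, hge⟩ : alternatingGroup (Fin n)))⁻¹ • x) =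
      (⟨g, hge⟩ : alternatingGroup (Fin n))⁻¹ * x * ⟨g, hge⟩ by
    rw [← map_inv, MulAut.smul_def, MulAut.conj_apply, inv_inv]]
  refine Iff.trans (Iff.trans ?_ h) ?_
  · exact (Subgroup.mem_map_iff_mem Subtype.val_injective).symm
  · exact Subgroup.mem_map_iff_mem (f := (alternatingGroup (Fin n)).subtype) Subtype.val_injective
      (x := (⟨g, hge⟩ : alternatingGroup (Fin n))⁻¹ * x * ⟨g, hge⟩)

end CfsgLib.KnownC.AbPerm
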