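import Mathlib
import Cfsg.Agent.Lib.Classical.ExcIsoPerm

set_option autoImplicit false

/-!
`A₇` inside `GL₄(2)` is two-transitive on the non-zero vectors.
-/

namespace CfsgLib.KnownC.AltSeven

open Matrix

theorem exists_subgroup {F : Type*} [Field F] [Fintype F] (hF : Fintype.card F = 2) :
    ∃ H : Subgroup (Matrix.GeneralLinearGroup (Fin 4) F), Nonempty (H ≃* alternatingGroup (Fin 7)) := by
  classical
  have : Fact (Nat.Prime 2) := ⟨Nat.prime_two⟩
  obtain ⟨e⟩ := CfsgLib.Classical.pOmega_plus_six (F := ZMod 2)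
  obtain ⟨f⟩ := CfsgLib.Classical.pOmega_plus_six_two_equiv
  have e8 := ((CfsgLib.Classical.centerQuotCongr
    (CfsgLib.Classical.slCongr (l := Fin 4) (ZMod.ringEquivOfPrime F Nat.prime_two hF).symm)).trans e.symm).trans f
  have hone : ∀ r : F, r ≠ 0 → r = 1 := by
    intro r hr
    have hc : Fintype.card Fˣ = 1 := by rw [Fintype.card_units, hF]
    haveI : Subsingleton Fˣ := Fintype.card_le_one_iff_subsingleton.1 hc.le
    exact congrArg Units.val (Subsingleton.elim (Units.mk0 r hr) 1)
  have hbot : Subgroup.center (Matrix.SpecialLinearGroup (Fin 4) F) = ⊥ := by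
    rw [Subgroup.eq_bot_iff_forall]
    intro g hg
    obtain ⟨r, hr, hg⟩ := Matrix.SpecialLinearGroup.mem_center_iff.1 hg
    have : r = 1 := hone r (fun h0 => by simp [h0] at hr)
    exact Subtype.ext (by rw [← hg, this, map_one]; rfl)
  let toG : Matrix.ProjectiveSpecialLinearGroup (Fin 4) F →* Matrix.GeneralLinearGroup (Fin 4) F :=
    (Matrix.SpecialLinearGroup.toGL).comp
      (((QuotientGroup.quotientMulEquivOfEq hbot).trans QuotientGroup.quotientBot).toMonoidHom)
  have htoG : Function.Injective toG :=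
    Matrix.SpecialLinearGroup.toGL_injective.comp
      ((QuotientGroup.quotientMulEquivOfEq hbot).trans QuotientGroup.quotientBot).injective
  let d : Fin 7 ≃ Subtype (fun i : Fin 8 => (i : ℕ) < 7) :=
    { toFun := fun i => ⟨i.castSucc, i.2⟩
      invFun := fun i => ⟨(i.1 : ℕ), i.2⟩
      left_inv := fun i => rfl
      right_inv := fun i => rfl }
  let emb : alternatingGroup (Fin 7) →* alternatingGroup (Fin 8) :=
    ((Equiv.Perm.extendDomainHom d).comp (alternatingGroup (Fin 7)).subtype).codRestrict _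
      (fun σ => by
        show Equiv.Perm.sign _ = 1
        rw [MonoidHom.comp_apply, Equiv.Perm.extendDomainHom_apply, Equiv.Perm.sign_extendDomain]
        exact σ.2)
  have hemb : Function.Injective emb := fun a b h =>
    Subtype.ext (Equiv.Perm.extendDomainHom_injective d (congrArg Subtype.val h))
  let φ : alternatingGroup (Fin 7) →* Matrix.GeneralLinearGroup (Fin 4) F :=
    toG.comp (e8.symm.toMonoidHom.comp emb)
  have hφ : Function.Injective φ := htoG.comp (e8.symm.injective.comp hemb)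
  exact ⟨φ.range, ⟨(MonoidHom.ofInjective hφ).symm⟩⟩

theorem two_transitive {F : Type*} [Field F] [Fintype F] (hF : Fintype.card F = 2)
    (H : Subgroup (Matrix.GeneralLinearGroup (Fin 4) F)) (hH : Nat.card H = 2520)
    {v w v' w' : Fin 4 → F} (hv : v ≠ 0) (hw : w ≠ 0) (hvw : v ≠ w) (hv' : v' ≠ 0) (hw' : w' ≠ 0)
    (hvw' : v' ≠ w') :
    ∃ g ∈ H, (g : Matrix (Fin 4) (Fin 4) F).mulVec v = v' ∧
      (g : Matrix (Fin 4) (Fin 4) F).mulVec w = w' := by
  classical
  letI : MulAction ↥H (Fin 4 → F) :=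
    { smul := fun g x => ((g : GL (Fin 4) F) : Matrix (Fin 4) (Fin 4) F).mulVec x
      one_smul := fun x => by
        show ((1 : GL (Fin 4) F) : Matrix (Fin 4) (Fin 4) F).mulVec x = x
        simp
      mul_smul := fun g h x => by
        show (((g * h : ↥H) : GL (Fin 4) F) : Matrix (Fin 4) (Fin 4) F).mulVec x = _
        rw [Subgroup.coe_mul, Units.val_mul, ← Matrix.mulVec_mulVec]
        rfl }
  have hsmul : ∀ (g : ↥H) (x : Fin 4 → F),
      g • x = ((g : GL (Fin 4) F) : Matrix (Fin 4) (Fin 4) F).mulVec x := fun _ _ => rfl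
  have hzero : ∀ g : ↥H, g • (0 : Fin 4 → F) = 0 := fun g => by rw [hsmul, Matrix.mulVec_zero]
  have hne : ∀ (g : ↥H) (x : Fin 4 → F), x ≠ 0 → g • x ≠ 0 := fun g x hx h => hx (by
    have := congrArg (fun y => g⁻¹ • y) h
    simpa [inv_smul_smul, hzero] using this)
  have hV : Fintype.card (Fin 4 → F) = 16 := by rw [Fintype.card_fun, hF, Fintype.card_fin]; norm_num
  have hnz : (Finset.univ.filter fun x : Fin 4 → F => x ≠ 0).card = 15 := by
    rw [Finset.filter_ne', Finset.card_erase_of_mem (Finset.mem_univ _), Finset.card_univ, hV]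
  -- fixed spaces of elements of prime order
  have hfix : ∀ (r : ℕ) (_ : Fact r.Prime) (g : ↥H), orderOf g = r →
      ∃ c : ℕ, c ∣ 16 ∧ c ≠ 16 ∧ 16 ≡ c [MOD r] ∧ Fintype.card {x : Fin 4 → F // g • x = x} = c := by
    intro r hr g hg
    refine ⟨_, ?_, ?_, ?_, rfl⟩
    · let S : AddSubgroup (Fin 4 → F) :=
        { carrier := {x | g • x = x}
          zero_mem' := hzero g
          add_mem' := fun {a b} ha hb => by
            show g • (a + b) = a + b
            rw [hsmul, Matrix.mulVec_add, ← hsmul, ← hsmul, ha, hb]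
          neg_mem' := fun {a} ha => by
            show g • (-a) = -a
            rw [hsmul, Matrix.mulVec_neg, ← hsmul, ha] }
      have := S.card_addSubgroup_dvd_card
      rw [Nat.card_eq_fintype_card (α := Fin 4 → F), hV] at this
      rw [← Nat.card_eq_fintype_card]
      exact this
    · intro h
      have hall : ∀ x : Fin 4 → F, g • x = x := by
        intro x
        by_contra hx
        have := Fintype.card_subtype_lt (p := fun x : Fin 4 → F => g • x = x) hx
        rw [h, hV] at this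
        exact lt_irrefl _ this
      have h1 : (g : GL (Fin 4) F) = 1 := Units.ext (Matrix.ext_iff_mulVec.2 fun x => by
        rw [← hsmul, hall, Units.val_one, Matrix.one_mulVec])
      have : g = 1 := Subtype.ext h1
      rw [this, orderOf_one] at hg
      exact hr.out.one_lt.ne hg
    · have hσ : (MulAction.toPermHom ↥H (Fin 4 → F) g) ^ r ^ 1 = 1 := by
        rw [pow_one, ← map_pow, ← hg, pow_orderOf_eq_one, map_one]
      have := Equiv.Perm.card_compl_support_modEq (p := r) hσ
      rw [hV] at this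
      refine this.symm.trans ?_
      rw [Fintype.card_subtype]
      rw [show (MulAction.toPermHom ↥H (Fin 4 → F) g).supportᶜ =
        Finset.univ.filter (fun x => g • x = x) by
          ext x; simp [Equiv.Perm.mem_support, MulAction.toPermHom_apply]]
  haveI : Fact (Nat.Prime 2) := ⟨Nat.prime_two⟩
  haveI : Fact (Nat.Prime 5) := ⟨by norm_num⟩
  haveI : Fact (Nat.Prime 7) := ⟨by norm_num⟩
  have hfive : ∀ (g : ↥H) (x : Fin 4 → F), orderOf g = 5 → g • x = x → x = 0 := by
    intro g x hg hx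
    obtain ⟨c, hc, hc16, hcm, hcard⟩ := hfix 5 inferInstance g hg
    have hc1 : c = 1 := by
      have : c ≤ 16 := Nat.le_of_dvd (by norm_num) hc
      interval_cases c <;> revert hc hc16 hcm <;> decide
    rw [hc1] at hcard
    haveI := Fintype.card_le_one_iff_subsingleton.1 hcard.le
    exact congrArg Subtype.val (Subsingleton.elim (⟨x, hx⟩ : {x : Fin 4 → F // g • x = x}) ⟨0, hzero g⟩)
  have hseven : ∀ (g : ↥H) (x y : Fin 4 → F), orderOf g = 7 → g • x = x → g • y = y →
      x ≠ 0 → y ≠ 0 → x = y := by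
    intro g x y hg hx hy hx0 hy0
    obtain ⟨c, hc, hc16, hcm, hcard⟩ := hfix 7 inferInstance g hg
    have hc1 : c = 2 := by
      have : c ≤ 16 := Nat.le_of_dvd (by norm_num) hc
      interval_cases c <;> revert hc hc16 hcm <;> decide
    rw [hc1] at hcard
    by_contra hxy
    have h3 := Fintype.two_lt_card_iff.2
      ⟨(⟨0, hzero g⟩ : {x : Fin 4 → F // g • x = x}), ⟨x, hx⟩, ⟨y, hy⟩,
        fun h => hx0 (congrArg Subtype.val h).symm, fun h => hy0 (congrArg Subtype.val h).symm,
        fun h => hxy (congrArg Subtype.val h)⟩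
    omega
  -- transitivity
  have htrans : ∀ x : Fin 4 → F, x ≠ 0 → Nat.card (MulAction.orbit ↥H x) = 15 := by
    intro x hx
    have hos := Nat.card_congr (MulAction.orbitProdStabilizerEquivGroup ↥H x)
    rw [Nat.card_prod, hH] at hos
    have hle : Nat.card (MulAction.orbit ↥H x) ≤ 15 := by
      rw [Nat.card_eq_fintype_card, ← Set.toFinset_card, ← hnz]
      refine Finset.card_le_card fun y hy => ?_
      obtain ⟨g, rfl⟩ := Set.mem_toFinset.1 hy
      exact Finset.mem_filter.2 ⟨Finset.mem_univ _, hne g x hx⟩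
    have h5 : 5 ∣ Nat.card (MulAction.orbit ↥H x) := by
      have h5' : 5 ∣ Nat.card (MulAction.orbit ↥H x) * Nat.card (MulAction.stabilizer ↥H x) := by
        rw [hos]; norm_num
      refine ((Nat.Prime.dvd_mul (by norm_num)).1 h5').resolve_right fun h => ?_
      obtain ⟨g, hg⟩ := exists_prime_orderOf_dvd_card' 5 h
      exact hx (hfive g x (by rw [Subgroup.orderOf_coe, hg]) g.2)
    obtain ⟨τ, hτ⟩ := exists_prime_orderOf_dvd_card' (G := ↥H) 7 (by rw [hH]; norm_num)
    have hσ : (MulAction.toPermHom ↥H (MulAction.orbit ↥H x) τ) ^ 7 ^ 1 = 1 := by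
      rw [pow_one, ← map_pow, ← hτ, pow_orderOf_eq_one, map_one]
    have hmod := Equiv.Perm.card_compl_support_modEq (p := 7) hσ
    have hle1 : ((MulAction.toPermHom ↥H (MulAction.orbit ↥H x) τ).supportᶜ).card ≤ 1 := by
      refine Finset.card_le_one.2 fun a ha b hb => ?_
      simp only [Finset.mem_compl, Equiv.Perm.mem_support, not_not, MulAction.toPermHom_apply,
        MulAction.toPerm_apply] at ha hb
      obtain ⟨ga, hga⟩ := a.2
      obtain ⟨gb, hgb⟩ := b.2
      exact Subtype.ext (hseven τ a b hτ (congrArg Subtype.val ha) (congrArg Subtype.val hb)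
        (hga ▸ hne ga x hx) (hgb ▸ hne gb x hx))
    rw [← Nat.card_eq_fintype_card] at hmod
    have hpos : 0 < Nat.card (MulAction.orbit ↥H x) :=
      Nat.pos_of_ne_zero fun h => by rw [h, zero_mul] at hos; norm_num at hos
    unfold Nat.ModEq at hmod
    generalize Nat.card (MulAction.orbit ↥H x) = o at *
    interval_cases o <;> omega
  -- two-transitivity
  obtain ⟨t, ht⟩ := exists_prime_orderOf_dvd_card' (G := ↥H) 2 (by rw [hH]; norm_num)
  obtain ⟨a, ha⟩ : ∃ a : Fin 4 → F, t • a ≠ a := by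
    by_contra hall
    push Not at hall
    obtain ⟨c, hc, hc16, hcm, hcard⟩ := hfix 2 inferInstance t ht
    exact hc16 (by rw [← hcard, ← hV]; exact Fintype.card_congr (Equiv.subtypeUnivEquiv hall))
  have ha0 : a ≠ 0 := fun h => ha (by rw [h, hzero])
  have hta0 : t • a ≠ 0 := hne t a ha0
  set P : (Fin 4 → F) × (Fin 4 → F) := (a, t • a) with hP
  set Ω := MulAction.orbit ↥H P with hΩ
  have hos := Nat.card_congr (MulAction.orbitProdStabilizerEquivGroup ↥H P)
  rw [Nat.card_prod, hH] at hos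
  have hSdvd : Nat.card (MulAction.stabilizer ↥H P) ∣ 24 := by
    have hsub : MulAction.stabilizer ↥H P ≤ MulAction.stabilizer ↥H a := fun g hg =>
      congrArg Prod.fst (MulAction.mem_stabilizer_iff.1 hg)
    have h168 : Nat.card (MulAction.stabilizer ↥H a) = 168 := by
      have h := Nat.card_congr (MulAction.orbitProdStabilizerEquivGroup ↥H a)
      rw [Nat.card_prod, htrans a ha0, hH] at h
      omega
    have hd := Subgroup.card_dvd_of_le hsub
    rw [h168] at hd
    have h7 : Nat.Coprime (Nat.card (MulAction.stabilizer ↥H P)) 7 := by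
      rw [Nat.coprime_comm, (show Nat.Prime 7 by norm_num).coprime_iff_not_dvd]
      intro h
      obtain ⟨g, hg⟩ := exists_prime_orderOf_dvd_card' 7 h
      have hgP := MulAction.mem_stabilizer_iff.1 g.2
      exact ha (hseven g a (t • a) (by rw [Subgroup.orderOf_coe, hg]) (congrArg Prod.fst hgP)
        (congrArg Prod.snd hgP) ha0 hta0).symm
    exact h7.dvd_of_dvd_mul_right (show _ ∣ 24 * 7 from hd)
  have h105 : 105 ∣ Nat.card Ω := by
    obtain ⟨j, hj⟩ := hSdvd
    refine ⟨j, ?_⟩
    have h0 : Nat.card (MulAction.stabilizer ↥H P) ≠ 0 := Nat.card_pos.ne'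
    refine Nat.eq_of_mul_eq_mul_right (Nat.pos_of_ne_zero h0) ?_
    rw [hos, mul_assoc, mul_comm j, ← hj]; norm_num
  have hswap : ∀ q ∈ Ω, Prod.swap q ∈ Ω ∧ q.1 ≠ q.2 := by
    rintro q ⟨g, rfl⟩
    refine ⟨⟨g * t, ?_⟩, fun h => ha (smul_left_cancel g h).symm⟩
    have htt : t * t = 1 := by rw [← pow_two, ← ht, pow_orderOf_eq_one]
    show ((g * t) • a, (g * t) • t • a) = (g • t • a, g • a)
    rw [mul_smul, mul_smul, ← mul_smul t t, htt, one_smul]
  let sw : Equiv.Perm Ω :=
    { toFun := fun q => ⟨q.1.swap, (hswap _ q.2).1⟩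
      invFun := fun q => ⟨q.1.swap, (hswap _ q.2).1⟩
      left_inv := fun q => Subtype.ext (Prod.swap_swap _)
      right_inv := fun q => Subtype.ext (Prod.swap_swap _) }
  have heven : 2 ∣ Fintype.card Ω := by
    by_contra h
    obtain ⟨q, hq⟩ := Equiv.Perm.exists_fixed_point_of_prime (p := 2) (n := 1) h (σ := sw)
      (by rw [pow_one, pow_two]; exact Equiv.ext fun q => Subtype.ext (Prod.swap_swap _))
    exact (hswap _ q.2).2 (congrArg (fun r : Ω => r.1.2) hq)
  set X := (Finset.univ.filter fun x : Fin 4 → F => x ≠ 0).offDiag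
  have hXc : X.card = 210 := by rw [Finset.offDiag_card, hnz]
  have hsubX : Ω.toFinset ⊆ X := by
    intro q hq
    rw [Set.mem_toFinset] at hq
    obtain ⟨g, hg⟩ := hq
    refine Finset.mem_offDiag.2 ⟨Finset.mem_filter.2 ⟨Finset.mem_univ _, ?_⟩,
      Finset.mem_filter.2 ⟨Finset.mem_univ _, ?_⟩, (hswap q ⟨g, hg⟩).2⟩
    · rw [← hg]; exact hne g a ha0
    · rw [← hg]; exact hne g _ hta0
  have heq : Ω.toFinset = X := by
    refine Finset.eq_of_subset_of_card_le hsubX ?_
    rw [Set.toFinset_card, hXc]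
    rw [Nat.card_eq_fintype_card] at h105
    have hpos : 0 < Fintype.card Ω := Fintype.card_pos_iff.2 ⟨⟨P, MulAction.mem_orbit_self _⟩⟩
    exact Nat.le_of_dvd hpos (Nat.Coprime.mul_dvd_of_dvd_of_dvd (by norm_num : Nat.Coprime 2 105) heven h105)
  have hmem : ∀ x y : Fin 4 → F, x ≠ 0 → y ≠ 0 → x ≠ y → (x, y) ∈ Ω := fun x y hx hy hxy => by
    rw [← Set.mem_toFinset, heq]
    exact Finset.mem_offDiag.2 ⟨by simp [hx], by simp [hy], hxy⟩
  obtain ⟨g₁, hg₁⟩ := hmem v w hv hw hvw
  obtain ⟨g₂, hg₂⟩ := hmem v' w' hv' hw' hvw'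
  refine ⟨((g₂ * g₁⁻¹ : ↥H) : GL (Fin 4) F), (g₂ * g₁⁻¹).2, ?_, ?_⟩
  · rw [← hsmul, mul_smul, inv_smul_eq_iff.2 (congrArg Prod.fst hg₁).symm]
    exact congrArg Prod.fst hg₂
  · rw [← hsmul, mul_smul, inv_smul_eq_iff.2 (congrArg Prod.snd hg₁).symm]
    exact congrArg Prod.snd hg₂

end CfsgLib.KnownC.AltSeven
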