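import Mathlib
import Cfsg.Agent.Lib.KnownC.AutPOmegaFieldEven
import Cfsg.Agent.Lib.KnownC.AutPOmegaOddField

set_option autoImplicit false
set_option linter.unusedSectionVars false
set_option linter.style.haveILetI false

/-!
The splitting of the `Inndiag`-class of a standard field automorphism, in even dimension.
-/

namespace CfsgLib.KnownC

open CfsgLib.Geom CfsgLib.Classical
open QuadraticMap (polar)
open Matrix

universe u v

section General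

variable {F : Type u} [Field F] [Finite F] {ι : Type} [Fintype ι] [DecidableEq ι]
variable {Q : QuadraticForm F (ι → F)} (K : OCtx Q)
include K

theorem simHom_eq_soHom {g : Cfsg.Geo.quadSimilarityGroup (F := F) (⇑Q)} {s : F} (hs : s ≠ 0)
    (h : Cfsg.specialIsometryGL F (⇑Q)) (hg : (g : GL ι F).1 = s • h.1.1) :
    simHom K g = soHom K h := by
  rw [simHom_apply]
  refine (osimPOmega_eq_iff K _ (OSim.ofSO h)).2 ⟨s, hs, fun v => ?_⟩
  rw [OSim.ofSO_T, ← smul_mulVec, ← hg]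
  rfl

theorem soHom_range_le_properAut (n : ℕ) (h2 : (2 : F) ≠ 0) : (soHom K).range ≤ properAut K n := by
  rintro _ ⟨h, rfl⟩
  refine osimPOmega_mem_properAut_of K (Φ := OSim.ofSO h) (g := h.1) ⟨1, one_ne_zero,
    fun v => by rw [one_mul]; exact (mem_isometryGroup_iff _ _).1 h.2.1 v, fun _ => ?_,
    fun h0 => absurd h0 h2⟩ fun v => rfl
  rw [one_pow]
  exact congrArg Units.val (h.2.2 : Matrix.GeneralLinearGroup.det h.1 = 1)

/-- A proper similitude with square multiplier is a multiple of a special isometry. -/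
theorem exists_so_of_square {n : ℕ} (hdim : Fintype.card ι = 2 * n) (h2 : (2 : F) ≠ 0) {g : GL ι F}
    {μ s : F} (hμ : μ ≠ 0) (hg : ∀ v, Q (g.1 *ᵥ v) = μ * Q v) (hp : IsProperSim Q n g) (hs : μ = s * s) :
    ∃ h : Cfsg.specialIsometryGL F (⇑Q), g.1 = s • h.1.1 := by
  obtain ⟨h, hh⟩ := exists_scaled_isometry hμ hg hs
  obtain ⟨v, -, -, hv⟩ := exists_perp_anisotropic Q K.sep (five_le K) 0 0
  have hs0 : s ≠ 0 := fun h0 => hμ (by rw [hs, h0, mul_zero])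
  obtain ⟨ν, -, hν, hd, -⟩ := hp
  have hdet : h.1.1.det = 1 := by
    have h1 := hd h2
    rw [multiplier_unique hv hν hg, hh, det_smul, hdim, pow_mul, pow_two, hs] at h1
    exact (mul_eq_left₀ (pow_ne_zero _ (mul_ne_zero hs0 hs0))).1 h1
  exact ⟨⟨h.1, h.2, Units.ext hdet⟩, hh⟩

theorem inn_le_range_soHom (h2 : (2 : F) ≠ 0) :
    Cfsg.Inn (Cfsg.POmega F (⇑Q)) ≤ (soHom K).range := by
  rw [inn_eq_map_soSpinor K h2]
  exact Subgroup.map_le_range _ _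

theorem soHom_mem_inn (h2 : (2 : F) ≠ 0) {h : Cfsg.specialIsometryGL F (⇑Q)}
    (hh : soSpinor K.sep h2 h = 1) : soHom K h ∈ Cfsg.Inn (Cfsg.POmega F (⇑Q)) := by
  rw [inn_eq_map_soSpinor K h2]
  exact ⟨h, hh, rfl⟩

/-- `Inndiag` over the image of the special orthogonal group has index two. -/
theorem relIndex_soHom_range {n : ℕ} (hdim : Fintype.card ι = 2 * n) (h2 : (2 : F) ≠ 0)
    (hG : ∃ (g : GL ι F) (ν : F), ¬ IsSquare ν ∧ IsProperSim Q n g ∧ ∀ v, Q (g.1 *ᵥ v) = ν * Q v) :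
    (soHom K).range.relIndex (properAut K n) = 2 := by
  obtain ⟨g, ν, hν, hgp, hgq⟩ := hG
  obtain ⟨v, -, -, hv⟩ := exists_perp_anisotropic Q K.sep (five_le K) 0 0
  have hν0 : ν ≠ 0 := fun h => hν (h ▸ IsSquare.zero)
  have key : ∀ (k : Cfsg.Geo.quadSimilarityGroup (F := F) (⇑Q)) (μ : F), μ ≠ 0 → IsProperSim Q n k.1 →
      (∀ w, Q ((k : GL ι F).1 *ᵥ w) = μ * Q w) → (simHom K k ∈ (soHom K).range ↔ IsSquare μ) := by
    intro k μ hμ hk hq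
    constructor
    · rintro ⟨h, he⟩
      rw [simHom_apply] at he
      obtain ⟨a, -, hav⟩ := (osimPOmega_eq_iff K _ (OSim.ofSO h)).1 he.symm
      refine ⟨a, mul_right_cancel₀ hv ?_⟩
      have h1 : (k : GL ι F).1 *ᵥ v = a • (OSim.ofSO h).T v := hav v
      rw [← hq, h1, quad_smul, OSim.ofSO_T, (mem_isometryGroup_iff _ _).1 h.2.1]
    · rintro ⟨s, hs⟩
      obtain ⟨h, hh⟩ := exists_so_of_square K hdim h2 hμ hq hk hs
      exact ⟨h, (simHom_eq_soHom K (fun h0 => hμ (by rw [hs, h0, mul_zero])) h hh).symm⟩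
  obtain ⟨a, ha⟩ : ∃ a : Cfsg.Geo.quadSimilarityGroup (F := F) (⇑Q), a.1 = g :=
    ⟨⟨g, properSub_le Q n hgp⟩, rfl⟩
  subst ha
  refine Subgroup.index_eq_two_iff.2 ⟨⟨simHom K a, ⟨a, hgp, rfl⟩⟩, ?_⟩
  rintro ⟨_, k, hk, rfl⟩
  obtain ⟨μ, hμ, hkq, hkd, hkt⟩ := hk
  rw [xor_def, Subgroup.mem_subgroupOf, Subgroup.mem_subgroupOf, Subgroup.coe_mul, ← map_mul]
  show (simHom K (k * a) ∈ (soHom K).range ∧ ¬ simHom K k ∈ (soHom K).range) ∨
    (simHom K k ∈ (soHom K).range ∧ ¬ simHom K (k * a) ∈ (soHom K).range)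
  have hkp : IsProperSim Q n k.1 := ⟨μ, hμ, hkq, hkd, hkt⟩
  rw [key k μ hμ hkp hkq, key (k * a) (μ * ν) (mul_ne_zero hμ hν0) ((properSub Q n).mul_mem hkp hgp)
    fun w => by
      rw [Subgroup.coe_mul, Units.val_mul, ← mulVec_mulVec,
        show ∀ w, Q ((k : GL ι F).1 *ᵥ w) = μ * Q w from hkq, hgq, mul_assoc]]
  by_cases hμs : IsSquare μ
  · refine Or.inr ⟨hμs, fun h => hν ?_⟩
    obtain ⟨t, ht⟩ := h
    obtain ⟨s, hs⟩ := hμs
    have hs0 : s ≠ 0 := fun h0 => hμ (by rw [hs, h0, mul_zero])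
    exact ⟨t / s, by rw [hs] at ht; field_simp; linear_combination ht⟩
  · refine Or.inl ⟨?_, hμs⟩
    haveI := Fintype.ofFinite F
    rw [← sqClass_eq_one_iff (mul_ne_zero hμ hν0), sqClass_mul hμ hν0,
      sqClass_two (sqClass hμ) (sqClass hν0) (by rwa [Ne, sqClass_eq_one_iff])
        (by rwa [Ne, sqClass_eq_one_iff]), sqClass_mul_self]

/-- The inner automorphisms have index two in the image of the special orthogonal group when `-1 ∈ Ω`. -/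
theorem relIndex_inn_soHom_range (h2 : (2 : F) ≠ 0)
    (hneg : ∀ h : Cfsg.specialIsometryGL F (⇑Q), h.1.1 = -1 → soSpinor K.sep h2 h = 1) :
    (Cfsg.Inn (Cfsg.POmega F (⇑Q))).relIndex (soHom K).range = 2 := by
  haveI := Fintype.ofFinite F
  have hker : (soHom K).ker ≤ (soSpinor K.sep h2).ker := by
    intro h hh
    obtain ⟨a, -, ha⟩ := (osimPOmega_eq_one_iff K (OSim.ofSO h)).1 hh
    have hM : h.1.1 = a • 1 := matrix_eq_smul_one fun v => by rw [← OSim.ofSO_T, ha]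
    obtain ⟨v, -, -, hv⟩ := exists_perp_anisotropic Q K.sep (five_le K) 0 0
    have h1 := (mem_isometryGroup_iff _ _).1 h.2.1 v
    rw [hM, smul_mulVec, one_mulVec, quad_smul] at h1
    rcases mul_self_eq_one_iff.1 (mul_right_cancel₀ hv (h1.trans (one_mul _).symm)) with rfl | rfl
    · rw [MonoidHom.mem_ker, show h = 1 from Subtype.ext (Units.ext (hM.trans (one_smul _ _))), map_one]
    · exact hneg h (hM.trans (neg_one_smul _ _))
  rw [inn_eq_map_soSpinor K h2, MonoidHom.range_eq_map, Subgroup.relIndex_map_map, sup_eq_left.2 hker,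
    top_sup_eq, Subgroup.relIndex_top_right, Subgroup.index_ker,
    MonoidHom.range_eq_top.2 (soSpinor_surjective K h2), Subgroup.card_top, card_sqClass_odd h2]

end General

section Descent

variable {F : Type u} [Field F] [Fintype F] {F₀ : Type v} [Field F₀] [Fintype F₀] (ι₀ : F₀ →+* F)
variable {ι : Type} [Fintype ι] [DecidableEq ι]
variable {Q : QuadraticForm F (ι → F)} {Q₀ : QuadraticForm F₀ (ι → F₀)}
variable (hQ₀ : ∀ v, ι₀ (Q₀ v) = Q fun i => ι₀ (v i)) (K : OCtx Q) (K₀ : OCtx Q₀)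
include hQ₀ K K₀

theorem soHom_soMap_mem {n : ℕ} (h2 : (2 : F) ≠ 0) (h₀ : Cfsg.specialIsometryGL F₀ (⇑Q₀)) :
    soHom K (soMap ι₀ hQ₀ h₀) ∈ (baseHom ι₀ hQ₀ K n).range := by
  have h20 : (2 : F₀) ≠ 0 := fun h => h2 (by rw [← map_ofNat ι₀ 2, h, map_zero])
  have hp : IsProperSim Q₀ n h₀.1 := ⟨1, one_ne_zero,
    fun v => by rw [one_mul]; exact (mem_isometryGroup_iff _ _).1 h₀.2.1 v, fun _ => by
      rw [one_pow]; exact congrArg Units.val (h₀.2.2 : Matrix.GeneralLinearGroup.det h₀.1 = 1),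
    fun h0 => absurd h0 h20⟩
  exact ⟨⟨h₀.1, hp⟩, simHom_eq_soHom K one_ne_zero (soMap ι₀ hQ₀ h₀) (by rw [one_smul]; rfl)⟩

/-- For extensions of odd degree the class does not split. -/
theorem splitClassCount_std_odd {n : ℕ} (hdim : Fintype.card ι = 2 * n) {r : ℕ} (hr : Odd r)
    (hcard : Fintype.card F = Fintype.card F₀ ^ r) (σ : F ≃+* F) (hι : ∀ x, σ x = x ↔ ∃ a, ι₀ a = x)
    (hσ : ∀ v : ι → F, Q (fun i => σ (v i)) = σ (Q v))
    (hsim : ∀ μ : F₀, μ ≠ 0 → ∃ g : GL ι F₀, ∀ v, Q₀ (g.1 *ᵥ v) = μ * Q₀ v) :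
    Cfsg.splitClassCount (properAut K n) (Cfsg.Inn (Cfsg.POmega F (⇑Q)))
      (osimPOmega K (OSim.std σ hσ)) = 1 := by
  haveI : (Cfsg.Inn (Cfsg.POmega F (⇑Q))).Normal := Cfsg.innNormal _
  rw [splitClassCount_eq _ _ (inn_le_properAut K n),
    properAut_inf_centralizer_std ι₀ hQ₀ K K₀ hdim σ hι hσ]
  suffices h : properAut K n ≤ Cfsg.Inn (Cfsg.POmega F (⇑Q)) ⊔ (baseHom ι₀ hQ₀ K n).range from
    Subgroup.relIndex_eq_one.2 h
  by_cases h2 : (2 : F) = 0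
  · rw [properAut_eq_inn K h2]; exact le_sup_left
  have h20 : (2 : F₀) ≠ 0 := fun h => h2 (by rw [← map_ofNat ι₀ 2, h, map_zero])
  have hsq : ∀ (k : Cfsg.Geo.quadSimilarityGroup (F := F) (⇑Q)) (μ : F), μ ≠ 0 → IsProperSim Q n k.1 →
      (∀ w, Q ((k : GL ι F).1 *ᵥ w) = μ * Q w) → IsSquare μ →
      simHom K k ∈ Cfsg.Inn (Cfsg.POmega F (⇑Q)) ⊔ (baseHom ι₀ hQ₀ K n).range := by
    rintro k μ hμ hk hq ⟨s, hs⟩
    obtain ⟨h, hh⟩ := exists_so_of_square K hdim h2 hμ hq hk hs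
    rw [simHom_eq_soHom K (fun h0 => hμ (by rw [hs, h0, mul_zero])) h hh]
    obtain ⟨c, hc⟩ : soSpinor K.sep h2 h ∈ (sqMap ι₀).range := by
      rw [Subgroup.index_eq_one.1 (index_range_sqMap_odd ι₀ hr hcard h2 h20)]; trivial
    obtain ⟨h₀, hh₀⟩ := soSpinor_surjective K₀ h20 c
    rw [← inv_mul_cancel_right h (soMap ι₀ hQ₀ h₀), map_mul]
    refine Subgroup.mul_mem_sup (soHom_mem_inn K h2 ?_) (soHom_soMap_mem ι₀ hQ₀ K K₀ h2 h₀)
    rw [map_mul, map_inv, soSpinor_soMap ι₀ hQ₀ K.sep K₀.sep h2 h20, hh₀, hc, mul_inv_cancel]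
  rintro _ ⟨k, ⟨μ, hμ, hq, hd, ht⟩, rfl⟩
  by_cases hμs : IsSquare μ
  · exact hsq k μ hμ ⟨μ, hμ, hq, hd, ht⟩ hq hμs
  obtain ⟨μ₀, hμ₀, hμ₀s⟩ := exists_not_square h20
  obtain ⟨g₁, hg₁⟩ := hsim μ₀ hμ₀
  obtain ⟨v, -, -, hv⟩ := exists_perp_anisotropic Q₀ K₀.sep (five_le K₀) 0 0
  obtain ⟨g₀, hg₀p, hg₀⟩ : ∃ g₀ : GL ι F₀, IsProperSim Q₀ n g₀ ∧ ∀ w, Q₀ (g₀.1 *ᵥ w) = μ₀ * Q₀ w := by
    rcases proper_or_mul_refl K₀ hdim hμ₀ hg₁ v hv with h | h
    · exact ⟨g₁, h, hg₁⟩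
    · exact ⟨_, h, fun w => by
        rw [Units.val_mul, ← mulVec_mulVec, hg₁, (mem_isometryGroup_iff _ _).1 (reflIsom Q₀ v hv).2 w]⟩
  obtain ⟨G, hG⟩ : ∃ G : Cfsg.Geo.quadSimilarityGroup (F := F) (⇑Q),
      G.1 = Matrix.GeneralLinearGroup.map ι₀ g₀ :=
    ⟨⟨_, Units.mk0 (ι₀ μ₀) ((map_ne_zero ι₀).2 hμ₀), map_sim ι₀ hQ₀ hg₀⟩, rfl⟩
  have hGmem : simHom K G ∈ (baseHom ι₀ hQ₀ K n).range :=
    ⟨⟨g₀, hg₀p⟩, congrArg (simHom K) (Subtype.ext hG.symm)⟩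
  have h1 := hsq (k * G) (μ * ι₀ μ₀) (mul_ne_zero hμ ((map_ne_zero ι₀).2 hμ₀))
    ((properSub Q n).mul_mem (⟨μ, hμ, hq, hd, ht⟩ : IsProperSim Q n k.1)
      (hG ▸ (isProperSim_map_iff ι₀ hQ₀ K K₀ hμ₀ hg₀).2 hg₀p : IsProperSim Q n G.1))
    (fun w => by
      rw [Subgroup.coe_mul, Units.val_mul, ← mulVec_mulVec,
        show ∀ w, Q ((k : GL ι F).1 *ᵥ w) = μ * Q w from hq, hG, map_sim ι₀ hQ₀ hg₀, mul_assoc])
    (by
      have hns := not_isSquare_map_of_odd ι₀ hr hcard h2 hμ₀s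
      have hι0 := (map_ne_zero ι₀).2 hμ₀
      rw [← sqClass_eq_one_iff (mul_ne_zero hμ hι0), sqClass_mul hμ hι0,
        sqClass_two (sqClass hμ) (sqClass hι0) (by rwa [Ne, sqClass_eq_one_iff])
          (by rwa [Ne, sqClass_eq_one_iff]), sqClass_mul_self])
  rw [← mul_inv_cancel_right k G, map_mul, map_inv]
  exact mul_mem h1 (inv_mem (Subgroup.mem_sup_right hGmem))

/-- For quadratic extensions in odd characteristic: four or two classes, by a spinor norm. -/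
theorem splitClassCount_std_two {n : ℕ} (hdim : Fintype.card ι = 2 * n) (h2 : (2 : F) ≠ 0)
    (hcard : Fintype.card F = Fintype.card F₀ ^ 2) (σ : F ≃+* F) (hι : ∀ x, σ x = x ↔ ∃ a, ι₀ a = x)
    (hσ : ∀ v : ι → F, Q (fun i => σ (v i)) = σ (Q v))
    (hG : ∃ (g : GL ι F) (ν : F), ¬ IsSquare ν ∧ IsProperSim Q n g ∧ ∀ v, Q (g.1 *ᵥ v) = ν * Q v)
    (hneg : ∀ h : Cfsg.specialIsometryGL F (⇑Q), h.1.1 = -1 → soSpinor K.sep h2 h = 1)
    {g₁ : GL ι F₀} {μ₁ : F₀} (hμ₁ : ¬ IsSquare μ₁) (hg₁p : IsProperSim Q₀ n g₁)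
    (hg₁ : ∀ v, Q₀ (g₁.1 *ᵥ v) = μ₁ * Q₀ v) {s : F} (hs : ι₀ μ₁ = s * s)
    {h₁ : Cfsg.specialIsometryGL F (⇑Q)} (hh₁ : g₁.1.map ι₀ = s • h₁.1.1) :
    (soSpinor K.sep h2 h₁ = 1 → Cfsg.splitClassCount (properAut K n) (Cfsg.Inn (Cfsg.POmega F (⇑Q)))
        (osimPOmega K (OSim.std σ hσ)) = 4) ∧
      (soSpinor K.sep h2 h₁ ≠ 1 → Cfsg.splitClassCount (properAut K n) (Cfsg.Inn (Cfsg.POmega F (⇑Q)))
        (osimPOmega K (OSim.std σ hσ)) = 2) := by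
  haveI : (Cfsg.Inn (Cfsg.POmega F (⇑Q))).Normal := Cfsg.innNormal _
  have h20 : (2 : F₀) ≠ 0 := fun h => h2 (by rw [← map_ofNat ι₀ 2, h, map_zero])
  have hμ₁0 : μ₁ ≠ 0 := fun h => hμ₁ (h ▸ IsSquare.zero)
  have hs0 : s ≠ 0 := fun h => (map_ne_zero ι₀).2 hμ₁0 (by rw [hs, h, mul_zero])
  rw [splitClassCount_eq _ _ (inn_le_properAut K n),
    properAut_inf_centralizer_std ι₀ hQ₀ K K₀ hdim σ hι hσ]
  have hbase : baseHom ι₀ hQ₀ K n ⟨g₁, hg₁p⟩ = soHom K h₁ := simHom_eq_soHom K hs0 h₁ hh₁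
  have hsub : ∀ g₀ : properSub Q₀ n, baseHom ι₀ hQ₀ K n g₀ ∈ Cfsg.Inn (Cfsg.POmega F (⇑Q)) ∨
      baseHom ι₀ hQ₀ K n g₀ * soHom K h₁ ∈ Cfsg.Inn (Cfsg.POmega F (⇑Q)) := by
    have hsquare : ∀ (g₀ : properSub Q₀ n) (μ : F₀), μ ≠ 0 → (∀ v, Q₀ (g₀.1.1 *ᵥ v) = μ * Q₀ v) →
        IsSquare μ → baseHom ι₀ hQ₀ K n g₀ ∈ Cfsg.Inn (Cfsg.POmega F (⇑Q)) := by
      rintro g₀ μ hμ hq ⟨t, ht⟩
      obtain ⟨h₀, hh₀⟩ := exists_so_of_square K₀ hdim h20 hμ hq g₀.2 ht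
      have ht0 : t ≠ 0 := fun h0 => hμ (by rw [ht, h0, mul_zero])
      rw [show baseHom ι₀ hQ₀ K n g₀ = soHom K (soMap ι₀ hQ₀ h₀) from
        simHom_eq_soHom K ((map_ne_zero ι₀).2 ht0) (soMap ι₀ hQ₀ h₀) (by
          show g₀.1.1.map ι₀ = _
          rw [hh₀, soMap_coe]; ext i j; simp)]
      refine soHom_mem_inn K h2 ?_
      rw [soSpinor_soMap ι₀ hQ₀ K.sep K₀.sep h2 h20]
      generalize soSpinor K₀.sep h20 h₀ = c
      obtain ⟨w, rfl⟩ := sqProj_surjective F₀ c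
      rw [show sqProj F₀ w = sqClass w.ne_zero by simp [sqClass], sqMap_sqClass, sqClass_eq_one_iff]
      exact isSquare_map_of_even ι₀ even_two hcard h2 _
    intro g₀
    obtain ⟨μ, hμ, hq, -⟩ := g₀.2
    by_cases hμs : IsSquare μ
    · exact Or.inl (hsquare g₀ μ hμ hq hμs)
    · refine Or.inr ?_
      rw [← hbase, ← map_mul]
      refine hsquare _ (μ * μ₁) (mul_ne_zero hμ hμ₁0) (fun v => ?_) ?_
      · rw [Subgroup.coe_mul, Units.val_mul, ← mulVec_mulVec, hq, hg₁, mul_assoc]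
      · rw [← sqClass_eq_one_iff (mul_ne_zero hμ hμ₁0), sqClass_mul hμ hμ₁0,
          sqClass_two (sqClass hμ) (sqClass hμ₁0) (by rwa [Ne, sqClass_eq_one_iff])
            (by rwa [Ne, sqClass_eq_one_iff]), sqClass_mul_self]
  constructor
  · intro h
    have hle : (baseHom ι₀ hQ₀ K n).range ≤ Cfsg.Inn (Cfsg.POmega F (⇑Q)) := by
      rintro _ ⟨g₀, rfl⟩
      rcases hsub g₀ with h' | h'
      · exact h'
      · exact (Subgroup.mul_mem_cancel_right _ (soHom_mem_inn K h2 h)).1 h'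
    rw [sup_eq_left.2 hle, ← Subgroup.relIndex_mul_relIndex _ _ _ (inn_le_range_soHom K h2)
      (soHom_range_le_properAut K n h2), relIndex_inn_soHom_range K h2 hneg,
      relIndex_soHom_range K hdim h2 hG]
  · intro h
    have h1 : soHom K h₁ ∈ Cfsg.Inn (Cfsg.POmega F (⇑Q)) ⊔ (baseHom ι₀ hQ₀ K n).range :=
      Subgroup.mem_sup_right ⟨_, hbase⟩
    have heq : Cfsg.Inn (Cfsg.POmega F (⇑Q)) ⊔ (baseHom ι₀ hQ₀ K n).range = (soHom K).range := by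
      refine le_antisymm (sup_le (inn_le_range_soHom K h2) ?_) ?_
      · rintro _ ⟨g₀, rfl⟩
        rcases hsub g₀ with h' | h'
        · exact inn_le_range_soHom K h2 h'
        · exact (Subgroup.mul_mem_cancel_right (soHom K).range (⟨h₁, rfl⟩ : soHom K h₁ ∈ (soHom K).range)).1 (inn_le_range_soHom K h2 h')
      · rintro _ ⟨k, rfl⟩
        by_cases hk : soSpinor K.sep h2 k = 1
        · exact Subgroup.mem_sup_left (soHom_mem_inn K h2 hk)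
        · rw [← mul_inv_cancel_right k h₁, map_mul, map_inv]
          refine mul_mem (Subgroup.mem_sup_left (soHom_mem_inn K h2 ?_)) (inv_mem h1)
          rw [map_mul, sqClass_two _ _ hk h, sqClass_mul_self]
    rw [heq, relIndex_soHom_range K hdim h2 hG]

end Descent

end CfsgLib.KnownC
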