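import Mathlib
import Cfsg.Agent.Lib.KnownC.AutPOmegaFieldPlus
import Cfsg.Agent.Lib.KnownC.AutPOmegaMinusAlg

set_option autoImplicit false
set_option linter.unusedSectionVars false
set_option linter.style.haveILetI false

/-!
Field automorphisms of prime order of `PΩ⁻(q)`: conjugacy in their cosets of `Inndiag`.
-/

namespace CfsgLib.KnownC

open CfsgLib.Geom CfsgLib.Classical
open QuadraticMap (polar)
open Matrix

universe u v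

variable {F : Type u} [Field F] [Fintype F] {m : ℕ}

/-- The generators of `Inndiag` of a minus form. -/
abbrev minusInndiag (a b : F) (Q' : ((Fin m ⊕ Fin m) ⊕ Fin 2 → F) → F) :
    Subgroup (MulAut (Cfsg.POmega F Q')) :=
  Subgroup.closure {β : MulAut (Cfsg.POmega F Q') | ∃ g : GL ((Fin m ⊕ Fin m) ⊕ Fin 2) F,
    g ∈ Cfsg.Geo.quadSimilarityGroup (F := F) Q' ∧ Cfsg.PreservesSingularClassesMinus m a b g.1 ∧
      Cfsg.IsInducedBySemilinearPOmega Q' g (RingEquiv.refl F) β}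

theorem minusInndiag_eq (hm : 3 ≤ m) {a b : F}
    (hab : ∀ z₁ z₂ : F, z₁ ^ 2 + a * z₁ * z₂ + b * z₂ ^ 2 = 0 → z₁ = 0 ∧ z₂ = 0)
    (K : OCtx (qfMinus m F a b)) :
    minusInndiag a b (⇑(qfMinus m F a b)) = properAut K (m + 1) :=
  closure_proper_eq K (m + 1) (fun g => Cfsg.PreservesSingularClassesMinus m a b g.1) fun g => by
    obtain ⟨c, hc⟩ := g.2
    exact preservesMinus_iff hm hab c.ne_zero hc

theorem qfMinus_equivariant {a b : F} (σ : F ≃+* F) (ha : σ a = a) (hb : σ b = b)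
    (v : (Fin m ⊕ Fin m) ⊕ Fin 2 → F) :
    qfMinus m F a b (fun i => σ (v i)) = σ (qfMinus m F a b v) := by
  have h : σ (qfMinus m F a b v) = qfMinus m F (σ a) (σ b) fun i => σ (v i) :=
    qfMinus_baseChange (σ : F →+* F) m a b v
  rw [h, ha, hb]

theorem card_minus_index : Fintype.card ((Fin m ⊕ Fin m) ⊕ Fin 2) = 2 * (m + 1) := by simp; omega

/-- Elements of prime order with the field part of a standard field automorphism of a minus form. -/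
theorem minus_class {F₀ : Type v} [Field F₀] [Fintype F₀] (ι₀ : F₀ →+* F) (hm : 3 ≤ m) {a₀ b₀ : F₀}
    (hab : ∀ z₁ z₂ : F, z₁ ^ 2 + ι₀ a₀ * z₁ * z₂ + ι₀ b₀ * z₂ ^ 2 = 0 → z₁ = 0 ∧ z₂ = 0)
    (K : OCtx (qfMinus m F (ι₀ a₀) (ι₀ b₀))) {σ : F ≃+* F}
    (hσQ : ∀ w, qfMinus m F (ι₀ a₀) (ι₀ b₀) (fun i => σ (w i)) = σ (qfMinus m F (ι₀ a₀) (ι₀ b₀) w))
    (hι : ∀ x, σ x = x ↔ ∃ a, ι₀ a = x)
    (Φ : OSim (qfMinus m F (ι₀ a₀) (ι₀ b₀))) (hΦσ : Φ.σ = σ) (hΦ : osimPOmega K Φ ^ orderOf σ = 1) :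
    Cfsg.IsConjUnder (properAut K (m + 1)) (osimPOmega K (OSim.std σ hσQ)) (osimPOmega K Φ) := by
  subst hΦσ
  have hab₀ : ∀ z₁ z₂ : F₀, z₁ ^ 2 + a₀ * z₁ * z₂ + b₀ * z₂ ^ 2 = 0 → z₁ = 0 ∧ z₂ = 0 := by
    intro z₁ z₂ h
    obtain ⟨h1, h2⟩ := hab (ι₀ z₁) (ι₀ z₂) (by
      simp only [← map_mul, ← map_pow, ← map_add, h, map_zero])
    exact ⟨ι₀.injective (h1.trans (map_zero ι₀).symm), ι₀.injective (h2.trans (map_zero ι₀).symm)⟩
  obtain ⟨R₀, hR, hsep⟩ := exists_isFrame ι₀ K Φ hι hΦ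
  rcases even_form_std (m + 1) _ R₀ hsep (by rw [Module.finrank_fintype_fun_eq_card, card_minus_index]) with
    ⟨e, he⟩ | ⟨k, a, b, c, hk, hc, hab', e, he⟩
  · obtain ⟨L, d, hd, hL⟩ := exists_similarity_of_frame ι₀ hR (qfPlus_baseChange ι₀ (m + 1)) e one_ne_zero
      (fun w => by rw [he, one_mul])
    exact (not_similar_plus_minus hab L hL).elim
  obtain rfl : k = m := by omega
  obtain ⟨w, hw⟩ := exists_minus_isometry k hab' hab₀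
  obtain ⟨v, hv, hfix⟩ : ∃ v, qfMinus k F (ι₀ a₀) (ι₀ b₀) v ≠ 0 ∧ ∀ i, Φ.σ (v i) = v i :=
    ⟨minusVec k ![1, 0], by rw [qfMinus_minusVec]; simp [binForm_apply],
      fun i => by rcases i with i | i <;> [skip; fin_cases i] <;> simp [minusVec]⟩
  exact exists_conj_proper K ι₀ card_minus_index (Φ' := OSim.std Φ.σ hσQ) rfl (fun a => (hι _).2 ⟨a, rfl⟩)
    hR (isFrame_std ι₀ Φ.σ hσQ (qfMinus_baseChange ι₀ k a₀ b₀)) (w.trans e) hc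
    (fun z => by rw [LinearEquiv.trans_apply, he, hw]) v hv (commute_refl_std K Φ.σ hσQ v hv hfix)

/-- A field automorphism of prime order, brought to standard position. -/
theorem minus_std_of_class (hm : 3 ≤ m) {a b : F}
    (hab : ∀ z₁ z₂ : F, z₁ ^ 2 + a * z₁ * z₂ + b * z₂ ^ 2 = 0 → z₁ = 0 ∧ z₂ = 0)
    (K : OCtx (qfMinus m F a b)) (Q' : ((Fin m ⊕ Fin m) ⊕ Fin 2 → F) → F)
    {a' b' : F} (hab' : ∀ z₁ z₂ : F, z₁ ^ 2 + a' * z₁ * z₂ + b' * z₂ ^ 2 = 0 → z₁ = 0 ∧ z₂ = 0)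
    (hQ' : Q' = ⇑(qfMinus m F a' b'))
    (ψ : Cfsg.POmega F (⇑(qfMinus m F a b)) ≃* Cfsg.POmega F Q')
    {σ : F ≃+* F} (hσ : σ ≠ RingEquiv.refl F) (ha : σ a' = a') (hb : σ b' = b')
    {x : MulAut (Cfsg.POmega F (⇑(qfMinus m F a b)))}
    (hx : Cfsg.IsFieldAutPOmegaOf Q' σ ((ψ.symm.trans x).trans ψ)) {r : ℕ} (hr : r.Prime)
    (hxr : orderOf x = r) :
    ∃ (K' : OCtx (qfMinus m F a' b'))
      (Ψ : Cfsg.POmega F (⇑(qfMinus m F a b)) ≃* Cfsg.POmega F (⇑(qfMinus m F a' b'))),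
      orderOf σ = r ∧ Odd r ∧ (properAut K (m + 1)).map (autCongr Ψ).toMonoidHom = properAut K' (m + 1) ∧
      autCongr Ψ x = osimPOmega K' (OSim.std σ (qfMinus_equivariant σ ha hb)) := by
  subst hQ'
  have K' := octx_minus (F := F) hm hab'
  have hz : autCongr ψ x = osimPOmega K' (OSim.std σ (qfMinus_equivariant σ ha hb)) :=
    eq_osimPOmega_std K' (qfMinus_equivariant σ ha hb) hx
  have hσr : orderOf σ = r := by
    rw [← hxr, ← orderOf_osimPOmega_std K' σ (qfMinus_equivariant σ ha hb), ← hz, MulEquiv.orderOf_eq]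
  obtain ⟨e, he⟩ := exists_minus_isometry m hab' hab
  refine ⟨K', ψ, hσr, ?_, autCongr_properAut K K' (noFour_minus hm hab') e one_ne_zero
    (fun v => by rw [he, one_mul]) ψ (m + 1), hz⟩
  rcases hr.eq_two_or_odd' with rfl | hodd
  · exfalso
    obtain ⟨F₀, _, _, ι₀, hι, hcard⟩ := exists_fixed_field σ
    obtain ⟨a₀, rfl⟩ := (hι _).1 ha
    obtain ⟨b₀, rfl⟩ := (hι _).1 hb
    rw [hσr] at hcard
    have hab₀ : ∀ z₁ z₂ : F₀, z₁ ^ 2 + a₀ * z₁ * z₂ + b₀ * z₂ ^ 2 = 0 → z₁ = 0 ∧ z₂ = 0 := by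
      intro z₁ z₂ h
      obtain ⟨h1, h2⟩ := hab' (ι₀ z₁) (ι₀ z₂) (by simp only [← map_mul, ← map_pow, ← map_add, h, map_zero])
      exact ⟨ι₀.injective (h1.trans (map_zero ι₀).symm), ι₀.injective (h2.trans (map_zero ι₀).symm)⟩
    obtain ⟨z₁, z₂, hz0, hz2⟩ := (anisotropic_map_iff ι₀ hcard hab₀).2 even_two
    exact hz2 (hab' z₁ z₂ hz0).2
  · exact hodd

theorem minus_coset_conj (hm : 3 ≤ m) {a b : F}
    (hab : ∀ z₁ z₂ : F, z₁ ^ 2 + a * z₁ * z₂ + b * z₂ ^ 2 = 0 → z₁ = 0 ∧ z₂ = 0)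
    (Q : ((Fin m ⊕ Fin m) ⊕ Fin 2 → F) → F) (hQ : Q = ⇑(qfMinus m F a b))
    (x δ : MulAut (Cfsg.POmega F Q))
    (hx : ∃ (a' b' : F) (ψ : Cfsg.POmega F Q ≃* Cfsg.POmega F (Cfsg.quadFormMinus m F a' b')) (σ : F ≃+* F),
      (∀ z₁ z₂ : F, z₁ ^ 2 + a' * z₁ * z₂ + b' * z₂ ^ 2 = 0 → z₁ = 0 ∧ z₂ = 0) ∧
      σ ≠ RingEquiv.refl F ∧ σ a' = a' ∧ σ b' = b' ∧
      Cfsg.IsFieldAutPOmegaOf (Cfsg.quadFormMinus m F a' b') σ ((ψ.symm.trans x).trans ψ))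
    {r : ℕ} (hr : r.Prime) (hxr : orderOf x = r) (hδ : δ ∈ minusInndiag a b Q) :
    orderOf (δ * x) = r ↔ Cfsg.IsConjUnder (minusInndiag a b Q) x (δ * x) := by
  subst hQ
  have K := octx_minus (F := F) hm hab
  rw [minusInndiag_eq hm hab K] at hδ ⊢
  refine ⟨fun hord => ?_, fun h => (orderOf_of_conjUnder h).trans hxr⟩
  obtain ⟨a', b', ψ, σ, hab', hσ, ha, hb, hxf⟩ := hx
  obtain ⟨K', Ψ, hσr, -, hG, hz⟩ := minus_std_of_class hm hab K _ hab' (qfMinus_coe m a' b').symm ψ hσ ha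
    hb hxf hr hxr
  have hδ' : autCongr Ψ δ ∈ properAut K' (m + 1) := hG ▸ ⟨δ, hδ, rfl⟩
  obtain ⟨F₀, _, _, ι₀, hι, -⟩ := exists_fixed_field σ
  obtain ⟨a₀, rfl⟩ := (hι _).1 ha
  obtain ⟨b₀, rfl⟩ := (hι _).1 hb
  obtain ⟨Φ, hΦσ, hΦ⟩ := exists_osim_mul K' hδ' (OSim.std σ (qfMinus_equivariant σ ha hb))
  have h := minus_class ι₀ hm hab' K' (qfMinus_equivariant σ ha hb) hι Φ hΦσ (by
    rw [← hΦ, ← hz, ← map_mul, hσr, ← hord, ← map_pow, pow_orderOf_eq_one, map_one])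
  rw [← hΦ, ← hz, ← map_mul] at h
  obtain ⟨k, hk, he⟩ := h
  rw [← hG] at hk
  obtain ⟨k₀, hk₀, rfl⟩ := hk
  refine ⟨k₀, hk₀, (autCongr Ψ).injective ?_⟩
  rw [he, map_mul (autCongr Ψ) (k₀ * x), map_mul, map_inv]
  rfl

end CfsgLib.KnownC
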