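import Mathlib
import Cfsg.Agent.Lib.KnownC.AutPOmegaFieldMinus
import Cfsg.Agent.Lib.KnownC.AutPOmegaFieldCount

set_option autoImplicit false
set_option linter.unusedSectionVars false
set_option linter.style.haveILetI false

/-!
Field automorphisms of prime order of `PΩ⁻(q)`: centralisers in `Inndiag` and splitting of their classes.
-/

namespace CfsgLib.KnownC

open CfsgLib.Geom CfsgLib.Classical
open QuadraticMap (polar)
open Matrix

universe u v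

section Abstract

variable {X Y : Type*} [Group X] [Group Y] (e : X ≃* Y)

theorem map_inf_centralizer (H : Subgroup X) (x : X) :
    (H ⊓ Subgroup.centralizer {x}).map e.toMonoidHom = H.map e.toMonoidHom ⊓ Subgroup.centralizer {e x} := by
  ext z
  constructor
  · rintro ⟨w, ⟨hw, hwx⟩, rfl⟩
    refine ⟨⟨w, hw, rfl⟩, Subgroup.mem_centralizer_singleton_iff.2 ?_⟩
    show e w * e x = e x * e w
    rw [← map_mul, Subgroup.mem_centralizer_singleton_iff.1 hwx, map_mul]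
  · rintro ⟨⟨w, hw, rfl⟩, hz⟩
    refine ⟨w, ⟨hw, Subgroup.mem_centralizer_singleton_iff.2 (e.injective ?_)⟩, rfl⟩
    rw [map_mul, map_mul]
    exact Subgroup.mem_centralizer_singleton_iff.1 hz

/-- Transport of the centraliser and of the number of classes along an isomorphism. -/
theorem transport_centralizer {H K : Subgroup X} {H' K' : Subgroup Y} [K.Normal] [K'.Normal] (hKH : K ≤ H)
    (hH : H.map e.toMonoidHom = H') (hK : K.map e.toMonoidHom = K') {x : X} {y : Y} (hxy : e x = y) :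
    Nonempty (↥(H ⊓ Subgroup.centralizer {x}) ≃* ↥(H' ⊓ Subgroup.centralizer {y})) ∧
      Cfsg.splitClassCount H' K' y = Cfsg.splitClassCount H K x := by
  subst hxy hH hK
  refine ⟨⟨((H ⊓ Subgroup.centralizer {x}).equivMapOfInjective e.toMonoidHom e.injective).trans
    (MulEquiv.subgroupCongr (map_inf_centralizer e H x))⟩, ?_⟩
  rw [splitClassCount_eq H K hKH, splitClassCount_eq _ _ (Subgroup.map_mono hKH),
    ← map_inf_centralizer e H x, ← Subgroup.map_sup, Subgroup.relIndex_map_map_of_injective _ _ e.injective]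

end Abstract

variable {F : Type u} [Field F] [Fintype F]

/-- A minus form has similitudes of every multiplier. -/
theorem exists_minus_similitude (m : ℕ) {a b : F}
    (hab : ∀ z₁ z₂ : F, z₁ ^ 2 + a * z₁ * z₂ + b * z₂ ^ 2 = 0 → z₁ = 0 ∧ z₂ = 0) {μ : F} (hμ : μ ≠ 0) :
    ∃ g : GL ((Fin m ⊕ Fin m) ⊕ Fin 2) F,
      g.1 = minusMat m μ g.1.toBlocks₂₂ ∧ ∀ v, qfMinus m F a b (g.1 *ᵥ v) = μ * qfMinus m F a b v := by
  obtain ⟨u, t, hut⟩ : ∃ u t : F, u ^ 2 + a * u * t + b * t ^ 2 = μ := by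
    by_cases h2 : (2 : F) = 0
    · obtain ⟨s, hs⟩ := isSquare_of_two_eq_zero h2 μ
      exact ⟨s, 0, by rw [hs]; ring⟩
    · have hd := anisotropic_disc hab
      obtain ⟨w, hw⟩ := exists_value (binForm a b) h2 (fun x hx => by
        have e0 := hx ![1, 0]
        have e1 := hx ![0, 1]
        simp [binForm_polar] at e0 e1
        funext i
        fin_cases i
        · exact (mul_eq_zero.1 (show (4 * b - a ^ 2) * x 0 = 0 by
            linear_combination (2 * b) * e0 - a * e1)).resolve_left hd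
        · exact (mul_eq_zero.1 (show (4 * b - a ^ 2) * x 1 = 0 by
            linear_combination 2 * e1 - a * e0)).resolve_left hd) (by simp) μ hμ
      exact ⟨w 0, w 1, by rw [binForm_apply] at hw; linear_combination hw⟩
  obtain ⟨A, hA⟩ : ∃ A : Matrix (Fin 2) (Fin 2) F, A = !![u, -(b * t); t, u + a * t] := ⟨_, rfl⟩
  have hdet : A.det = μ := by rw [hA, Matrix.det_fin_two_of, ← hut]; ring
  have hq : ∀ z, binForm a b (A *ᵥ z) = μ * binForm a b z := fun z => by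
    rw [hA, ← hut]
    simp [binForm_apply, Matrix.mulVec, dotProduct, Fin.sum_univ_two]
    ring
  refine ⟨Matrix.GeneralLinearGroup.mkOfDetNeZero (minusMat m μ A)
    (by rw [minusMat_det, hdet]; exact mul_ne_zero (pow_ne_zero _ hμ) hμ), ?_, qfMinus_minusMat m hq⟩
  show minusMat m μ A = minusMat m μ (minusMat m μ A).toBlocks₂₂
  rw [show (minusMat m μ A).toBlocks₂₂ = A from Matrix.toBlocks_fromBlocks₂₂ _ _ _ _]

variable {F₀ : Type v} [Field F₀] [Fintype F₀] {m : ℕ}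

theorem minus_field_centralizer {p f : ℕ} [Fact p.Prime] (hF : Fintype.card F = p ^ f) (hm : 3 ≤ m)
    {a b : F} (hab : ∀ z₁ z₂ : F, z₁ ^ 2 + a * z₁ * z₂ + b * z₂ ^ 2 = 0 → z₁ = 0 ∧ z₂ = 0)
    (Q : ((Fin m ⊕ Fin m) ⊕ Fin 2 → F) → F) (hQ : Q = ⇑(qfMinus m F a b))
    (x : MulAut (Cfsg.POmega F Q))
    (hx : ∃ (a' b' : F) (ψ : Cfsg.POmega F Q ≃* Cfsg.POmega F (Cfsg.quadFormMinus m F a' b')) (σ : F ≃+* F),
      (∀ z₁ z₂ : F, z₁ ^ 2 + a' * z₁ * z₂ + b' * z₂ ^ 2 = 0 → z₁ = 0 ∧ z₂ = 0) ∧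
      σ ≠ RingEquiv.refl F ∧ σ a' = a' ∧ σ b' = b' ∧
      Cfsg.IsFieldAutPOmegaOf (Cfsg.quadFormMinus m F a' b') σ ((ψ.symm.trans x).trans ψ))
    {r : ℕ} (hr : r.Prime) (hxr : orderOf x = r) (hF₀ : Fintype.card F₀ = p ^ (f / r)) :
    Odd r ∧ r ∣ f ∧ (∃ a₀ b₀ : F₀, (∀ z₁ z₂ : F₀, z₁ ^ 2 + a₀ * z₁ * z₂ + b₀ * z₂ ^ 2 = 0 → z₁ = 0 ∧ z₂ = 0) ∧
      ∀ (Q₀ : ((Fin m ⊕ Fin m) ⊕ Fin 2 → F₀) → F₀), Q₀ = ⇑(qfMinus m F₀ a₀ b₀) →
        Nonempty (↥(minusInndiag a b Q ⊓ Subgroup.centralizer {x}) ≃* ↥(minusInndiag a₀ b₀ Q₀))) ∧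
      Cfsg.splitClassCount (minusInndiag a b Q) (Cfsg.Inn (Cfsg.POmega F Q)) x = 1 := by
  subst hQ
  have K := octx_minus (F := F) hm hab
  rw [minusInndiag_eq hm hab K]
  obtain ⟨a', b', ψ, σ, hab', hσ, ha, hb, hxf⟩ := hx
  obtain ⟨K', Ψ, hσr, hodd, hG, hz⟩ := minus_std_of_class hm hab K _ hab' (qfMinus_coe m a' b').symm ψ hσ ha
    hb hxf hr hxr
  obtain ⟨hdvd, -, hemb⟩ := exists_fixed_embedding σ hF
  rw [hσr] at hdvd hemb
  obtain ⟨ι₀, hι⟩ := hemb F₀ hF₀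
  obtain ⟨a₀, rfl⟩ := (hι _).1 ha
  obtain ⟨b₀, rfl⟩ := (hι _).1 hb
  have hab₀ : ∀ z₁ z₂ : F₀, z₁ ^ 2 + a₀ * z₁ * z₂ + b₀ * z₂ ^ 2 = 0 → z₁ = 0 ∧ z₂ = 0 := by
    intro z₁ z₂ h
    obtain ⟨h1, h2⟩ := hab' (ι₀ z₁) (ι₀ z₂) (by simp only [← map_mul, ← map_pow, ← map_add, h, map_zero])
    exact ⟨ι₀.injective (h1.trans (map_zero ι₀).symm), ι₀.injective (h2.trans (map_zero ι₀).symm)⟩
  have K₀ := octx_minus (F := F₀) hm hab₀
  have hcard : Fintype.card F = Fintype.card F₀ ^ r := by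
    rw [hF, hF₀, ← pow_mul, Nat.div_mul_cancel hdvd]
  haveI : (Cfsg.Inn (Cfsg.POmega F (⇑(qfMinus m F a b)))).Normal := Cfsg.innNormal _
  haveI : (Cfsg.Inn (Cfsg.POmega F (⇑(qfMinus m F (ι₀ a₀) (ι₀ b₀))))).Normal := Cfsg.innNormal _
  obtain ⟨⟨e⟩, hcount⟩ := transport_centralizer (autCongr Ψ) (inn_le_properAut K (m + 1)) hG
    (autCongr_map_inn Ψ) hz
  refine ⟨hodd, hdvd, ⟨a₀, b₀, hab₀, fun Q₀ hQ₀ => ?_⟩, ?_⟩
  · subst hQ₀
    rw [minusInndiag_eq hm hab₀ K₀]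
    obtain ⟨e'⟩ := centralizer_std_equiv ι₀ (qfMinus_baseChange ι₀ m a₀ b₀) K' K₀ card_minus_index σ hι
      (qfMinus_equivariant σ ha hb)
    exact ⟨e.trans e'⟩
  · rw [← hcount]
    exact splitClassCount_std_odd ι₀ (qfMinus_baseChange ι₀ m a₀ b₀) K' K₀ card_minus_index hodd hcard σ hι
      (qfMinus_equivariant σ ha hb) fun μ hμ =>
        let ⟨g, _, hg⟩ := exists_minus_similitude m hab₀ hμ
        ⟨g, hg⟩

end CfsgLib.KnownC
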