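import Mathlib
import Cfsg.Agent.Lib.KnownC.AutPOmegaFieldPlus
import Cfsg.Agent.Lib.KnownC.AutPOmegaFieldMinusCent
import Cfsg.Agent.Lib.KnownC.AutPOmegaTorus

set_option autoImplicit false
set_option linter.unusedSectionVars false
set_option linter.style.haveILetI false

/-!
Involutory graph-field automorphisms of `PΩ⁺(q)`: conjugacy, centralisers, splitting of the class.
-/

namespace CfsgLib.KnownC

open CfsgLib.Geom CfsgLib.Classical
open QuadraticMap (polar)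
open Matrix

universe u v

/-- A frame identifies a semisimilitude with a standard field automorphism of the similar form. -/
theorem exists_transfer_of_frame {F : Type u} [Field F] [Finite F] {F₀ : Type v} [Field F₀] (ι₀ : F₀ →+* F)
    {ι κ : Type} [Fintype ι] [DecidableEq ι] [Fintype κ] [DecidableEq κ]
    {Q : QuadraticForm F (ι → F)} (K : OCtx Q) {Φ : OSim Q} {R₀ : QuadraticForm F₀ (ι → F₀)}
    (hR : IsFrame ι₀ Φ R₀) (hι : ∀ a, Φ.σ (ι₀ a) = ι₀ a)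
    {S₀ : QuadraticForm F₀ (κ → F₀)} {S : QuadraticForm F (κ → F)}
    (hS : ∀ v, ι₀ (S₀ v) = S fun i => ι₀ (v i)) (hSσ : ∀ v : κ → F, S (fun i => Φ.σ (v i)) = Φ.σ (S v))
    (M : (κ → F₀) ≃ₗ[F₀] (ι → F₀)) {e₀ : F₀} (he₀ : e₀ ≠ 0) (hM : ∀ v, R₀ (M v) = e₀ * S₀ v) :
    ∃ (KS : OCtx S) (P : Cfsg.POmega F (⇑S) ≃* Cfsg.POmega F (⇑Q)),
      autCongr P (osimPOmega KS (OSim.std Φ.σ hSσ)) = osimPOmega K Φ ∧
      ∀ n, (properAut KS n).map (autCongr P).toMonoidHom = properAut K n := by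
  obtain ⟨m, d, H, hm, hd, hH, hRv⟩ := hR
  obtain ⟨L, hL, hLσ⟩ := exists_baseChange ι₀ M
  have hc : ι₀ e₀ / d ≠ 0 := div_ne_zero ((map_ne_zero ι₀).2 he₀) hd
  have he : ∀ v, Q ((L.trans H) v) = ι₀ e₀ / d * S v := fun v => by
    have h : d • Q.comp (L.trans H).toLinearMap = ι₀ e₀ • S := quad_ext_subfield ι₀ fun w => by
      show d * Q (H (L fun i => ι₀ (w i))) = ι₀ e₀ * S fun i => ι₀ (w i)
      rw [hL, ← hRv, hM, map_mul, hS]
    have h1 : d * Q (H (L v)) = ι₀ e₀ * S v := congrArg (fun P : QuadraticForm F (κ → F) => P v) h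
    show Q (H (L v)) = _
    field_simp
    linear_combination h1
  have KS : OCtx S := by
    refine ⟨fun x hx => (L.trans H).injective ?_, ?_⟩
    · rw [map_zero]
      refine K.sep _ fun y => ?_
      obtain ⟨z, rfl⟩ := (L.trans H).surjective y
      have h1 := hx z
      simp only [QuadraticMap.polar, ← map_add, he] at h1 ⊢
      linear_combination (ι₀ e₀ / d) * h1
    · exact K.seven.trans (L.trans H).finrank_eq.ge
  obtain ⟨P, hP⟩ := exists_transfer KS K (L.trans H) hc he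
  refine ⟨KS, P, ?_, fun n => transfer_properAut KS K (L.trans H) hc he P hP n⟩
  rw [hP]
  refine (osimPOmega_eq_iff K _ _).2 ⟨m⁻¹, inv_ne_zero hm, fun w => ?_⟩
  obtain ⟨v, rfl⟩ := (L.trans H).surjective w
  rw [OSim.push_T]
  show H (L fun i => Φ.σ (v i)) = m⁻¹ • Φ.T (H (L v))
  rw [hH, smul_smul, inv_mul_cancel₀ hm, one_smul, hLσ Φ.σ hι]

section Plus

variable {F : Type u} [Field F] [Fintype F]

theorem ringAut_commute (σ τ : F ≃+* F) : Commute σ τ := by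
  obtain ⟨p, hp⟩ := CharP.exists F
  haveI : Fact p.Prime :=
    ⟨(CharP.char_is_prime_or_zero F p).resolve_right (CharP.char_ne_zero_of_finite F p)⟩
  obtain ⟨f, -, hF⟩ := FiniteField.card F p
  obtain ⟨φ, -, -, hg⟩ := exists_ringAut_generator hF
  obtain ⟨a, rfl⟩ := hg σ
  obtain ⟨b, rfl⟩ := hg τ
  exact (Commute.refl φ).zpow_zpow a b

theorem ringAut_eq_of_order_two {σ τ : F ≃+* F} (hσ : orderOf σ = 2) (hτ : orderOf τ = 2) : σ = τ := by
  obtain ⟨p, hp⟩ := CharP.exists F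
  haveI : Fact p.Prime :=
    ⟨(CharP.char_is_prime_or_zero F p).resolve_right (CharP.char_ne_zero_of_finite F p)⟩
  obtain ⟨f, -, hF⟩ := FiniteField.card F p
  obtain ⟨φ, -, ho, hg⟩ := exists_ringAut_generator hF
  haveI : Finite (F ≃+* F) :=
    Finite.of_injective (fun s : F ≃+* F => (s : F → F)) DFunLike.coe_injective
  have key : ∀ ρ : F ≃+* F, orderOf ρ = 2 → ∃ k, k < (f : ℕ) ∧ ρ = φ ^ k ∧ 2 * k = f := by
    intro ρ hρ
    obtain ⟨k, hk⟩ := (Submonoid.mem_powers_iff _ _).1 (mem_powers_iff_mem_zpowers.2 (hg ρ))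
    refine ⟨k % f, Nat.mod_lt _ f.pos, by rw [← ho, pow_mod_orderOf]; exact hk.symm, ?_⟩
    have hk' : φ ^ (k % f) = ρ := by rw [← ho, pow_mod_orderOf]; exact hk
    have h2 : orderOf φ ∣ 2 * (k % f) := by
      rw [orderOf_dvd_iff_pow_eq_one, mul_comm, pow_mul, hk', ← hρ, pow_orderOf_eq_one]
    rw [ho] at h2
    obtain ⟨c, hc⟩ := h2
    have hlt := Nat.mod_lt k f.pos
    rcases c with - | - | c
    · exfalso
      rw [show k % f = 0 by omega, pow_zero] at hk'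
      rw [← hk', orderOf_one] at hρ
      omega
    · omega
    · exfalso; nlinarith
  obtain ⟨a, -, rfl, ha⟩ := key σ hσ
  obtain ⟨b, -, rfl, hb⟩ := key τ hτ
  rw [show a = b by omega]

theorem plus_decomp {m : ℕ} (K : OCtx (qfPlus m F))
    (hn : 9 ≤ Fintype.card (Fin m ⊕ Fin m) ∨ NoFour (qfPlus m F)) (σ : F ≃+* F)
    (v : Fin m ⊕ Fin m → F) (hv : qfPlus m F v ≠ 0) (hfix : ∀ (τ : F ≃+* F) i, τ (v i) = v i)
    (a : MulAut (Cfsg.POmega F (⇑(qfPlus m F)))) :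
    ∃ c, Commute c (isoHom K (reflIsom (qfPlus m F) v hv) * osimPOmega K (OSim.std σ (qfPlus_equivariant σ))) ∧
      a * c⁻¹ ∈ properAut K m := by
  obtain ⟨X, rfl⟩ := exists_osimPOmega K hn a
  have hdim : Fintype.card (Fin m ⊕ Fin m) = 2 * m := by simp; omega
  obtain ⟨T, hT⟩ : ∃ T, T = OSim.std (Q := qfPlus m F) X.σ (qfPlus_equivariant X.σ) := ⟨_, rfl⟩
  have hTc : Commute (osimPOmega K T)
      (isoHom K (reflIsom (qfPlus m F) v hv) * osimPOmega K (OSim.std σ (qfPlus_equivariant σ))) := by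
    refine Commute.mul_right ?_ ?_
    · rw [hT]; exact (commute_refl_std K X.σ (qfPlus_equivariant X.σ) v hv (hfix X.σ)).symm
    · show _ = _
      rw [hT, ← osimPOmega_comp, ← osimPOmega_comp]
      refine osimPOmega_congr K fun w => funext fun i => ?_
      exact RingEquiv.congr_fun (ringAut_commute X.σ σ) (w i)
  have hσ : (X.comp T.inv).σ = RingEquiv.refl F := RingEquiv.ext fun x => by
    show X.σ (T.σ.symm x) = x
    rw [hT]; exact X.σ.apply_symm_apply x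
  have hX : osimPOmega K X = osimPOmega K (X.comp T.inv) * osimPOmega K T := by
    rw [osimPOmega_comp, osimPOmega_inv, inv_mul_cancel_right]
  rcases sim_split K hdim hσ v hv with h | h
  · exact ⟨_, hTc, by rw [hX, mul_inv_cancel_right]; exact h⟩
  · refine ⟨isoHom K (reflIsom (qfPlus m F) v hv) * osimPOmega K T, ?_, ?_⟩
    · exact ((Commute.refl _).mul_right (commute_refl_std K σ (qfPlus_equivariant σ) v hv (hfix σ))).mul_left hTc
    · rw [hX, _root_.mul_inv_rev, ← mul_assoc, mul_inv_cancel_right]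
      rwa [inv_eq_of_mul_eq_one_left (isoHom_refl_mul_self K v hv)]

variable {F₀ : Type v} [Field F₀] [Fintype F₀] (ι₀ : F₀ →+* F)

/-- A graph-field involution has a frame of any given minus type. -/
theorem graphField_frame {k : ℕ} (K : OCtx (qfPlus (k + 1) F))
    (hn : 9 ≤ Fintype.card (Fin (k + 1) ⊕ Fin (k + 1)) ∨ NoFour (qfPlus (k + 1) F)) {σ : F ≃+* F}
    (hι : ∀ x, σ x = x ↔ ∃ a, ι₀ a = x) (hσr : orderOf σ = 2)
    (hcard : Fintype.card F = Fintype.card F₀ ^ 2)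
    (v : Fin (k + 1) ⊕ Fin (k + 1) → F) (hv : qfPlus (k + 1) F v ≠ 0) (hfix : ∀ i, σ (v i) = v i) :
    ∃ Φ : OSim (qfPlus (k + 1) F), Φ.σ = σ ∧
      isoHom K (reflIsom (qfPlus (k + 1) F) v hv) * osimPOmega K (OSim.std σ (qfPlus_equivariant σ)) =
        osimPOmega K Φ ∧
      ∃ (R₀ : QuadraticForm F₀ (Fin (k + 1) ⊕ Fin (k + 1) → F₀)), IsFrame ι₀ Φ R₀ ∧
        (∃ a b : F₀, ∀ z₁ z₂ : F₀, z₁ ^ 2 + a * z₁ * z₂ + b * z₂ ^ 2 = 0 → z₁ = 0 ∧ z₂ = 0) ∧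
        ∀ a b : F₀, (∀ z₁ z₂ : F₀, z₁ ^ 2 + a * z₁ * z₂ + b * z₂ ^ 2 = 0 → z₁ = 0 ∧ z₂ = 0) →
          ∃ (e₀ : F₀) (M : ((Fin k ⊕ Fin k) ⊕ Fin 2 → F₀) ≃ₗ[F₀] (Fin (k + 1) ⊕ Fin (k + 1) → F₀)),
            e₀ ≠ 0 ∧ ∀ w, R₀ (M w) = e₀ * qfMinus k F₀ a b w := by
  have hdim : Fintype.card (Fin (k + 1) ⊕ Fin (k + 1)) = 2 * (k + 1) := by simp; omega
  haveI := properAut_normal K hn (k + 1)
  obtain ⟨Φ, hΦσ, hΦ⟩ := graphField_eq K σ (qfPlus_equivariant σ) (reflIsom (qfPlus (k + 1) F) v hv)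
  have hΦ2 : osimPOmega K Φ ^ 2 = 1 := by
    rw [← hΦ]; exact graphField_mul_self_pomega K σ (qfPlus_equivariant σ) hσr v hv hfix
  rcases plus_frame ι₀ K (qfPlus_equivariant σ) hι Nat.prime_two hσr hcard v hv hfix Φ hΦσ hΦ2 with
    h | ⟨-, k', a', b', c', R₀, M', hk, hc', hab', hR, hM⟩
  · exfalso
    refine isoHom_refl_not_mem_properAut K (n := k + 1) hdim v hv ?_
    rw [← hΦ] at h
    have h1 := mul_inv_mem_of_conjUnder (H := properAut K (k + 1))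
      (z := osimPOmega K (OSim.std σ (qfPlus_equivariant σ)))
      (z' := isoHom K (reflIsom (qfPlus (k + 1) F) v hv) * osimPOmega K (OSim.std σ (qfPlus_equivariant σ)))
      (δ := 1) (one_mem _) (by rw [one_mul]; exact h)
    rwa [mul_inv_cancel_right] at h1
  obtain rfl : k' = k := by omega
  refine ⟨Φ, hΦσ, hΦ, R₀, hR, ⟨a', b', hab'⟩, fun a b hab => ?_⟩
  obtain ⟨w, hw⟩ := exists_minus_isometry k' hab' hab
  exact ⟨c', w.trans M', hc', fun z => by rw [LinearEquiv.trans_apply, hM, hw]⟩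

/-- The number of classes for a standard field automorphism of `Σ x y + z₁² - ν z₂²`. -/
theorem splitClassCount_twist {k : ℕ} {ν : F₀} (hν : ¬ IsSquare ν) (h2 : (2 : F) ≠ 0)
    (K : OCtx (qfMinus k F (ι₀ 0) (ι₀ (-ν)))) (K₀ : OCtx (qfMinus k F₀ 0 (-ν))) {σ : F ≃+* F}
    (hι : ∀ x, σ x = x ↔ ∃ a, ι₀ a = x) (hσr : orderOf σ = 2)
    (hσQ : ∀ w, qfMinus k F (ι₀ 0) (ι₀ (-ν)) (fun i => σ (w i)) = σ (qfMinus k F (ι₀ 0) (ι₀ (-ν)) w))
    (hcard : Fintype.card F = Fintype.card F₀ ^ 2) :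
    ((Odd (k + 1) ∧ Fintype.card F₀ % 4 = 1) → Cfsg.splitClassCount (properAut K (k + 1))
        (Cfsg.Inn (Cfsg.POmega F (⇑(qfMinus k F (ι₀ 0) (ι₀ (-ν)))))) (osimPOmega K (OSim.std σ hσQ)) = 4) ∧
      (¬ (Odd (k + 1) ∧ Fintype.card F₀ % 4 = 1) → Cfsg.splitClassCount (properAut K (k + 1))
        (Cfsg.Inn (Cfsg.POmega F (⇑(qfMinus k F (ι₀ 0) (ι₀ (-ν)))))) (osimPOmega K (OSim.std σ hσQ)) = 2) := by
  have h20 : (2 : F₀) ≠ 0 := fun h => h2 (by rw [← map_ofNat ι₀ 2, h, map_zero])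
  have hν0 : ν ≠ 0 := fun h => hν (h ▸ IsSquare.zero)
  have hf := qfMinus_baseChange ι₀ k (0 : F₀) (-ν)
  revert K hσQ hf
  rw [map_zero, map_neg]
  intro K hσQ hf
  obtain ⟨s, hs⟩ := isSquare_map_of_even ι₀ even_two hcard h2 ν
  have hs0 : s ≠ 0 := fun h => (map_ne_zero ι₀).2 hν0 (by rw [hs, h, mul_zero])
  obtain ⟨g₁, u, t, hut, hg₁, hg₁q, hg₁p⟩ := exists_twist_similitude k h20 hν0 hν0
  obtain ⟨μ, hμ0, hμ⟩ := exists_not_square h2
  obtain ⟨g, -, -, -, -, hgq, hgp⟩ := exists_twist_similitude k h2 ((map_ne_zero ι₀).2 hν0) hμ0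
  have hdet : ∀ h : Cfsg.isometryGroup F (⇑(qfMinus k F 0 (-ι₀ ν))),
      (spinorHom _ K.sep (exGen_of_odd h2) h).1 = 1 → Matrix.GeneralLinearGroup.det h.1 = 1 :=
    fun h hh => Units.ext ((det_eq_of_spinorHom K.sep h2 (by simp) h).1 hh)
  -- the conjugate of `u + s t`
  have hσs : σ s = -s := by
    rcases mul_self_eq_mul_self_iff.1 (show σ s * σ s = s * s by
      rw [← map_mul, ← hs]; exact (hι _).2 ⟨ν, rfl⟩) with h | h
    · obtain ⟨c, hc⟩ := (hι s).1 h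
      exact absurd ⟨c, ι₀.injective (by rw [map_mul, hc, hs])⟩ hν
    · exact h
  have hnorm : (ι₀ u + s * ι₀ t) * (ι₀ u - s * ι₀ t) = ι₀ ν := by
    rw [← hut, map_sub, map_mul, map_pow, map_pow, hs]
    ring
  have hn0 : ι₀ u + s * ι₀ t ≠ 0 := fun h => (map_ne_zero ι₀).2 hν0 (by rw [← hnorm, h, zero_mul])
  have hns : ¬ IsSquare (ι₀ u + s * ι₀ t) := by
    rintro ⟨w, hw⟩
    have h1 : ι₀ u - s * ι₀ t = σ w * σ w := by
      rw [← map_mul, ← hw, map_add, map_mul, hσs, (hι _).2 ⟨u, rfl⟩, (hι _).2 ⟨t, rfl⟩]; ring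
    have hσσ : σ (σ w) = w := by
      have := RingEquiv.congr_fun (show σ ^ 2 = 1 by rw [← hσr, pow_orderOf_eq_one]) w
      simpa [pow_two] using this
    obtain ⟨c, hc⟩ := (hι (w * σ w)).1 (by rw [map_mul, hσσ, mul_comm])
    exact hν ⟨c, ι₀.injective (by rw [map_mul, hc, ← hnorm, h1, hw]; ring)⟩
  obtain ⟨d, hd⟩ : ∃ d, d = (ι₀ u + s * ι₀ t) / s := ⟨_, rfl⟩
  have hd0 : d ≠ 0 := hd ▸ div_ne_zero hn0 hs0
  obtain ⟨h, hh, hhv⟩ := exists_split_torus k h2 hs0 hs K.sep (exGen_of_odd h2) hs0 hd0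
  obtain ⟨z, hz, hzv⟩ := exists_split_torus k h2 hs0 hs K.sep (exGen_of_odd h2)
    (neg_ne_zero.2 one_ne_zero : (-1 : F) ≠ 0) (neg_ne_zero.2 one_ne_zero : (-1 : F) ≠ 0)
  have hdd : d⁻¹ = (ι₀ u - s * ι₀ t) / s := by
    refine inv_eq_of_mul_eq_one_right ?_
    rw [hd, div_mul_div_comm, hnorm, hs, div_self (mul_ne_zero hs0 hs0)]
  obtain ⟨h₁, hh₁⟩ : ∃ h₁ : Cfsg.specialIsometryGL F (⇑(qfMinus k F 0 (-ι₀ ν))), h₁.1 = h.1 :=
    ⟨⟨h.1, h.2, hdet h (congrArg Prod.fst hh)⟩, rfl⟩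
  have hmat : g₁.1.map ι₀ = s • h₁.1.1 := by
    refine Matrix.ext_iff_mulVec.2 fun w => ?_
    rw [hh₁, smul_mulVec, hhv, hg₁,
      show (minusMat k ν !![u, ν * t; t, u]).map ι₀ = minusMat k (ι₀ ν) ((!![u, ν * t; t, u]).map ι₀) by
        rw [minusMat, minusMat, Matrix.fromBlocks_map, Matrix.diagonal_map (map_zero ι₀)]
        congr 1
        · congr 1; funext i; rcases i with i | i <;> simp
        · ext i j; simp
        · ext i j; simp, minusMat_mulVec, hdd, hd]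
    funext j
    rcases j with (j | j) | j
    · simp [hs]; ring
    · simp [hs0]
    · fin_cases j <;>
        simp [Matrix.mulVec, dotProduct, Fin.sum_univ_two, hs] <;> field_simp <;> ring
  have hneg : ∀ g' : Cfsg.specialIsometryGL F (⇑(qfMinus k F 0 (-ι₀ ν))), g'.1.1 = -1 →
      soSpinor K.sep h2 g' = 1 := by
    intro g' hg'
    have he : (⟨g'.1, g'.2.1⟩ : Cfsg.isometryGroup F (⇑(qfMinus k F 0 (-ι₀ ν)))) = z :=
      Subtype.ext (Units.ext (Matrix.ext_iff_mulVec.2 fun w => by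
        show g'.1.1 *ᵥ w = _
        rw [hg', neg_mulVec, one_mulVec, hzv]
        funext j
        rcases j with (j | j) | j
        · simp
        · simp
        · fin_cases j <;> simp <;> field_simp <;> ring))
    show (spinorHom _ K.sep (exGen_of_odd h2) ⟨g'.1, g'.2.1⟩).2 = 1
    rw [he, hz, sqClass_eq_one_iff, ← pow_succ']
    refine IsSquare.pow _ ?_
    obtain ⟨c, hc⟩ := isSquare_map_of_even ι₀ even_two hcard h2 (-1)
    exact ⟨c, by rw [← hc, map_neg, map_one]⟩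
  have key := splitClassCount_std_two ι₀ hf K K₀ card_minus_index h2 hcard σ hι hσQ ⟨g, μ, hμ, hgp, hgq⟩ hneg
    hν hg₁p hg₁q hs hmat
  have hsp : soSpinor K.sep h2 h₁ = 1 ↔ ¬ IsSquare (s ^ (k + 1)) := by
    show (spinorHom _ K.sep (exGen_of_odd h2) ⟨h₁.1, h₁.2.1⟩).2 = 1 ↔ _
    rw [show (⟨h₁.1, h₁.2.1⟩ : Cfsg.isometryGroup F (⇑(qfMinus k F 0 (-ι₀ ν)))) = h from Subtype.ext hh₁,
      hh, sqClass_eq_one_iff]
    have hsk := pow_ne_zero (k + 1) hs0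
    have e : d * s ^ k = (ι₀ u + s * ι₀ t) * s ^ (k + 1) / (s * s) := by
      rw [hd, pow_succ]; field_simp
    constructor
    · rintro ⟨c, hc⟩ ⟨w, hw⟩
      refine hns ⟨c * s / w, ?_⟩
      rw [e, hw, eq_comm, ← eq_comm, div_eq_iff (mul_ne_zero hs0 hs0)] at hc
      have hw0 : w ≠ 0 := fun h => hsk (by rw [hw, h, mul_zero])
      field_simp
      linear_combination hc
    · intro hnsq
      obtain ⟨c, hc⟩ : IsSquare ((ι₀ u + s * ι₀ t) * s ^ (k + 1)) := by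
        rw [← sqClass_eq_one_iff (mul_ne_zero hn0 hsk), sqClass_mul hn0 hsk,
          sqClass_two (sqClass hn0) (sqClass hsk) (by rwa [Ne, sqClass_eq_one_iff])
            (by rwa [Ne, sqClass_eq_one_iff]), sqClass_mul_self]
      exact ⟨c / s, by rw [e, hc]; field_simp⟩
  rw [isSquare_sqrt_pow_iff ι₀ hcard h2 hν hs, not_not] at hsp
  exact ⟨fun h => key.1 (hsp.2 h), fun h => key.2 fun he => h (hsp.1 he)⟩

theorem plus_graphField {p f : ℕ} [Fact p.Prime] (hF : Fintype.card F = p ^ f) {k : ℕ} (hk : 4 ≤ k)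
    (Q' : (Fin (k + 1) ⊕ Fin (k + 1) → F) → F) (hQ' : Q' = ⇑(qfPlus (k + 1) F))
    (x : MulAut (Cfsg.POmega F Q')) (hx : IsPlusGraphField Q' x) (hx2 : orderOf x = 2)
    (hF₀ : Fintype.card F₀ = p ^ (f / 2)) :
    Even f ∧
      (∀ y : MulAut (Cfsg.POmega F Q'), IsPlusGraphField Q' y → orderOf y = 2 →
        Cfsg.IsConjUnder (plusInndiag Q') x y) ∧
      (∃ a₀ b₀ : F₀, (∀ z₁ z₂ : F₀, z₁ ^ 2 + a₀ * z₁ * z₂ + b₀ * z₂ ^ 2 = 0 → z₁ = 0 ∧ z₂ = 0) ∧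
        ∀ (Q₀ : ((Fin k ⊕ Fin k) ⊕ Fin 2 → F₀) → F₀), Q₀ = ⇑(qfMinus k F₀ a₀ b₀) →
          Nonempty (↥(plusInndiag Q' ⊓ Subgroup.centralizer {x}) ≃* ↥(minusInndiag a₀ b₀ Q₀))) ∧
      (p = 2 → Cfsg.splitClassCount (plusInndiag Q') (Cfsg.Inn (Cfsg.POmega F Q')) x = 1) ∧
      ((p ≠ 2 ∧ Odd (k + 1) ∧ p ^ (f / 2) % 4 = 1) →
        Cfsg.splitClassCount (plusInndiag Q') (Cfsg.Inn (Cfsg.POmega F Q')) x = 4) ∧
      ((p ≠ 2 ∧ ¬ (Odd (k + 1) ∧ p ^ (f / 2) % 4 = 1)) →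
        Cfsg.splitClassCount (plusInndiag Q') (Cfsg.Inn (Cfsg.POmega F Q')) x = 2) := by
  subst hQ'
  have K := octx_qfPlus (F := F) (show 4 ≤ k + 1 by omega)
  have hn : 9 ≤ Fintype.card (Fin (k + 1) ⊕ Fin (k + 1)) ∨ NoFour (qfPlus (k + 1) F) :=
    Or.inl (by simp; omega)
  have hdim : Fintype.card (Fin (k + 1) ⊕ Fin (k + 1)) = 2 * (k + 1) := by simp; omega
  haveI := properAut_normal K hn (k + 1)
  rw [plusInndiag_eq (by omega) K]
  obtain ⟨v, hv, hfix⟩ := exists_base_vector (F := F) (show 0 < k + 1 by omega)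
  -- every such involution is conjugate to a fixed one
  have hstd : ∀ y, IsPlusGraphField (⇑(qfPlus (k + 1) F)) y → orderOf y = 2 →
      ∃ σ : F ≃+* F, orderOf σ = 2 ∧ Cfsg.IsConjUnder (properAut K (k + 1))
        (isoHom K (reflIsom (qfPlus (k + 1) F) v hv) * osimPOmega K (OSim.std σ (qfPlus_equivariant σ))) y := by
    rintro y ⟨α, γ, φ, σ, w, g, hσ, hw, hwfix, hg, hγ, hφ, he⟩ hy
    rw [eq_osimPOmega_std K (qfPlus_equivariant σ) hφ, gf_eq_of_induced K hw hg hγ] at he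
    obtain ⟨-, hoσ⟩ := graphField_prime_order K (n := k + 1) hdim σ (qfPlus_equivariant σ) hσ w hw hwfix
      Nat.prime_two (by rw [← he, ← MulAut.conj_apply, MulEquiv.orderOf_eq, hy])
    obtain ⟨Fσ, _, _, ισ, hισ, hcσ⟩ := exists_fixed_field σ
    rw [hoσ] at hcσ
    obtain ⟨Φ, hΦσ, hΦ⟩ := graphField_eq K σ (qfPlus_equivariant σ) (reflIsom (qfPlus (k + 1) F) w hw)
    refine ⟨σ, hoσ, ?_⟩
    rcases plus_class ισ K hn (qfPlus_equivariant σ) hισ Nat.prime_two hoσ hcσ v hv (hfix σ) Φ hΦσ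
        (by rw [← hΦ]; exact graphField_mul_self_pomega K σ (qfPlus_equivariant σ) hoσ w hw hwfix) with h | ⟨-, h⟩
    · exfalso
      refine isoHom_refl_not_mem_properAut K (n := k + 1) hdim w hw ?_
      rw [← hΦ] at h
      have h1 := mul_inv_mem_of_conjUnder (H := properAut K (k + 1))
        (z := osimPOmega K (OSim.std σ (qfPlus_equivariant σ)))
        (z' := isoHom K (reflIsom (qfPlus (k + 1) F) w hw) * osimPOmega K (OSim.std σ (qfPlus_equivariant σ)))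
        (δ := 1) (one_mem _) (by rw [one_mul]; exact h)
      rwa [mul_inv_cancel_right] at h1
    · rw [← hΦ] at h
      obtain ⟨c, hc, hce⟩ := h
      refine isConjUnder_of_decomp (α := c⁻¹ * α) (plus_decomp K hn σ v hv hfix) ?_
      rw [show c⁻¹ * α * y * (c⁻¹ * α)⁻¹ = c⁻¹ * (α * y * α⁻¹) * c by group, he, hce]
      group
  obtain ⟨σ, hσr, hxc⟩ := hstd x hx hx2
  obtain ⟨hdvd, -, hemb⟩ := exists_fixed_embedding σ hF
  rw [hσr] at hdvd hemb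
  obtain ⟨ι₀, hι⟩ := hemb F₀ hF₀
  have hcard : Fintype.card F = Fintype.card F₀ ^ 2 := by rw [hF, hF₀, ← pow_mul, Nat.div_mul_cancel hdvd]
  refine ⟨even_iff_two_dvd.2 hdvd, fun y hy hy2 => ?_, ?_⟩
  · obtain ⟨τ, hτ, hyc⟩ := hstd y hy hy2
    obtain rfl := ringAut_eq_of_order_two hτ hσr
    exact isConjUnder_trans' (isConjUnder_symm' hxc) hyc
  obtain ⟨Φ, hΦσ, hΦ, R₀, hR, hex0, hM⟩ := graphField_frame ι₀ K hn hι hσr hcard v hv (hfix σ)
  obtain ⟨a₀, b₀, hab₀, hodd⟩ : ∃ a₀ b₀ : F₀,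
      (∀ z₁ z₂ : F₀, z₁ ^ 2 + a₀ * z₁ * z₂ + b₀ * z₂ ^ 2 = 0 → z₁ = 0 ∧ z₂ = 0) ∧
      ((2 : F) ≠ 0 → a₀ = 0 ∧ ∃ ν : F₀, ¬ IsSquare ν ∧ b₀ = -ν) := by
    by_cases h2 : (2 : F) = 0
    · obtain ⟨a, b, hab⟩ := hex0
      exact ⟨a, b, hab, fun h => absurd h2 h⟩
    · obtain ⟨ν, -, hν⟩ := exists_not_square (F := F₀)
        fun h => h2 (by rw [← map_ofNat ι₀ 2, h, map_zero])
      exact ⟨0, -ν, anisotropic_normal hν, fun _ => ⟨rfl, ν, hν, rfl⟩⟩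
  obtain ⟨e₀, M, he₀, hMq⟩ := hM a₀ b₀ hab₀
  have hιfix : ∀ a, σ (ι₀ a) = ι₀ a := fun a => (hι _).2 ⟨a, rfl⟩
  subst hΦσ
  have hSσ := qfMinus_equivariant (m := k) Φ.σ (hιfix a₀) (hιfix b₀)
  obtain ⟨KS, P, hP, hPG⟩ := exists_transfer_of_frame ι₀ K hR hιfix (qfMinus_baseChange ι₀ k a₀ b₀) hSσ M he₀ hMq
  have K₀ := octx_minus (F := F₀) (show 3 ≤ k by omega) hab₀
  haveI : (Cfsg.Inn (Cfsg.POmega F (⇑(qfPlus (k + 1) F)))).Normal := Cfsg.innNormal _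
  haveI : (Cfsg.Inn (Cfsg.POmega F (⇑(qfMinus k F (ι₀ a₀) (ι₀ b₀))))).Normal := Cfsg.innNormal _
  obtain ⟨⟨eS⟩, hcS⟩ := transport_centralizer (autCongr P) (inn_le_properAut KS (k + 1)) (hPG (k + 1))
    (autCongr_map_inn P) hP
  obtain ⟨c, hc, hxe⟩ := hxc
  rw [hΦ] at hxe
  have hcount : Cfsg.splitClassCount (properAut K (k + 1)) (Cfsg.Inn (Cfsg.POmega F (⇑(qfPlus (k + 1) F)))) x =
      Cfsg.splitClassCount (properAut KS (k + 1)) (Cfsg.Inn (Cfsg.POmega F (⇑(qfMinus k F (ι₀ a₀) (ι₀ b₀)))))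
        (osimPOmega KS (OSim.std Φ.σ hSσ)) := by
    rw [hxe, splitClassCount_conj _ _ (inn_le_properAut K (k + 1)), hcS]
  refine ⟨⟨a₀, b₀, hab₀, fun Q₀ hQ₀ => ?_⟩, fun hp => ?_, ?_⟩
  · subst hQ₀
    rw [minusInndiag_eq (by omega) hab₀ K₀, hxe]
    obtain ⟨eX⟩ := centralizer_conj_equiv (properAut K (k + 1)) c (osimPOmega K Φ)
    obtain ⟨e'⟩ := centralizer_std_equiv ι₀ (qfMinus_baseChange ι₀ k a₀ b₀) KS K₀ card_minus_index Φ.σ hι hSσ
    exact ⟨eX.symm.trans (eS.symm.trans e')⟩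
  · have h2 : (2 : F) = 0 := by
      haveI : CharP F p := charP_of_card_eq_prime_pow hF
      subst hp
      exact CharTwo.two_eq_zero
    rw [hcount, splitClassCount_eq _ _ (inn_le_properAut KS (k + 1)), properAut_eq_inn KS h2,
      Subgroup.relIndex_eq_one]
    exact le_sup_left
  · have key : p ≠ 2 →
        ((Odd (k + 1) ∧ Fintype.card F₀ % 4 = 1) → Cfsg.splitClassCount (properAut KS (k + 1))
          (Cfsg.Inn (Cfsg.POmega F (⇑(qfMinus k F (ι₀ a₀) (ι₀ b₀))))) (osimPOmega KS (OSim.std Φ.σ hSσ)) = 4) ∧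
        (¬ (Odd (k + 1) ∧ Fintype.card F₀ % 4 = 1) → Cfsg.splitClassCount (properAut KS (k + 1))
          (Cfsg.Inn (Cfsg.POmega F (⇑(qfMinus k F (ι₀ a₀) (ι₀ b₀))))) (osimPOmega KS (OSim.std Φ.σ hSσ)) = 2) :=
      fun hp => by
      have h2 : (2 : F) ≠ 0 := two_ne_zero_of_odd (by
        rw [hF]; exact ((Fact.out : p.Prime).odd_of_ne_two hp).pow)
      obtain ⟨rfl, ν, hν, rfl⟩ := hodd h2
      exact splitClassCount_twist ι₀ hν h2 KS K₀ hι hσr hSσ hcard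
    rw [hF₀] at key
    exact ⟨fun h => hcount.trans ((key h.1).1 h.2), fun h => hcount.trans ((key h.1).2 h.2)⟩

end Plus

end CfsgLib.KnownC
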