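import Mathlib
import Cfsg.Agent.Lib.KnownC.AutPOmegaFieldPlus
import Cfsg.Agent.Lib.KnownC.AutPOmegaFieldCount
import Cfsg.Agent.Lib.KnownC.AutPOmegaTorus

set_option autoImplicit false
set_option linter.unusedSectionVars false
set_option linter.style.haveILetI false

/-!
Field automorphisms of prime order of `PΩ⁺(q)`: centralisers in `Inndiag` and splitting of their classes.
-/

namespace CfsgLib.KnownC

open CfsgLib.Geom CfsgLib.Classical
open QuadraticMap (polar)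
open Matrix

universe u v

variable {F : Type u} [Field F] [Fintype F] {F₀ : Type v} [Field F₀] [Fintype F₀]

/-- The number of classes of a standard field automorphism of order two of the plus form. -/
theorem splitClassCount_plus_two (ι₀ : F₀ →+* F) {m : ℕ} (hm : 4 ≤ m) (h2 : (2 : F) ≠ 0)
    (K : OCtx (qfPlus m F)) (K₀ : OCtx (qfPlus m F₀)) (hcard : Fintype.card F = Fintype.card F₀ ^ 2)
    {σ : F ≃+* F} (hι : ∀ x, σ x = x ↔ ∃ a, ι₀ a = x) :
    ((Odd m ∧ Fintype.card F₀ % 4 = 1) → Cfsg.splitClassCount (properAut K m)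
        (Cfsg.Inn (Cfsg.POmega F (⇑(qfPlus m F)))) (osimPOmega K (OSim.std σ (qfPlus_equivariant σ))) = 2) ∧
      (¬ (Odd m ∧ Fintype.card F₀ % 4 = 1) → Cfsg.splitClassCount (properAut K m)
        (Cfsg.Inn (Cfsg.POmega F (⇑(qfPlus m F)))) (osimPOmega K (OSim.std σ (qfPlus_equivariant σ))) = 4) := by
  have h20 : (2 : F₀) ≠ 0 := fun h => h2 (by rw [← map_ofNat ι₀ 2, h, map_zero])
  obtain ⟨ν, hν0, hν⟩ := exists_not_square h20
  obtain ⟨s, hs⟩ := isSquare_map_of_even ι₀ even_two hcard h2 ν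
  have hs0 : s ≠ 0 := fun h => (map_ne_zero ι₀).2 hν0 (by rw [hs, h, mul_zero])
  obtain ⟨g₁, hg₁, hg₁q, hg₁p⟩ := exists_plus_similitude m hν0
  obtain ⟨μ, hμ0, hμ⟩ := exists_not_square h2
  obtain ⟨g, -, hgq, hgp⟩ := exists_plus_similitude m hμ0
  obtain ⟨h, hh, hhm⟩ := exists_plus_torus m (exGen_of_odd h2) hs0
  obtain ⟨z, hz, hzm⟩ := exists_plus_torus m (exGen_of_odd h2) (neg_ne_zero.2 one_ne_zero : (-1 : F) ≠ 0)
  obtain ⟨h₁, hh₁⟩ : ∃ h₁ : Cfsg.specialIsometryGL F (⇑(qfPlus m F)), h₁.1 = h.1 :=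
    ⟨⟨h.1, h.2, Units.ext ((det_eq_of_spinorHom (qfPlus_sep m) h2 (by simp; omega) h).1 (congrArg Prod.fst hh))⟩,
      rfl⟩
  have hmat : g₁.1.map ι₀ = s • h₁.1.1 := by
    rw [hh₁, hg₁, hhm, Matrix.diagonal_map (map_zero ι₀), ← Matrix.diagonal_smul]
    congr 1
    funext i
    rcases i with i | i
    · simp [hs]
    · simp [hs0]
  have hneg : ∀ g' : Cfsg.specialIsometryGL F (⇑(qfPlus m F)), g'.1.1 = -1 → soSpinor K.sep h2 g' = 1 := by
    intro g' hg'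
    have he : (⟨g'.1, g'.2.1⟩ : Cfsg.isometryGroup F (⇑(qfPlus m F))) = z :=
      Subtype.ext (Units.ext (by
        show g'.1.1 = _
        rw [hg', hzm, ← Matrix.diagonal_one, Matrix.diagonal_neg]
        congr 1
        funext i
        rcases i with i | i <;> simp))
    show (spinorHom _ (qfPlus_sep m) (exGen_of_odd h2) ⟨g'.1, g'.2.1⟩).2 = 1
    rw [he, hz, sqClass_eq_one_iff]
    refine IsSquare.pow _ ?_
    obtain ⟨c, hc⟩ := isSquare_map_of_even ι₀ even_two hcard h2 (-1)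
    exact ⟨c, by rw [← hc, map_neg, map_one]⟩
  have key := splitClassCount_std_two ι₀ (qfPlus_baseChange ι₀ m) K K₀ (by simp; omega) h2 hcard σ hι
    (qfPlus_equivariant σ) ⟨g, μ, hμ, hgp h2, hgq⟩ hneg hν (hg₁p h20) hg₁q hs hmat
  have hsp : soSpinor K.sep h2 h₁ = 1 ↔ IsSquare (s ^ m) := by
    show (spinorHom _ (qfPlus_sep m) (exGen_of_odd h2) ⟨h₁.1, h₁.2.1⟩).2 = 1 ↔ _
    rw [show (⟨h₁.1, h₁.2.1⟩ : Cfsg.isometryGroup F (⇑(qfPlus m F))) = h from Subtype.ext hh₁, hh,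
      sqClass_eq_one_iff]
  rw [isSquare_sqrt_pow_iff ι₀ hcard h2 hν hs] at hsp
  exact ⟨fun h => key.2 fun he => hsp.1 he h, fun h => key.1 (hsp.2 h)⟩

theorem plus_field_centralizer {p f : ℕ} [Fact p.Prime] (hF : Fintype.card F = p ^ f) {m : ℕ} (hm : 4 ≤ m)
    (hnorm : ∀ K : OCtx (qfPlus m F), (properAut K m).Normal)
    (Q' : (Fin m ⊕ Fin m → F) → F) (hQ' : Q' = ⇑(qfPlus m F))
    (x : MulAut (Cfsg.POmega F Q')) (hx : Cfsg.IsFieldAutClassPOmega Q' x) {r : ℕ} (hr : r.Prime)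
    (hxr : orderOf x = r) (hF₀ : Fintype.card F₀ = p ^ (f / r))
    (Q₀' : (Fin m ⊕ Fin m → F₀) → F₀) (hQ₀' : Q₀' = ⇑(qfPlus m F₀)) :
    r ∣ f ∧ Nonempty (↥(plusInndiag Q' ⊓ Subgroup.centralizer {x}) ≃* ↥(plusInndiag Q₀')) ∧
      ((Odd r ∨ p = 2) → Cfsg.splitClassCount (plusInndiag Q') (Cfsg.Inn (Cfsg.POmega F Q')) x = 1) ∧
      ((r = 2 ∧ p ≠ 2 ∧ Odd m ∧ p ^ (f / 2) % 4 = 1) →
        Cfsg.splitClassCount (plusInndiag Q') (Cfsg.Inn (Cfsg.POmega F Q')) x = 2) ∧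
      ((r = 2 ∧ p ≠ 2 ∧ ¬ (Odd m ∧ p ^ (f / 2) % 4 = 1)) →
        Cfsg.splitClassCount (plusInndiag Q') (Cfsg.Inn (Cfsg.POmega F Q')) x = 4) := by
  subst hQ' hQ₀'
  have K := octx_qfPlus (F := F) hm
  have K₀ := octx_qfPlus (F := F₀) hm
  have hdim : Fintype.card (Fin m ⊕ Fin m) = 2 * m := by simp; omega
  haveI := hnorm K
  haveI : (Cfsg.Inn (Cfsg.POmega F (⇑(qfPlus m F)))).Normal := Cfsg.innNormal _
  rw [plusInndiag_eq hm K, plusInndiag_eq hm K₀]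
  obtain ⟨α, φ, σ, hσ, hφ, he⟩ := hx
  rw [eq_osimPOmega_std K (qfPlus_equivariant σ) hφ] at he
  have hσr : orderOf σ = r := by
    rw [← hxr, ← orderOf_osimPOmega_std K σ (qfPlus_equivariant σ), ← he, ← MulAut.conj_apply,
      MulEquiv.orderOf_eq]
  obtain ⟨hdvd, -, hemb⟩ := exists_fixed_embedding σ hF
  rw [hσr] at hdvd hemb
  obtain ⟨ι₀, hι⟩ := hemb F₀ hF₀
  have hcard : Fintype.card F = Fintype.card F₀ ^ r := by rw [hF, hF₀, ← pow_mul, Nat.div_mul_cancel hdvd]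
  have hcount : ∀ c, Cfsg.splitClassCount (properAut K m) (Cfsg.Inn (Cfsg.POmega F (⇑(qfPlus m F))))
      (osimPOmega K (OSim.std σ (qfPlus_equivariant σ))) = c →
      Cfsg.splitClassCount (properAut K m) (Cfsg.Inn (Cfsg.POmega F (⇑(qfPlus m F)))) x = c := by
    intro c hc
    rw [← splitClassCount_conj _ _ (inn_le_properAut K m) α x, he, hc]
  refine ⟨hdvd, ?_, ?_, ?_, ?_⟩
  · obtain ⟨e⟩ := centralizer_conj_equiv (properAut K m) α x
    rw [he] at e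
    obtain ⟨e'⟩ := centralizer_std_equiv ι₀ (qfPlus_baseChange ι₀ m) K K₀ hdim σ hι (qfPlus_equivariant σ)
    exact ⟨e.trans e'⟩
  · intro h
    refine hcount _ ?_
    by_cases hodd : Odd r
    · exact splitClassCount_std_odd ι₀ (qfPlus_baseChange ι₀ m) K K₀ hdim hodd hcard σ hι (qfPlus_equivariant σ)
        fun μ hμ => let ⟨g, _, hg, _⟩ := exists_plus_similitude m hμ; ⟨g, hg⟩
    · have hp : p = 2 := h.resolve_left hodd
      subst hp
      haveI : CharP F 2 := charP_of_card_eq_prime_pow hF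
      rw [splitClassCount_eq _ _ (inn_le_properAut K m), properAut_eq_inn K CharTwo.two_eq_zero,
        Subgroup.relIndex_eq_one]
      exact le_sup_left
  · rintro ⟨rfl, hp, h⟩
    rw [← hF₀] at h
    exact hcount _ ((splitClassCount_plus_two ι₀ hm (two_ne_zero_of_odd (by
      rw [hF]; exact ((Fact.out : p.Prime).odd_of_ne_two hp).pow)) K K₀ hcard hι).1 h)
  · rintro ⟨rfl, hp, h⟩
    rw [← hF₀] at h
    exact hcount _ ((splitClassCount_plus_two ι₀ hm (two_ne_zero_of_odd (by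
      rw [hF]; exact ((Fact.out : p.Prime).odd_of_ne_two hp).pow)) K K₀ hcard hι).2 h)

end CfsgLib.KnownC
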