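import Mathlib

set_option autoImplicit false
set_option linter.style.haveILetI false

/-!
Recognition of `C₂ × C₂ₙ` and `D₈ × Cₙ`.
-/

namespace CfsgLib.KnownC

variable {X : Type*} [Group X]

/-- The power map from a cyclic group. -/
theorem exists_zmod_hom (n : ℕ) (g : X) (hg : g ^ n = 1) :
    ∃ φ : Multiplicative (ZMod n) →* X, ∀ k : ℕ, φ (Multiplicative.ofAdd (k : ZMod n)) = g ^ k := by
  obtain ⟨f, hf⟩ : ∃ f : ZMod n →+ Additive X, ∀ k : ℕ, f (k : ZMod n) = k • Additive.ofMul g :=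
    ⟨ZMod.lift n ⟨zmultiplesHom (Additive X) (Additive.ofMul g),
      by rw [zmultiplesHom_apply, natCast_zsmul]; exact congrArg Additive.ofMul hg⟩, fun k => by
        rw [← Int.cast_natCast (R := ZMod n) k, ZMod.lift_coe]
        exact natCast_zsmul (Additive.ofMul g) k⟩
  exact ⟨AddMonoidHom.toMultiplicativeLeft f, fun k => congrArg Additive.toMul (hf k)⟩

theorem exists_natCast_eq {n : ℕ} [NeZero n] (a : Multiplicative (ZMod n)) :
    ∃ k : ℕ, k < n ∧ Multiplicative.ofAdd (k : ZMod n) = a :=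
  ⟨(Multiplicative.toAdd a).val, ZMod.val_lt _, by rw [ZMod.natCast_zmod_val]; rfl⟩

theorem ofAdd_natCast_eq_one {n k : ℕ} (h : n ∣ k) :
    Multiplicative.ofAdd (k : ZMod n) = 1 := by
  rw [(ZMod.natCast_eq_zero_iff k n).2 h]; rfl

/-- A group generated by two commuting elements with no relations but `ρ² = y^(2n) = 1`. -/
theorem nonempty_model_abelian {n : ℕ} (hn : 0 < n) {ρ y : X} (hρ : ρ ^ 2 = 1) (hy : y ^ (2 * n) = 1)
    (hcomm : ρ * y = y * ρ) (hsurj : ∀ x, ∃ j k : ℕ, x = ρ ^ j * y ^ k)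
    (hinj : ∀ j k : ℕ, ρ ^ j * y ^ k = 1 → 2 ∣ j ∧ 2 * n ∣ k) :
    Nonempty (X ≃* Multiplicative (ZMod 2 × ZMod (2 * n))) := by
  haveI : NeZero (2 * n) := ⟨by omega⟩
  obtain ⟨φ, hφ⟩ := exists_zmod_hom 2 ρ hρ
  obtain ⟨ψ, hψ⟩ := exists_zmod_hom (2 * n) y hy
  have hc : ∀ a b, Commute (φ a) (ψ b) := fun a b => by
    obtain ⟨j, -, rfl⟩ := exists_natCast_eq a
    obtain ⟨k, -, rfl⟩ := exists_natCast_eq b
    rw [hφ, hψ]
    exact (Commute.pow_pow hcomm j k)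
  obtain ⟨Θ, hΘ⟩ : ∃ Θ, Θ = MonoidHom.noncommCoprod φ ψ hc := ⟨_, rfl⟩
  have happ : ∀ j k : ℕ, Θ (Multiplicative.ofAdd (j : ZMod 2), Multiplicative.ofAdd (k : ZMod (2 * n))) =
      ρ ^ j * y ^ k := fun j k => by rw [hΘ, MonoidHom.noncommCoprod_apply, hφ, hψ]
  refine ⟨((MulEquiv.ofBijective Θ ⟨(injective_iff_map_eq_one _).2 ?_, fun x => ?_⟩).symm.trans
    (MulEquiv.prodMultiplicative (ZMod 2) (ZMod (2 * n))).symm)⟩
  · rintro ⟨a, b⟩ h
    obtain ⟨j, -, rfl⟩ := exists_natCast_eq a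
    obtain ⟨k, -, rfl⟩ := exists_natCast_eq b
    rw [happ] at h
    obtain ⟨h1, h3⟩ := hinj j k h
    exact Prod.ext (ofAdd_natCast_eq_one h1) (ofAdd_natCast_eq_one h3)
  · obtain ⟨j, k, rfl⟩ := hsurj x
    exact ⟨_, happ j k⟩

/-- A group generated by a dihedral pair of order eight and a commuting element of order `n`. -/
theorem nonempty_model_dihedral {n : ℕ} (hn : 0 < n) {R S Y : X} (hR : R ^ 4 = 1) (hS : S * S = 1)
    (hSR : S * R * S * R = 1) (hY : Y ^ n = 1) (hYR : Y * R = R * Y) (hYS : Y * S = S * Y)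
    (hsurj : ∀ x, ∃ i j k : ℕ, x = S ^ j * R ^ i * Y ^ k)
    (hinj : ∀ i j k : ℕ, S ^ j * R ^ i * Y ^ k = 1 → 4 ∣ i ∧ 2 ∣ j ∧ n ∣ k) :
    Nonempty (X ≃* DihedralGroup 4 × Multiplicative (ZMod n)) := by
  haveI : NeZero n := ⟨by omega⟩
  obtain ⟨χ, hχ⟩ := exists_zmod_hom 4 R hR
  obtain ⟨ψ, hψ⟩ := exists_zmod_hom n Y hY
  have hSinv : ∀ a, S * χ a = χ a⁻¹ * S := by
    have h1 : S * R * S⁻¹ = R⁻¹ := by
      rw [inv_eq_of_mul_eq_one_right hS]
      exact eq_inv_of_mul_eq_one_left hSR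
    intro a
    obtain ⟨k, -, rfl⟩ := exists_natCast_eq a
    rw [map_inv, hχ, ← inv_pow, ← h1, conj_pow, inv_mul_cancel_right]
  obtain ⟨D, hD⟩ : ∃ D : DihedralGroup 4 → X,
      (∀ i, D (.r i) = χ (Multiplicative.ofAdd i)) ∧ ∀ i, D (.sr i) = S * χ (Multiplicative.ofAdd i) :=
    ⟨fun g => match g with
      | .r i => χ (Multiplicative.ofAdd i)
      | .sr i => S * χ (Multiplicative.ofAdd i), fun _ => rfl, fun _ => rfl⟩
  have hmul : ∀ a b, D (a * b) = D a * D b := by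
    rintro (i | i) (j | j)
    · rw [DihedralGroup.r_mul_r, hD.1, hD.1, hD.1, ofAdd_add, map_mul]
    · rw [DihedralGroup.r_mul_sr, hD.2, hD.1, hD.2, ← mul_assoc,
        show χ (Multiplicative.ofAdd i) * S = S * χ (Multiplicative.ofAdd i)⁻¹ by rw [hSinv, inv_inv],
        mul_assoc, ← map_mul]
      congr 2
      rw [sub_eq_neg_add, ofAdd_add, ofAdd_neg]
    · rw [DihedralGroup.sr_mul_r, hD.2, hD.2, hD.1, ofAdd_add, map_mul, mul_assoc]
    · rw [DihedralGroup.sr_mul_sr, hD.1, hD.2, hD.2]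
      have e : χ (Multiplicative.ofAdd i) * S = S * χ (Multiplicative.ofAdd i)⁻¹ := by rw [hSinv, inv_inv]
      rw [show S * χ (Multiplicative.ofAdd i) * (S * χ (Multiplicative.ofAdd j)) =
        S * (χ (Multiplicative.ofAdd i) * S) * χ (Multiplicative.ofAdd j) by simp only [mul_assoc], e,
        ← mul_assoc, hS, one_mul, ← map_mul]
      congr 1
      rw [sub_eq_neg_add, ofAdd_add, ofAdd_neg]
  have hc : ∀ a b, Commute (MonoidHom.mk' D hmul a) (ψ b) := fun a b => by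
    obtain ⟨k, -, rfl⟩ := exists_natCast_eq b
    rw [hψ]
    refine Commute.pow_right ?_ k
    have hcχ : ∀ i, Commute (χ i) Y := fun i => by
      obtain ⟨l, -, rfl⟩ := exists_natCast_eq i
      rw [hχ]; exact Commute.pow_left (show Commute R Y from hYR.symm) l
    rcases a with i | i
    · show Commute (D (.r i)) Y; rw [hD.1]; exact hcχ _
    · show Commute (D (.sr i)) Y; rw [hD.2]; exact (show Commute S Y from hYS.symm).mul_left (hcχ _)
  obtain ⟨Θ, hΘ⟩ : ∃ Θ, Θ = MonoidHom.noncommCoprod (MonoidHom.mk' D hmul) ψ hc := ⟨_, rfl⟩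
  have happ : ∀ g (k : ℕ), Θ (g, Multiplicative.ofAdd (k : ZMod n)) = D g * Y ^ k := fun g k => by
    rw [hΘ, MonoidHom.noncommCoprod_apply, hψ]; rfl
  refine ⟨(MulEquiv.ofBijective Θ ⟨(injective_iff_map_eq_one _).2 ?_, fun x => ?_⟩).symm⟩
  · rintro ⟨g, b⟩ h
    obtain ⟨k, -, rfl⟩ := exists_natCast_eq b
    rw [happ] at h
    rcases g with i | i <;> obtain ⟨l, -, hl⟩ := exists_natCast_eq (Multiplicative.ofAdd i)
    · rw [hD.1, ← hl, hχ] at h
      obtain ⟨h4, -, hk⟩ := hinj l 0 k (by rw [pow_zero, one_mul]; exact h)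
      refine Prod.ext ?_ (ofAdd_natCast_eq_one hk)
      show DihedralGroup.r i = 1
      rw [DihedralGroup.one_def, ← Multiplicative.ofAdd.injective
        ((hl.symm.trans (ofAdd_natCast_eq_one h4)).trans ofAdd_zero.symm)]
    · rw [hD.2, ← hl, hχ] at h
      obtain ⟨-, h2, -⟩ := hinj l 1 k (by rw [pow_one]; exact h)
      omega
  · obtain ⟨i, j, k, rfl⟩ := hsurj x
    rcases Nat.even_or_odd' j with ⟨t, rfl | rfl⟩
    · refine ⟨(.r (i : ZMod 4), Multiplicative.ofAdd (k : ZMod n)), ?_⟩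
      rw [happ, hD.1, hχ, pow_mul S, pow_two, hS, one_pow, one_mul]
    · refine ⟨(.sr (i : ZMod 4), Multiplicative.ofAdd (k : ZMod n)), ?_⟩
      rw [happ, hD.2, hχ, pow_succ S, pow_mul S, pow_two, hS, one_pow, one_mul]

end CfsgLib.KnownC
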