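import Mathlib
import Cfsg.Agent.Lib.KnownC.AutPOmegaMinusAlg
import Cfsg.Agent.Lib.KnownC.FieldAut
import Cfsg.Agent.Lib.KnownC.OutModels

set_option autoImplicit false
set_option linter.unusedSectionVars false
set_option linter.style.haveILetI false

/-!
`Out (PΩ⁻(q))` for odd `q` when `-1 ∈ Ω`: `D₈ × C_f`.
-/

namespace CfsgLib.KnownC

open CfsgLib.Geom CfsgLib.Classical
open QuadraticMap (polar)
open Matrix

universe u

variable {F : Type u} [Field F] [Fintype F]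

theorem dih_one_facts :
    Multiplicative.ofAdd (1 : ZMod 2) * Multiplicative.ofAdd (1 : ZMod 2) = 1 ∧
      Multiplicative.ofAdd (1 : ZMod 2) ≠ 1 ∧
      ∀ y : Multiplicative (ZMod 2), y ≠ 1 → y = Multiplicative.ofAdd 1 := by decide

theorem sq_isometry_cases {m : ℕ} {a b : F} (K : OCtx (qfMinus m F a b))
    (h2 : (2 : F) ≠ 0)
    (hd : IsSquare (LinearMap.toMatrix₂' F (qfMinus m F a b).polarBilin).det)
    (g : Cfsg.isometryGroup F (⇑(qfMinus m F a b))) :
    isoHom K g ∈ Cfsg.Inn (Cfsg.POmega F (⇑(qfMinus m F a b))) ↔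
      g ∈ Cfsg.Omega F (⇑(qfMinus m F a b)) := by
  refine ⟨fun h => ?_, isoHom_omega K g⟩
  rcases (isoHom_mem_inn_iff K g).1 h with h | ⟨h', hh, hgh⟩
  · exact h
  · obtain ⟨z, hz, hz1⟩ := (neg_one_mem_omega_iff _ (LinearMap.nondegenerate_toMatrix₂'_iff.1
      (Matrix.nondegenerate_iff_det_ne_zero.2 (det_polar_ne_zero K))) h2 ⟨m + 1, by simp; omega⟩).2 hd
    rw [show g = z * h' from Subtype.ext (Units.ext (by
      rw [Subgroup.coe_mul, Units.val_mul, hz1, hgh, neg_one_mul]))]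
    exact mul_mem hz hh

theorem map_isoHom_pow_mul {ι : Type} [Fintype ι] [DecidableEq ι] {Q : QuadraticForm F (ι → F)}
    (K : OCtx Q) {X : Type*} [Monoid X] (π : MulAut (Cfsg.POmega F (⇑Q)) →* X)
    (a b : Cfsg.isometryGroup F (⇑Q)) (j l : ℕ) :
    π (isoHom K a) ^ j * π (isoHom K b) ^ l = π (isoHom K (a ^ j * b ^ l)) := by
  rw [map_mul, map_mul, map_pow, map_pow, map_pow, map_pow]

theorem map_isoHom_mul_osim {ι : Type} [Fintype ι] [DecidableEq ι] {Q : QuadraticForm F (ι → F)}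
    (K : OCtx Q) {X : Type*} [Monoid X] (π : MulAut (Cfsg.POmega F (⇑Q)) →* X)
    (a : Cfsg.isometryGroup F (⇑Q)) (P : OSim Q) :
    π (isoHom K a) * π (osimPOmega K P) = π (osimPOmega K ((OSim.ofIsometry a).comp P)) := by
  rw [osimPOmega_comp, map_mul, isoHom_apply]

attribute [local irreducible] osimPOmega isoHom

/-- `Out (PΩ⁻(q)) ≅ D₈ × C_f` when `-1 ∈ Ω`. -/
theorem out_minus_odd_dihedral {p f m : ℕ} [Fact p.Prime] (hf : 1 ≤ f) (hF : Fintype.card F = p ^ f)
    (hm : 3 ≤ m) (hq : Fintype.card F % 4 = 3) (hpar : Odd (m + 1)) :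
    Nonempty (Cfsg.Out (Cfsg.POmega F (⇑(qfMinus m F 0 (-(-1 : F))))) ≃*
      DihedralGroup 4 × Multiplicative (ZMod f)) := by
  haveI : CharP F p := charP_of_card_eq_prime_pow hF
  have h2 : (2 : F) ≠ 0 := two_ne_zero_of_odd (by rw [Nat.odd_iff]; omega)
  have hν : ¬ IsSquare (-1 : F) := fun h => FiniteField.isSquare_neg_one_iff.1 h hq
  have hab := anisotropic_normal hν
  have K := octx_minus hm hab
  have hdisc := (minus_disc_isSquare_iff (m := m) h2 hν).2 ⟨hq, hpar⟩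
  have hinn := sq_isometry_cases K h2 hdisc
  obtain ⟨φ, hφ, hφo, hφg⟩ := exists_ringAut_generator hF
  haveI : NeZero p := ⟨(Fact.out : p.Prime).ne_zero⟩
  obtain ⟨u₀, t₀, hut⟩ := CharP.sq_add_sq F p (-1)
  obtain ⟨u, t, hu, ht, hut⟩ : ∃ u t : F, φ u = u ∧ φ t = t ∧ u ^ 2 + t ^ 2 = -1 :=
    ⟨u₀, t₀, map_natCast φ u₀, map_natCast φ t₀, by rw [hut]; simp⟩
  obtain ⟨Y, hYσ, hYc, hYT⟩ := exists_minusSim m 0 (-(-1 : F)) φ 1 one_ne_zero 1
    (by simp) fun z => by simp [binForm_apply, map_neg, map_one]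
  obtain ⟨P, hPσ, hPc, hPT⟩ := exists_minusSim m 0 (-(-1 : F)) (RingEquiv.refl F) (-1 : F)
    (neg_ne_zero.2 one_ne_zero) !![u, -1 * t; t, u]
    (by rw [twist_det, show u ^ 2 - -1 * t ^ 2 = (-1 : F) by linear_combination hut]
        exact neg_ne_zero.2 one_ne_zero) fun z => by
      simp only [RingEquiv.refl_apply]
      rw [binForm_twist, show u ^ 2 - -1 * t ^ 2 = (-1 : F) by linear_combination hut]
  have hQ0 : qfMinus m F 0 (-(-1 : F)) (minusVec m ![1, 0]) ≠ 0 := by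
    rw [qfMinus_minusVec, binForm_apply]; simp
  have hQ1 : qfMinus m F 0 (-(-1 : F)) (minusVec m ![0, 1]) ≠ 0 := by
    rw [qfMinus_minusVec, binForm_apply]; simp
  have hQv : qfMinus m F 0 (-(-1 : F)) (minusVec m ![-t, u]) = -1 := by
    rw [qfMinus_minusVec, binForm_apply]; simp; linear_combination hut
  have hQv0 : qfMinus m F 0 (-(-1 : F)) (minusVec m ![-t, u]) ≠ 0 := by
    rw [hQv]; exact neg_ne_zero.2 one_ne_zero
  obtain ⟨r, hr⟩ : ∃ r, r = reflIsom (qfMinus m F 0 (-(-1 : F))) (minusVec m ![1, 0]) hQ0 := ⟨_, rfl⟩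
  obtain ⟨r', hr'⟩ : ∃ r', r' = reflIsom (qfMinus m F 0 (-(-1 : F))) (minusVec m ![0, 1]) hQ1 := ⟨_, rfl⟩
  obtain ⟨r'', hr''⟩ : ∃ r'', r'' = reflIsom (qfMinus m F 0 (-(-1 : F))) (minusVec m ![-t, u]) hQv0 :=
    ⟨_, rfl⟩
  have hrmat : r.1.1 = minusMat m 1 !![-1, 0; 0, 1] := by
    rw [hr, reflIsom_minusVec, two_reflection_e0 h2]
  have hr'mat : r'.1.1 = minusMat m 1 !![1, 0; 0, -1] := by
    rw [hr', reflIsom_minusVec, two_reflection_e1 h2 (by simp)]
  have hr''mat : r''.1.1 = minusMat m 1 !![1 + 2 * t ^ 2, -(2 * t * u); -(2 * t * u), 1 + 2 * u ^ 2] := by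
    rw [hr'', reflIsom_minusVec]
    congr 1
    refine Matrix.ext_iff_mulVec.2 fun x => ?_
    rw [reflectionMatrix_mulVec, show binForm (0 : F) (-(-1)) ![-t, u] = -1 by
      rw [binForm_apply]; simp; linear_combination hut]
    funext i
    fin_cases i <;>
      simp [binForm_polar, binForm_apply, Matrix.mulVec, dotProduct, Fin.sum_univ_two] <;> ring
  obtain ⟨g₂, hg₂⟩ : ∃ g₂, g₂ = r'' * r := ⟨_, rfl⟩
  obtain ⟨χ, hχ⟩ : ∃ χ, χ = spinorHom _ K.sep (exGen_of_odd h2) := ⟨_, rfl⟩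
  have hω : ∀ g, g ∈ Cfsg.Omega F (⇑(qfMinus m F 0 (-(-1 : F)))) ↔ χ g = 1 := fun g => by
    rw [hχ, omega_eq_ker_spinorHom _ K.sep (exGen_of_odd h2), MonoidHom.mem_ker]
  obtain ⟨h11, hone, hall⟩ := dih_one_facts
  have h1 : ∀ (x : F) (hx : x ≠ 0), x = 1 → sqClass hx = 1 := fun x hx h => by
    rw [sqClass_eq_one_iff, h]; exact IsSquare.one
  have hχr : χ r = (Multiplicative.ofAdd (1 : ZMod 2), 1) := by
    rw [hχ, hr, spinorHom_reflIsom, h1 _ _ (by rw [qfMinus_minusVec, binForm_apply]; simp)]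
  have hχr' : χ r' = (Multiplicative.ofAdd (1 : ZMod 2), 1) := by
    rw [hχ, hr', spinorHom_reflIsom, h1 _ _ (by rw [qfMinus_minusVec, binForm_apply]; simp)]
  obtain ⟨ε, hε, hεne⟩ : ∃ ε : SqClass F, χ r'' = (Multiplicative.ofAdd (1 : ZMod 2), ε) ∧ ε ≠ 1 := by
    refine ⟨_, by rw [hχ, hr'', spinorHom_reflIsom], ?_⟩
    rw [Ne, sqClass_eq_one_iff, hQv]; exact hν
  have hχg₂ : χ g₂ = (1, ε) := by
    rw [hg₂, map_mul, hε, hχr, Prod.mk_mul_mk, h11, mul_one]
  obtain ⟨π, hπ⟩ : ∃ π : MulAut (Cfsg.POmega F (⇑(qfMinus m F 0 (-(-1 : F))))) →*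
      Cfsg.Out (Cfsg.POmega F (⇑(qfMinus m F 0 (-(-1 : F))))),
      π = QuotientGroup.mk' (Cfsg.Inn (Cfsg.POmega F (⇑(qfMinus m F 0 (-(-1 : F)))))) := ⟨_, rfl⟩
  have hπ1 : ∀ x, π x = 1 ↔ x ∈ Cfsg.Inn (Cfsg.POmega F (⇑(qfMinus m F 0 (-(-1 : F))))) := fun x => by
    rw [hπ, QuotientGroup.mk'_apply, QuotientGroup.eq_one_iff]
  have hπω : ∀ g, χ g = 1 → π (isoHom K g) = 1 := fun g hg =>
    (hπ1 _).2 (isoHom_omega K g ((hω g).2 hg))
  -- the square of the similitude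
  have hP2 : π (osimPOmega K P) ^ 2 = π (isoHom K g₂) := by
    rw [← map_pow]
    refine congrArg π (osimPOmega_pow_eq_isoHom K fun v => ?_)
    show P.T (P.T v) = _
    rw [hPT, hPT, hg₂, Subgroup.coe_mul, Units.val_mul, hr''mat, hrmat, minusMat_mul]
    simp only [RingEquiv.refl_apply]
    rw [mulVec_mulVec, minusMat_mul]
    congr 2
    · ring
    · ext i j
      fin_cases i <;> fin_cases j <;> simp [Matrix.mul_apply, Fin.sum_univ_two]
      · linear_combination hut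
      · ring
      · ring
      · linear_combination -hut
  have hg₂sq : π (isoHom K g₂) * π (isoHom K g₂) = 1 := by
    rw [← map_mul, ← map_mul]
    exact hπω _ (by rw [map_mul, hχg₂, Prod.mk_mul_mk, one_mul, sqClass_mul_self]; rfl)
  have hS2 : π (isoHom K r) * π (isoHom K r) = 1 := by
    rw [← map_mul, ← map_mul]
    exact hπω _ (by rw [map_mul, hχr, Prod.mk_mul_mk, h11, one_mul]; rfl)
  have hSR : π (isoHom K r) * π (osimPOmega K P) * π (isoHom K r) * π (osimPOmega K P) = 1 := by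
    rw [isoHom_apply, ← map_mul, ← map_mul, ← map_mul, ← osimPOmega_comp, ← osimPOmega_comp,
      ← osimPOmega_comp]
    have hx : osimPOmega K ((((OSim.ofIsometry r).comp P).comp (OSim.ofIsometry r)).comp P) =
        isoHom K (r * r') := by
      rw [isoHom_apply]
      refine osimPOmega_congr K fun v => ?_
      show (OSim.ofIsometry r).T (P.T ((OSim.ofIsometry r).T (P.T v))) = _
      rw [OSim.ofIsometry_T, OSim.ofIsometry_T, OSim.ofIsometry_T, hPT, hPT, Subgroup.coe_mul,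
        Units.val_mul, hrmat, hr'mat]
      simp only [RingEquiv.refl_apply]
      rw [mulVec_mulVec, mulVec_mulVec, mulVec_mulVec, minusMat_mul, minusMat_mul, minusMat_mul,
        minusMat_mul]
      congr 2
      · ring
      · ext i j
        fin_cases i <;> fin_cases j <;> simp [Matrix.mul_apply, Fin.sum_univ_two]
        · linear_combination hut
        · ring
        · ring
        · linear_combination hut
    rw [hx]
    exact hπω _ (by rw [map_mul, hχr, hχr', Prod.mk_mul_mk, h11, one_mul]; rfl)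
  have hYf : π (osimPOmega K Y) ^ f = 1 := by
    rw [← map_pow, osimPOmega_pow_eq_one K (k := f) fun v => ?_, map_one]
    have hit : ∀ (k : ℕ), (⇑Y.T)^[k] v = fun i => v i ^ (p ^ k) := fun k => by
      induction k with
      | zero => simp
      | succ k ih =>
        rw [Function.iterate_succ_apply', ih, hYT, minusMat_one, one_mulVec]
        funext i
        rw [hφ, ← pow_mul, ← pow_succ]
    rw [hit, ← hF]
    exact funext fun i => FiniteField.pow_card _
  have hYR : π (osimPOmega K Y) * π (osimPOmega K P) = π (osimPOmega K P) * π (osimPOmega K Y) := by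
    rw [← map_mul, ← map_mul, ← osimPOmega_comp, ← osimPOmega_comp]
    refine congrArg π (osimPOmega_congr K fun v => ?_)
    show Y.T (P.T v) = P.T (Y.T v)
    rw [hPT, hYT, hYT, hPT]
    simp only [RingEquiv.refl_apply]
    rw [minusMat_map, mulVec_mulVec, mulVec_mulVec, minusMat_mul, minusMat_mul]
    congr 2
    · simp
    · ext i j
      fin_cases i <;> fin_cases j <;> simp [hu, ht]
  have hYS : π (osimPOmega K Y) * π (isoHom K r) = π (isoHom K r) * π (osimPOmega K Y) := by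
    rw [isoHom_apply, ← map_mul, ← map_mul, ← osimPOmega_comp, ← osimPOmega_comp]
    refine congrArg π (osimPOmega_congr K fun v => ?_)
    show Y.T ((OSim.ofIsometry r).T v) = (OSim.ofIsometry r).T (Y.T v)
    rw [OSim.ofIsometry_T, OSim.ofIsometry_T, hYT, hYT, hrmat, minusMat_map, mulVec_mulVec,
      mulVec_mulVec, minusMat_mul, minusMat_mul]
    congr 2
    · simp
    · ext i j
      fin_cases i <;> fin_cases j <;> simp
  have hR4 : π (osimPOmega K P) ^ 4 = 1 := by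
    rw [show 4 = 2 * 2 from rfl, pow_mul, hP2, pow_two, hg₂sq]
  refine nonempty_model_dihedral (by omega) hR4 hS2 hSR hYf hYR hYS (fun x => ?_) fun i j k h => ?_
  · obtain ⟨β, rfl⟩ := QuotientGroup.mk'_surjective _ x
    rw [← hπ]
    obtain ⟨Φ, k, hΦ, rfl⟩ := exists_eq_mul_pow K (noFour_minus hm hab) Y (by rw [hYσ]; exact hφg) β
    have key : ∀ Φ : OSim (qfMinus m F 0 (-(-1 : F))), Φ.σ = RingEquiv.refl F → IsSquare Φ.c →
        ∃ j l : ℕ, π (osimPOmega K Φ) = π (isoHom K r) ^ j * π (osimPOmega K P) ^ (2 * l) := by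
      intro Φ hΦ hc
      obtain ⟨s, hs⟩ := hc
      obtain ⟨M, hM⟩ := exists_matrix_of_sim K hΦ
      obtain ⟨g, hg, -⟩ := exists_isoHom_of_square K Φ hΦ hs M hM
      rw [← hg]
      obtain ⟨j, l, hjl⟩ : ∃ j l : ℕ, χ g = χ (r ^ j * g₂ ^ l) := by
        have e1 : ∃ j : ℕ, Multiplicative.ofAdd (1 : ZMod 2) ^ j = (χ g).1 := by
          by_cases h : (χ g).1 = 1
          · exact ⟨0, by rw [h, pow_zero]⟩
          · exact ⟨1, by rw [hall _ h, pow_one]⟩
        have e2 : ∃ l : ℕ, ε ^ l = (χ g).2 := by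
          by_cases h : (χ g).2 = 1
          · exact ⟨0, by rw [h, pow_zero]⟩
          · exact ⟨1, by rw [sqClass_two _ _ h hεne, pow_one]⟩
        obtain ⟨j, hj⟩ := e1
        obtain ⟨l, hl⟩ := e2
        refine ⟨j, l, ?_⟩
        rw [map_mul, map_pow, map_pow, hχr, hχg₂, Prod.pow_mk, Prod.pow_mk, Prod.mk_mul_mk, one_pow,
          one_pow, one_mul, mul_one, hj, hl]
      refine ⟨j, l, ?_⟩
      have h3 := hπω (g * (r ^ j * g₂ ^ l)⁻¹) (by rw [map_mul, map_inv, hjl, mul_inv_cancel])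
      rw [map_mul, map_mul, map_inv, map_inv, mul_inv_eq_one] at h3
      rw [h3, map_mul, map_mul, map_pow, map_pow, map_pow, map_pow, pow_mul, hP2]
    rw [map_mul, map_pow]
    by_cases hc : IsSquare Φ.c
    · obtain ⟨j, l, hl⟩ := key Φ hΦ hc
      exact ⟨2 * l, j, k, by rw [hl]⟩
    · obtain ⟨j, l, hl⟩ := key (Φ.comp P) (by show P.σ.trans Φ.σ = _; rw [hΦ, hPσ]; rfl) (by
        show IsSquare (Φ.c * Φ.σ P.c)
        rw [hΦ, hPc, RingEquiv.refl_apply, mul_neg, mul_one]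
        by_contra hneg
        have hn := neg_ne_zero.2 Φ.c_ne
        have h4 := sqClass_two (sqClass Φ.c_ne) (sqClass hn) (by rwa [Ne, sqClass_eq_one_iff])
          (by rwa [Ne, sqClass_eq_one_iff])
        rw [sqClass_eq_iff] at h4
        obtain ⟨s, -, hs⟩ := h4
        exact hν ⟨s⁻¹, by
          have hs0 : s ≠ 0 := fun h0 => Φ.c_ne (by rw [hs, h0]; ring)
          have h5 : s * s = -1 := mul_right_cancel₀ Φ.c_ne (by linear_combination hs)
          rw [← mul_inv, h5, inv_neg_one]⟩)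
      refine ⟨2 * l + 3, j, k, ?_⟩
      rw [osimPOmega_comp, map_mul] at hl
      rw [pow_add (π (osimPOmega K P)), ← mul_assoc, ← hl, mul_assoc (π (osimPOmega K Φ)), ← pow_succ',
        hR4, mul_one]
  · have hσ : ∀ {Φ : OSim (qfMinus m F 0 (-(-1 : F)))}, π (osimPOmega K Φ) = 1 →
        Φ.σ = RingEquiv.refl F ∧ ∃ a : F, Φ.c = a * a := fun {Φ} hΦ => of_osimPOmega_mem_inn K ((hπ1 _).1 hΦ)
    obtain ⟨Φ, hΦ⟩ : ∃ Φ, Φ = (((OSim.ofIsometry r).pow j).comp (P.pow i)).comp (Y.pow k) := ⟨_, rfl⟩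
    have hΦe : π (osimPOmega K Φ) = 1 := by
      rw [hΦ, osimPOmega_comp, osimPOmega_comp, osimPOmega_pow, osimPOmega_pow, osimPOmega_pow,
        ← isoHom_apply, map_mul, map_mul, map_pow, map_pow, map_pow]
      exact h
    obtain ⟨h3, a, ha⟩ := hσ hΦe
    have hσpow : ∀ (Ψ : OSim (qfMinus m F 0 (-(-1 : F)))), Ψ.σ = RingEquiv.refl F →
        ∀ n : ℕ, (Ψ.pow n).σ = RingEquiv.refl F := fun Ψ hΨ n => by
      rw [OSim.pow_σ, hΨ]; exact one_pow n
    have hYk : φ ^ k = 1 := by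
      have e : Φ.σ = (Y.pow k).σ.trans ((P.pow i).σ.trans ((OSim.ofIsometry r).pow j).σ) := by rw [hΦ]; rfl
      rw [hσpow P hPσ i, hσpow (OSim.ofIsometry r) rfl j, OSim.pow_σ, hYσ] at e
      rw [h3] at e
      exact RingEquiv.ext fun x => (RingEquiv.congr_fun e x).symm
    have hk : f ∣ k := hφo ▸ orderOf_dvd_of_pow_eq_one hYk
    have hYk1 : π (osimPOmega K Y) ^ k = 1 := by
      obtain ⟨l, rfl⟩ := hk; rw [pow_mul, hYf, one_pow]
    rw [hYk1, mul_one] at h
    have hi : 2 ∣ i := by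
      rcases Nat.even_or_odd' i with ⟨l, rfl | rfl⟩
      · exact dvd_mul_right 2 l
      · rw [pow_succ, pow_mul, hP2, ← mul_assoc, map_isoHom_pow_mul, map_isoHom_mul_osim] at h
        obtain ⟨-, b, hb⟩ := hσ h
        rw [show ((OSim.ofIsometry (r ^ j * g₂ ^ l)).comp P).c = 1 * P.c from rfl, hPc, one_mul] at hb
        exact absurd ⟨b, hb⟩ hν
    obtain ⟨l, rfl⟩ := hi
    rw [pow_mul, hP2, map_isoHom_pow_mul, hπ1, hinn, hω,
      map_mul, map_pow, map_pow, hχr, hχg₂, Prod.pow_mk, Prod.pow_mk, Prod.mk_mul_mk, one_pow, one_pow,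
      one_mul, mul_one, Prod.mk_eq_one] at h
    obtain ⟨hj, hl⟩ := h
    refine ⟨?_, ?_, hk⟩
    · rcases Nat.even_or_odd' l with ⟨s, rfl | rfl⟩
      · exact ⟨s, by ring⟩
      · rw [pow_succ, pow_mul, pow_two, sqClass_mul_self, one_pow, one_mul] at hl
        exact absurd hl hεne
    · rcases Nat.even_or_odd' j with ⟨s, rfl | rfl⟩
      · exact dvd_mul_right 2 s
      · rw [pow_succ, pow_mul, pow_two, h11, one_pow, one_mul] at hj
        exact absurd hj hone

end CfsgLib.KnownC
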