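import Mathlib
import Cfsg.Agent.Lib.KnownC.AutPOmegaMinusAlg
import Cfsg.Agent.Lib.KnownC.FieldAut
import Cfsg.Agent.Lib.KnownC.OutModels

set_option autoImplicit false
set_option linter.unusedSectionVars false
set_option linter.style.haveILetI false

/-!
`Out (PΩ⁻(q))` for odd `q` when `-1 ∉ Ω`: `C₂ × C_{2f}`.
-/

namespace CfsgLib.KnownC

open CfsgLib.Geom CfsgLib.Classical
open QuadraticMap (polar)
open Matrix

universe u

variable {F : Type u} [Field F]

theorem OSim.pow_c {V : Type*} [AddCommGroup V] [Module F V] {Q : QuadraticForm F V} (Φ : OSim Q)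
    (h : Φ.c = 1) (k : ℕ) : (Φ.pow k).c = 1 := by
  induction k with
  | zero => rfl
  | succ k ih =>
    show Φ.c * Φ.σ (Φ.pow k).c = 1
    rw [h, ih, map_one, one_mul]

variable [Fintype F]

theorem map_osimPOmega_comp_pow {ι : Type} [Fintype ι] [DecidableEq ι] {Q : QuadraticForm F (ι → F)}
    (K : OCtx Q) {X : Type*} [Monoid X] (π : MulAut (Cfsg.POmega F (⇑Q)) →* X) (Φ Ψ : OSim Q) (k : ℕ) :
    π (osimPOmega K (Φ.comp (Ψ.pow k))) = π (osimPOmega K Φ) * π (osimPOmega K Ψ) ^ k := by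
  rw [osimPOmega_comp, osimPOmega_pow, map_mul, map_pow]

theorem neg_isometry_det {ι : Type} [Fintype ι] [DecidableEq ι] (heven : Even (Fintype.card ι))
    {g h : Matrix ι ι F} (hgh : g = -h) : g.det = h.det := by
  rw [hgh, Matrix.det_neg, heven.neg_one_pow, one_mul]

attribute [local irreducible] osimPOmega isoHom

/-- `Out (PΩ⁻(q)) ≅ C₂ × C_{2f}` when `-1 ∉ Ω`. -/
theorem out_minus_odd_abelian {p f m : ℕ} [Fact p.Prime] (hf : 1 ≤ f) (hF : Fintype.card F = p ^ f)
    (hp : p ≠ 2) (hm : 3 ≤ m) {ν : F} (hν : ¬ IsSquare ν)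
    (hd : ¬ (Fintype.card F % 4 = 3 ∧ Odd (m + 1))) :
    Nonempty (Cfsg.Out (Cfsg.POmega F (⇑(qfMinus m F 0 (-ν)))) ≃*
      Multiplicative (ZMod 2 × ZMod (2 * f))) := by
  have hpodd : Odd p := (Fact.out : p.Prime).odd_of_ne_two hp
  have h2 : (2 : F) ≠ 0 := two_ne_zero_of_odd (by rw [hF]; exact hpodd.pow)
  have hν0 : ν ≠ 0 := fun h => hν (h ▸ IsSquare.zero)
  have hab := anisotropic_normal hν
  have K := octx_minus hm hab
  have hdisc := mt (minus_disc_isSquare_iff (m := m) h2 hν).1 hd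
  obtain ⟨φ, hφ, hφo, hφg⟩ := exists_ringAut_generator hF
  obtain ⟨a, ha⟩ := hpodd
  -- the semilinear generator
  obtain ⟨Y, hYσ, hYc, hYT⟩ := exists_minusSim m 0 (-ν) φ 1 one_ne_zero !![1, 0; 0, ν ^ a]
    (by simp [Matrix.det_fin_two_of, hν0]) fun z => by
      simp only [binForm_apply, map_zero, map_neg, hφ ν]
      simp [Matrix.mulVec, dotProduct, Fin.sum_univ_two, ha]
      ring
  obtain ⟨S, hS⟩ : ∃ S : ℕ → ℕ, ∀ k, p ^ k = 2 * S k + 1 :=
    ⟨fun k => p ^ k / 2, fun k => by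
      show p ^ k = 2 * (p ^ k / 2) + 1
      have := Nat.odd_iff.1 ((show Odd p from ⟨a, ha⟩).pow (n := k)); omega⟩
  have hS' : ∀ k, S (k + 1) = a + p * S k := fun k => by
    have h1 := hS (k + 1)
    rw [pow_succ, hS k, ha] at h1
    rw [ha]; linarith
  have hiter : ∀ (k : ℕ) (v : (Fin m ⊕ Fin m) ⊕ Fin 2 → F), (⇑Y.T)^[k] v =
      minusMat m 1 !![1, 0; 0, ν ^ S k] *ᵥ fun i => v i ^ (p ^ k) := by
    intro k
    induction k with
    | zero =>
      intro v
      have h0 : S 0 = 0 := by have := hS 0; rw [pow_zero] at this; omega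
      rw [h0, pow_zero, ← Matrix.one_fin_two, minusMat_one, one_mulVec]
      simp
    | succ k ih =>
      intro v
      rw [Function.iterate_succ_apply', ih, hYT, minusMat_map, mulVec_mulVec, minusMat_mul]
      congr 1
      · congr 1
        · simp
        · ext i j
          fin_cases i <;> fin_cases j <;>
            simp [Matrix.mul_apply, Fin.sum_univ_two, hφ, hS', pow_add, ← pow_mul, mul_comm p,
              (Fact.out : p.Prime).ne_zero]
      · exact funext fun i => by rw [hφ, ← pow_mul, ← pow_succ]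
  obtain ⟨e, he⟩ : ∃ e : Fin 2 → F, e = ![0, 1] := ⟨_, rfl⟩
  have hQe : qfMinus m F 0 (-ν) (minusVec m e) ≠ 0 := by
    rw [qfMinus_minusVec, he, binForm_apply]; simp [hν0]
  obtain ⟨r, hr⟩ : ∃ r, r = reflIsom (qfMinus m F 0 (-ν)) (minusVec m e) hQe := ⟨_, rfl⟩
  have hrmat : r.1.1 = minusMat m 1 !![1, 0; 0, -1] := by
    rw [hr, reflIsom_minusVec, he, two_reflection_e1 h2 (neg_ne_zero.2 hν0)]
  have hνf : ν ^ S f = -1 := by
    have hc : ringChar F ≠ 2 := fun h => h2 (by exact_mod_cast (ringChar.spec F 2).2 (h ▸ dvd_rfl))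
    rw [show S f = Fintype.card F / 2 by rw [hF, hS f]; omega]
    exact (FiniteField.pow_dichotomy hc hν0).resolve_left
      (mt (FiniteField.isSquare_iff hc hν0).2 hν)
  have hYf : osimPOmega K Y ^ f = isoHom K r := by
    refine osimPOmega_pow_eq_isoHom K fun v => ?_
    rw [hiter, hνf, hrmat, ← hF]
    simp only [FiniteField.pow_card]
  -- a similitude with non-square multiplier
  obtain ⟨w, hw⟩ := exists_value (binForm (0 : F) (-ν)) h2 (fun x hx => by
      have h0 := hx ![1, 0]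
      have h1 := hx ![0, 1]
      simp [binForm_polar, h2, hν0] at h0 h1
      funext i; fin_cases i <;> assumption) (by simp) ν hν0
  obtain ⟨u, t, hut⟩ : ∃ u t : F, u ^ 2 - ν * t ^ 2 = ν :=
    ⟨w 0, w 1, by rw [binForm_apply] at hw; linear_combination hw⟩
  obtain ⟨P, hPσ, hPc, hPT⟩ := exists_minusSim m 0 (-ν) (RingEquiv.refl F) ν hν0 !![u, ν * t; t, u]
    (by rw [twist_det, hut]; exact hν0) fun z => by
      simp only [RingEquiv.refl_apply]; rw [binForm_twist, hut]
  have hut' : (φ u) ^ 2 - ν * (ν ^ a * φ t) ^ 2 = φ ν := by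
    conv_rhs => rw [← hut]
    simp only [map_sub, map_mul, map_pow, hφ ν, ha]
    ring
  obtain ⟨P', hP'σ, hP'c, hP'T⟩ := exists_minusSim m 0 (-ν) (RingEquiv.refl F) (φ ν)
    ((map_ne_zero φ).2 hν0) !![φ u, ν * (ν ^ a * φ t); ν ^ a * φ t, φ u]
    (by rw [twist_det, hut']; exact (map_ne_zero φ).2 hν0) fun z => by
      simp only [RingEquiv.refl_apply]; rw [binForm_twist, hut']
  obtain ⟨π, hπ⟩ : ∃ π : MulAut (Cfsg.POmega F (⇑(qfMinus m F 0 (-ν)))) →*
      Cfsg.Out (Cfsg.POmega F (⇑(qfMinus m F 0 (-ν)))),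
      π = QuotientGroup.mk' (Cfsg.Inn (Cfsg.POmega F (⇑(qfMinus m F 0 (-ν))))) := ⟨_, rfl⟩
  have hπ1 : ∀ x, π x = 1 ↔ x ∈ Cfsg.Inn (Cfsg.POmega F (⇑(qfMinus m F 0 (-ν)))) := fun x => by
    rw [hπ, QuotientGroup.mk'_apply, QuotientGroup.eq_one_iff]
  have heven : Even (Fintype.card ((Fin m ⊕ Fin m) ⊕ Fin 2)) := ⟨m + 1, by simp; omega⟩
  have hr_det : r.1.1.det = -1 := by rw [hrmat, minusMat_det, Matrix.det_fin_two_of]; ring
  have hne1 : (-1 : F) ≠ 1 := fun h => h2 (by linear_combination -h)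
  have hr_not : isoHom K r ∉ Cfsg.Inn (Cfsg.POmega F (⇑(qfMinus m F 0 (-ν)))) := by
    intro h
    refine hne1 (hr_det.symm.trans ?_)
    rcases (isoHom_mem_inn_iff K r).1 h with h | ⟨g, hg, hgr⟩
    · exact congrArg Units.val (omega_le_special _ h : Matrix.GeneralLinearGroup.det r.1 = 1)
    · rw [neg_isometry_det heven hgr]
      exact congrArg Units.val (omega_le_special _ hg : Matrix.GeneralLinearGroup.det g.1 = 1)
  -- similitudes with square multiplier and the expected determinant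
  have hsim : ∀ (Φ : OSim (qfMinus m F 0 (-ν))) (d s : F) (A : Matrix (Fin 2) (Fin 2) F),
      Φ.σ = RingEquiv.refl F → Φ.c = d → d = s * s → A.det = d →
      (∀ v, Φ.T v = minusMat m d A *ᵥ v) → π (osimPOmega K Φ) = 1 := by
    intro Φ d s A hσ hc hds hA hT
    obtain ⟨g, hg, hgM⟩ := exists_isoHom_of_square K Φ hσ (hc.trans hds) _ hT
    rw [hπ1, ← hg]
    refine isoHom_mem_inn_of_det K h2 hdisc (mul_left_cancel₀ (a := s ^ (2 * (m + 1))) ?_ ?_)
    · refine pow_ne_zero _ fun h => Φ.c_ne ?_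
      rw [hc, hds, h, mul_zero]
    · have h1 := congrArg Matrix.det hgM
      rw [minusMat_det, hA, Matrix.det_smul,
        show Fintype.card ((Fin m ⊕ Fin m) ⊕ Fin 2) = 2 * (m + 1) by simp; omega] at h1
      rw [← h1, mul_one, pow_mul, pow_two, ← hds, pow_succ]
  have hP2 : π (osimPOmega K P) * π (osimPOmega K P) = 1 := by
    rw [← map_mul, ← osimPOmega_comp]
    refine hsim _ (ν * ν) ν (!![u, ν * t; t, u] * !![u, ν * t; t, u]) ?_ ?_ rfl ?_ fun v => ?_
    · show P.σ.trans P.σ = _; rw [hPσ]; rfl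
    · show P.c * P.σ P.c = _; rw [hPc, hPσ]; rfl
    · rw [Matrix.det_mul, twist_det, hut]
    · show P.T (P.T v) = _
      rw [hPT, hPT]
      simp only [RingEquiv.refl_apply]
      rw [mulVec_mulVec, minusMat_mul]
  have hP'P : π (osimPOmega K P') * π (osimPOmega K P) = 1 := by
    rw [← map_mul, ← osimPOmega_comp]
    refine hsim _ (φ ν * ν) (ν ^ (a + 1)) (!![φ u, ν * (ν ^ a * φ t); ν ^ a * φ t, φ u] * !![u, ν * t; t, u])
      ?_ ?_ (by rw [hφ, ha]; ring) ?_ fun v => ?_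
    · show P.σ.trans P'.σ = _; rw [hPσ, hP'σ]; rfl
    · show P'.c * P'.σ P.c = _; rw [hP'c, hP'σ, hPc]; rfl
    · rw [Matrix.det_mul, twist_det, twist_det, hut', hut]
    · show P'.T (P.T v) = _
      rw [hP'T, hPT]
      simp only [RingEquiv.refl_apply]
      rw [mulVec_mulVec, minusMat_mul]
  have hP' : π (osimPOmega K P') = π (osimPOmega K P) :=
    mul_right_cancel (hP'P.trans hP2.symm)
  have hcomm : π (osimPOmega K P) * π (osimPOmega K Y) = π (osimPOmega K Y) * π (osimPOmega K P) := by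
    conv_lhs => rw [← hP', ← map_mul, ← osimPOmega_comp]
    rw [← map_mul, ← osimPOmega_comp]
    refine congrArg π (osimPOmega_congr K fun v => ?_)
    show P'.T (Y.T v) = Y.T (P.T v)
    rw [hP'T, hYT, hYT, hPT]
    simp only [RingEquiv.refl_apply]
    rw [minusMat_map, mulVec_mulVec, mulVec_mulVec, minusMat_mul, minusMat_mul]
    congr 2
    · ring
    · ext i j
      fin_cases i <;> fin_cases j <;> simp [Matrix.mul_apply, Fin.sum_univ_two, hφ, ha] <;> ring
  have hPpow : ∀ i : ℕ,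
      π (osimPOmega K P) ^ (2 * i) = 1 ∧ π (osimPOmega K P) ^ (2 * i + 1) = π (osimPOmega K P) := fun i => by
    generalize π (osimPOmega K P) = x at hP2 ⊢
    exact ⟨by rw [pow_mul, pow_two, hP2, one_pow], by rw [pow_succ, pow_mul, pow_two, hP2, one_pow, one_mul]⟩
  have hYpow : π (osimPOmega K Y) ^ (2 * f) = 1 := by
    rw [← map_pow, mul_comm, pow_mul, hYf, ← map_pow, pow_two, hr, reflIsom_mul_self, map_one, map_one]
  refine nonempty_model_abelian (by omega) (ρ := π (osimPOmega K P)) (y := π (osimPOmega K Y))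
    (by rw [pow_two]; exact hP2) hYpow hcomm (fun x => ?_) fun j k h => ?_
  · obtain ⟨β, rfl⟩ := QuotientGroup.mk'_surjective _ x
    rw [← hπ]
    obtain ⟨Φ, k, hΦ, rfl⟩ := exists_eq_mul_pow K (noFour_minus hm hab) Y (by rw [hYσ]; exact hφg) β
    have key : ∀ Φ : OSim (qfMinus m F 0 (-ν)), Φ.σ = RingEquiv.refl F → IsSquare Φ.c →
        ∃ l : ℕ, π (osimPOmega K Φ) = π (osimPOmega K Y) ^ l := by
      intro Φ hΦ hc
      obtain ⟨s, hs⟩ := hc
      obtain ⟨M, hM⟩ := exists_matrix_of_sim K hΦ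
      obtain ⟨g, hg, -⟩ := exists_isoHom_of_square K Φ hΦ hs M hM
      rw [← hg]
      obtain ⟨hd1, hd2⟩ := det_eq_of_spinorHom K.sep h2 (by simp) g
      by_cases h : (spinorHom _ K.sep (exGen_of_odd h2) g).1 = 1
      · exact ⟨0, by rw [(hπ1 _).2 (isoHom_mem_inn_of_det K h2 hdisc (hd1 h)), pow_zero]⟩
      · refine ⟨f, ?_⟩
        have h3 := (hπ1 _).2 (isoHom_mem_inn_of_det K h2 hdisc (g := g * r) (by
          rw [Subgroup.coe_mul, Units.val_mul, Matrix.det_mul, hd2 h, hr_det]; ring))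
        rw [map_mul, map_mul] at h3
        rw [eq_inv_of_mul_eq_one_left h3, ← hYf, map_pow, inv_eq_of_mul_eq_one_right]
        rw [← pow_add, ← two_mul, hYpow]
    rw [map_mul, map_pow]
    by_cases hc : IsSquare Φ.c
    · obtain ⟨l, hl⟩ := key Φ hΦ hc
      exact ⟨0, l + k, by rw [hl, pow_zero, one_mul, pow_add]⟩
    · obtain ⟨l, hl⟩ := key (Φ.comp P) (by show P.σ.trans Φ.σ = _; rw [hΦ, hPσ]; rfl) (by
        show IsSquare (Φ.c * Φ.σ P.c)
        rw [hΦ, hPc, RingEquiv.refl_apply, ← sqClass_eq_one_iff (mul_ne_zero Φ.c_ne hν0),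
          sqClass_mul Φ.c_ne hν0,
          sqClass_two (sqClass Φ.c_ne) (sqClass hν0) (by rwa [Ne, sqClass_eq_one_iff])
            (by rwa [Ne, sqClass_eq_one_iff]), sqClass_mul_self])
      refine ⟨1, l + k, ?_⟩
      rw [osimPOmega_comp, map_mul] at hl
      rw [eq_inv_of_mul_eq_one_left hP2] at hl
      rw [mul_inv_eq_iff_eq_mul] at hl
      rw [hl, pow_one, pow_add, ← mul_assoc]
      congr 1
      exact ((show Commute (π (osimPOmega K P)) (π (osimPOmega K Y)) from hcomm).pow_right l).symm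
  · obtain ⟨i, rfl | rfl⟩ := Nat.even_or_odd' j
    · rw [(hPpow i).1, one_mul, ← map_pow, ← osimPOmega_pow, hπ1] at h
      obtain ⟨hσ, -⟩ := of_osimPOmega_mem_inn K h
      rw [OSim.pow_σ, hYσ] at hσ
      obtain ⟨l, rfl⟩ : f ∣ k := hφo ▸ orderOf_dvd_of_pow_eq_one hσ
      refine ⟨dvd_mul_right 2 i, ?_⟩
      rw [osimPOmega_pow, pow_mul, hYf, ← map_pow] at h
      rcases Nat.even_or_odd' l with ⟨s, rfl | rfl⟩
      · exact ⟨s, by ring⟩
      · have hrr : r * r = 1 := by rw [hr, reflIsom_mul_self]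
        have hrs : r ^ (2 * s + 1) = r := by
          generalize r = x at hrr ⊢
          rw [pow_succ, pow_mul, pow_two, hrr, one_pow, one_mul]
        rw [hrs] at h
        exact absurd h hr_not
    · rw [(hPpow i).2] at h
      replace h := (hπ1 _).1 ((map_osimPOmega_comp_pow K π P Y k).trans h)
      obtain ⟨-, s, hs⟩ := of_osimPOmega_mem_inn K h
      rw [show (P.comp (Y.pow k)).c = P.c * P.σ (Y.pow k).c from rfl, hPc, hPσ,
        OSim.pow_c Y hYc] at hs
      exact absurd ⟨s, by simpa using hs⟩ hν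

end CfsgLib.KnownC
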