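import Mathlib
import Cfsg.Agent.Lib.KnownC.AutPOmegaMinusTwo
import Cfsg.Agent.Lib.KnownC.AutPOmegaMinusOdd
import Cfsg.Agent.Lib.KnownC.AutPOmegaMinusDih

set_option autoImplicit false
set_option linter.unusedSectionVars false
set_option linter.style.haveILetI false

/-!
`Out` and the order of `Aut` of `PΩ⁻(q)`.
-/

namespace CfsgLib.KnownC

open CfsgLib.Geom CfsgLib.Classical

universe u

variable {F : Type u} [Field F] [Fintype F]

theorem out_minus_odd {p f m : ℕ} [Fact p.Prime] (hf : 1 ≤ f) (hF : Fintype.card F = p ^ f)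
    (hp : p ≠ 2) (hm : 3 ≤ m) {a b : F}
    (hab : ∀ z₁ z₂ : F, z₁ ^ 2 + a * z₁ * z₂ + b * z₂ ^ 2 = 0 → z₁ = 0 ∧ z₂ = 0)
    (Q' : ((Fin m ⊕ Fin m) ⊕ Fin 2 → F) → F) (hQ' : Q' = ⇑(qfMinus m F a b)) :
    ((p ^ f % 4 = 3 ∧ Odd (m + 1)) →
        Nonempty (Cfsg.Out (Cfsg.POmega F Q') ≃* DihedralGroup 4 × Multiplicative (ZMod f))) ∧
      (¬(p ^ f % 4 = 3 ∧ Odd (m + 1)) →
        Nonempty (Cfsg.Out (Cfsg.POmega F Q') ≃* Multiplicative (ZMod 2 × ZMod (2 * f)))) := by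
  subst hQ'
  have h2 : (2 : F) ≠ 0 :=
    two_ne_zero_of_odd (by rw [hF]; exact ((Fact.out : p.Prime).odd_of_ne_two hp).pow)
  refine ⟨fun h => ?_, fun h => ?_⟩
  · rw [← hF] at h
    have hν : ¬ IsSquare (-1 : F) := fun hs => FiniteField.isSquare_neg_one_iff.1 hs h.1
    obtain ⟨e⟩ := minus_normal_odd m h2 hν hab
    obtain ⟨E⟩ := (exists_out_congr e).2
    obtain ⟨E'⟩ := out_minus_odd_dihedral hf hF hm h.1 h.2
    exact ⟨E.symm.trans E'⟩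
  · obtain ⟨ν, -, hν⟩ := exists_not_square h2
    obtain ⟨e⟩ := minus_normal_odd m h2 hν hab
    obtain ⟨E⟩ := (exists_out_congr e).2
    obtain ⟨E'⟩ := out_minus_odd_abelian hf hF hp hm hν (by rw [hF]; exact h)
    exact ⟨E.symm.trans E'⟩

/-- `|Out PΩ⁻_{2(m+1)}(q)|`. -/
theorem card_out_minus {p f m : ℕ} [Fact p.Prime] (hf : 1 ≤ f) (hF : Fintype.card F = p ^ f)
    (hm : 3 ≤ m) {a b : F}
    (hab : ∀ z₁ z₂ : F, z₁ ^ 2 + a * z₁ * z₂ + b * z₂ ^ 2 = 0 → z₁ = 0 ∧ z₂ = 0)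
    (Q' : ((Fin m ⊕ Fin m) ⊕ Fin 2 → F) → F) (hQ' : Q' = ⇑(qfMinus m F a b)) :
    Nat.card (Cfsg.Out (Cfsg.POmega F Q')) =
      (if p = 2 then 2 else (if Even ((m + 1) * (p ^ f - 1) / 2) then 4 else 8)) * f := by
  by_cases hp : p = 2
  · subst hp
    rw [if_pos rfl]
    exact (out_minus_two hf hF hm hab Q' hQ').2
  · rw [if_neg hp]
    obtain ⟨hA, hB⟩ := out_minus_odd hf hF hp hm hab Q' hQ'
    have hodd : p ^ f % 2 = 1 := Nat.odd_iff.1 ((Fact.out : p.Prime).odd_of_ne_two hp).pow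
    have hpar : Even ((m + 1) * (p ^ f - 1) / 2) ↔ ¬(p ^ f % 4 = 3 ∧ Odd (m + 1)) := by
      rw [Nat.mul_div_assoc (m + 1) (by omega : 2 ∣ p ^ f - 1), Nat.even_mul, ← Nat.not_odd_iff_even,
        ← Nat.not_odd_iff_even, Nat.odd_iff (n := (p ^ f - 1) / 2)]
      have h4 : (p ^ f - 1) / 2 % 2 = 1 ↔ p ^ f % 4 = 3 := by omega
      rw [h4]
      tauto
    by_cases h : p ^ f % 4 = 3 ∧ Odd (m + 1)
    · obtain ⟨E⟩ := hA h
      rw [if_neg (mt hpar.1 (not_not.2 h)), Nat.card_congr E.toEquiv, Nat.card_prod,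
        DihedralGroup.nat_card, Nat.card_congr Multiplicative.toAdd, Nat.card_zmod]
    · obtain ⟨E⟩ := hB h
      rw [if_pos (hpar.2 h), Nat.card_congr E.toEquiv, Nat.card_congr Multiplicative.toAdd,
        Nat.card_prod, Nat.card_zmod, Nat.card_zmod]
      ring

theorem card_mulAut_minus {p f m : ℕ} [Fact p.Prime] (hf : 1 ≤ f) (hF : Fintype.card F = p ^ f)
    (hm : 3 ≤ m) {a b : F}
    (hab : ∀ z₁ z₂ : F, z₁ ^ 2 + a * z₁ * z₂ + b * z₂ ^ 2 = 0 → z₁ = 0 ∧ z₂ = 0)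
    (Q' : ((Fin m ⊕ Fin m) ⊕ Fin 2 → F) → F) (hQ' : Q' = ⇑(qfMinus m F a b)) :
    Nat.card (MulAut (Cfsg.POmega F Q')) =
      (if p = 2 then 2 else (if Even ((m + 1) * (p ^ f - 1) / 2) then 4 else 8)) * f *
        Nat.card (Cfsg.POmega F Q') := by
  have h1 := card_out_minus hf hF hm hab Q' hQ'
  subst hQ'
  rw [← h1, Subgroup.card_eq_card_quotient_mul_card_subgroup
    (Cfsg.Inn (Cfsg.POmega F (⇑(qfMinus m F a b)))), card_inn_pOmega (octx_minus hm hab)]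

end CfsgLib.KnownC
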