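import Mathlib
import Cfsg.Agent.Lib.KnownC.AutPOmegaOut
import Cfsg.Agent.Lib.KnownC.FieldAut

set_option autoImplicit false
set_option linter.unusedSectionVars false
set_option linter.style.haveILetI false

/-!
`|Aut Ω_{2m+1}(q)|` and the structure of the outer automorphism group.
-/

namespace CfsgLib.KnownC

open CfsgLib.Geom CfsgLib.Classical

universe u

variable {F : Type u} [Field F] [Fintype F] {p f m : ℕ} [Fact p.Prime]

theorem two_ne_zero_of_card (hF : Fintype.card F = p ^ f) (hp : p ≠ 2) : (2 : F) ≠ 0 := by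
  refine two_ne_zero_of_odd ?_
  rw [hF]
  exact ((Fact.out : p.Prime).odd_of_ne_two hp).pow

theorem card_mulAut_of_odd (hF : Fintype.card F = p ^ f) (hp : p ≠ 2) (hm : 3 ≤ m)
    (Q' : (Unit ⊕ (Fin m ⊕ Fin m) → F) → F) (hQ' : Q' = ⇑(qfOdd m F)) :
    Nat.card (MulAut (Cfsg.POmega F Q')) = 2 * f * Nat.card (Cfsg.POmega F Q') := by
  subst hQ'
  have h2 := two_ne_zero_of_card hF hp
  rw [card_mulAut_omega_odd (octx_odd h2 hm) h2, (exists_zmod_mulEquiv_ringAut hF).1]

theorem out_omega_odd (hF : Fintype.card F = p ^ f) (hp : p ≠ 2) (hm : 3 ≤ m)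
    (Q' : (Unit ⊕ (Fin m ⊕ Fin m) → F) → F) (hQ' : Q' = ⇑(qfOdd m F)) :
    Nonempty (Cfsg.Out (Cfsg.POmega F Q') ≃* Multiplicative (ZMod 2 × ZMod f)) := by
  subst hQ'
  have h2 := two_ne_zero_of_card hF hp
  have K := octx_odd (F := F) h2 hm
  obtain ⟨ψ, hψ, hker⟩ := exists_out_hom_odd K h2
  obtain ⟨-, ⟨e⟩⟩ := exists_zmod_mulEquiv_ringAut hF
  have hcard := card_sqClass_odd (F := F) h2
  haveI : Fact (Nat.Prime 2) := ⟨Nat.prime_two⟩
  have hc : IsCyclic (SqClass F) := isCyclic_of_prime_card hcard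
  exact ⟨(QuotientGroup.quotientMulEquivOfEq hker.symm).trans
    ((QuotientGroup.quotientKerEquivOfSurjective ψ hψ).trans
      ((MulEquiv.prodCongr (mulEquivOfCyclicCardEq (G := SqClass F) (G' := Multiplicative (ZMod 2))
          (by rw [hcard]; simp)) e.symm).trans
        (MulEquiv.prodMultiplicative (ZMod 2) (ZMod f)).symm))⟩

end CfsgLib.KnownC
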