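import Cfsg.Agent.Lib.KnownC.AutPSLStab

set_option autoImplicit false

/-!
An automorphism of `PSL_n(q)` is, up to inverse-transpose, equivariant for a bijection of points
which preserves collinearity.
-/

namespace CfsgLib.KnownC

open Matrix Matrix.SpecialLinearGroup
open scoped LinearAlgebra.Projectivization Pointwise

variable {n : ℕ} {F : Type*} [Field F]

theorem comap_mk_stabilizer (x : ℙ F (Fin n → F)) :
    (MulAction.stabilizer (ProjectiveSpecialLinearGroup (Fin n) F) x).comap (QuotientGroup.mk' _) =
      MulAction.stabilizer (SpecialLinearGroup (Fin n) F) x := by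
  ext s
  rfl

/-- An automorphism sends a point stabiliser to one, possibly after inverse-transpose. -/
theorem exists_stabilizer_image [Finite F] (hn : 2 ≤ n)
    (β : MulAut (ProjectiveSpecialLinearGroup (Fin n) F)) (p0 : ℙ F (Fin n → F)) :
    ∃ q0 : ℙ F (Fin n → F),
      (MulAction.stabilizer (ProjectiveSpecialLinearGroup (Fin n) F) p0).map β.toMonoidHom =
          MulAction.stabilizer _ q0 ∨
      (MulAction.stabilizer (ProjectiveSpecialLinearGroup (Fin n) F) p0).map
          (itAut * β : MulAut (ProjectiveSpecialLinearGroup (Fin n) F)).toMonoidHom =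
          MulAction.stabilizer _ q0 := by
  set K := (MulAction.stabilizer (ProjectiveSpecialLinearGroup (Fin n) F) p0).map β.toMonoidHom
    with hK
  have hsurj := QuotientGroup.mk'_surjective
    (Subgroup.center (SpecialLinearGroup (Fin n) F))
  have hidx : (K.comap (QuotientGroup.mk' _)).index = Nat.card (ℙ F (Fin n → F)) := by
    rw [Subgroup.index_comap_of_surjective _ hsurj, hK, Subgroup.index_map_of_bijective β.bijective,
      ← Subgroup.index_comap_of_surjective (f := QuotientGroup.mk' _) _ hsurj, comap_mk_stabilizer,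
      index_point_stabilizer]
  obtain ⟨x, hx | hx⟩ := stabilizer_of_index_eq hn _ hidx
  · exact ⟨x, Or.inl (Subgroup.comap_injective hsurj (hx.trans (comap_mk_stabilizer x).symm))⟩
  · refine ⟨x, Or.inr ?_⟩
    have h1 : (MulAction.stabilizer (ProjectiveSpecialLinearGroup (Fin n) F) p0).map
        (itAut * β : MulAut (ProjectiveSpecialLinearGroup (Fin n) F)).toMonoidHom =
        K.map (itAut : MulAut (ProjectiveSpecialLinearGroup (Fin n) F)).toMonoidHom := by
      rw [hK, Subgroup.map_map]; rfl
    have h2 : K = ((MulAction.stabilizer (SpecialLinearGroup (Fin n) F) x).map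
        (slInvTrans : MulAut (SpecialLinearGroup (Fin n) F)).toMonoidHom).map
          (QuotientGroup.mk' _) := by
      rw [← hx, Subgroup.map_comap_eq_self_of_surjective hsurj]
    rw [h1, h2, Subgroup.map_map, Subgroup.map_map,
      ← Subgroup.map_comap_eq_self_of_surjective hsurj (MulAction.stabilizer _ x),
      comap_mk_stabilizer]
    congr 1
    refine MonoidHom.ext fun s => ?_
    exact congrArg QuotientGroup.mk (slInvTrans_aux s)

/-- An automorphism carrying a point stabiliser to one comes with a bijection of points. -/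
theorem exists_point_bijection [Finite F] (hn : 2 ≤ n)
    (β : MulAut (ProjectiveSpecialLinearGroup (Fin n) F)) {p0 q0 : ℙ F (Fin n → F)}
    (h : (MulAction.stabilizer (ProjectiveSpecialLinearGroup (Fin n) F) p0).map β.toMonoidHom =
      MulAction.stabilizer _ q0) :
    ∃ π : ℙ F (Fin n → F) → ℙ F (Fin n → F), Function.Bijective π ∧
      ∀ (x : ProjectiveSpecialLinearGroup (Fin n) F) (p : ℙ F (Fin n → F)),
        π (x • p) = β x • π p := by
  haveI : Nontrivial (Fin n) := Fin.nontrivial_iff_two_le.2 hn
  have htr : ∀ p : ℙ F (Fin n → F), ∃ x : ProjectiveSpecialLinearGroup (Fin n) F, x • p0 = p :=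
    fun p => MulAction.exists_smul_eq _ p0 p
  choose t ht using htr
  have hmem : ∀ z : ProjectiveSpecialLinearGroup (Fin n) F,
      z • p0 = p0 ↔ β z • q0 = q0 := fun z => by
    rw [← MulAction.mem_stabilizer_iff, ← MulAction.mem_stabilizer_iff, ← h]
    exact (Subgroup.mem_map_iff_mem (f := β.toMonoidHom) β.injective).symm
  have hwd : ∀ x y : ProjectiveSpecialLinearGroup (Fin n) F,
      x • p0 = y • p0 ↔ β x • q0 = β y • q0 := fun x y => by
    constructor
    · intro e
      have := (hmem (y⁻¹ * x)).1 (by rw [mul_smul, e, inv_smul_smul])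
      rwa [map_mul, map_inv, mul_smul, inv_smul_eq_iff] at this
    · intro e
      have := (hmem (y⁻¹ * x)).2 (by rw [map_mul, map_inv, mul_smul, e, inv_smul_smul])
      rwa [mul_smul, inv_smul_eq_iff] at this
  refine ⟨fun p => β (t p) • q0, ?_, fun x p => ?_⟩
  · have hinj : Function.Injective fun p => β (t p) • q0 := fun p p' hpp => by
      rw [← ht p, ← ht p']
      exact (hwd _ _).2 hpp
    exact ⟨hinj, Finite.injective_iff_surjective.1 hinj⟩
  · show β (t (x • p)) • q0 = β x • β (t p) • q0
    rw [← mul_smul, ← map_mul]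
    exact (hwd _ _).1 (by rw [ht, mul_smul, ht])

/-- `z` is on the line through `x` and `y`. -/
def PtCol (x y z : ℙ F (Fin n → F)) : Prop := z.submodule ≤ x.submodule ⊔ y.submodule

/-- The shear `w ↦ w + (φ ⬝ w) u` with `φ ⬝ u = 0`. -/
def shear (u φ : Fin n → F) (h : φ ⬝ᵥ u = 0) : SpecialLinearGroup (Fin n) F :=
  ⟨1 + vecMulVec u φ, by
    rw [vecMulVec_eq Unit, det_one_add_replicateCol_mul_replicateRow, h, add_zero]⟩

theorem shear_smul (u φ : Fin n → F) (h : φ ⬝ᵥ u = 0) (w : Fin n → F) :
    shear u φ h • w = w + (φ ⬝ᵥ w) • u := by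
  show (1 + vecMulVec u φ) *ᵥ w = _
  rw [add_mulVec, one_mulVec, vecMulVec_mulVec, op_smul_eq_smul]

/-- The orbit of `z` under the stabiliser of `x` and `y`. -/
def pairOrbit (x y z : ℙ F (Fin n → F)) : Set (ℙ F (Fin n → F)) :=
  {w | ∃ g : ProjectiveSpecialLinearGroup (Fin n) F, g • x = x ∧ g • y = y ∧ g • z = w}

theorem pairOrbit_ncard_lt [Finite F] {x y z : ℙ F (Fin n → F)} (hzx : z ≠ x) (hzy : z ≠ y)
    (h : PtCol x y z) : (pairOrbit x y z).ncard < Nat.card F := by
  classical
  induction x using Projectivization.ind with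
  | _ u hu =>
  induction y using Projectivization.ind with
  | _ v hv =>
  let f : F → ℙ F (Fin n → F) := fun a =>
    if h0 : u + a • v = 0 then z else Projectivization.mk F _ h0
  have hsub : pairOrbit (Projectivization.mk F u hu) (Projectivization.mk F v hv) z ⊆
      f '' {a | a ≠ 0} := by
    rintro w ⟨g, hgx, hgy, rfl⟩
    have hwx : g • z ≠ Projectivization.mk F u hu := fun e =>
      hzx (MulAction.injective g (e.trans hgx.symm))
    have hwy : g • z ≠ Projectivization.mk F v hv := fun e =>
      hzy (MulAction.injective g (e.trans hgy.symm))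
    obtain ⟨s, rfl⟩ := QuotientGroup.mk_surjective g
    rw [ProjectiveSpecialLinearGroup.smul_proj_mk] at hgx hgy hwx hwy
    have hle : (s • z).submodule ≤ (Projectivization.mk F u hu).submodule ⊔
        (Projectivization.mk F v hv).submodule := by
      conv_rhs => rw [← hgx, ← hgy]
      rw [PSL.smul_submodule, PSL.smul_submodule, PSL.smul_submodule, ← Submodule.smul_sup']
      exact Submodule.map_mono h
    have hr : (s • z).rep ∈ (Projectivization.mk F u hu).submodule ⊔
        (Projectivization.mk F v hv).submodule := by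
      refine hle ?_
      have := Submodule.mem_span_singleton_self (R := F) (s • z).rep
      rwa [← Projectivization.submodule_mk _ (s • z).rep_nonzero, Projectivization.mk_rep] at this
    rw [Projectivization.submodule_mk, Projectivization.submodule_mk] at hr
    obtain ⟨_, h1, _, h2, hsum⟩ := Submodule.mem_sup.1 hr
    obtain ⟨a, rfl⟩ := Submodule.mem_span_singleton.1 h1
    obtain ⟨b, rfl⟩ := Submodule.mem_span_singleton.1 h2
    have ha : a ≠ 0 := fun ha => hwy (by
      rw [← (s • z).mk_rep]
      exact (Projectivization.mk_eq_mk_iff' F _ _ _ hv).2 ⟨b, by rw [← hsum, ha, zero_smul, zero_add]⟩)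
    have hb : b ≠ 0 := fun hb => hwx (by
      rw [← (s • z).mk_rep]
      exact (Projectivization.mk_eq_mk_iff' F _ _ _ hu).2 ⟨a, by rw [← hsum, hb, zero_smul, add_zero]⟩)
    refine ⟨a⁻¹ * b, mul_ne_zero (inv_ne_zero ha) hb, ?_⟩
    have he : (s • z).rep = a • (u + (a⁻¹ * b) • v) := by
      rw [← hsum, smul_add, smul_smul, mul_inv_cancel_left₀ ha]
    have hne : u + (a⁻¹ * b) • v ≠ 0 := fun h0 => (s • z).rep_nonzero (by rw [he, h0, smul_zero])
    simp only [f, dif_neg hne, ProjectiveSpecialLinearGroup.smul_proj_mk]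
    conv_rhs => rw [← (s • z).mk_rep]
    exact ((Projectivization.mk_eq_mk_iff' F _ _ _ hne).2 ⟨a, he.symm⟩).symm
  calc _ ≤ (f '' {a | a ≠ 0}).ncard := Set.ncard_le_ncard hsub
    _ ≤ ({a : F | a ≠ 0}).ncard := Set.ncard_image_le
    _ < _ := by
      rw [← Set.ncard_univ]
      exact Set.ncard_lt_ncard (Set.ssubset_univ_iff.2 fun h0 =>
        (Set.eq_univ_iff_forall.1 h0 0) rfl)

theorem le_pairOrbit_ncard [Finite F] {x y z : ℙ F (Fin n → F)} (h : ¬PtCol x y z) :
    Nat.card F ≤ (pairOrbit x y z).ncard := by
  induction x using Projectivization.ind with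
  | _ u hu =>
  induction y using Projectivization.ind with
  | _ v hv =>
  induction z using Projectivization.ind with
  | _ w hw =>
  rw [PtCol, Projectivization.submodule_mk, Projectivization.submodule_mk,
    Projectivization.submodule_mk, Submodule.span_singleton_le_iff_mem] at h
  obtain ⟨φ, hφw, hφ⟩ := Submodule.exists_dual_map_eq_bot_of_notMem h inferInstance
  let ψ : Fin n → F := (φ w)⁻¹ • (dotProductEquiv F (Fin n)).symm φ
  have hψ : ∀ a, ψ ⬝ᵥ a = (φ w)⁻¹ * φ a := fun a => by
    rw [smul_dotProduct, smul_eq_mul]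
    exact congrArg _ (LinearMap.congr_fun ((dotProductEquiv F (Fin n)).apply_symm_apply φ) a)
  have hzero : ∀ a ∈ Submodule.span F {u} ⊔ Submodule.span F {v}, φ a = 0 := fun a ha =>
    (Submodule.eq_bot_iff _).1 hφ _ (Submodule.mem_map_of_mem ha)
  have hψu : ψ ⬝ᵥ u = 0 := by
    rw [hψ, hzero u (Submodule.mem_sup_left (Submodule.mem_span_singleton_self u)), mul_zero]
  have hψv : ψ ⬝ᵥ v = 0 := by
    rw [hψ, hzero v (Submodule.mem_sup_right (Submodule.mem_span_singleton_self v)), mul_zero]
  have hψw : ψ ⬝ᵥ w = 1 := by rw [hψ, inv_mul_cancel₀ hφw]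
  let g : F → SpecialLinearGroup (Fin n) F := fun a =>
    shear (a • u) ψ (by rw [dotProduct_smul, hψu, smul_zero])
  let e : F → ℙ F (Fin n → F) := fun a =>
    (QuotientGroup.mk (g a) : ProjectiveSpecialLinearGroup (Fin n) F) • Projectivization.mk F w hw
  have hgw : ∀ a, g a • w = w + a • u := fun a => by
    rw [shear_smul, hψw, one_smul]
  have hinj : Function.Injective e := fun a b hab => by
    simp only [e, ProjectiveSpecialLinearGroup.smul_proj_mk, sl_smul_mk, hgw] at hab
    obtain ⟨c, hc⟩ := (Projectivization.mk_eq_mk_iff' F _ _ _ _).1 hab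
    have h1 := congrArg (ψ ⬝ᵥ ·) hc
    simp [dotProduct_add, dotProduct_smul, hψw, hψu] at h1
    subst h1
    rw [one_smul, add_right_inj] at hc
    exact (smul_left_injective F hu hc).symm
  have hmem : Set.range e ⊆ pairOrbit (Projectivization.mk F u hu) (Projectivization.mk F v hv)
      (Projectivization.mk F w hw) := by
    rintro _ ⟨a, rfl⟩
    refine ⟨QuotientGroup.mk (g a), ?_, ?_, rfl⟩ <;>
      simp [g, ProjectiveSpecialLinearGroup.smul_proj_mk, sl_smul_mk, shear_smul, hψu, hψv]
  rw [← Set.ncard_range_of_injective hinj]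
  exact Set.ncard_le_ncard hmem

/-- An equivariant bijection of points preserves collinearity. -/
theorem ptCol_iff_of_equivariant [Finite F] (β : MulAut (ProjectiveSpecialLinearGroup (Fin n) F))
    {π : ℙ F (Fin n → F) → ℙ F (Fin n → F)} (hπ : Function.Bijective π)
    (heq : ∀ (x : ProjectiveSpecialLinearGroup (Fin n) F) p, π (x • p) = β x • π p)
    (x y z : ℙ F (Fin n → F)) : PtCol (π x) (π y) (π z) ↔ PtCol x y z := by
  rcases eq_or_ne z x with rfl | hzx
  · exact ⟨fun _ => le_sup_left, fun _ => le_sup_left⟩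
  rcases eq_or_ne z y with rfl | hzy
  · exact ⟨fun _ => le_sup_right, fun _ => le_sup_right⟩
  have himg : pairOrbit (π x) (π y) (π z) = π '' pairOrbit x y z := by
    refine Set.ext fun w => ⟨?_, ?_⟩
    · rintro ⟨g, hgx, hgy, rfl⟩
      obtain ⟨g', rfl⟩ := β.surjective g
      rw [← heq] at hgx hgy
      exact ⟨g' • z, ⟨g', hπ.1 hgx, hπ.1 hgy, rfl⟩, heq _ _⟩
    · rintro ⟨_, ⟨g, hgx, hgy, rfl⟩, rfl⟩
      exact ⟨β g, by rw [← heq, hgx], by rw [← heq, hgy], (heq _ _).symm⟩
  have hcard := congrArg Set.ncard himg
  rw [Set.ncard_image_of_injective _ hπ.1] at hcard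
  constructor
  · intro h
    by_contra hn
    have := le_pairOrbit_ncard hn
    have := pairOrbit_ncard_lt (hπ.1.ne hzx) (hπ.1.ne hzy) h
    omega
  · intro h
    by_contra hn
    have := le_pairOrbit_ncard hn
    have := pairOrbit_ncard_lt hzx hzy h
    omega

/-- The point of the `i`-th basis vector. -/
noncomputable def basisPt (i : Fin n) : ℙ F (Fin n → F) :=
  Projectivization.mk F (Pi.single i 1 : Fin n → F) (Pi.single_ne_zero_iff.2 one_ne_zero)

theorem basisPt_submodule (i : Fin n) :
    (basisPt (F := F) i).submodule = Submodule.span F {(Pi.single i 1 : Fin n → F)} :=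
  Projectivization.submodule_mk _ _

/-- The images of the basis points under a collinearity-preserving bijection are independent. -/
theorem exists_frame {π : ℙ F (Fin n → F) → ℙ F (Fin n → F)} (hπ : Function.Bijective π)
    (hcol : ∀ x y z, PtCol x y z → PtCol (π x) (π y) (π z)) :
    ∃ g : GL (Fin n) F, ∀ i, pointMap g (RingEquiv.refl F) (basisPt i) = π (basisPt i) := by
  classical
  let W : Submodule F (Fin n → F) := ⨆ i, (π (basisPt i)).submodule
  let A : Submodule F (Fin n → F) :=
    { carrier := {v | ∀ hv : v ≠ 0, (π (Projectivization.mk F v hv)).submodule ≤ W}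
      zero_mem' := fun h => absurd rfl h
      add_mem' := fun {u v} hu hv huv => by
        by_cases hu0 : u = 0
        · subst hu0; simpa using hv (by simpa using huv)
        by_cases hv0 : v = 0
        · subst hv0; simpa using hu hu0
        refine le_trans (hcol (Projectivization.mk F u hu0) (Projectivization.mk F v hv0)
          (Projectivization.mk F (u + v) huv) ?_) (sup_le (hu hu0) (hv hv0))
        rw [PtCol, Projectivization.submodule_mk, Projectivization.submodule_mk,
          Projectivization.submodule_mk, Submodule.span_singleton_le_iff_mem]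
        exact Submodule.add_mem_sup (Submodule.mem_span_singleton_self u)
          (Submodule.mem_span_singleton_self v)
      smul_mem' := fun c v hv hcv => by
        have hv0 : v ≠ 0 := fun h => hcv (by rw [h, smul_zero])
        rw [show Projectivization.mk F (c • v) hcv = Projectivization.mk F v hv0 from
          (Projectivization.mk_eq_mk_iff' F _ _ _ _).2 ⟨c, rfl⟩]
        exact hv hv0 }
  have hA : A = ⊤ := by
    rw [eq_top_iff, ← (Pi.basisFun F (Fin n)).span_eq, Submodule.span_le]
    rintro _ ⟨i, rfl⟩ h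
    simp only [Pi.basisFun_apply]
    exact le_iSup (fun i => (π (basisPt i)).submodule) i
  have hW : W = ⊤ := by
    refine eq_top_iff.2 fun v _ => ?_
    by_cases hv : v = 0
    · simp [hv]
    obtain ⟨p, hp⟩ := hπ.2 (Projectivization.mk F v hv)
    induction p using Projectivization.ind with
    | _ u hu =>
    have := (show u ∈ A from hA ▸ Submodule.mem_top) hu
    rw [hp, Projectivization.submodule_mk, Submodule.span_singleton_le_iff_mem] at this
    exact this
  let b : Fin n → (Fin n → F) := fun i => (π (basisPt i)).rep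
  have hspan : ⊤ ≤ Submodule.span F (Set.range b) := by
    rw [← hW]
    refine iSup_le fun i => ?_
    conv_lhs => rw [← (π (basisPt i)).mk_rep, Projectivization.submodule_mk]
    exact Submodule.span_mono (Set.singleton_subset_iff.2 ⟨i, rfl⟩)
  let B : Module.Basis (Fin n) F (Fin n → F) :=
    basisOfTopLeSpanOfCardEqFinrank b hspan (by rw [Fintype.card_fin, Module.finrank_fin_fun])
  haveI := (Pi.basisFun F (Fin n)).invertibleToMatrix B
  refine ⟨unitOfInvertible ((Pi.basisFun F (Fin n)).toMatrix B), fun i => ?_⟩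
  conv_rhs => rw [← (π (basisPt i)).mk_rep]
  conv_lhs => rw [basisPt, pointMap_mk]
  refine (Projectivization.mk_eq_mk_iff' F _ _ _ _).2 ⟨1, ?_⟩
  rw [one_smul, semiLin_apply]
  funext k
  show _ = ((Pi.basisFun F (Fin n)).toMatrix B *ᵥ fun j => (Pi.single i 1 : Fin n → F) j) k
  simp [B, b, basisPt, Module.Basis.toMatrix_apply, mulVec, dotProduct, Pi.single_apply,
    coe_basisOfTopLeSpanOfCardEqFinrank]

end CfsgLib.KnownC
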