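import Cfsg.Agent.Lib.KnownC.AutPSLBasic

set_option autoImplicit false

/-!
The maps of projective space attached to semilinear maps, and the kernel of `semiAut`.
-/

namespace CfsgLib.KnownC

open Matrix
open scoped LinearAlgebra.Projectivization

variable {n : ℕ} {F : Type*} [Field F]

/-- The semilinear map `v ↦ g σ(v)`. -/
def semiLin (g : GL (Fin n) F) (σ : F ≃+* F) :
    (Fin n → F) →ₛₗ[(σ : F →+* F)] (Fin n → F) where
  toFun v := g.1 *ᵥ fun i => σ (v i)
  map_add' v w := by
    rw [← mulVec_add]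
    exact congrArg _ (funext fun i => map_add σ _ _)
  map_smul' c v := by
    rw [← mulVec_smul]
    exact congrArg _ (funext fun i => map_mul σ _ _)

theorem semiLin_apply (g : GL (Fin n) F) (σ : F ≃+* F) (v : Fin n → F) :
    semiLin g σ v = g.1 *ᵥ fun i => σ (v i) :=
  rfl

theorem semiLin_injective (g : GL (Fin n) F) (σ : F ≃+* F) : Function.Injective (semiLin g σ) := by
  intro v w h
  rw [semiLin_apply, semiLin_apply] at h
  have := Matrix.mulVec_injective_of_isUnit g.isUnit h
  exact funext fun i => σ.injective (congrFun this i)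

theorem semiLin_ne_zero (g : GL (Fin n) F) (σ : F ≃+* F) {v : Fin n → F} (hv : v ≠ 0) :
    semiLin g σ v ≠ 0 :=
  (map_ne_zero_iff _ (semiLin_injective g σ)).2 hv

theorem semiLin_comp (g h : GL (Fin n) F) (σ τ : F ≃+* F) (v : Fin n → F) :
    semiLin g σ (semiLin h τ v) =
      semiLin (g * GeneralLinearGroup.map (σ : F →+* F) h) (σ * τ) v := by
  simp only [semiLin_apply, Units.val_mul, ← mulVec_mulVec]
  congr 1
  funext i
  exact (RingHom.map_mulVec (σ : F →+* F) h.1 (fun j => τ (v j)) i)

/-- The permutation of the points of projective space induced by `v ↦ g σ(v)`. -/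
def pointMap (g : GL (Fin n) F) (σ : F ≃+* F) : ℙ F (Fin n → F) → ℙ F (Fin n → F) :=
  Projectivization.map (semiLin g σ) (semiLin_injective g σ)

theorem pointMap_mk (g : GL (Fin n) F) (σ : F ≃+* F) (v : Fin n → F) (hv : v ≠ 0) :
    pointMap g σ (Projectivization.mk F v hv) =
      Projectivization.mk F (semiLin g σ v) (semiLin_ne_zero g σ hv) :=
  rfl

theorem pointMap_pointMap (g h : GL (Fin n) F) (σ τ : F ≃+* F) (p : ℙ F (Fin n → F)) :
    pointMap g σ (pointMap h τ p) =
      pointMap (g * GeneralLinearGroup.map (σ : F →+* F) h) (σ * τ) p := by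
  induction p using Projectivization.ind with
  | _ v hv => simp only [pointMap_mk, semiLin_comp]

theorem pointMap_one (p : ℙ F (Fin n → F)) :
    pointMap (1 : GL (Fin n) F) (RingEquiv.refl F) p = p := by
  induction p using Projectivization.ind with
  | _ v hv =>
    rw [pointMap_mk]
    congr 1
    rw [semiLin_apply, Units.val_one, one_mulVec]
    rfl

theorem pointMap_bijective (g : GL (Fin n) F) (σ : F ≃+* F) : Function.Bijective (pointMap g σ) := by
  haveI := RingHomInvPair.of_ringEquiv σ
  refine ⟨Projectivization.map_injective (τ := (σ.symm : F →+* F)) _ _, fun p => ?_⟩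
  refine ⟨pointMap (GeneralLinearGroup.map (σ.symm : F →+* F) g⁻¹) σ.symm p, ?_⟩
  rw [pointMap_pointMap]
  have h1 : GeneralLinearGroup.map (σ : F →+* F)
      (GeneralLinearGroup.map (σ.symm : F →+* F) g⁻¹) = g⁻¹ :=
    Units.ext (Matrix.ext fun i j => σ.apply_symm_apply _)
  rw [h1, mul_inv_cancel, show σ * σ.symm = RingEquiv.refl F from RingEquiv.ext σ.apply_symm_apply,
    pointMap_one]

theorem sl_smul_mk (x : SpecialLinearGroup (Fin n) F) (v : Fin n → F) (hv : v ≠ 0) :
    x • Projectivization.mk F v hv =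
      Projectivization.mk F (x • v) ((smul_ne_zero_iff_ne x).mpr hv) :=
  rfl

theorem semiLin_smul (g : GL (Fin n) F) (σ : F ≃+* F) (x : SpecialLinearGroup (Fin n) F)
    (v : Fin n → F) : semiLin g σ (x • v) = slConj g (slField σ x) • semiLin g σ v := by
  show g.1 *ᵥ (fun i => σ ((x.1 *ᵥ v) i)) =
    (slConj g (slField σ x) : Matrix (Fin n) (Fin n) F) *ᵥ (g.1 *ᵥ fun i => σ (v i))
  rw [slConj_coe, slField_coe, mulVec_mulVec, mul_assoc,
    Units.inv_mul, mul_one, ← mulVec_mulVec]
  congr 1
  funext i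
  exact RingHom.map_mulVec (σ : F →+* F) x.1 v i

/-- `pointMap g σ` intertwines the action with `semiAut g σ`. -/
theorem pointMap_smul (g : GL (Fin n) F) (σ : F ≃+* F)
    (x : ProjectiveSpecialLinearGroup (Fin n) F) (p : ℙ F (Fin n → F)) :
    pointMap g σ (x • p) = semiAut g σ x • pointMap g σ p := by
  obtain ⟨s, rfl⟩ := QuotientGroup.mk_surjective x
  induction p using Projectivization.ind with
  | _ v hv =>
    rw [semiAut_mk, ProjectiveSpecialLinearGroup.smul_proj_mk,
      ProjectiveSpecialLinearGroup.smul_proj_mk, sl_smul_mk, pointMap_mk, pointMap_mk, sl_smul_mk]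
    simp only [semiLin_smul]

/-- An automorphism equivariant for `pointMap g σ` is `semiAut g σ`. -/
theorem eq_semiAut_of_equivariant (g : GL (Fin n) F) (σ : F ≃+* F)
    (β : MulAut (ProjectiveSpecialLinearGroup (Fin n) F))
    (h : ∀ (x : ProjectiveSpecialLinearGroup (Fin n) F) (p : ℙ F (Fin n → F)),
      pointMap g σ (x • p) = β x • pointMap g σ p) : β = semiAut g σ := by
  refine MulEquiv.ext fun x => eq_of_smul_eq_smul fun q : ℙ F (Fin n → F) => ?_
  obtain ⟨p, rfl⟩ := (pointMap_bijective g σ).2 q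
  rw [← h, pointMap_smul]

theorem exists_third_point (hn : 2 ≤ n) (p q : ℙ F (Fin n → F)) :
    ∃ r : ℙ F (Fin n → F), r ≠ p ∧ r ≠ q := by
  let i : Fin n := ⟨0, by omega⟩
  let j : Fin n := ⟨1, by omega⟩
  have hij : i ≠ j := fun h => by simp [i, j] at h
  have hu : (Pi.single i 1 : Fin n → F) ≠ 0 := Pi.single_ne_zero_iff.2 one_ne_zero
  have hv : (Pi.single j 1 : Fin n → F) ≠ 0 := Pi.single_ne_zero_iff.2 one_ne_zero
  have hw : (Pi.single i 1 + Pi.single j 1 : Fin n → F) ≠ 0 := fun h => by
    simpa [hij] using congrFun h i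
  by_contra hcon
  simp only [not_exists, not_and_or, not_not] at hcon
  have hall : ∀ r, r = p ∨ r = q := hcon
  have huv : Projectivization.mk F _ hu ≠ Projectivization.mk F _ hv := fun h => by
    obtain ⟨a, ha⟩ := (Projectivization.mk_eq_mk_iff' F _ _ hu hv).1 h
    simpa [hij] using congrFun ha i
  have huw : Projectivization.mk F _ hu ≠ Projectivization.mk F _ hw := fun h => by
    obtain ⟨a, ha⟩ := (Projectivization.mk_eq_mk_iff' F _ _ hu hw).1 h
    have h1 := congrFun ha j
    have h2 := congrFun ha i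
    simp [hij, hij.symm] at h1 h2
    simp [h1] at h2
  have hvw : Projectivization.mk F _ hv ≠ Projectivization.mk F _ hw := fun h => by
    obtain ⟨a, ha⟩ := (Projectivization.mk_eq_mk_iff' F _ _ hv hw).1 h
    have h1 := congrFun ha j
    have h2 := congrFun ha i
    simp [hij, hij.symm] at h1 h2
    simp [h2] at h1
  rcases hall (Projectivization.mk F _ hu) with a | a <;>
    rcases hall (Projectivization.mk F _ hv) with b | b <;>
    rcases hall (Projectivization.mk F _ hw) with c | c
  all_goals first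
    | exact huv (a.trans b.symm)
    | exact huw (a.trans c.symm)
    | exact hvw (b.trans c.symm)

/-- A point stabiliser fixes no second point. -/
theorem eq_of_stabilizer_le (hn : 2 ≤ n) {p q : ℙ F (Fin n → F)}
    (h : MulAction.stabilizer (SpecialLinearGroup (Fin n) F) p ≤ MulAction.stabilizer _ q) :
    q = p := by
  by_contra hqp
  obtain ⟨r, hrp, hrq⟩ := exists_third_point hn p q
  obtain ⟨g, hgp, hgq⟩ := MulAction.is_two_pretransitive_iff.1
    (inferInstance : MulAction.IsMultiplyPretransitive (SpecialLinearGroup (Fin n) F)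
      (ℙ F (Fin n → F)) 2) (Ne.symm hqp) hrp.symm
  have : g • q = q := h (MulAction.mem_stabilizer_iff.2 hgp)
  exact hrq (hgq ▸ this)

/-- An automorphism of `PSL_n(F)` induced by a semilinear map is trivial only for a scalar. -/
theorem semiAut_eq_one_iff (hn : 2 ≤ n) (g : GL (Fin n) F) (σ : F ≃+* F) :
    semiAut g σ = 1 ↔ σ = RingEquiv.refl F ∧ g ∈ Subgroup.center (GL (Fin n) F) := by
  constructor
  · intro h
    have hfix : ∀ p, pointMap g σ p = p := fun p => by
      refine eq_of_stabilizer_le hn fun s hs => ?_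
      rw [MulAction.mem_stabilizer_iff] at hs ⊢
      have := pointMap_smul g σ (QuotientGroup.mk s) p
      rw [h, MulAut.one_apply, ProjectiveSpecialLinearGroup.smul_proj_mk,
        ProjectiveSpecialLinearGroup.smul_proj_mk, hs] at this
      exact this.symm
    have hscal : ∀ v : Fin n → F, v ≠ 0 → ∃ a : F, a • v = semiLin g σ v := fun v hv =>
      (Projectivization.mk_eq_mk_iff' F _ _ (semiLin_ne_zero g σ hv) hv).1
        ((pointMap_mk g σ v hv).symm.trans (hfix _))
    have hcol : ∀ j : Fin n, ∀ i : Fin n, i ≠ j → g.1 i j = 0 := by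
      intro j i hij
      obtain ⟨a, ha⟩ := hscal (Pi.single j 1) (Pi.single_ne_zero_iff.2 one_ne_zero)
      have hs : (fun k => σ ((Pi.single j 1 : Fin n → F) k)) = Pi.single j 1 := funext fun k => by
        by_cases hk : k = j <;> simp [hk]
      rw [semiLin_apply, hs] at ha
      simpa [hij] using (congrFun ha i).symm
    have hdiag : g.1 = Matrix.diagonal fun i => g.1 i i := Matrix.ext fun i j => by
      by_cases hij : i = j
      · simp [hij]
      · simp [hij, hcol j i hij]
    have hpair : ∀ i j : Fin n, i ≠ j → ∀ t : F, g.1 j j * σ t = g.1 i i * t := by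
      intro i j hij t
      obtain ⟨a, ha⟩ := hscal (Pi.single i 1 + Pi.single j t) (fun h0 => by
        simpa [hij] using congrFun h0 i)
      rw [semiLin_apply, hdiag] at ha
      have h1 := congrFun ha i
      have h2 := congrFun ha j
      simp [mulVec_diagonal, hij, hij.symm] at h1 h2
      rw [← h2, h1]
    have hall : ∀ i j : Fin n, g.1 i i = g.1 j j := fun i j => by
      by_cases hij : i = j
      · rw [hij]
      · simpa using (hpair i j hij 1).symm
    let i0 : Fin n := ⟨0, by omega⟩
    let i1 : Fin n := ⟨1, by omega⟩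
    have h01 : i0 ≠ i1 := fun h => by simp [i0, i1] at h
    have hne : g.1 i0 i0 ≠ 0 := fun h0 => by
      have hdet := (Matrix.isUnit_iff_isUnit_det _).1 g.isUnit
      rw [hdiag, det_diagonal, isUnit_iff_ne_zero] at hdet
      exact hdet (Finset.prod_eq_zero (Finset.mem_univ i0) h0)
    refine ⟨RingEquiv.ext fun t => ?_, GeneralLinearGroup.mem_center_iff_val_mem_range_scalar.2
      ⟨g.1 i0 i0, ?_⟩⟩
    · have := hpair i0 i1 h01 t
      rw [hall i1 i0] at this
      exact mul_left_cancel₀ hne this
    · conv_rhs => rw [hdiag]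
      rw [scalar_apply]
      exact congrArg _ (funext fun i => hall i0 i)
  · rintro ⟨rfl, hg⟩
    refine MulEquiv.ext fun x => ?_
    obtain ⟨s, rfl⟩ := QuotientGroup.mk_surjective x
    rw [semiAut_mk]
    refine congrArg _ (Subtype.ext ?_)
    rw [slConj_coe, slField_coe]
    have hc : g * SpecialLinearGroup.toGL s * g⁻¹ = SpecialLinearGroup.toGL s := by
      rw [← Subgroup.mem_center_iff.1 hg, mul_inv_cancel_right]
    exact (congrArg Units.val hc :)

theorem semiAut_inv (g : GL (Fin n) F) (σ : F ≃+* F) :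
    (semiAut g σ)⁻¹ = semiAut (GeneralLinearGroup.map (σ.symm : F →+* F) g⁻¹) σ.symm := by
  refine inv_eq_of_mul_eq_one_right ?_
  rw [semiAut_mul]
  have h1 : GeneralLinearGroup.map (σ : F →+* F)
      (GeneralLinearGroup.map (σ.symm : F →+* F) g⁻¹) = g⁻¹ :=
    Units.ext (Matrix.ext fun i j => σ.apply_symm_apply _)
  rw [h1, mul_inv_cancel, show σ * σ.symm = RingEquiv.refl F from RingEquiv.ext σ.apply_symm_apply,
    semiAut_one]

theorem semiAut_eq_iff (hn : 2 ≤ n) (g h : GL (Fin n) F) (σ τ : F ≃+* F) :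
    semiAut g σ = semiAut h τ ↔ σ = τ ∧ h⁻¹ * g ∈ Subgroup.center (GL (Fin n) F) := by
  constructor
  · intro he
    have h1 : (semiAut h (RingEquiv.refl F))⁻¹ * semiAut g σ = semiAut 1 τ := by
      rw [inv_mul_eq_iff_eq_mul, semiAut_mul, he, map_one, mul_one]
      rfl
    rw [semiAut_inv, semiAut_mul] at h1
    have e1 : ∀ k : GL (Fin n) F,
        GeneralLinearGroup.map ((RingEquiv.refl F).symm : F →+* F) k = k := fun k =>
      Units.ext (Matrix.ext fun i j => rfl)
    simp only [e1] at h1
    change semiAut (h⁻¹ * g) σ = semiAut 1 τ at h1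
    have h2 : semiAut (h⁻¹ * g) (RingEquiv.refl F) * semiAut (1 : GL (Fin n) F) σ =
        semiAut (1 : GL (Fin n) F) τ := by
      rw [semiAut_mul, map_one, mul_one]; exact h1
    have h3 : semiAut (h⁻¹ * g) (σ * τ.symm) = 1 := by
      rw [← mul_inv_cancel (semiAut (1 : GL (Fin n) F) τ)]
      conv_rhs => arg 1; rw [← h1]
      rw [semiAut_inv, semiAut_mul, inv_one, map_one, map_one, mul_one]
    obtain ⟨hs, hc⟩ := (semiAut_eq_one_iff hn _ _).1 h3
    refine ⟨RingEquiv.ext fun t => ?_, hc⟩
    have := RingEquiv.congr_fun hs (τ t)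
    simpa using this
  · rintro ⟨rfl, hc⟩
    conv_lhs => rw [show g = h * (h⁻¹ * g) by group]
    have h1 : semiAut (h⁻¹ * g) (RingEquiv.refl F) = 1 := (semiAut_eq_one_iff hn _ _).2 ⟨rfl, hc⟩
    have h2 := semiAut_mul h (h⁻¹ * g) (RingEquiv.refl F) σ
    rw [show semiAut h (RingEquiv.refl F) * semiAut (h⁻¹ * g) σ =
      semiAut h (RingEquiv.refl F) * (semiAut (h⁻¹ * g) (RingEquiv.refl F) * semiAut 1 σ) by
        rw [semiAut_mul (h⁻¹ * g), map_one, mul_one]; rfl, h1, one_mul, semiAut_mul, map_one, mul_one] at h2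
    exact h2.symm

end CfsgLib.KnownC
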