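import Cfsg.Agent.Lib.KnownC.AutPSLBijection

set_option autoImplicit false

/-!
An automorphism of `PSL_n(q)` fixing the basis points maps every elementary root group to itself.
-/

namespace CfsgLib.KnownC

open Matrix Matrix.SpecialLinearGroup
open scoped LinearAlgebra.Projectivization

variable {n : ℕ} {F : Type*} [Field F]

/-- The image in `PSL` of an elementary transvection. -/
def rootEl {i j : Fin n} (hij : i ≠ j) (t : F) : ProjectiveSpecialLinearGroup (Fin n) F :=
  QuotientGroup.mk (transvection hij t)

theorem rootEl_add {i j : Fin n} (hij : i ≠ j) (s t : F) :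
    rootEl hij (s + t) = rootEl hij s * rootEl hij t := by
  rw [rootEl, transvection_add]; rfl

theorem rootEl_injective {i j : Fin n} (hij : i ≠ j) :
    Function.Injective (rootEl (F := F) hij) := fun s t h => by
  rw [rootEl, rootEl, QuotientGroup.eq, transvection_inv, ← transvection_add,
    transvection_mem_center_iff, neg_add_eq_zero] at h
  exact h

theorem rootEl_zero {i j : Fin n} (hij : i ≠ j) : rootEl (F := F) hij 0 = 1 := by
  rw [rootEl, transvection_coeff_zero]; rfl

theorem rootEl_smul_mk {i j : Fin n} (hij : i ≠ j) (t : F) (v : Fin n → F) (hv : v ≠ 0) :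
    rootEl hij t • Projectivization.mk F v hv =
      Projectivization.mk F (v + Pi.single i (t * v j))
        (by
          have := (smul_ne_zero_iff_ne (transvection hij t)).mpr hv
          rwa [show transvection hij t • v = v + Pi.single i (t * v j) from funext fun k => by
            rw [CfsgLib.Classical.transvection_smul_apply]
            by_cases hk : k = i <;> simp [hk]] at this) := by
  rw [rootEl, ProjectiveSpecialLinearGroup.smul_proj_mk, sl_smul_mk]
  congr 1
  funext k
  rw [CfsgLib.Classical.transvection_smul_apply]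
  by_cases hk : k = i <;> simp [hk]

theorem mk_congr {u v : Fin n → F} {hu : u ≠ 0} {hv : v ≠ 0} (h : u = v) :
    Projectivization.mk F u hu = Projectivization.mk F v hv := by
  subst h; rfl

theorem rootEl_smul_basisPt {i j k : Fin n} (hij : i ≠ j) (hkj : k ≠ j) (t : F) :
    rootEl hij t • basisPt k = basisPt (F := F) k := by
  rw [basisPt, rootEl_smul_mk]
  exact mk_congr (by simp [hkj.symm])

theorem rootEl_pow {i j : Fin n} (hij : i ≠ j) (t : F) (m : ℕ) :
    rootEl hij t ^ m = rootEl hij (m * t) := by
  induction m with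
  | zero => rw [pow_zero, Nat.cast_zero, zero_mul, rootEl_zero]
  | succ m ih => rw [pow_succ, ih, ← rootEl_add, Nat.cast_succ, add_one_mul]

theorem ptCol_of_add {u v w : Fin n → F} (hu : u ≠ 0) (hv : v ≠ 0) (hw : w ≠ 0) (a : F)
    (h : w = v + a • u) :
    PtCol (Projectivization.mk F u hu) (Projectivization.mk F v hv) (Projectivization.mk F w hw) := by
  rw [PtCol, Projectivization.submodule_mk, Projectivization.submodule_mk,
    Projectivization.submodule_mk, Submodule.span_singleton_le_iff_mem, h, add_comm]
  exact Submodule.add_mem_sup (Submodule.smul_mem _ _ (Submodule.mem_span_singleton_self u))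
    (Submodule.mem_span_singleton_self v)

/-- An element fixing the basis points other than `e_j`, of exponent `p`, moving points along lines
through `e_i`, is a root element. -/
theorem exists_rootEl_of_props {p : ℕ} [Fact p.Prime] [CharP F p] {i j : Fin n} (hij : i ≠ j)
    (a : ProjectiveSpecialLinearGroup (Fin n) F) (hfix : ∀ k, k ≠ j → a • basisPt (F := F) k = basisPt k)
    (hpow : a ^ p = 1) (hline : ∀ x : ℙ F (Fin n → F), PtCol (basisPt i) x (a • x)) : ∃ t, a = rootEl hij t := by
  classical
  obtain ⟨A, rfl⟩ := QuotientGroup.mk_surjective a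
  have hdiag : ∀ k, k ≠ j → ∃ c : F, A • (Pi.single k 1 : Fin n → F) = c • Pi.single k 1 := fun k hk => by
    have := hfix k hk
    rw [ProjectiveSpecialLinearGroup.smul_proj_mk, basisPt, sl_smul_mk] at this
    obtain ⟨c, hc⟩ := (Projectivization.mk_eq_mk_iff' F _ _ _ _).1 this
    exact ⟨c, hc.symm⟩
  choose c hc using hdiag
  have hlineA : ∀ v : Fin n → F, v ≠ 0 →
      ∃ d e : F, A • v = d • (Pi.single i 1 : Fin n → F) + e • v := fun v hv => by
    have := hline (Projectivization.mk F v hv)
    rw [ProjectiveSpecialLinearGroup.smul_proj_mk, PtCol, basisPt_submodule,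
      Projectivization.submodule_mk, sl_smul_mk, Projectivization.submodule_mk,
      Submodule.span_singleton_le_iff_mem] at this
    obtain ⟨x, hx, y, hy, hxy⟩ := Submodule.mem_sup.1 this
    obtain ⟨d, rfl⟩ := Submodule.mem_span_singleton.1 hx
    obtain ⟨e, rfl⟩ := Submodule.mem_span_singleton.1 hy
    exact ⟨d, e, hxy.symm⟩
  obtain ⟨d, e, hde⟩ := hlineA (Pi.single j 1) (Pi.single_ne_zero_iff.2 one_ne_zero)
  have hce : ∀ k (hk : k ≠ j), k ≠ i → c k hk = e := fun k hk hki => by
    obtain ⟨d', e', h'⟩ := hlineA (Pi.single k 1 + Pi.single j 1) (fun h0 => by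
      simpa [hk] using congrFun h0 k)
    rw [smul_add, hc k hk, hde] at h'
    have h1 := congrFun h' k
    have h2 := congrFun h' j
    simp [hk, hk.symm, hki, hij.symm] at h1 h2
    rw [h1, h2]
  -- powers
  have hpi : ∀ m : ℕ, A ^ m • (Pi.single i 1 : Fin n → F) = c i hij ^ m • Pi.single i 1 := fun m => by
    induction m with
    | zero => simp
    | succ m ih => rw [pow_succ, mul_smul, hc i hij, smul_comm, ih, smul_smul, pow_succ']
  have hpj : ∀ m : ℕ, ∃ dm : F,
      A ^ m • (Pi.single j 1 : Fin n → F) = dm • Pi.single i 1 + e ^ m • Pi.single j 1 := fun m => by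
    induction m with
    | zero => exact ⟨0, by simp⟩
    | succ m ih =>
      obtain ⟨dm, hdm⟩ := ih
      refine ⟨d * c i hij ^ m + e * dm, ?_⟩
      rw [pow_succ, mul_smul, hde, smul_add, smul_comm (A ^ m) d, smul_comm (A ^ m) e, hpi, hdm,
        smul_add, smul_smul, smul_smul, smul_smul, add_smul, pow_succ', ← add_assoc]
  have hcent : A ^ p ∈ Subgroup.center (Matrix.SpecialLinearGroup (Fin n) F) := by
    rw [← QuotientGroup.eq_one_iff, QuotientGroup.mk_pow]; exact hpow
  obtain ⟨r, -, hr⟩ := Matrix.SpecialLinearGroup.mem_center_iff.1 hcent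
  have hsc : ∀ v : Fin n → F, A ^ p • v = r • v := fun v => by
    show (A ^ p).1 *ᵥ v = r • v
    rw [← hr, scalar_apply]
    funext k
    simp [mulVec_diagonal]
  have hie : c i hij = e := by
    obtain ⟨dm, hdm⟩ := hpj p
    rw [hsc] at hdm
    have h2 := congrFun hdm j
    have h1 := congrFun ((hsc (Pi.single i 1)).symm.trans (hpi p)) i
    simp [hij.symm] at h1 h2
    exact frobenius_inj F p (h1.symm.trans h2)
  have hcall : ∀ k (hk : k ≠ j), c k hk = e := fun k hk => by
    by_cases hki : k = i
    · subst hki; exact hie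
    · exact hce k hk hki
  have he : e ≠ 0 := fun he => by
    have := hc i hij
    rw [hie, he, zero_smul] at this
    exact (Pi.single_ne_zero_iff.2 one_ne_zero) ((smul_eq_zero_iff_eq A).1 this)
  have hA : (A : Matrix (Fin n) (Fin n) F) = e • (transvection hij (d / e)).1 := by
    refine Matrix.ext fun r' s' => ?_
    have key : ∀ v : Fin n → F, A • v = (A : Matrix (Fin n) (Fin n) F) *ᵥ v := fun v => rfl
    by_cases hs : s' = j
    · subst hs
      have := congrFun hde r'
      rw [key, mulVec_single_one] at this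
      rw [show (A : Matrix (Fin n) (Fin n) F) r' s' = _ from this, transvection_coe]
      by_cases hr1 : r' = i
      · subst hr1
        simp [Matrix.single, hij, mul_div_cancel₀ _ he]
      · by_cases hr2 : r' = s'
        · subst hr2
          simp [Matrix.single, hr1, Ne.symm hr1]
        · simp [Matrix.single, Matrix.one_apply, hr1, hr2, Ne.symm hr1]
    · have := congrFun (hc s' hs) r'
      rw [key, mulVec_single_one, hcall] at this
      rw [show (A : Matrix (Fin n) (Fin n) F) r' s' = _ from this, transvection_coe]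
      simp [Matrix.single, Matrix.one_apply, Pi.single_apply, Ne.symm hs]
  refine ⟨d / e, ?_⟩
  rw [rootEl, QuotientGroup.eq, Matrix.SpecialLinearGroup.mem_center_iff]
  have hen : e ^ n = 1 := by
    have := congrArg Matrix.det hA
    rwa [A.2, det_smul, Fintype.card_fin, (transvection hij (d / e)).2, mul_one, eq_comm] at this
  refine ⟨e⁻¹, by rw [Fintype.card_fin, inv_pow, hen, inv_one], ?_⟩
  have h1 : (A⁻¹ * transvection hij (d / e)).1 = (A⁻¹).1 * (e⁻¹ • A.1) := by
    rw [hA, smul_smul, inv_mul_cancel₀ he, one_smul]; rfl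
  rw [h1, mul_smul_comm, show (A⁻¹).1 * A.1 = (A⁻¹ * A).1 from rfl, inv_mul_cancel, scalar_apply]
  show _ = e⁻¹ • (1 : Matrix (Fin n) (Fin n) F)
  rw [smul_one_eq_diagonal]

/-- Root groups are preserved by an automorphism fixing the basis points. -/
theorem exists_rootMap [Finite F] (β : MulAut (ProjectiveSpecialLinearGroup (Fin n) F))
    {π : ℙ F (Fin n → F) → ℙ F (Fin n → F)} (hπ : Function.Bijective π)
    (heq : ∀ (x : ProjectiveSpecialLinearGroup (Fin n) F) p, π (x • p) = β x • π p)
    (hfix : ∀ i, π (basisPt i) = basisPt i) {i j : Fin n} (hij : i ≠ j) :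
    ∃ a : F →+ F, Function.Bijective a ∧ ∀ t, β (rootEl hij t) = rootEl hij (a t) := by
  haveI := Fintype.ofFinite F
  obtain ⟨p, hp⟩ := CharP.exists F
  haveI : Fact p.Prime := ⟨CharP.char_is_prime F p⟩
  have hex : ∀ t : F, ∃ t', β (rootEl hij t) = rootEl hij t' := fun t => by
    refine exists_rootEl_of_props (p := p) hij _ (fun k hk => ?_) ?_ fun x => ?_
    · have := heq (rootEl hij t) (basisPt k)
      rwa [rootEl_smul_basisPt hij hk, hfix, eq_comm] at this
    · rw [← map_pow, rootEl_pow, CharP.cast_eq_zero, zero_mul, rootEl_zero, map_one]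
    · obtain ⟨y, rfl⟩ := hπ.2 x
      rw [← hfix i, ← heq]
      refine (ptCol_iff_of_equivariant β hπ heq _ _ _).2 ?_
      induction y using Projectivization.ind with
      | _ v hv =>
        rw [rootEl_smul_mk, basisPt]
        exact ptCol_of_add _ _ _ (t * v j) (by rw [← Pi.single_smul, smul_eq_mul, mul_one])
  choose a ha using hex
  have hadd : ∀ s t, a (s + t) = a s + a t := fun s t =>
    rootEl_injective hij (by rw [rootEl_add, ← ha, ← ha, ← ha, ← map_mul, rootEl_add])
  have hinj : Function.Injective a := fun s t h =>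
    rootEl_injective hij (β.injective (by rw [ha, ha, h]))
  exact ⟨AddMonoidHom.mk' a hadd, ⟨hinj, Finite.injective_iff_surjective.1 hinj⟩, ha⟩

/-- The maps of opposite root groups are linked by inversion. -/
theorem rootMap_inv (β : MulAut (ProjectiveSpecialLinearGroup (Fin n) F))
    {π : ℙ F (Fin n → F) → ℙ F (Fin n → F)}
    (heq : ∀ (x : ProjectiveSpecialLinearGroup (Fin n) F) p, π (x • p) = β x • π p)
    (hfix : ∀ i, π (basisPt i) = basisPt i) {i j : Fin n} (hij : i ≠ j) {a b : F →+ F}
    (ha : ∀ t, β (rootEl hij t) = rootEl hij (a t))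
    (hb : ∀ t, β (rootEl hij.symm t) = rootEl hij.symm (b t)) (t : F) :
    a t⁻¹ = (b t)⁻¹ := by
  rcases eq_or_ne t 0 with rfl | ht
  · simp
  have h1 : rootEl hij t⁻¹ • basisPt j = rootEl hij.symm t • basisPt (F := F) i := by
    rw [basisPt, basisPt, rootEl_smul_mk, rootEl_smul_mk]
    refine (Projectivization.mk_eq_mk_iff' F _ _ _ _).2 ⟨t⁻¹, ?_⟩
    funext k
    rcases eq_or_ne k i with rfl | hki
    · simp [hij, ht]
    rcases eq_or_ne k j with rfl | hkj
    · simp [hij.symm, ht]
    · simp [hki, hkj]
  have h2 := congrArg π h1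
  rw [heq, heq, hfix, hfix, ha, hb, basisPt, basisPt, rootEl_smul_mk, rootEl_smul_mk] at h2
  obtain ⟨c, hc⟩ := (Projectivization.mk_eq_mk_iff' F _ _ _ _).1 h2
  have h3 := congrFun hc i
  have h4 := congrFun hc j
  simp [hij, hij.symm] at h3 h4
  rw [← h3]
  exact eq_inv_of_mul_eq_one_left h4

/-- The Chevalley commutator relation gives multiplicativity. -/
theorem rootMap_mul (β : MulAut (ProjectiveSpecialLinearGroup (Fin n) F)) {i j k : Fin n}
    (hij : i ≠ j) (hjk : j ≠ k) (hik : i ≠ k) {a b c : F →+ F}
    (ha : ∀ t, β (rootEl hij t) = rootEl hij (a t))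
    (hb : ∀ t, β (rootEl hjk t) = rootEl hjk (b t))
    (hc : ∀ t, β (rootEl hik t) = rootEl hik (c t)) (s t : F) : c (s * t) = a s * b t := by
  refine rootEl_injective hik ?_
  have hcomm : ∀ u v : F, rootEl hik (u * v) =
      rootEl hij u * rootEl hjk v * (rootEl hij u)⁻¹ * (rootEl hjk v)⁻¹ := fun u v => by
    rw [rootEl, ← CfsgLib.Classical.commutator_transvection_transvection hij hjk hik]
    rfl
  rw [← hc, hcomm, hcomm, map_mul, map_mul, map_mul, map_inv, map_inv, ha, hb]

end CfsgLib.KnownC
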