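import Cfsg.Agent.Lib.KnownC.AutPSLPoints
import Cfsg.Agent.Lib.Classical.SLGen

set_option autoImplicit false

/-!
Subgroups of `SL_n(q)` of index the number of points of projective space.
-/

namespace CfsgLib.KnownC

open Matrix Matrix.SpecialLinearGroup
open scoped LinearAlgebra.Projectivization Pointwise

variable {n : ℕ} {F : Type*} [Field F]

theorem card_points_mul [Finite F] :
    Nat.card (ℙ F (Fin n → F)) * (Nat.card F - 1) + 1 = Nat.card F ^ n := by
  rw [← Projectivization.card' F (Fin n → F), Nat.card_fun, Nat.card_fin]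

theorem card_points_lt [Finite F] : Nat.card (ℙ F (Fin n → F)) < Nat.card F ^ n := by
  have h := card_points_mul (n := n) (F := F)
  have h2 : 2 ≤ Nat.card F := Finite.one_lt_card
  have : Nat.card (ℙ F (Fin n → F)) ≤ Nat.card (ℙ F (Fin n → F)) * (Nat.card F - 1) :=
    Nat.le_mul_of_pos_right _ (by omega)
  omega

theorem not_dvd_card_points [Finite F] (p : ℕ) [Fact p.Prime] [CharP F p] (hn : 1 ≤ n) :
    ¬p ∣ Nat.card (ℙ F (Fin n → F)) := by
  intro h
  have hq : p ∣ Nat.card F ^ n := by
    refine dvd_pow ?_ (by omega)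
    haveI := Fintype.ofFinite F
    obtain ⟨k, hp, hk⟩ := FiniteField.card F p
    rw [Nat.card_eq_fintype_card, hk]
    exact dvd_pow_self p k.pos.ne'
  rw [← card_points_mul] at hq
  have h1 : p ∣ 1 := (Nat.dvd_add_right (Dvd.dvd.mul_right h _)).1 hq
  exact (Fact.out : p.Prime).not_dvd_one h1

theorem index_point_stabilizer (p : ℙ F (Fin n → F)) :
    (MulAction.stabilizer (SpecialLinearGroup (Fin n) F) p).index = Nat.card (ℙ F (Fin n → F)) := by
  haveI : MulAction.IsPretransitive (SpecialLinearGroup (Fin n) F) (ℙ F (Fin n → F)) := inferInstance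
  exact MulAction.index_stabilizer_of_transitive _ p

theorem isPGroup_lineStab (p : ℕ) [Fact p.Prime] [CharP F p] (x : ℙ F (Fin n → F)) :
    IsPGroup p (lineStab (F := F) (ι := Fin n) x.submodule) := by
  induction x using Projectivization.ind with
  | _ v hv =>
  rintro ⟨A, hA⟩
  refine ⟨1, Subtype.ext (Subtype.ext ?_)⟩
  rw [Projectivization.submodule_mk] at hA
  have hAv : A • v = v := lineStab_fix_of_span v hv A hA
  have hN : ((A : Matrix (Fin n) (Fin n) F) - 1) ^ 2 = 0 := by
    refine Matrix.ext_iff_mulVec.2 fun w => ?_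
    rw [sq, ← mulVec_mulVec, zero_mulVec]
    obtain ⟨c, hc⟩ := Submodule.mem_span_singleton.1 (hA w)
    have hc' : ((A : Matrix (Fin n) (Fin n) F) - 1) *ᵥ w = c • v := by
      rw [sub_mulVec, one_mulVec, hc]; rfl
    rw [hc', mulVec_smul, sub_mulVec, one_mulVec,
      show (A : Matrix (Fin n) (Fin n) F) *ᵥ v = A • v from rfl, hAv, sub_self, smul_zero]
  show (A : Matrix (Fin n) (Fin n) F) ^ p ^ 1 = 1
  rcases Nat.eq_zero_or_pos n with rfl | hn
  · exact Subsingleton.elim _ _
  haveI : Nonempty (Fin n) := ⟨⟨0, hn⟩⟩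
  have h := add_pow_char_of_commute (p := p)
    (Commute.one_left ((A : Matrix (Fin n) (Fin n) F) - 1))
  rw [add_sub_cancel, one_pow] at h
  rw [pow_one, h, pow_eq_zero_of_le (Fact.out : p.Prime).two_le hN, add_zero]

theorem lineStab_conj_of_fix {g : SpecialLinearGroup (Fin n) F} {x : ℙ F (Fin n → F)}
    (hg : g • x = x) : MulAut.conj g • lineStab x.submodule = lineStab x.submodule := by
  rw [← lineStab_smul, ← PSL.smul_submodule, hg]

/-- A subgroup containing the root groups at `n` independent points is everything. -/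
theorem eq_top_of_lineStab_basis_le (H : Subgroup (SpecialLinearGroup (Fin n) F)) (hn : 1 ≤ n)
    (b : Module.Basis (Fin n) F (Fin n → F))
    (hb : ∀ i, lineStab (Submodule.span F {b i}) ≤ H) : H = ⊤ := by
  let M : Matrix (Fin n) (Fin n) F := (Pi.basisFun F (Fin n)).toMatrix b
  let i0 : Fin n := ⟨0, hn⟩
  have hM : M.det ≠ 0 := by
    haveI := (Pi.basisFun F (Fin n)).invertibleToMatrix b
    exact (Matrix.isUnit_det_of_invertible M).ne_zero
  let c : Fin n → F := Function.update 1 i0 M.det⁻¹
  have hc : ∀ i, c i ≠ 0 := fun i => by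
    by_cases hi : i = i0
    · subst hi; simp [c, hM]
    · simp [c, hi]
  let g : SpecialLinearGroup (Fin n) F := ⟨M * Matrix.diagonal c, by
    rw [det_mul, det_diagonal, Finset.prod_update_of_mem (Finset.mem_univ i0)]
    simp [mul_inv_cancel₀ hM]⟩
  have hge : ∀ i, g • (Pi.single i 1 : Fin n → F) = c i • b i := fun i => by
    show (M * Matrix.diagonal c) *ᵥ Pi.single i 1 = c i • b i
    funext k
    simp [M, Module.Basis.toMatrix_apply, mulVec_single, mul_comm]
  have hle : ∀ i, lineStab (g • Submodule.span F {(Pi.single i 1 : Fin n → F)}) ≤ H := fun i => by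
    refine le_trans (le_of_eq ?_) (hb i)
    congr 1
    rw [show g • Submodule.span F {(Pi.single i 1 : Fin n → F)} =
      Submodule.span F {g • (Pi.single i 1 : Fin n → F)} from by
        rw [Submodule.smul_span, Set.smul_set_singleton], hge,
      Submodule.span_singleton_smul_eq (Ne.isUnit (hc i))]
  have htop : MulAut.conj g⁻¹ • H = ⊤ :=
    Classical.sl_transvection_induction _ fun i j hij a => by
      have h1 := hle i
      rw [lineStab_smul] at h1
      rw [map_inv, Subgroup.mem_inv_pointwise_smul_iff]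
      exact h1 (Subgroup.smul_mem_pointwise_smul _ _ _ (SL2Gen.transvection_mem_lineStab hij a))
  rw [← inv_smul_smul (MulAut.conj g) H, ← map_inv, ← inv_smul_smul (MulAut.conj g⁻¹) H, htop]
  simp [Subgroup.eq_top_iff', Subgroup.mem_pointwise_smul_iff_inv_smul_mem]

/-- The orbit of a `k`-space under `SL_n` is large. -/
theorem card_pow_le_index_stabilizer [Finite F] (W : Submodule F (Fin n → F)) :
    Nat.card F ^ (Module.finrank F W * (n - Module.finrank F W)) ≤
      (MulAction.stabilizer (SpecialLinearGroup (Fin n) F) W).index := by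
  haveI := Fintype.ofFinite F
  obtain ⟨p, hp⟩ := CharP.exists F
  haveI : Fact p.Prime := ⟨CharP.char_is_prime F p⟩
  obtain ⟨C, hC⟩ := Submodule.exists_isCompl W
  rcases Nat.eq_zero_or_pos n with rfl | hn
  · simp only [Nat.zero_sub, mul_zero, pow_zero]
    exact Nat.one_le_iff_ne_zero.2 Subgroup.index_ne_zero_of_finite
  haveI : Nonempty (Fin n) := ⟨⟨0, hn⟩⟩
  let N : (W →ₗ[F] C) → ((Fin n → F) →ₗ[F] (Fin n → F)) := fun f =>
    C.subtype.comp (f.comp (W.projectionOnto C hC))
  have hN : ∀ f, (LinearMap.toMatrix' (N f)) ^ 2 = 0 := fun f => by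
    rw [sq, ← LinearMap.toMatrix'_comp]
    refine (LinearEquiv.map_eq_zero_iff _).2 (LinearMap.ext fun v => ?_)
    simp [N, Submodule.projectionOnto_apply_right]
  let M : (W →ₗ[F] C) → Matrix (Fin n) (Fin n) F := fun f => 1 + LinearMap.toMatrix' (N f)
  have hdet : ∀ f, (M f).det = 1 := fun f => by
    have h1 : M f ^ p = 1 := by
      rw [add_pow_char_of_commute (p := p) (Commute.one_left _), one_pow,
        pow_eq_zero_of_le (Fact.out : p.Prime).two_le (hN f), add_zero]
    have h2 : (M f).det ^ p = 1 ^ p := by rw [← det_pow, h1, det_one, one_pow]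
    exact frobenius_inj F p h2
  let u : (W →ₗ[F] C) → SpecialLinearGroup (Fin n) F := fun f => ⟨M f, hdet f⟩
  have hu : ∀ f, ∀ w : W, u f • (w : Fin n → F) = (w : Fin n → F) + (f w : Fin n → F) := fun f w => by
    show M f *ᵥ (w : Fin n → F) = _
    rw [add_mulVec, one_mulVec, LinearMap.toMatrix'_mulVec]
    simp [N, Submodule.projectionOnto_apply_left]
  let e : (W →ₗ[F] C) → MulAction.orbit (SpecialLinearGroup (Fin n) F) W := fun f =>
    ⟨u f • W, MulAction.mem_orbit _ _⟩
  have he : Function.Injective e := fun f f' hff => by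
    refine LinearMap.ext fun w => ?_
    have h1 : u f • (w : Fin n → F) ∈ u f' • W := by
      rw [← show u f • W = u f' • W from congrArg Subtype.val hff]
      exact Submodule.smul_mem_pointwise_smul _ _ _ w.2
    obtain ⟨w', hw', hww⟩ := (Submodule.mem_smul_pointwise_iff_exists _ _ _).1 h1
    obtain ⟨w2, rfl⟩ : ∃ w2 : W, (w2 : Fin n → F) = w' := ⟨⟨w', hw'⟩, rfl⟩
    rw [hu, hu] at hww
    have h2 := congrArg (W.projectionOnto C hC) hww
    simp [Submodule.projectionOnto_apply_left, Submodule.projectionOnto_apply_right] at h2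
    rw [h2] at hww
    exact (Subtype.ext (add_left_cancel hww)).symm
  haveI : Finite (MulAction.orbit (SpecialLinearGroup (Fin n) F) W) := inferInstance
  rw [MulAction.index_stabilizer, ← Nat.card_coe_set_eq]
  refine le_trans (le_of_eq ?_) (Nat.card_le_card_of_injective e he)
  have hdim : Module.finrank F C = n - Module.finrank F W := by
    have := Submodule.finrank_add_eq_of_isCompl hC
    rw [Module.finrank_fin_fun] at this
    omega
  rw [Module.natCard_eq_pow_finrank (K := F) (V := W →ₗ[F] C), Module.finrank_linearMap, hdim]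

/-- A hyperplane is determined by a dual point, fixed by the inverse transposes of its stabiliser. -/
theorem exists_dual_point (W : Submodule F (Fin n → F)) (hW : Module.finrank F W + 1 = n) :
    ∃ z : ℙ F (Fin n → F), ∀ h : SpecialLinearGroup (Fin n) F, h • W = W → slInvTrans h • z = z := by
  let A : Submodule F (Fin n → F) :=
    W.dualAnnihilator.comap (dotProductEquiv F (Fin n)).toLinearMap
  have hA : Module.finrank F A = 1 := by
    have h1 := Subspace.finrank_add_finrank_dualAnnihilator_eq W
    rw [Module.finrank_fin_fun] at h1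
    have h2 : Module.finrank F A = Module.finrank F W.dualAnnihilator := by
      refine LinearEquiv.finrank_eq ?_
      exact (dotProductEquiv F (Fin n)).ofSubmodule' W.dualAnnihilator
    omega
  refine ⟨Projectivization.mk'' A hA, fun h hh => Projectivization.submodule_injective ?_⟩
  rw [PSL.smul_submodule, Projectivization.submodule_mk'']
  have hle : slInvTrans h • A ≤ A := by
    intro v hv
    obtain ⟨u, hu, rfl⟩ := (Submodule.mem_smul_pointwise_iff_exists _ _ _).1 hv
    refine (Submodule.mem_dualAnnihilator _).2 fun w hw => ?_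
    have hw' : h⁻¹ • w ∈ W := by
      rw [← hh] at hw
      obtain ⟨w0, hw0, rfl⟩ := (Submodule.mem_smul_pointwise_iff_exists _ _ _).1 hw
      rwa [inv_smul_smul]
    have := (Submodule.mem_dualAnnihilator _).1 hu _ hw'
    show ((h⁻¹).1ᵀ *ᵥ u) ⬝ᵥ w = 0
    rw [mulVec_transpose, ← dotProduct_mulVec]
    exact this
  refine Submodule.eq_of_le_of_finrank_eq hle ?_
  exact (Submodule.equivMapOfInjective _ (MulAction.injective (slInvTrans h)) A).finrank_eq.symm

/-- Subgroups of `SL_n(q)` of index the number of points are point or hyperplane stabilisers. -/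
theorem stabilizer_of_index_eq [Finite F] (hn : 2 ≤ n) (H : Subgroup (SpecialLinearGroup (Fin n) F))
    (hidx : H.index = Nat.card (ℙ F (Fin n → F))) :
    ∃ x : ℙ F (Fin n → F), H = MulAction.stabilizer _ x ∨
      H = (MulAction.stabilizer _ x).map
        (slInvTrans : MulAut (SpecialLinearGroup (Fin n) F)).toMonoidHom := by
  haveI := Fintype.ofFinite F
  obtain ⟨p, hp⟩ := CharP.exists F
  haveI : Fact p.Prime := ⟨CharP.char_is_prime F p⟩
  obtain ⟨Q⟩ : Nonempty (Sylow p H) := inferInstance
  have hQp : IsPGroup p (Q.1.map H.subtype) := Q.2.map _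
  obtain ⟨P, hP⟩ := hQp.exists_le_sylow
  have hnd : ¬p ∣ Nat.card (ℙ F (Fin n → F)) := not_dvd_card_points p (by omega)
  have hPH : (P : Subgroup (SpecialLinearGroup (Fin n) F)) ≤ H := by
    have e1 : Q.1.map H.subtype = P.1 := by
      refine Subgroup.eq_of_le_of_card_ge hP ?_
      rw [Subgroup.card_map_of_injective H.subtype_injective, P.card_eq_multiplicity,
        Q.card_eq_multiplicity]
      refine Nat.pow_le_pow_right (Fact.out : p.Prime).pos (le_of_eq ?_)
      rw [← H.card_mul_index, Nat.factorization_mul Nat.card_pos.ne'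
        Subgroup.index_ne_zero_of_finite, Finsupp.add_apply,
        Nat.factorization_eq_zero_of_not_dvd (n := H.index) (by rwa [hidx]), add_zero]
    rw [← e1]
    exact Subgroup.map_subtype_le _
  obtain ⟨x0, hx0⟩ := P.2.nonempty_fixed_point_of_prime_not_dvd_card _ hnd
  have hls : lineStab x0.submodule ≤ H := by
    have hnorm : P.1 ≤ Subgroup.normalizer (lineStab x0.submodule : Set _) := fun g hg => by
      rw [Subgroup.mem_normalizer_iff]
      intro a
      have hfix : g • x0 = x0 := hx0 ⟨g, hg⟩
      conv_rhs => rw [← lineStab_conj_of_fix hfix]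
      exact (Subgroup.smul_mem_pointwise_smul_iff (a := MulAut.conj g)).symm
    have hsup := P.2.to_sup_of_normal_right' (isPGroup_lineStab p x0) hnorm
    exact le_trans (le_sup_right.trans (le_of_eq (P.3 hsup le_sup_left))) hPH
  have horb : ∀ h ∈ H, lineStab (h • x0).submodule ≤ H := fun h hh => by
    rw [PSL.smul_submodule, lineStab_smul]
    rintro a ha
    obtain ⟨b, hb, rfl⟩ := (Subgroup.mem_smul_pointwise_iff_exists _ _ _).1 ha
    exact mul_mem (mul_mem hh (hls hb)) (inv_mem hh)
  haveI : Nonempty (ℙ F (Fin n → F)) := ⟨x0⟩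
  let S : Set (Fin n → F) := {v | ∃ h ∈ H, ∃ hv : v ≠ 0, Projectivization.mk F v hv = h • x0}
  let W := Submodule.span F S
  have hWne : W ≠ ⊤ := fun hW => by
    obtain ⟨t, hts, htsp, hli⟩ := exists_linearIndependent F S
    let b0 : Module.Basis t F (Fin n → F) :=
      Module.Basis.mk hli (by rw [Subtype.range_coe_subtype, Set.setOf_mem_eq, htsp]; exact hW.ge)
    haveI := b0.fintypeIndexOfRankLtAleph0 (Module.rank_lt_aleph0 F (Fin n → F))
    have hcard : Fintype.card t = n := by
      rw [← Module.finrank_eq_card_basis b0, Module.finrank_fin_fun]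
    let b := b0.reindex (Fintype.equivFinOfCardEq hcard)
    have hb : ∀ i, lineStab (Submodule.span F {b i}) ≤ H := fun i => by
      have hm : b i ∈ S := by
        rw [Module.Basis.reindex_apply, Module.Basis.mk_apply]
        exact hts (Subtype.prop _)
      obtain ⟨h, hh, hv, he⟩ := hm
      rw [← Projectivization.submodule_mk _ hv, he]
      exact horb h hh
    have htop := eq_top_of_lineStab_basis_le H (by omega) b hb
    rw [htop, Subgroup.index_top] at hidx
    obtain ⟨r, hr, -⟩ := exists_third_point hn x0 x0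
    haveI : Nontrivial (ℙ F (Fin n → F)) := ⟨⟨r, x0, hr⟩⟩
    exact absurd hidx (Finite.one_lt_card).ne
  have hstab : ∀ h ∈ H, h • W = W := fun h hh => by
    rw [Submodule.smul_span]
    congr 1
    refine Set.ext fun v => ⟨?_, fun ⟨k, hk, hv, hv'⟩ => ?_⟩
    · rintro ⟨w, ⟨k, hk, hw, hw'⟩, rfl⟩
      refine ⟨h * k, mul_mem hh hk, (smul_ne_zero_iff_ne h).mpr hw, ?_⟩
      rw [mul_smul, ← hw', sl_smul_mk]
    · refine ⟨h⁻¹ • v, ⟨h⁻¹ * k, mul_mem (inv_mem hh) hk, (smul_ne_zero_iff_ne h⁻¹).mpr hv, ?_⟩,
        smul_inv_smul h v⟩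
      rw [mul_smul, ← hv', sl_smul_mk]
  have hx0W : x0.submodule ≤ W := by
    conv_lhs => rw [← x0.mk_rep, Projectivization.submodule_mk]
    exact Submodule.span_mono (Set.singleton_subset_iff.2
      ⟨1, one_mem H, x0.rep_nonzero, by rw [one_smul, x0.mk_rep]⟩)
  have hk1 : 1 ≤ Module.finrank F W := by
    rw [← Projectivization.finrank_submodule x0]
    exact Submodule.finrank_mono hx0W
  have hkn : Module.finrank F W < n := by
    have := Submodule.finrank_lt hWne
    rwa [Module.finrank_fin_fun] at this
  rcases Nat.lt_or_ge (Module.finrank F W) 2 with hk | hk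
  · refine ⟨x0, Or.inl ?_⟩
    have hW1 : W = x0.submodule :=
      (Submodule.eq_of_le_of_finrank_eq hx0W (by rw [Projectivization.finrank_submodule]; omega)).symm
    have hle : H ≤ MulAction.stabilizer (SpecialLinearGroup (Fin n) F) x0 := fun h hh => by
      refine Projectivization.submodule_injective ?_
      rw [PSL.smul_submodule, ← hW1, hstab h hh]
    exact Subgroup.eq_of_le_of_card_ge hle (by
      have e1 := H.card_mul_index
      have e2 := (MulAction.stabilizer (SpecialLinearGroup (Fin n) F) x0).card_mul_index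
      rw [index_point_stabilizer, ← e1, hidx] at e2
      exact le_of_eq (mul_right_cancel₀ Nat.card_pos.ne' e2))
  rcases Nat.lt_or_ge (Module.finrank F W + 1) n with hk2 | hk2
  · exfalso
    have h1 := card_pow_le_index_stabilizer W
    have h2 : (MulAction.stabilizer (SpecialLinearGroup (Fin n) F) W).index ≤ H.index :=
      Nat.le_of_dvd (Nat.pos_of_ne_zero Subgroup.index_ne_zero_of_finite)
        (Subgroup.index_dvd_of_le fun h hh => MulAction.mem_stabilizer_iff.2 (hstab h hh))
    have h3 : Nat.card F ^ n ≤ Nat.card F ^ (Module.finrank F W * (n - Module.finrank F W)) := by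
      refine Nat.pow_le_pow_right Nat.card_pos ?_
      obtain ⟨a, ha⟩ := Nat.exists_eq_add_of_le hk
      obtain ⟨b, hb⟩ := Nat.exists_eq_add_of_le hk2
      rw [ha] at hb
      rw [ha, show n - (2 + a) = 2 + b from by omega, hb]
      nlinarith
    have := card_points_lt (n := n) (F := F)
    omega
  · obtain ⟨z, hz⟩ := exists_dual_point W (by omega)
    refine ⟨z, Or.inr ?_⟩
    have hle : H.map (slInvTrans : MulAut (SpecialLinearGroup (Fin n) F)).toMonoidHom ≤
        MulAction.stabilizer (SpecialLinearGroup (Fin n) F) z := by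
      rintro _ ⟨h, hh, rfl⟩
      exact hz h (hstab h hh)
    have heq := Subgroup.eq_of_le_of_card_ge hle (by
      rw [Subgroup.card_map_of_injective (EquivLike.injective slInvTrans)]
      have e1 := H.card_mul_index
      have e2 := (MulAction.stabilizer (SpecialLinearGroup (Fin n) F) z).card_mul_index
      rw [index_point_stabilizer, ← e1, hidx] at e2
      exact le_of_eq (mul_right_cancel₀ Nat.card_pos.ne' e2))
    rw [← heq, Subgroup.map_map]
    conv_lhs => rw [← Subgroup.map_id H]
    congr 1
    exact MonoidHom.ext fun s => (slInvTrans_aux s).symm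

end CfsgLib.KnownC
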