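import Mathlib

/-!
An anisotropic binary form over a finite field represents every unit of every finite commutative
algebra over that field.
-/

set_option autoImplicit false

namespace CfsgLib.KnownC

/-- `x² + a x y + b y²`. -/
def binForm {R : Type*} [CommRing R] (a b x y : R) : R := x ^ 2 + a * x * y + b * y ^ 2

theorem binForm_mul {R : Type*} [CommRing R] (a b x y x' y' : R) :
    binForm a b x y * binForm a b x' y' =
      binForm a b (x * x' - b * y * y') (x * y' + y * x' + a * y * y') := by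
  simp only [binForm]; ring

theorem map_binForm {R S : Type*} [CommRing R] [CommRing S] (f : R →+* S) (a b x y : R) :
    f (binForm a b x y) = binForm (f a) (f b) (f x) (f y) := by
  simp [binForm]

variable {F : Type*} [Field F] [Finite F]

theorem aniso_facts {a b : F}
    (hab : ∀ z₁ z₂ : F, z₁ ^ 2 + a * z₁ * z₂ + b * z₂ ^ 2 = 0 → z₁ = 0 ∧ z₂ = 0) :
    ((2 : F) ≠ 0 → a ^ 2 - 4 * b ≠ 0) ∧ ((2 : F) = 0 → a ≠ 0) := by
  constructor
  · intro h2 h
    refine one_ne_zero (hab (-a / 2) 1 ?_).2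
    field_simp
    linear_combination -h
  · intro h2 ha
    have : Fintype F := Fintype.ofFinite F
    have : CharP F 2 := CharP.charP_iff_prime_eq_zero Nat.prime_two |>.2 (by exact_mod_cast h2)
    obtain ⟨r, hr⟩ := FiniteField.isSquare_of_char_two (ringChar.eq F 2) b
    refine one_ne_zero (hab r 1 ?_).2
    subst ha hr
    linear_combination (r * r) * h2

theorem exists_binForm_eq {L : Type*} [Field L] [Finite L] (j : F →+* L) {a b : F}
    (hab : ∀ z₁ z₂ : F, z₁ ^ 2 + a * z₁ * z₂ + b * z₂ ^ 2 = 0 → z₁ = 0 ∧ z₂ = 0) (e : L) :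
    ∃ x y : L, binForm (j a) (j b) x y = e := by
  have : Fintype L := Fintype.ofFinite L
  by_cases h2 : (2 : L) = 0
  · have : CharP L 2 := CharP.charP_iff_prime_eq_zero Nat.prime_two |>.2 (by exact_mod_cast h2)
    obtain ⟨r, hr⟩ := FiniteField.isSquare_of_char_two (ringChar.eq L 2) e
    exact ⟨r, 0, by simp [binForm, hr, sq]⟩
  · have h2' : (2 : F) ≠ 0 := fun h => h2 (by rw [← map_ofNat j 2, h, map_zero])
    set d : L := j b - (j a) ^ 2 / 4 with hd
    have h4 : (4 : L) ≠ 0 := by rw [show (4 : L) = 2 * 2 by norm_num]; exact mul_ne_zero h2 h2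
    have hd0 : d ≠ 0 := by
      intro h
      apply (aniso_facts hab).1 h2'
      apply j.injective
      rw [hd] at h
      field_simp at h
      rw [map_sub, map_pow, map_mul, map_ofNat, map_zero]
      linear_combination -h
    have hchar : ringChar L ≠ 2 := fun h => h2 (by
      have := ringChar.Nat.cast_ringChar (R := L); rw [h] at this; exact_mod_cast this)
    obtain ⟨x, y, hxy⟩ := FiniteField.exists_root_sum_quadratic
      (f := Polynomial.X ^ 2 - Polynomial.C e) (g := Polynomial.C d * Polynomial.X ^ 2)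
      (Polynomial.degree_X_pow_sub_C (by norm_num) e) (Polynomial.degree_C_mul_X_pow 2 hd0)
      (FiniteField.odd_card_of_char_ne_two hchar)
    simp only [Polynomial.eval_sub, Polynomial.eval_pow, Polynomial.eval_X, Polynomial.eval_C,
      Polynomial.eval_mul] at hxy
    refine ⟨x - j a * y / 2, y, ?_⟩
    rw [hd] at hxy
    simp only [binForm]
    field_simp at hxy ⊢
    linear_combination hxy

theorem exists_binForm_eq_one_add {R : Type*} [CommRing R] (j : F →+* R) {a b : F}
    (hab : ∀ z₁ z₂ : F, z₁ ^ 2 + a * z₁ * z₂ + b * z₂ ^ 2 = 0 → z₁ = 0 ∧ z₂ = 0) {ν : R}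
    (hν : IsNilpotent ν) : ∃ x y : R, binForm (j a) (j b) x y = 1 + ν := by
  obtain ⟨s, r, hsr⟩ : ∃ s r : F, 2 * s + a * r = 1 := by
    by_cases h2 : (2 : F) = 0
    · exact ⟨0, a⁻¹, by rw [mul_zero, zero_add, mul_inv_cancel₀ ((aniso_facts hab).2 h2)]⟩
    · exact ⟨2⁻¹, 0, by rw [mul_inv_cancel₀ h2, mul_zero, add_zero]⟩
  have key : ∀ k (ν : R), ν ^ (2 ^ k) = 0 → ∃ x y : R, binForm (j a) (j b) x y = 1 + ν := by
    intro k
    induction k with
    | zero =>
      intro ν hν
      exact ⟨1, 0, by rw [pow_zero, pow_one] at hν; simp [binForm, hν]⟩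
    | succ k ih =>
      intro ν hν
      have hsr' : 2 * j s + j a * j r = 1 := by
        rw [← map_ofNat j 2, ← map_mul, ← map_mul, ← map_add, hsr, map_one]
      obtain ⟨c, hc⟩ : ∃ c, c = binForm (j a) (j b) (j s) (j r) := ⟨_, rfl⟩
      have hw : binForm (j a) (j b) (1 + j s * ν) (j r * ν) = 1 + ν + c * ν ^ 2 := by
        rw [hc]; simp only [binForm]; linear_combination ν * hsr'
      have hν' : IsNilpotent ν := ⟨_, hν⟩
      have hu : IsUnit (1 + ν + c * ν ^ 2) := by
        rw [show 1 + ν + c * ν ^ 2 = (ν * (1 + c * ν)) + 1 by ring]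
        exact ((Commute.all ν _).isNilpotent_mul_right hν').isUnit_add_one
      obtain ⟨x, y, hxy⟩ := ih (-(c * ν ^ 2) * ↑hu.unit⁻¹) (by
        rw [← neg_mul, mul_right_comm, mul_pow, ← pow_mul, ← pow_succ', hν, mul_zero])
      refine ⟨_, _, (binForm_mul _ _ (1 + j s * ν) (j r * ν) x y).symm.trans ?_⟩
      rw [hxy, hw]
      linear_combination (-(c * ν ^ 2)) * hu.mul_val_inv
  obtain ⟨k, hk⟩ := hν
  exact key k ν (pow_eq_zero_of_le (Nat.lt_two_pow_self).le hk)

theorem isNilpotent_of_mem_maximal {R : Type*} [CommRing R] [Finite R] {x : R}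
    (h : ∀ M : Ideal R, M.IsMaximal → x ∈ M) : IsNilpotent x := by
  rw [nilpotent_iff_mem_prime]
  intro P hP
  exact h P (IsArtinianRing.isMaximal_of_isPrime P)

theorem exists_forall_max_sub_mem {R : Type*} [CommRing R] [Finite R]
    (c : {M : Ideal R // M.IsMaximal} → R) : ∃ z : R, ∀ M, z - c M ∈ M.1 := by
  have : Finite (Ideal R) := Finite.of_injective (fun I => (I : Set R)) SetLike.coe_injective
  refine Ideal.exists_forall_sub_mem_ideal (I := fun M : {M : Ideal R // M.IsMaximal} => M.1) ?_ c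
  intro M N hMN
  have := M.2
  have := N.2
  exact Ideal.isCoprime_of_isMaximal fun h => hMN (Subtype.ext h)

/-- Units of a finite algebra are values of an anisotropic binary form. -/
theorem exists_binForm_eq_unit {R : Type*} [CommRing R] [Finite R] (j : F →+* R) {a b : F}
    (hab : ∀ z₁ z₂ : F, z₁ ^ 2 + a * z₁ * z₂ + b * z₂ ^ 2 = 0 → z₁ = 0 ∧ z₂ = 0) {e : R}
    (he : IsUnit e) : ∃ x y : R, binForm (j a) (j b) x y = e := by
  have hloc : ∀ M : {M : Ideal R // M.IsMaximal}, ∃ x y : R, binForm (j a) (j b) x y - e ∈ M.1 := by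
    intro M
    have := M.2
    let _ := Ideal.Quotient.field M.1
    have : Finite (R ⧸ M.1) := Finite.of_surjective _ Ideal.Quotient.mk_surjective
    obtain ⟨x, y, hxy⟩ := exists_binForm_eq ((Ideal.Quotient.mk M.1).comp j) hab (Ideal.Quotient.mk M.1 e)
    obtain ⟨x, rfl⟩ := Ideal.Quotient.mk_surjective x
    obtain ⟨y, rfl⟩ := Ideal.Quotient.mk_surjective y
    refine ⟨x, y, (Ideal.Quotient.eq).1 ?_⟩
    rw [map_binForm]
    exact hxy
  choose cx cy hc using hloc
  obtain ⟨x, hx⟩ := exists_forall_max_sub_mem cx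
  obtain ⟨y, hy⟩ := exists_forall_max_sub_mem cy
  have hν : IsNilpotent (↑he.unit⁻¹ * (binForm (j a) (j b) x y - e)) :=
    isNilpotent_of_mem_maximal fun M hM => Ideal.mul_mem_left _ _ (by
      have h := (Ideal.Quotient.eq).2 (hc ⟨M, hM⟩)
      refine (Ideal.Quotient.eq).1 ?_
      rw [← h, map_binForm, map_binForm, (Ideal.Quotient.eq).2 (hx ⟨M, hM⟩),
        (Ideal.Quotient.eq).2 (hy ⟨M, hM⟩)])
  obtain ⟨ν, hνdef⟩ : ∃ ν, ν = ↑he.unit⁻¹ * (binForm (j a) (j b) x y - e) := ⟨_, rfl⟩
  rw [← hνdef] at hν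
  have hu : IsUnit (ν + 1) := hν.isUnit_add_one
  obtain ⟨x', y', hxy'⟩ := exists_binForm_eq_one_add j hab
    (ν := -ν * ↑hu.unit⁻¹) ((Commute.all (-ν) _).isNilpotent_mul_right hν.neg)
  refine ⟨_, _, (binForm_mul _ _ x y x' y').symm.trans ?_⟩
  have e1 : binForm (j a) (j b) x y = e * (ν + 1) := by
    rw [hνdef]
    linear_combination (-(binForm (j a) (j b) x y - e)) * he.mul_val_inv
  rw [hxy', e1]
  linear_combination (-(e * ν)) * hu.mul_val_inv

end CfsgLib.KnownC
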