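import Mathlib
import Cfsg.Prelude.Def_ChevAutomorphisms
import Cfsg.Agent.Lib.Chev.Bruhat

/-!
The fixed points of a field automorphism of prime order of a Chevalley group with unimodular
torus: the Chevalley group over the fixed field.
-/

set_option autoImplicit false

namespace CfsgLib.KnownC.ChevFieldFixed

open Cfsg.Lie CfsgLib.Chev Matrix
open scoped MatrixGroups

variable {D : ChevalleyDatum} {F K : Type*} [Field F] [Field K]

/-- Entrywise application of a homomorphism of fields. -/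
noncomputable def glMap (ι : K →+* F) : GL D.Idx K →* GL D.Idx F :=
  Units.map ι.mapMatrix.toMonoidHom

theorem glMap_val (ι : K →+* F) (x : GL D.Idx K) :
    ((glMap ι x : GL D.Idx F) : Matrix D.Idx D.Idx F) = (x : Matrix D.Idx D.Idx K).map ι := rfl

theorem glMap_injective (ι : K →+* F) : Function.Injective (glMap (D := D) ι) :=
  fun _ _ h => Units.ext (Matrix.map_injective ι.injective (congrArg Units.val h))

theorem glMap_torHom (ι : K →+* F) (c : Fin D.rank → Kˣ) :
    glMap ι (torHom D K c) = torHom D F (fun i => Units.map ι.toMonoidHom (c i)) := by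
  refine Units.ext ?_
  rw [glMap_val, torHom_apply, torHom_apply, Matrix.diagonal_map (map_zero ι)]
  congr 1
  funext a
  simp only [← map_zpow, ← map_prod]
  rfl

section
variable (g : Good D)
include g

theorem glMap_xG (ι : K →+* F) (r : ℕ) (t : K) : glMap ι (g.xG r t) = g.xG r (ι t) := by
  refine Units.ext ?_
  rw [glMap_val, g.coe_xG, g.coe_xG]
  by_cases hr : r < D.nroots
  · rw [g.x_eq_xr hr, g.x_eq_xr hr, xr_map]
  · rw [Good.x_out hr, Good.x_out hr, Matrix.map_one ι (map_zero ι) (map_one ι)]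

theorem glMap_rootGen (ι : K →+* F) (S : Set ℕ) :
    (rootGen D K S).map (glMap ι) ≤ rootGen D F S := by
  rw [Subgroup.map_le_iff_le_comap]
  refine g.rootGen_le fun r hS hr t => ?_
  rw [Subgroup.mem_comap, glMap_xG g]
  exact g.mem_rootGen hr hS _

theorem group_le_comap (ι : K →+* F) : D.group K ≤ (D.group F).comap (glMap ι) := by
  refine (Subgroup.closure_le _).2 ?_
  rintro x ⟨r, t, hx⟩
  have hx' : x = g.xG r t := g.eq_xG (hx.trans (by rw [ChevalleyDatum.x, dif_pos r.2]))
  rw [SetLike.mem_coe, Subgroup.mem_comap, hx', glMap_xG g]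
  exact g.xG_mem_group r.2 _

theorem glMap_nG (ι : K →+* F) (r : ℕ) (t : Kˣ) :
    glMap ι (g.nG r t) = g.nG r (Units.map ι.toMonoidHom t) := by
  simp only [Good.nG, map_mul, glMap_xG g, map_neg]
  rfl

theorem glMap_wordN (ι : K →+* F) (l : List (Fin D.rank)) :
    glMap ι (g.wordN (F := K) l) = g.wordN l := by
  induction l with
  | nil => simp [Good.wordN_nil]
  | cons i l ih =>
    rw [g.wordN_cons, g.wordN_cons, map_mul, ih, Good.nI, Good.nI, glMap_nG g, map_one]

theorem glMap_xProd (ι : K →+* F) (t : ℕ → K) (m : ℕ) :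
    glMap ι (g.xProd t m) = g.xProd (fun r => ι (t r)) m := by
  simp only [Good.xProd, map_list_prod, List.map_map, Function.comp_def, glMap_xG g]

theorem glMap_borel (σ : F →+* F) {x : GL D.Idx F} (hx : x ∈ D.borelSubgroup F) :
    glMap σ x ∈ D.borelSubgroup F := by
  obtain ⟨v, hv, h, hh, rfl⟩ := g.mem_borel.1 hx
  rw [g.posUnipotent_eq] at hv
  rw [g.diagonal_eq_range] at hh
  obtain ⟨c, rfl⟩ := hh
  rw [map_mul]
  refine g.mem_borel.2 ⟨_, ?_, _, ?_, rfl⟩
  · rw [g.posUnipotent_eq]
    exact glMap_rootGen g σ _ (Subgroup.mem_map_of_mem _ hv)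
  · rw [glMap_torHom]
    exact g.torHom_mem _

theorem pos_fixed_mem (hc : HasComm D) (σ : F →+* F) (ι : K →+* F)
    (hfix : ∀ a, σ a = a → ∃ b, ι b = a) {v : GL D.Idx F}
    (hv : v ∈ rootGen D F (Set.Ici (half D))) (hσ : glMap σ v = v) :
    ∃ y ∈ D.group K, glMap ι y = v := by
  obtain ⟨t, rfl⟩ := g.exists_xProd hc le_rfl hv
  rw [glMap_xProd g] at hσ
  have hb : ∀ r, ∃ b : K, half D ≤ r → r < D.nroots → ι b = t r := by
    intro r
    by_cases h : half D ≤ r ∧ r < D.nroots
    · obtain ⟨b, hb⟩ := hfix _ (g.xProd_inj le_rfl hσ h.1 h.2)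
      exact ⟨b, fun _ _ => hb⟩
    · exact ⟨0, fun h1 h2 => absurd ⟨h1, h2⟩ h⟩
  choose b hb using hb
  refine ⟨g.xProd b (half D), Subgroup.list_prod_mem _ fun x hx => ?_, ?_⟩
  · obtain ⟨r, hr, rfl⟩ := List.mem_map.1 hx
    rw [List.mem_range'_1] at hr
    exact g.xG_mem_group (by omega) _
  · rw [glMap_xProd g]
    simp only [Good.xProd]
    refine congrArg List.prod (List.map_congr_left fun r hr => ?_)
    rw [List.mem_range'_1] at hr
    rw [hb r hr.1 (by omega)]

theorem diag_fixed_mem (hinj : Function.Injective (torHom D F)) (σ : F →+* F) (ι : K →+* F)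
    (hfix : ∀ a, σ a = a → ∃ b, ι b = a) {h : GL D.Idx F}
    (hh : h ∈ D.diagonalSubgroup F) (hσ : glMap σ h = h) :
    ∃ y ∈ D.group K, glMap ι y = h := by
  rw [g.diagonal_eq_range] at hh
  obtain ⟨c, rfl⟩ := hh
  rw [glMap_torHom] at hσ
  have hb : ∀ i, ∃ b : Kˣ, Units.map ι.toMonoidHom b = c i := by
    intro i
    obtain ⟨b, hb⟩ := hfix (c i) (congrArg Units.val (congrFun (hinj hσ) i))
    have hb0 : b ≠ 0 := fun h0 => (c i).ne_zero (by rw [← hb, h0, map_zero])
    exact ⟨Units.mk0 b hb0, Units.ext hb⟩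
  choose b hb using hb
  refine ⟨torHom D K b, g.borel_le_group (Subgroup.mem_sup_right (g.torHom_mem b)), ?_⟩
  rw [glMap_torHom]
  simp only [hb]

/-- An element fixed by `σ` comes from the fixed field. -/
theorem fixed_mem (hc : HasComm D) (hinj : Function.Injective (torHom D F)) (σ : F →+* F)
    (ι : K →+* F) (hfix : ∀ a, σ a = a → ∃ b, ι b = a) {x : GL D.Idx F} (hx : x ∈ D.group F)
    (hσ : glMap σ x = x) : ∃ y ∈ D.group K, glMap ι y = x := by
  obtain ⟨b, hb, n, hn, π, -, hπ, u, hu, rfl⟩ := g.exists_canonical hc hx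
  obtain ⟨l, hl⟩ := g.exists_wordN hn
  set w := g.wordN (F := F) l with hw
  set d := w⁻¹ * n with hd
  have hn' : n = w * d := by rw [hd, mul_inv_cancel_left]
  have hπ' : g.Acts w π := by
    have h1 := g.acts_mul (g.acts_wordN (F := F) l) (g.acts_diagonal hl)
    rw [← hn', mul_one] at h1
    rw [g.acts_unique hπ h1]
    exact g.acts_wordN l
  set b' := b * (w * d * w⁻¹) with hb'def
  have hb' : b' ∈ D.borelSubgroup F :=
    mul_mem hb (Subgroup.mem_sup_right (g.diag_conj (g.wordN_mem l) hl))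
  have hx' : b * n * u = b' * w * u := by
    rw [hb'def, hn']
    group
  rw [hx'] at hσ ⊢
  rw [map_mul, map_mul, hw, glMap_wordN g, ← hw] at hσ
  obtain ⟨hσb, hσu⟩ := g.canonical_unique (glMap_borel g σ hb') hb' hπ'
    (glMap_rootGen g σ _ (Subgroup.mem_map_of_mem _ hu)) hu hσ
  obtain ⟨v, hv, h, hh, hvh⟩ := g.mem_borel.1 hb'
  have hv' := hv
  rw [g.posUnipotent_eq] at hv'
  rw [← hvh, map_mul] at hσb
  have hσh' : glMap σ h ∈ D.diagonalSubgroup F := by
    rw [g.diagonal_eq_range] at hh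
    obtain ⟨c, rfl⟩ := hh
    rw [glMap_torHom]
    exact g.torHom_mem _
  have hkey : v⁻¹ * glMap σ v ∈ D.posUnipotent F ⊓ D.diagonalSubgroup F := by
    refine Subgroup.mem_inf.2 ⟨mul_mem (inv_mem hv) ?_, ?_⟩
    · rw [g.posUnipotent_eq]
      exact glMap_rootGen g σ _ (Subgroup.mem_map_of_mem _ hv')
    · have e : v⁻¹ * glMap σ v = h * (glMap σ h)⁻¹ := by
        rw [eq_mul_inv_iff_mul_eq, mul_assoc, hσb, inv_mul_cancel_left]
      rw [e]
      exact mul_mem hh (inv_mem hσh')
  rw [g.pos_inf_diagonal, Subgroup.mem_bot, inv_mul_eq_one] at hkey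
  rw [← hkey] at hσb
  obtain ⟨y₁, hy₁, e₁⟩ := pos_fixed_mem g hc σ ι hfix hv' hkey.symm
  obtain ⟨y₂, hy₂, e₂⟩ := diag_fixed_mem g hinj σ ι hfix hh (mul_left_cancel hσb)
  have hu' : u ∈ rootGen D F (Set.Ici (half D)) := by
    rw [← g.posUnipotent_eq]
    exact g.minus_le_pos π hu
  obtain ⟨y₃, hy₃, e₃⟩ := pos_fixed_mem g hc σ ι hfix hu' hσu
  refine ⟨y₁ * y₂ * g.wordN l * y₃,
    mul_mem (mul_mem (mul_mem hy₁ hy₂) (g.monomial_le_group (g.wordN_mem l))) hy₃, ?_⟩
  rw [map_mul, map_mul, map_mul, e₁, e₂, e₃, glMap_wordN g, hvh, ← hw]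

/-- `torHom` is injective when its image has full size. -/
theorem torHom_injective [Fintype F]
    (hcard : Nat.card (D.diagonalSubgroup F) = (Fintype.card F - 1) ^ D.rank) :
    Function.Injective (torHom D F) := by
  classical
  have h1 : Nat.card (torHom D F).range = Nat.card (Fin D.rank → Fˣ) := by
    rw [← g.diagonal_eq_range, hcard, Nat.card_fun, Nat.card_units, Nat.card_eq_fintype_card,
      Nat.card_eq_fintype_card (α := Fin D.rank), Fintype.card_fin]
  have hbij : Function.Bijective (torHom D F).rangeRestrict :=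
    (Nat.bijective_iff_surjective_and_card _).2 ⟨MonoidHom.rangeRestrict_surjective _, h1.symm⟩
  exact fun a b hab => hbij.1 (Subtype.ext hab)

theorem field_fixed_points [Fintype F] (hc : HasComm D) (h0 : 0 < D.nroots)
    (hcard : Nat.card (D.diagonalSubgroup F) = (Fintype.card F - 1) ^ D.rank)
    (φ : MulAut ↥(D.group F)) (hφ : D.IsFieldAut φ) (r : ℕ) (hr : r.Prime) (ho : orderOf φ = r) :
    ∃ (F₀ : Type) (_ : Field F₀) (_ : Fintype F₀), Fintype.card F = Fintype.card F₀ ^ r ∧
      Nonempty (↥((MulEquiv.toMonoidHom φ).eqLocus (MonoidHom.id ↥(D.group F))) ≃*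
        ↥(D.group F₀)) := by
  classical
  obtain ⟨σ, hσ⟩ := hφ
  have hgen : (D.group F).subtype.comp (MulEquiv.toMonoidHom φ) =
      (glMap (σ : F →+* F)).comp (D.group F).subtype := by
    refine MonoidHom.ext fun x => ?_
    obtain ⟨x, hx⟩ := x
    show (φ ⟨x, hx⟩ : GL D.Idx F) = glMap (σ : F →+* F) x
    induction hx using Subgroup.closure_induction with
    | mem y hy =>
      obtain ⟨s, t, hy⟩ := hy
      have hy' : (y : Matrix D.Idx D.Idx F) = D.x F s t :=
        hy.trans (by rw [ChevalleyDatum.x, dif_pos s.2])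
      refine Units.ext ?_
      rw [hσ _ s t s.2 hy', g.eq_xG hy', glMap_xG g, g.coe_xG]
      rfl
    | one =>
      rw [show (⟨(1 : GL D.Idx F), _⟩ : ↥(D.group F)) = 1 from rfl, map_one, map_one]
      rfl
    | mul y z hy hz ihy ihz =>
      rw [show (⟨y * z, _⟩ : ↥(D.group F)) = ⟨y, hy⟩ * ⟨z, hz⟩ from rfl, map_mul, map_mul,
        Subgroup.coe_mul, ihy, ihz]
    | inv y hy ihy =>
      rw [show (⟨y⁻¹, _⟩ : ↥(D.group F)) = (⟨y, hy⟩)⁻¹ from rfl, map_inv, map_inv,
        Subgroup.coe_inv, ihy]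
  have hφx : ∀ x : ↥(D.group F), (φ x : GL D.Idx F) = glMap (σ : F →+* F) x :=
    fun x => DFunLike.congr_fun hgen x
  have hpow : ∀ (k : ℕ) (s : Fin D.nroots) (t : F),
      ((φ ^ k) ⟨g.xG s t, g.xG_mem_group s.2 t⟩ : GL D.Idx F) = g.xG s ((σ ^ k) t) := by
    intro k
    induction k with
    | zero => intro s t; rfl
    | succ k ih =>
      intro s t
      rw [pow_succ', MulAut.mul_apply, hφx, ih, glMap_xG g, pow_succ']
      rfl
  have hone : ∀ k : ℕ, φ ^ k = 1 ↔ σ ^ k = 1 := by
    intro k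
    constructor
    · intro h
      refine RingEquiv.ext fun t => ?_
      have h1 := hpow k ⟨0, h0⟩ t
      rw [h] at h1
      have h2 : g.xG 0 ((σ ^ k) t - t) = 1 := by
        rw [sub_eq_add_neg, ← g.xG_add, ← g.xG_inv, mul_inv_eq_one]
        exact h1.symm
      exact sub_eq_zero.1 ((g.x_eq_one_iff h0 _).1 (congrArg Units.val h2))
    · intro h
      have hfun : ∀ (k : ℕ) (x : ↥(D.group F)),
          ((φ ^ k) x : GL D.Idx F) = glMap ((σ ^ k : F ≃+* F) : F →+* F) x := by
        intro k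
        induction k with
        | zero => intro x; exact Units.ext (Matrix.map_id _).symm
        | succ k ih =>
          intro x
          refine Units.ext ?_
          rw [pow_succ', MulAut.mul_apply, hφx, ih, glMap_val, glMap_val, glMap_val,
            Matrix.map_map, pow_succ']
          rfl
      refine MulEquiv.ext fun x => Subtype.ext (Units.ext ?_)
      rw [hfun, glMap_val, h]
      exact Matrix.map_id _
  have hord : orderOf σ = r := by
    rw [← ho, orderOf_eq_orderOf_iff]
    exact fun n => (hone n).symm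
  -- the fixed field, moved to `Type`
  let E := FixedPoints.subfield (Subgroup.zpowers σ) F
  have hE : ∀ a : F, a ∈ E ↔ σ a = a := fun a => by
    constructor
    · intro ha
      exact ha (⟨σ, Subgroup.mem_zpowers σ⟩ : Subgroup.zpowers σ)
    · rintro ha ⟨τ, hτ⟩
      obtain ⟨k, rfl⟩ := Subgroup.mem_zpowers_iff.1 hτ
      exact MulAction.mem_stabilizer_iff.1
        (zpow_mem (MulAction.mem_stabilizer_iff.2 (show σ • a = a from ha)) k)
  have hcardE : Fintype.card F = Nat.card E ^ r := by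
    have : Finite (F ≃+* F) := Finite.of_injective (fun e => (e : F → F)) DFunLike.coe_injective
    have : Fintype (Subgroup.zpowers σ) := Fintype.ofFinite _
    have h := FixedPoints.finrank_eq_card (Subgroup.zpowers σ) F
    rw [← Nat.card_eq_fintype_card, Nat.card_zpowers, hord] at h
    have hc := Module.natCard_eq_pow_finrank (K := E) (V := F)
    rw [h, Nat.card_eq_fintype_card] at hc
    exact hc
  have : Fintype E := Fintype.ofFinite _
  let e := (Fintype.equivFin E).symm
  letI : Field (Fin (Fintype.card E)) := e.field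
  let ι : Fin (Fintype.card E) →+* F := E.subtype.comp e.ringEquiv.toRingHom
  refine ⟨Fin (Fintype.card E), inferInstance, inferInstance, ?_, ?_⟩
  · rw [hcardE, Fintype.card_fin, Nat.card_eq_fintype_card]
  have hfix : ∀ a : F, σ a = a → ∃ b, ι b = a := fun a ha =>
    ⟨e.symm ⟨a, (hE a).2 ha⟩, congrArg Subtype.val (e.apply_symm_apply _)⟩
  have hinj := torHom_injective g hcard
  have hιfix : ∀ b, σ (ι b) = ι b := fun b => (hE _).1 (e b).2
  have hfixed : ∀ y : GL D.Idx (Fin (Fintype.card E)),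
      glMap (σ : F →+* F) (glMap ι y) = glMap ι y := fun y => Units.ext (by
    rw [glMap_val, glMap_val, Matrix.map_map]
    exact congrArg (y : Matrix D.Idx D.Idx (Fin (Fintype.card E))).map (funext hιfix))
  let ψ : ↥(D.group (Fin (Fintype.card E))) →*
      ↥((MulEquiv.toMonoidHom φ).eqLocus (MonoidHom.id ↥(D.group F))) :=
    ((((glMap ι).comp (D.group (Fin (Fintype.card E))).subtype).codRestrict (D.group F)
      (fun y => group_le_comap g ι y.2))).codRestrict _ fun y => Subtype.ext (by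
        show (φ _ : GL D.Idx F) = _
        rw [hφx]
        exact hfixed _)
  refine ⟨(MulEquiv.ofBijective ψ ⟨fun a b hab => ?_, fun x => ?_⟩).symm⟩
  · exact Subtype.ext (glMap_injective ι (congrArg (fun z => (z.1.1 : GL D.Idx F)) hab))
  · obtain ⟨y, hy, he⟩ := fixed_mem g hc hinj (σ : F →+* F) ι hfix x.1.2
      (by rw [← hφx]; exact congrArg Subtype.val x.2)
    exact ⟨⟨y, hy⟩, Subtype.ext (Subtype.ext he)⟩

end

end CfsgLib.KnownC.ChevFieldFixed
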