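import Mathlib

/-!
Fibre powers over a quotient by a nontrivial normal `p`-subgroup: unbounded groups with the same set of element
orders as a given group.
-/

set_option autoImplicit false

namespace CfsgLib.KnownC.FibrePower

universe u v

variable {G : Type u} [Group G]

/-- The fibre power of `G` over `G ⧸ K`. -/
def fib (K : Subgroup G) [K.Normal] (ι : Type v) : Subgroup (ι → G) where
  carrier := {f | ∀ i j, (f i : G ⧸ K) = (f j : G ⧸ K)}
  one_mem' _ _ := rfl
  mul_mem' {f g} hf hg i j := by simp only [Pi.mul_apply, QuotientGroup.mk_mul, hf i j, hg i j]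
  inv_mem' {f} hf i j := by simp only [Pi.inv_apply, QuotientGroup.mk_inv, hf i j]

variable [Finite G]

theorem range_fib {K : Subgroup G} [K.Normal] {p : ℕ} (hp : p.Prime) (hK : IsPGroup p K) (ι : Type v)
    [Finite ι] [Nonempty ι] :
    Set.range (orderOf : fib K ι → ℕ) = Set.range (orderOf : G → ℕ) := by
  classical
  haveI := Fact.mk hp
  refine Set.Subset.antisymm ?_ ?_
  · rintro _ ⟨f, rfl⟩
    obtain ⟨j₀⟩ := ‹Nonempty ι›
    have hd : ∀ i, ∃ a, orderOf (f.1 i) = orderOf (f.1 j₀ : G ⧸ K) * p ^ a := fun i => by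
      set d := orderOf (f.1 j₀ : G ⧸ K)
      have he : orderOf (f.1 i : G ⧸ K) = d := congrArg orderOf (f.2 i j₀)
      have hmem : f.1 i ^ d ∈ K := by
        rw [← QuotientGroup.eq_one_iff, QuotientGroup.mk_pow, ← he, pow_orderOf_eq_one]
      obtain ⟨k, hk⟩ := hK ⟨f.1 i ^ d, hmem⟩
      obtain ⟨a, -, ha⟩ := (Nat.dvd_prime_pow hp).1 (orderOf_dvd_of_pow_eq_one hk)
      refine ⟨a, ?_⟩
      rw [← Subgroup.orderOf_coe] at ha
      have hdvd : d ∣ orderOf (f.1 i) := he ▸ orderOf_map_dvd (QuotientGroup.mk' K) (f.1 i)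
      rw [← ha, orderOf_pow, Nat.gcd_eq_right hdvd, Nat.mul_div_cancel' hdvd]
    choose a ha using hd
    obtain ⟨j, hj⟩ := Finite.exists_max a
    refine ⟨f.1 j, ?_⟩
    refine Nat.dvd_antisymm ?_ ?_
    · exact orderOf_dvd_of_pow_eq_one (congrFun (congrArg Subtype.val (pow_orderOf_eq_one f)) j)
    · refine orderOf_dvd_of_pow_eq_one (Subtype.ext (funext fun i => orderOf_dvd_iff_pow_eq_one.1 ?_))
      rw [ha, ha]
      exact mul_dvd_mul_left _ (pow_dvd_pow p (hj i))
  · rintro _ ⟨g, rfl⟩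
    refine ⟨⟨fun _ => g, fun _ _ => rfl⟩, Nat.dvd_antisymm ?_ ?_⟩
    · exact orderOf_dvd_of_pow_eq_one (Subtype.ext (funext fun _ => pow_orderOf_eq_one g))
    · exact orderOf_dvd_of_pow_eq_one
        (congrFun (congrArg Subtype.val (pow_orderOf_eq_one (⟨fun _ => g, fun _ _ => rfl⟩ : fib K ι)))
          (Classical.arbitrary ι))

/-- A group with a nontrivial normal `p`-subgroup has its spectrum in common with arbitrarily large groups. -/
theorem exists_large (K : Subgroup G) [K.Normal] {p : ℕ} (hp : p.Prime) (hK : IsPGroup p K) (hne : K ≠ ⊥) (M : ℕ) :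
    ∃ (H : Type) (_ : Group H) (_ : Fintype H), M < Fintype.card H ∧
      Set.range (orderOf : H → ℕ) = Set.range (orderOf : G → ℕ) := by
  classical
  set P := fib K (Fin (M + 1))
  haveI : Small.{0} P := Countable.toSmall _
  haveI : Fintype P := Fintype.ofFinite _
  let e : Shrink.{0} P ≃* P := (equivShrink P).symm.mulEquiv
  refine ⟨Shrink.{0} P, inferInstance, Fintype.ofEquiv P (equivShrink P), ?_, ?_⟩
  · rw [@Fintype.card_eq_nat_card _ (Fintype.ofEquiv P (equivShrink P)), Nat.card_congr e.toEquiv]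
    have hinj : Function.Injective fun k : Fin (M + 1) → K => (⟨fun i => (k i : G), fun i j => by
        rw [(QuotientGroup.eq_one_iff _).2 (k i).2, (QuotientGroup.eq_one_iff _).2 (k j).2]⟩ : P) :=
      fun k l h => funext fun i => Subtype.ext (congrFun (congrArg Subtype.val h) i)
    refine lt_of_lt_of_le ?_ (Nat.card_le_card_of_injective _ hinj)
    rw [Nat.card_fun, Nat.card_fin]
    refine lt_of_lt_of_le (Nat.lt_succ_self M) (le_of_lt (Nat.lt_pow_self ?_))
    exact (Subgroup.one_lt_card_iff_ne_bot _).2 hne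
  · rw [← range_fib hp hK (Fin (M + 1))]
    ext n
    exact ⟨fun ⟨x, hx⟩ => ⟨e x, by rw [e.orderOf_eq, hx]⟩, fun ⟨x, hx⟩ => ⟨e.symm x, by rw [e.symm.orderOf_eq, hx]⟩⟩

omit [Finite G] in
theorem dvd_card_iff {r : ℕ} (hr : r.Prime) (H : Type v) [Group H] [Finite H] :
    r ∣ Nat.card H ↔ r ∈ Set.range (orderOf : H → ℕ) := by
  haveI := Fact.mk hr
  exact ⟨fun h => exists_prime_orderOf_dvd_card' r h, fun ⟨x, hx⟩ => hx ▸ orderOf_dvd_natCard x⟩

/-- Arbitrarily large groups with the prime graph of `L`, from one group with a nontrivial normal `p`-subgroup. -/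
theorem exists_large_graph {L : Type v} [Group L] [Finite L] (K : Subgroup G) [K.Normal] {p : ℕ} (hp : p.Prime)
    (hK : IsPGroup p K) (hne : K ≠ ⊥)
    (hv : ∀ r : ℕ, r.Prime → (r ∣ Nat.card L ↔ r ∣ Nat.card G))
    (he : ∀ r s : ℕ, r.Prime → s.Prime → r ≠ s →
      ((∃ g : L, orderOf g = r * s) ↔ (∃ g : G, orderOf g = r * s))) (M : ℕ) :
    ∃ (H : Type) (_ : Group H) (_ : Finite H), M < Nat.card H ∧
      ((∀ r : ℕ, r.Prime → (r ∣ Nat.card L ↔ r ∣ Nat.card H)) ∧
      (∀ r s : ℕ, r.Prime → s.Prime → r ≠ s →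
        ((∃ g : L, orderOf g = r * s) ↔ (∃ g : H, orderOf g = r * s)))) := by
  obtain ⟨H, hg, hf, hM, hR⟩ := exists_large K hp hK hne M
  refine ⟨H, hg, Finite.of_fintype H, by rwa [Nat.card_eq_fintype_card], fun r hr => ?_, fun r s hr hs hrs => ?_⟩
  · rw [hv r hr, dvd_card_iff hr G, dvd_card_iff hr H, hR]
  · refine (he r s hr hs hrs).trans ?_
    show r * s ∈ Set.range (orderOf : G → ℕ) ↔ r * s ∈ Set.range (orderOf : H → ℕ)
    rw [hR]

end CfsgLib.KnownC.FibrePower
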