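import Mathlib
import Cfsg.Prelude.Def_LieClassical
import Cfsg.Agent.Lib.Classical.SUOrder
import Cfsg.Agent.Lib.Geom.HermNorm

/-!
Elements of `GL_n` and `GU_n` fixed up to a scalar by a field automorphism.
-/

set_option autoImplicit false

namespace CfsgLib.KnownC

open Matrix CfsgLib.Classical
open scoped MatrixGroups

variable {F : Type*} [Field F] [Fintype F]

theorem exists_fixed_subfield {q₀ r : ℕ} (hr : r ≠ 0) (hF : Fintype.card F = q₀ ^ r)
    (σ : F ≃+* F) (hσ : orderOf σ = r) :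
    ∃ E : Subfield F, (∀ x, x ∈ E ↔ σ x = x) ∧ Nat.card E = q₀ := by
  classical
  refine ⟨FixedPoints.subfield (Subgroup.zpowers σ) F, fun x => ?_, ?_⟩
  · constructor
    · intro hx
      exact hx (⟨σ, Subgroup.mem_zpowers σ⟩ : Subgroup.zpowers σ)
    · rintro hx ⟨τ, hτ⟩
      obtain ⟨k, rfl⟩ := Subgroup.mem_zpowers_iff.1 hτ
      have h : σ • x = x := hx
      show (σ ^ k) • x = x
      exact MulAction.mem_stabilizer_iff.1 (zpow_mem (MulAction.mem_stabilizer_iff.2 h) k)
  · have : Finite (F ≃+* F) := Finite.of_injective (fun e => (e : F → F)) DFunLike.coe_injective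
    have : Fintype (Subgroup.zpowers σ) := Fintype.ofFinite _
    have h := FixedPoints.finrank_eq_card (Subgroup.zpowers σ) F
    rw [← Nat.card_eq_fintype_card, Nat.card_zpowers, hσ] at h
    have hc := Module.natCard_eq_pow_finrank (K := FixedPoints.subfield (Subgroup.zpowers σ) F) (V := F)
    rw [h, Nat.card_eq_fintype_card, hF] at hc
    exact (Nat.pow_left_injective hr hc).symm

theorem card_pow_ker {E : Type*} [Field E] [Finite E] {d : ℕ} (hd : d ∣ Nat.card E - 1) :
    Nat.card (powMonoidHom d : Eˣ →* Eˣ).ker = d := by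
  rw [IsCyclic.card_powMonoidHom_ker, Nat.card_units, Nat.gcd_eq_right hd]

theorem add_one_dvd_sq_sub_one (q : ℕ) : q + 1 ∣ q ^ 2 - 1 :=
  ⟨q - 1, by rw [← Nat.sq_sub_sq q 1, one_pow]⟩

omit [Fintype F] in
theorem exists_entry_ne_zero {n : ℕ} (hn : 1 ≤ n) (g : GL (Fin n) F) :
    ∃ i j, (g : Matrix (Fin n) (Fin n) F) i j ≠ 0 := by
  have : Nonempty (Fin n) := ⟨⟨0, by omega⟩⟩
  by_contra h
  push Not at h
  exact g.ne_zero (Matrix.ext h)

omit [Fintype F] in
theorem scalar_mul_gl_apply {n : ℕ} (u : Fˣ) (g : GL (Fin n) F) :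
    ((Units.map (Matrix.scalar (Fin n)).toMonoidHom u * g : GL (Fin n) F) : Matrix (Fin n) (Fin n) F) =
      (u : F) • (g : Matrix (Fin n) (Fin n) F) := by
  rw [Units.val_mul]
  ext i j
  simp [Matrix.scalar_apply, Matrix.diagonal_mul]

/-- Scalars times matrices over a subfield, as a homomorphism. -/
noncomputable def scalarTimes (E : Subfield F) (n : ℕ) : Fˣ × GL (Fin n) E →* GL (Fin n) F where
  toFun p := Units.map (Matrix.scalar (Fin n)).toMonoidHom p.1 *
    Units.map E.subtype.mapMatrix.toMonoidHom p.2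
  map_one' := by simp
  map_mul' p p' := by
    simp only [Prod.fst_mul, Prod.snd_mul, map_mul]
    refine Commute.mul_mul_mul_comm (Units.ext ?_) _ _
    exact (Matrix.scalar_commute _ (fun _ => Commute.all _ _) _).eq

omit [Fintype F] in
theorem scalarTimes_coe (E : Subfield F) (n : ℕ) (p : Fˣ × GL (Fin n) E) :
    (scalarTimes E n p : Matrix (Fin n) (Fin n) F) =
      (p.1 : F) • (p.2 : Matrix (Fin n) (Fin n) E).map (fun e => (e : F)) := by
  show Units.val (Units.map (Matrix.scalar (Fin n)).toMonoidHom p.1 *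
    Units.map E.subtype.mapMatrix.toMonoidHom p.2) = _
  rw [scalar_mul_gl_apply]
  rfl

/-- The kernel embedding of the units of the subfield. -/
noncomputable def kerEmb (E : Subfield F) (n : ℕ) : Eˣ →* Fˣ × GL (Fin n) E :=
  MonoidHom.prod (Units.map E.subtype.toMonoidHom)
    ((Units.map (Matrix.scalar (Fin n)).toMonoidHom).comp (invMonoidHom : Eˣ →* Eˣ))

omit [Fintype F] in
theorem scalarTimes_kerEmb (E : Subfield F) (n : ℕ) (e : Eˣ) :
    scalarTimes E n (kerEmb E n e) = 1 := by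
  refine Units.ext ?_
  rw [scalarTimes_coe]
  ext i j
  simp [kerEmb, Matrix.scalar_apply, Matrix.diagonal_apply, Matrix.one_apply, apply_ite,
    Units.val_inv_eq_inv_val]

omit [Fintype F] in
theorem scalarTimes_ker (E : Subfield F) {n : ℕ} (hn : 1 ≤ n) :
    (scalarTimes E n).ker = (kerEmb E n).range := by
  refine le_antisymm (fun p hp => ?_) ?_
  · have h : ∀ i j, (p.1 : F) * ((p.2 : Matrix (Fin n) (Fin n) E) i j : F) =
        (1 : Matrix (Fin n) (Fin n) F) i j := fun i j => by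
      have h0 := congrArg (fun g : GL (Fin n) F => (g : Matrix (Fin n) (Fin n) F) i j)
        (MonoidHom.mem_ker.1 hp)
      simpa [scalarTimes_coe] using h0
    have h00 := h ⟨0, by omega⟩ ⟨0, by omega⟩
    rw [Matrix.one_apply_eq] at h00
    have hmem : (p.1 : F) ∈ E := by
      rw [eq_inv_of_mul_eq_one_left h00]
      exact E.inv_mem (Subtype.coe_prop _)
    refine ⟨Units.mk0 ⟨(p.1 : F), hmem⟩ (fun h => p.1.ne_zero (congrArg Subtype.val h)), ?_⟩
    refine Prod.ext (Units.ext rfl) (Units.ext (Matrix.ext fun i j => Subtype.ext ?_))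
    refine mul_left_cancel₀ p.1.ne_zero ?_
    rw [h]
    by_cases hij : i = j
    · subst hij
      simp [kerEmb, Matrix.scalar_apply, Units.val_inv_eq_inv_val]
    · simp [kerEmb, Matrix.scalar_apply, hij]
  · rintro _ ⟨e, rfl⟩
    exact scalarTimes_kerEmb E n e

omit [Fintype F] in
theorem kerEmb_injective (E : Subfield F) (n : ℕ) : Function.Injective (kerEmb E n) :=
  fun _ _ h => Units.ext (Subtype.ext (congrArg (fun p : Fˣ × GL (Fin n) E => (p.1 : F)) h))

theorem card_fixed_up_to_scalar_gl {q₀ r n : ℕ} (hr : r ≠ 0) (hn : 1 ≤ n)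
    (hF : Fintype.card F = q₀ ^ r) (σ : F ≃+* F) (hσ : orderOf σ = r) :
    Nat.card {g : GL (Fin n) F // ∃ c : F, c ≠ 0 ∧
      (g : Matrix (Fin n) (Fin n) F).map σ = c • (g : Matrix (Fin n) (Fin n) F)} =
      (q₀ ^ r - 1) / (q₀ - 1) * ∏ i : Fin n, (q₀ ^ n - q₀ ^ (i : ℕ)) := by
  classical
  obtain ⟨E, hE, hEc⟩ := exists_fixed_subfield hr hF σ hσ
  have : Fintype E := Fintype.ofFinite _
  have hrange : ∀ g : GL (Fin n) F, g ∈ (scalarTimes E n).range ↔ ∃ c : F, c ≠ 0 ∧
      (g : Matrix (Fin n) (Fin n) F).map σ = c • (g : Matrix (Fin n) (Fin n) F) := by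
    intro g
    constructor
    · rintro ⟨p, rfl⟩
      refine ⟨σ (p.1 : F) / (p.1 : F), div_ne_zero (by simp) p.1.ne_zero, ?_⟩
      rw [scalarTimes_coe]
      ext i j
      simp only [Matrix.map_apply, Matrix.smul_apply, smul_eq_mul, map_mul,
        (hE _).1 (Subtype.coe_prop ((p.2 : Matrix (Fin n) (Fin n) E) i j))]
      rw [← mul_assoc, div_mul_cancel₀ _ p.1.ne_zero]
    · rintro ⟨c, -, hg⟩
      obtain ⟨i₀, j₀, hl⟩ := exists_entry_ne_zero hn g
      set l := (g : Matrix (Fin n) (Fin n) F) i₀ j₀ with hldef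
      have hc : ∀ i j, σ ((g : Matrix (Fin n) (Fin n) F) i j) =
          c * (g : Matrix (Fin n) (Fin n) F) i j := fun i j =>
        congrArg (fun A : Matrix (Fin n) (Fin n) F => A i j) hg
      have hc0 : c ≠ 0 := fun h => hl (σ.injective (by rw [hldef, hc, h, zero_mul, map_zero]))
      have hmem : ∀ i j, (g : Matrix (Fin n) (Fin n) F) i j / l ∈ E := fun i j => by
        rw [hE, map_div₀, hc, hldef, hc, mul_div_mul_left _ _ hc0]
      let h : Matrix (Fin n) (Fin n) E := Matrix.of fun i j => ⟨_, hmem i j⟩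
      have hgh : (g : Matrix (Fin n) (Fin n) F) = l • h.map (fun e => (e : F)) := by
        ext i j; simp [h, mul_div_cancel₀ _ hl]
      have hdet : IsUnit h := by
        rw [Matrix.isUnit_iff_isUnit_det, isUnit_iff_ne_zero]
        intro h0
        have h1 : ((g : Matrix (Fin n) (Fin n) F)).det = l ^ n * E.subtype h.det := by
          rw [hgh, Matrix.det_smul, Fintype.card_fin, RingHom.map_det]; rfl
        rw [h0, map_zero, mul_zero] at h1
        exact ((Matrix.isUnit_iff_isUnit_det _).1 g.isUnit).ne_zero h1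
      refine ⟨(Units.mk0 l hl, hdet.unit), Units.ext ?_⟩
      rw [scalarTimes_coe, hgh]
      simp
  have h1 : Nat.card {g : GL (Fin n) F // ∃ c : F, c ≠ 0 ∧
      (g : Matrix (Fin n) (Fin n) F).map σ = c • (g : Matrix (Fin n) (Fin n) F)} =
      Nat.card (scalarTimes E n).range :=
    Nat.card_congr (Equiv.subtypeEquivRight fun g => (hrange g).symm)
  have h2 : Nat.card (scalarTimes E n).ker = q₀ - 1 := by
    rw [scalarTimes_ker E hn, ← hEc, ← Nat.card_units,
      Nat.card_congr (MonoidHom.ofInjective (kerEmb_injective E n)).toEquiv.symm]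
  have h3 := Subgroup.card_mul_index (scalarTimes E n).ker
  rw [Subgroup.index_ker, h2, Nat.card_prod, Nat.card_units, Nat.card_eq_fintype_card (α := F), hF,
    Matrix.card_GL_field, ← Nat.card_eq_fintype_card (α := E), hEc] at h3
  rw [h1]
  have hq : 1 < q₀ := hEc ▸ Finite.one_lt_card
  have hd : q₀ - 1 ∣ q₀ ^ r - 1 := by simpa using Nat.sub_dvd_pow_sub_pow q₀ 1 r
  rw [← Nat.mul_left_cancel_iff (show 0 < q₀ - 1 by omega), h3, ← mul_assoc, Nat.mul_div_cancel' hd]

theorem card_fixed_up_to_scalar_gu {q₀ q r n : ℕ} (hr : Odd r) (hn : 1 ≤ n) (hq : q = q₀ ^ r)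
    (hK : Fintype.card F = q ^ 2) (σ : F ≃+* F) (hσ : orderOf σ = r) :
    Nat.card {g : ↥(Cfsg.GU n F q) // ∃ c : F, c ≠ 0 ∧
      ((g : GL (Fin n) F) : Matrix (Fin n) (Fin n) F).map σ =
        c • ((g : GL (Fin n) F) : Matrix (Fin n) (Fin n) F)} =
      (q + 1) / (q₀ + 1) * (q₀ ^ (n * (n - 1) / 2) *
        ∏ i ∈ Finset.range n, (if Even i then q₀ ^ (i + 1) + 1 else q₀ ^ (i + 1) - 1)) := by
  classical
  have hr0 : r ≠ 0 := by rintro rfl; simp at hr
  obtain ⟨E, hE, hEc⟩ := exists_fixed_subfield (q₀ := q₀ ^ 2) hr0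
    (by rw [hK, hq, ← pow_mul, ← pow_mul, mul_comm]) σ hσ
  have : Fintype E := Fintype.ofFinite _
  have hEc' : Fintype.card E = q₀ ^ 2 := by rw [← Nat.card_eq_fintype_card, hEc]
  have hpow : ∀ e : E, (e : F) ^ q = ((e ^ q₀ : E) : F) := by
    intro e
    obtain ⟨k, rfl⟩ := hr
    have h1 : ∀ (x : E) (j : ℕ), x ^ ((q₀ ^ 2) ^ j) = x := fun x j => by
      rw [← hEc']; exact FiniteField.pow_card_pow j x
    rw [hq, pow_succ, pow_mul, pow_mul, ← SubmonoidClass.coe_pow, h1, ← SubmonoidClass.coe_pow]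
  -- membership transfers between the two unitary groups
  have hGU : ∀ (u : Fˣ) (h : GL (Fin n) E), (u : F) ^ (q + 1) = 1 →
      (scalarTimes E n (u, h) ∈ Cfsg.GU n F q ↔ h ∈ Cfsg.GU n E q₀) := by
    intro u h hu
    rw [mem_gu_iff hK, mem_gu_iff hEc', scalarTimes_coe]
    have key : ((u : F) • (h : Matrix (Fin n) (Fin n) E).map (fun e => (e : F)))ᵀ *
        ((u : F) • (h : Matrix (Fin n) (Fin n) E).map (fun e => (e : F))).map (qFrob hK) =
        ((h : Matrix (Fin n) (Fin n) E)ᵀ * (h : Matrix (Fin n) (Fin n) E).map (qFrob hEc')).map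
          E.subtype := by
      ext i j
      simp only [Matrix.mul_apply, Matrix.transpose_apply, Matrix.map_apply, Matrix.smul_apply,
        smul_eq_mul, qFrob_apply, Subfield.coe_subtype, mul_pow, hpow,
        AddSubmonoidClass.coe_finsetSum, MulMemClass.coe_mul]
      refine Finset.sum_congr rfl fun k _ => ?_
      have hu' : (u : F) * (u : F) ^ q = 1 := by rw [← pow_succ', hu]
      linear_combination (((h : Matrix (Fin n) (Fin n) E) k i : F) *
        ((((h : Matrix (Fin n) (Fin n) E) k j) ^ q₀ : E) : F)) * hu'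
    constructor
    · intro H
      have := key.symm.trans H
      rw [← Matrix.map_one E.subtype (map_zero _) (map_one _)] at this
      exact Matrix.map_injective E.subtype.injective this
    · intro H
      refine key.trans ?_
      rw [H, Matrix.map_one E.subtype (map_zero _) (map_one _)]
  set U : Subgroup Fˣ := (powMonoidHom (q + 1) : Fˣ →* Fˣ).ker with hU
  have hUm : ∀ u : Fˣ, u ∈ U ↔ (u : F) ^ (q + 1) = 1 := fun u => by
    rw [hU, MonoidHom.mem_ker, powMonoidHom_apply, Units.ext_iff, Units.val_pow_eq_pow_val,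
      Units.val_one]
  set P : Subgroup (Fˣ × GL (Fin n) E) := U.prod (Cfsg.GU n E q₀) with hP
  set ψ := (scalarTimes E n).comp P.subtype with hψ
  have hrange : ∀ g : GL (Fin n) F, g ∈ ψ.range ↔ (g ∈ Cfsg.GU n F q ∧ ∃ c : F, c ≠ 0 ∧
      (g : Matrix (Fin n) (Fin n) F).map σ = c • (g : Matrix (Fin n) (Fin n) F)) := by
    intro g
    constructor
    · rintro ⟨⟨⟨u, h⟩, hu, hh⟩, rfl⟩
      refine ⟨(hGU u h ((hUm u).1 hu)).2 hh,
        σ (u : F) / (u : F), div_ne_zero (by simp) u.ne_zero, ?_⟩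
      show (scalarTimes E n (u, h) : Matrix (Fin n) (Fin n) F).map σ =
        (σ (u : F) / (u : F)) • (scalarTimes E n (u, h) : Matrix (Fin n) (Fin n) F)
      rw [scalarTimes_coe]
      ext i j
      simp only [Matrix.map_apply, Matrix.smul_apply, smul_eq_mul, map_mul,
        (hE _).1 (Subtype.coe_prop ((h : Matrix (Fin n) (Fin n) E) i j))]
      rw [← mul_assoc, div_mul_cancel₀ _ u.ne_zero]
    · rintro ⟨hg0, c, -, hg⟩
      obtain ⟨i₀, j₀, hl⟩ := exists_entry_ne_zero hn g
      set l := (g : Matrix (Fin n) (Fin n) F) i₀ j₀ with hldef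
      have hc : ∀ i j, σ ((g : Matrix (Fin n) (Fin n) F) i j) =
          c * (g : Matrix (Fin n) (Fin n) F) i j := fun i j =>
        congrArg (fun A : Matrix (Fin n) (Fin n) F => A i j) hg
      have hc0 : c ≠ 0 := fun h => hl (σ.injective (by rw [hldef, hc, h, zero_mul, map_zero]))
      have hmem : ∀ i j, (g : Matrix (Fin n) (Fin n) F) i j / l ∈ E := fun i j => by
        rw [hE, map_div₀, hc, hldef, hc, mul_div_mul_left _ _ hc0]
      let h : Matrix (Fin n) (Fin n) E := Matrix.of fun i j => ⟨_, hmem i j⟩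
      have hgh : ∀ i j, (g : Matrix (Fin n) (Fin n) F) i j = l * (h i j : F) := fun i j => by
        simp [h, mul_div_cancel₀ _ hl]
      have hgg := (mem_gu_iff hK g).1 hg0
      -- the multiplier of the rational part
      set μ : E := ∑ k, h k ⟨0, by omega⟩ * h k ⟨0, by omega⟩ ^ q₀ with hμ
      have hμl : l ^ (q + 1) * (μ : F) = 1 := by
        have h0 := congrArg (fun A : Matrix (Fin n) (Fin n) F => A ⟨0, by omega⟩ ⟨0, by omega⟩) hgg
        simp only [Matrix.mul_apply, Matrix.transpose_apply, Matrix.map_apply, qFrob_apply, hgh,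
          mul_pow, hpow, Matrix.one_apply_eq] at h0
        rw [← h0, hμ, AddSubmonoidClass.coe_finsetSum, Finset.mul_sum]
        exact Finset.sum_congr rfl fun k _ => by rw [MulMemClass.coe_mul, pow_succ']; ring
      have hμ0 : μ ≠ 0 := fun h0 => by simp [h0] at hμl
      have hμfix : qFrob hEc' μ⁻¹ = μ⁻¹ := by
        have hterm : qFrob hEc' μ = μ := by
          rw [hμ, map_sum]
          refine Finset.sum_congr rfl fun k _ => ?_
          simp only [← qFrob_apply hEc', map_mul, qFrob_qFrob]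
          ring
        rw [map_inv₀, hterm]
      obtain ⟨ν, hν⟩ := CfsgLib.Geom.exists_norm_eq (qFrob_ne_id hEc') (qFrob_qFrob hEc') hμfix
      rw [qFrob_apply] at hν
      have hν0 : ν ≠ 0 := fun h0 => hμ0 (by simpa [h0] using hν.symm)
      have hu : (l / (ν : F)) ^ (q + 1) = 1 := by
        have hν' : (ν : F) ^ (q + 1) = (μ : F)⁻¹ := by
          rw [pow_succ', hpow, ← MulMemClass.coe_mul, hν]; norm_cast
        rw [div_pow, hν', div_inv_eq_mul, hμl]
      have hν0' : (ν : F) ≠ 0 := fun h0 => hν0 (Subtype.ext h0)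
      have hdet : IsUnit (ν • h) := by
        rw [Matrix.isUnit_iff_isUnit_det, isUnit_iff_ne_zero, Matrix.det_smul]
        refine mul_ne_zero (pow_ne_zero _ hν0) fun h0 => ?_
        have h1 : ((g : Matrix (Fin n) (Fin n) F)).det = l ^ n * E.subtype h.det := by
          rw [show (g : Matrix (Fin n) (Fin n) F) = l • h.map E.subtype from
            Matrix.ext fun i j => by simp [hgh], Matrix.det_smul, Fintype.card_fin, RingHom.map_det]
          rfl
        rw [h0, map_zero, mul_zero] at h1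
        exact ((Matrix.isUnit_iff_isUnit_det _).1 g.isUnit).ne_zero h1
      have hu0 : l / (ν : F) ≠ 0 := div_ne_zero hl hν0'
      have heq : scalarTimes E n (Units.mk0 _ hu0, hdet.unit) = g := by
        refine Units.ext (Matrix.ext fun i j => ?_)
        rw [scalarTimes_coe]
        simp only [Matrix.smul_apply, Units.val_mk0, Matrix.map_apply, IsUnit.unit_spec, smul_eq_mul,
          MulMemClass.coe_mul, hgh]
        field_simp
      exact ⟨⟨(Units.mk0 _ hu0, hdet.unit), (hUm _).2 hu,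
        (hGU _ _ hu).1 (by rw [heq]; exact hg0)⟩, heq⟩
  have h1 : Nat.card {g : ↥(Cfsg.GU n F q) // ∃ c : F, c ≠ 0 ∧
      ((g : GL (Fin n) F) : Matrix (Fin n) (Fin n) F).map σ =
        c • ((g : GL (Fin n) F) : Matrix (Fin n) (Fin n) F)} = Nat.card ψ.range :=
    Nat.card_congr ((Equiv.subtypeSubtypeEquivSubtypeInter (fun g => g ∈ Cfsg.GU n F q) (fun g : GL (Fin n) F => ∃ c : F, c ≠ 0 ∧ (g : Matrix (Fin n) (Fin n) F).map σ = c • (g : Matrix (Fin n) (Fin n) F))).trans
      (Equiv.subtypeEquivRight fun g => (hrange g).symm))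
  have hUe : ∀ e : Eˣ, kerEmb E n e ∈ P ↔ e ∈ (powMonoidHom (q₀ + 1) : Eˣ →* Eˣ).ker := by
    intro e
    have hval : ((kerEmb E n e).1 : F) = ((e : E) : F) := rfl
    have hiff : ((e : E) : F) ^ (q + 1) = 1 ↔ e ^ (q₀ + 1) = 1 := by
      rw [Units.ext_iff, Units.val_pow_eq_pow_val, Units.val_one, pow_succ, hpow,
        ← MulMemClass.coe_mul, OneMemClass.coe_eq_one, pow_succ]
    constructor
    · rintro ⟨he, -⟩
      exact hiff.1 (hval ▸ (hUm _).1 he)
    · intro he
      have hu := hiff.2 he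
      refine ⟨(hUm _).2 (hval ▸ hu), (hGU _ _ (hval ▸ hu)).1 ?_⟩
      rw [Prod.mk.eta, scalarTimes_kerEmb]
      exact one_mem _
  have h2 : Nat.card ψ.ker = q₀ + 1 := by
    have hd : q₀ + 1 ∣ Nat.card E - 1 := by rw [hEc]; exact add_one_dvd_sq_sub_one q₀
    rw [← card_pow_ker hd]
    refine (Nat.card_congr (Equiv.ofBijective
      (fun e : (powMonoidHom (q₀ + 1) : Eˣ →* Eˣ).ker =>
        (⟨⟨kerEmb E n e, (hUe _).2 e.2⟩, scalarTimes_kerEmb E n e⟩ : ψ.ker))
      ⟨fun a b h => Subtype.ext (kerEmb_injective E n (congrArg (fun x => x.1.1) h)), ?_⟩)).symm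
    rintro ⟨⟨p, hp⟩, hk⟩
    have : p ∈ (scalarTimes E n).ker := hk
    rw [scalarTimes_ker E hn] at this
    obtain ⟨e, rfl⟩ := this
    exact ⟨⟨e, (hUe e).1 hp⟩, rfl⟩
  have h3 := Subgroup.card_mul_index ψ.ker
  have hPc : Nat.card P = Nat.card U * Nat.card (Cfsg.GU n E q₀) := by
    rw [← Nat.card_prod]; exact Nat.card_congr (Subgroup.prodEquiv U (Cfsg.GU n E q₀)).toEquiv
  rw [Subgroup.index_ker, h2, hPc, hU, card_pow_ker (d := q + 1) (by
      rw [Nat.card_eq_fintype_card, hK]; exact add_one_dvd_sq_sub_one q),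
    card_gu hEc' n] at h3
  rw [h1, ← Nat.mul_left_cancel_iff (show 0 < q₀ + 1 by omega), h3, ← mul_assoc (q₀ + 1),
    Nat.mul_div_cancel' (by rw [hq]; exact hr.nat_add_dvd_pow_add_pow q₀ 1 |>.trans (by rw [one_pow]))]

end CfsgLib.KnownC
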