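import Mathlib

set_option autoImplicit false

/-!
Powers in finite fields and Gram determinants.
-/

namespace CfsgLib.KnownC

theorem mem_powMonoidHom_range_iff {G : Type*} [CommGroup G] [IsCyclic G] [Finite G] (n : ℕ) (a : G) :
    a ∈ (powMonoidHom n : G →* G).range ↔ a ^ (Nat.card G / Nat.gcd n (Nat.card G)) = 1 := by
  classical
  haveI := Fintype.ofFinite G
  set k := Nat.card G / Nat.gcd n (Nat.card G) with hk
  have hle : ((powMonoidHom n : G →* G).range : Set G) ⊆ {x | x ^ k = 1} := by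
    rintro _ ⟨x, rfl⟩
    show (x ^ n) ^ k = 1
    rw [← pow_mul, hk, ← orderOf_dvd_iff_pow_eq_one]
    refine (orderOf_dvd_natCard x).trans ?_
    rw [← Nat.mul_div_assoc _ (Nat.gcd_dvd_right _ _), Nat.mul_comm,
      Nat.mul_div_assoc _ (Nat.gcd_dvd_left _ _)]
    exact dvd_mul_right _ _
  have hkpos : 0 < k := Nat.div_pos (Nat.le_of_dvd Nat.card_pos (Nat.gcd_dvd_right _ _))
    (Nat.gcd_pos_of_pos_right _ Nat.card_pos)
  have heq : ((powMonoidHom n : G →* G).range : Set G) = {x | x ^ k = 1} := by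
    refine Set.eq_of_subset_of_ncard_le hle ?_ (Set.toFinite _)
    rw [← Nat.card_coe_set_eq, ← Nat.card_coe_set_eq, SetLike.coe_sort_coe,
      IsCyclic.card_powMonoidHom_range, Nat.gcd_comm, ← hk]
    have := IsCyclic.card_pow_eq_one_le (α := G) hkpos
    rw [Nat.card_eq_fintype_card, ← Set.toFinset_card]
    convert this using 2
    ext x; simp
  exact (Set.ext_iff.1 heq a).trans Iff.rfl

variable {F : Type*} [Field F] [Fintype F]

theorem exists_pow_mul_eq_one_iff {n : ℕ} {x : F} (hx : x ≠ 0) :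
    (∃ c : F, c ≠ 0 ∧ c ^ n * x = 1) ↔
      x ^ ((Fintype.card F - 1) / Nat.gcd n (Fintype.card F - 1)) = 1 := by
  have h1 : Nat.card Fˣ = Fintype.card F - 1 := by rw [Nat.card_units, Nat.card_eq_fintype_card]
  have h2 := mem_powMonoidHom_range_iff n (Units.mk0 x hx)
  rw [h1, Units.ext_iff, Units.val_pow_eq_pow_val, Units.val_mk0, Units.val_one] at h2
  rw [← h2]
  constructor
  · rintro ⟨c, hc, h⟩
    refine ⟨(Units.mk0 c hc)⁻¹, Units.ext ?_⟩
    simp [eq_inv_of_mul_eq_one_right h]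
  · rintro ⟨d, hd⟩
    refine ⟨(d⁻¹ : Fˣ), Units.ne_zero _, ?_⟩
    rw [show x = ((d ^ n : Fˣ) : F) from (congrArg Units.val hd).symm, ← Units.val_pow_eq_pow_val,
      ← Units.val_mul, inv_pow, inv_mul_cancel, Units.val_one]

theorem padicValNat_gcd_two {a b : ℕ} (ha : a ≠ 0) (hb : b ≠ 0) :
    padicValNat 2 (Nat.gcd a b) = min (padicValNat 2 a) (padicValNat 2 b) := by
  rw [← Nat.factorization_def _ Nat.prime_two, ← Nat.factorization_def _ Nat.prime_two,
    ← Nat.factorization_def _ Nat.prime_two, Nat.factorization_gcd ha hb, Finsupp.inf_apply]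

theorem isSquare_neg_one_pow_iff (hF : ringChar F ≠ 2) (m : ℕ) :
    IsSquare ((-1 : F) ^ m) ↔ Even (m * (Fintype.card F / 2)) := by
  rw [FiniteField.isSquare_iff hF (pow_ne_zero _ (neg_ne_zero.2 one_ne_zero)), ← pow_mul]
  exact neg_one_pow_eq_one_iff_even (Ring.neg_one_ne_one_of_char_ne_two hF)

/-- Changing basis changes a Gram determinant by a non-zero square. -/
theorem isSquare_gram_det_iff {κ ι : Type*} [Fintype κ] [DecidableEq κ] [Fintype ι] [DecidableEq ι]
    (G : Matrix κ κ F) (b : Module.Basis ι F (κ → F)) :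
    IsSquare (Matrix.of fun i j : ι => (b i) ⬝ᵥ G.mulVec (b j)).det ↔ IsSquare G.det := by
  let e : ι ≃ κ := b.indexEquiv (Pi.basisFun F κ)
  let b' := b.reindex e
  let P : Matrix κ κ F := Matrix.of fun k i => b' i k
  have hM : (Matrix.of fun i j : ι => (b i) ⬝ᵥ G.mulVec (b j)) =
      (P.transpose * G * P).submatrix e e := by
    refine Matrix.ext fun i j => ?_
    rw [Matrix.submatrix_apply, Matrix.of_apply, Matrix.mul_assoc]
    have h1 : ∀ i, b' (e i) = b i := fun i => by simp [b']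
    rw [← h1 i, ← h1 j]
    rfl
  rw [hM, Matrix.det_submatrix_equiv_self, Matrix.det_mul, Matrix.det_mul, Matrix.det_transpose]
  have hP : P.det ≠ 0 := by
    haveI := (Pi.basisFun F κ).invertibleToMatrix b'
    have h := (Matrix.isUnit_det_of_invertible ((Pi.basisFun F κ).toMatrix b')).ne_zero
    exact h
  constructor
  · rintro ⟨r, hr⟩
    refine ⟨r / P.det, ?_⟩
    field_simp
    linear_combination hr
  · rintro ⟨r, hr⟩
    exact ⟨r * P.det, by rw [hr]; ring⟩

/-- The Gram matrix of the hyperbolic form. -/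
theorem det_swapBlocks (m : ℕ) :
    (Matrix.fromBlocks (0 : Matrix (Fin m) (Fin m) F) (1 : Matrix (Fin m) (Fin m) F)
      (1 : Matrix (Fin m) (Fin m) F) (0 : Matrix (Fin m) (Fin m) F)).det = (-1) ^ m := by
  have h : (Matrix.fromBlocks (0 : Matrix (Fin m) (Fin m) F) (1 : Matrix (Fin m) (Fin m) F)
      (1 : Matrix (Fin m) (Fin m) F) (0 : Matrix (Fin m) (Fin m) F)) *
      Matrix.fromBlocks 1 1 0 1 = Matrix.fromBlocks 0 1 1 1 := by
    simp [Matrix.fromBlocks_multiply]
  have h2 := congrArg Matrix.det h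
  rw [Matrix.det_mul, Matrix.det_fromBlocks_zero₂₁, Matrix.det_one, Matrix.det_fromBlocks_one₂₂,
    one_mul, mul_one, mul_one, zero_sub, Matrix.det_neg, Fintype.card_fin, Matrix.det_one, mul_one] at h2
  exact h2

end CfsgLib.KnownC
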