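import Cfsg.Agent.Lib.Classical.PSLTwoPerm
import Cfsg.Agent.Lib.KnownB.PSL2Elem
import Cfsg.Agent.Lib.KnownC.G2ThreeOrders

/-!
The groups G2(3) and PSL2(13) have the same prime graph.
-/

set_option autoImplicit false

namespace CfsgLib.KnownC.G2Three

open Cfsg.Lie

lemma prime_dvd_iff {r : ℕ} (hr : r.Prime) {a b c d : ℕ} (ha : a ≠ 0) (hb : b ≠ 0) (hc : c ≠ 0)
    (hd : d ≠ 0) :
    r ∣ 2 ^ a * 3 ^ b * 7 ^ c * 13 ^ d ↔ r = 2 ∨ r = 3 ∨ r = 7 ∨ r = 13 := by
  constructor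
  · intro h
    rcases hr.dvd_mul.1 h with h | h
    · rcases hr.dvd_mul.1 h with h | h
      · rcases hr.dvd_mul.1 h with h | h
        · exact Or.inl ((Nat.prime_dvd_prime_iff_eq hr Nat.prime_two).1 (hr.dvd_of_dvd_pow h))
        · exact Or.inr (Or.inl
            ((Nat.prime_dvd_prime_iff_eq hr Nat.prime_three).1 (hr.dvd_of_dvd_pow h)))
      · exact Or.inr (Or.inr (Or.inl
          ((Nat.prime_dvd_prime_iff_eq hr (by norm_num)).1 (hr.dvd_of_dvd_pow h))))
    · exact Or.inr (Or.inr (Or.inr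
        ((Nat.prime_dvd_prime_iff_eq hr (by norm_num)).1 (hr.dvd_of_dvd_pow h))))
  · rintro (rfl | rfl | rfl | rfl)
    · exact dvd_mul_of_dvd_left (dvd_mul_of_dvd_left (dvd_mul_of_dvd_left (dvd_pow_self 2 ha) _) _) _
    · exact dvd_mul_of_dvd_left (dvd_mul_of_dvd_left (dvd_mul_of_dvd_right (dvd_pow_self 3 hb) _) _) _
    · exact dvd_mul_of_dvd_left (dvd_mul_of_dvd_right (dvd_pow_self 7 hc) _) _
    · exact dvd_mul_of_dvd_right (dvd_pow_self 13 hd) _

theorem same_prime_graph {F : Type*} [Field F] [Fintype F] (hF : Fintype.card F = 3)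
    {E : Type*} [Field E] [Fintype E] (hE : Fintype.card E = 13) :
    ((∀ r : ℕ, r.Prime → (r ∣ Nat.card ↥(chevG2.group F) ↔
        r ∣ Nat.card (Matrix.ProjectiveSpecialLinearGroup (Fin 2) E))) ∧
      (∀ r s : ℕ, r.Prime → s.Prime → r ≠ s →
        ((∃ x : ↥(chevG2.group F), orderOf x = r * s) ↔
          (∃ y : Matrix.ProjectiveSpecialLinearGroup (Fin 2) E, orderOf y = r * s)))) := by
  obtain ⟨e⟩ := equiv_of_card_three hF
  have hGF : Nat.card ↥(chevG2.group F) = 2 ^ 6 * 3 ^ 6 * 7 ^ 1 * 13 ^ 1 := by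
    rw [← Nat.card_congr e.toEquiv, card_G]; norm_num
  have hP : Nat.card (Matrix.ProjectiveSpecialLinearGroup (Fin 2) E) =
      2 ^ 2 * 3 ^ 1 * 7 ^ 1 * 13 ^ 1 := by
    rw [CfsgLib.Classical.card_psl_two_eq hE 1092 (by decide)]; norm_num
  refine ⟨fun r hr => ?_, fun r s hr hs hne => ?_⟩
  · rw [hGF, hP, prime_dvd_iff hr (by norm_num) (by norm_num) (by norm_num) (by norm_num),
      prime_dvd_iff hr (by norm_num) (by norm_num) (by norm_num) (by norm_num)]
  haveI : Fact (Nat.Prime 13) := ⟨by norm_num⟩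
  haveI : CharP E 13 := charP_of_card_eq_prime_pow (f := 1) (by rw [hE, pow_one])
  have hd : (Fintype.card E - 1) / Nat.gcd 2 (Fintype.card E - 1) = 6 ∧
      (Fintype.card E + 1) / Nat.gcd 2 (Fintype.card E - 1) = 7 := by
    rw [hE]; decide
  constructor
  · rintro ⟨x, hx⟩
    have hpr : ∀ {q : ℕ}, q.Prime → q ∣ orderOf x → q = 2 ∨ q = 3 ∨ q = 7 ∨ q = 13 :=
      fun hq h => (prime_dvd_iff hq (by norm_num) (by norm_num) (by norm_num) (by norm_num)).1
        (hGF ▸ h.trans (orderOf_dvd_natCard x))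
    have hrs := hpr hr (hx ▸ Dvd.intro s rfl)
    have hsr := hpr hs (hx ▸ Dvd.intro_left r rfl)
    have hx' : orderOf (e.symm x) = r * s := by rw [MulEquiv.orderOf_eq, hx]
    by_cases h6 : r * s = 6
    · exact h6 ▸ CfsgLib.KnownB.SL2.exists_orderOf_psl 13 (Or.inr (Or.inl (by rw [hd.1])))
    exfalso
    have hcases : ((r = 7 ∨ r = 13) ∧ (s = 2 ∨ s = 3 ∨ s = 7)) ∨
        ((s = 7 ∨ s = 13) ∧ (r = 2 ∨ r = 3 ∨ r = 7)) := by
      rcases hrs with rfl | rfl | rfl | rfl <;> rcases hsr with rfl | rfl | rfl | rfl <;>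
        simp_all
    rcases hcases with ⟨h1, h2⟩ | ⟨h1, h2⟩
    · exact not_order_pair hs h1 h2 hne ⟨_, hx'⟩
    · exact not_order_pair hr h1 h2 hne.symm ⟨_, hx'.trans (mul_comm _ _)⟩
  · rintro ⟨y, hy⟩
    have h6 : r * s = 6 := by
      have h := CfsgLib.KnownB.SL2.orderOf_psl_cases 13 y
      rw [hd.1, hd.2, hy] at h
      have hr2 := hr.two_le
      have hs2 := hs.two_le
      rcases h with h | h | h
      · rcases (Nat.dvd_prime (by norm_num : Nat.Prime 13)).1 h with h' | h'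
        · nlinarith
        · exact absurd (h' ▸ (by norm_num : Nat.Prime 13)) (Nat.not_prime_mul (by omega) (by omega))
      · have h4 : 4 ≤ r * s := Nat.mul_le_mul hr2 hs2
        have hle := Nat.le_of_dvd (by norm_num) h
        obtain ⟨k, hk⟩ := h
        rcases Nat.lt_or_ge k 2 with hk2 | hk2
        · interval_cases k <;> omega
        · nlinarith
      · rcases (Nat.dvd_prime (by norm_num : Nat.Prime 7)).1 h with h' | h'
        · nlinarith
        · exact absurd (h' ▸ (by norm_num : Nat.Prime 7)) (Nat.not_prime_mul (by omega) (by omega))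
    obtain ⟨z, hz⟩ := exists_order_six
    exact ⟨e z, by rw [MulEquiv.orderOf_eq, hz, h6]⟩

end CfsgLib.KnownC.G2Three
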