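import Cfsg.Agent.Lib.KnownC.UnipotentCentralizerCount

set_option autoImplicit false

/-!
The unitary centraliser of a unipotent matrix of given Jordan type, in a model form.
-/

namespace CfsgLib.KnownC.JordanHerm

open Matrix CfsgLib.KnownC.JordanComm

variable {K : Type*} [Field K] {t : ℕ} {d : Fin t → ℕ} (σ : K ≃+* K) (H : ℕ → ℕ → ℕ → K)

local notation "Mσ" => Matrix ((k : Fin t) × Fin (d k)) ((k : Fin t) × Fin (d k)) K

/-- The conjugate transpose. -/
def dS {ι : Type*} (A : Matrix ι ι K) : Matrix ι ι K := (A.map σ)ᵀ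

/-- The block diagonal Gram matrix. -/
def gram (d : Fin t → ℕ) : Matrix ((k : Fin t) × Fin (d k)) ((k : Fin t) × Fin (d k)) K :=
  Matrix.of fun p r => if p.1 = r.1 then H (d p.1) p.2 r.2 else 0

/-- The adjoint. -/
noncomputable def adj (A : Mσ) : Mσ := Ring.inverse (gram H d) * dS σ A * gram H d

/-- Blocks of equal size. -/
def bd (d : Fin t → ℕ) (T : Matrix (Fin t) (Fin t) K) : Matrix (Fin t) (Fin t) K :=
  Matrix.of fun k l => if d k = d l then T k l else 0

/-- Supported on blocks of equal size. -/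
def IsBlk (d : Fin t → ℕ) (T : Matrix (Fin t) (Fin t) K) : Prop := ∀ k l, d k ≠ d l → T k l = 0

/-- The section of the top map. -/
def emb (d : Fin t → ℕ) (T : Matrix (Fin t) (Fin t) K) :
    Matrix ((k : Fin t) × Fin (d k)) ((k : Fin t) × Fin (d k)) K :=
  Matrix.of fun p r => if d p.1 = d r.1 ∧ (p.2 : ℕ) = r.2 then T p.1 r.1 else 0

theorem dS_mul {ι : Type*} [Fintype ι] (A B : Matrix ι ι K) : dS σ (A * B) = dS σ B * dS σ A := by
  simp [dS, Matrix.map_mul, Matrix.transpose_mul]

theorem dS_one {ι : Type*} [DecidableEq ι] : dS σ (1 : Matrix ι ι K) = 1 := by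
  simp [dS, Matrix.map_one]

theorem dS_add {ι : Type*} (A B : Matrix ι ι K) : dS σ (A + B) = dS σ A + dS σ B := by
  ext i j; simp [dS]

theorem dS_sub {ι : Type*} (A B : Matrix ι ι K) : dS σ (A - B) = dS σ A - dS σ B := by
  ext i j; simp [dS]

theorem dS_smul {ι : Type*} (c : K) (A : Matrix ι ι K) : dS σ (c • A) = σ c • dS σ A := by
  ext i j; simp [dS]

theorem dS_dS (hσσ : ∀ x, σ (σ x) = x) {ι : Type*} (A : Matrix ι ι K) : dS σ (dS σ A) = A := by
  ext i j; simp [dS, hσσ]

theorem dS_jordan : dS σ (Cfsg.jordanTypeMatrix d K) = (Cfsg.jordanTypeMatrix d K)ᵀ := by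
  ext ⟨k, a⟩ ⟨l, b⟩
  simp only [dS, Matrix.transpose_apply, Matrix.map_apply, Cfsg.jordanTypeMatrix]
  by_cases h : l = k
  · subst h
    rw [Matrix.blockDiagonal'_apply_eq]
    simp only [Cfsg.jordanBlock, Matrix.of_apply]
    split_ifs <;> simp
  · rw [Matrix.blockDiagonal'_apply_ne _ _ _ h, map_zero]

theorem isBlk_bd (T : Matrix (Fin t) (Fin t) K) : IsBlk d (bd d T) := fun k l h => by
  simp [bd, h]

theorem bd_of_isBlk {T : Matrix (Fin t) (Fin t) K} (h : IsBlk d T) : bd d T = T := by
  ext k l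
  by_cases e : d k = d l
  · simp [bd, e]
  · simp [bd, e, h k l e]

theorem isBlk_one : IsBlk d (1 : Matrix (Fin t) (Fin t) K) := fun k l h =>
  Matrix.one_apply_ne fun e => h (congrArg d e)

theorem isBlk_mul {S T : Matrix (Fin t) (Fin t) K} (hS : IsBlk d S) (hT : IsBlk d T) :
    IsBlk d (S * T) := by
  intro k l h
  rw [Matrix.mul_apply]
  refine Finset.sum_eq_zero fun m _ => ?_
  by_cases e : d k = d m
  · rw [hT m l fun e' => h (e.trans e'), mul_zero]
  · rw [hS k m e, zero_mul]

theorem isBlk_dS {T : Matrix (Fin t) (Fin t) K} (hT : IsBlk d T) : IsBlk d (dS σ T) := fun k l h => by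
  simp [dS, hT l k (Ne.symm h)]

theorem bd_mul {S T : Matrix (Fin t) (Fin t) K} (hS : S.BlockTriangular d) (hT : T.BlockTriangular d) :
    bd d (S * T) = bd d S * bd d T := by
  ext k l
  simp only [bd, Matrix.of_apply, Matrix.mul_apply]
  by_cases h : d k = d l
  · rw [if_pos h]
    refine Finset.sum_congr rfl fun m _ => ?_
    by_cases e : d k = d m
    · rw [if_pos e, if_pos (e.symm.trans h)]
    · rw [if_neg e, zero_mul]
      rcases lt_or_gt_of_ne e with e' | e'
      · rw [hT (show d l < d m by omega), mul_zero]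
      · rw [hS e', zero_mul]
  · rw [if_neg h]
    refine (Finset.sum_eq_zero fun m _ => ?_).symm
    by_cases e : d k = d m
    · rw [if_neg (fun e' : d m = d l => h (e.trans e')), mul_zero]
    · rw [if_neg e, zero_mul]

theorem emb_one : emb (K := K) d 1 = 1 := by
  ext ⟨k, a⟩ ⟨l, b⟩
  simp only [emb, Matrix.of_apply]
  by_cases h : k = l
  · subst h
    by_cases hab : a = b
    · subst hab; simp
    · have hne : (⟨k, a⟩ : (k : Fin t) × Fin (d k)) ≠ ⟨k, b⟩ := fun e =>
        hab (eq_of_heq (Sigma.mk.inj e).2)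
      exact (if_neg fun e => hab (Fin.ext e.2)).trans (Matrix.one_apply_ne hne).symm
  · rw [Matrix.one_apply_ne (fun e => h (congrArg Sigma.fst e)), Matrix.one_apply_ne h]
    simp

theorem emb_mul {S T : Matrix (Fin t) (Fin t) K} (hS : IsBlk d S) (hT : IsBlk d T) :
    emb d (S * T) = emb d S * emb d T := by
  ext ⟨k, a⟩ ⟨l, b⟩
  simp only [emb, Matrix.of_apply, Matrix.mul_apply]
  rw [Fintype.sum_sigma]
  by_cases h : d k = d l ∧ (a : ℕ) = b
  · rw [if_pos h]
    refine Finset.sum_congr rfl fun m _ => ?_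
    by_cases e : d k = d m
    · rw [Finset.sum_eq_single ⟨(a : ℕ), e ▸ a.2⟩]
      · rw [if_pos ⟨e, rfl⟩, if_pos ⟨e.symm.trans h.1, h.2⟩]
      · intro c _ hc
        rw [if_neg (fun e' => hc (Fin.ext e'.2.symm)), zero_mul]
      · intro hh; exact absurd (Finset.mem_univ _) hh
    · rw [hS k m e, zero_mul]
      exact (Finset.sum_eq_zero fun c _ => by rw [if_neg (fun e' => e e'.1), zero_mul]).symm
  · rw [if_neg h]
    refine (Finset.sum_eq_zero fun m _ => Finset.sum_eq_zero fun c _ => ?_).symm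
    by_cases e : d k = d m ∧ (a : ℕ) = c
    · rw [if_neg (fun e' : d m = d l ∧ (c : ℕ) = b => h ⟨e.1.trans e'.1, e.2.trans e'.2⟩), mul_zero]
    · rw [if_neg e, zero_mul]

theorem isShift_emb (T : Matrix (Fin t) (Fin t) K) : IsShift (emb d T) := by
  intro k l a b
  simp only [emb, Matrix.of_apply]
  by_cases h : d k = d l
  · by_cases h1 : 1 ≤ (a : ℕ)
    · rw [dif_pos h1]
      by_cases h2 : (b : ℕ) + 1 < d l
      · rw [dif_pos h2]
        by_cases h3 : (a : ℕ) - 1 = b
        · rw [if_pos ⟨h, h3⟩, if_pos ⟨h, by omega⟩]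
        · rw [if_neg (fun e => h3 e.2), if_neg (fun e => h3 (by omega))]
      · rw [dif_neg h2, if_neg]
        rintro ⟨-, e⟩
        omega
    · rw [dif_neg h1]
      by_cases h2 : (b : ℕ) + 1 < d l
      · rw [dif_pos h2, if_neg (fun e => h1 (by omega))]
      · rw [dif_neg h2]
  · simp [h]

variable (hd : ∀ k, 1 ≤ d k)

/-- The reductive part. -/
def btop (A : Mσ) : Matrix (Fin t) (Fin t) K := bd d (topMat hd A)

theorem btop_mul {A B : Mσ} (hA : IsShift A) (hB : IsShift B) :
    btop hd (A * B) = btop hd A * btop hd B := by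
  rw [btop, topMat_mul hd hA, bd_mul (topMat_blockTriangular hd hA) (topMat_blockTriangular hd hB)]
  rfl

theorem btop_one : btop (K := K) hd 1 = 1 := by
  rw [btop, topMat_one, bd_of_isBlk isBlk_one]

theorem btop_add (A B : Mσ) : btop hd (A + B) = btop hd A + btop hd B := by
  ext k l; by_cases h : d k = d l <;> simp [btop, bd, topMat, h]

theorem btop_emb {T : Matrix (Fin t) (Fin t) K} (hT : IsBlk d T) : btop hd (emb d T) = T := by
  ext k l
  by_cases h : d k = d l
  · simp [btop, bd, topMat, emb, h]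
  · simp [btop, bd, h, hT k l h]

/-- The model hypotheses. -/
structure IsModel : Prop where
  invol : ∀ x, σ (σ x) = x
  herm : dS σ (gram H d) = gram H d
  unit : IsUnit (gram H d)
  inv : (Cfsg.jordanTypeMatrix d K)ᵀ * gram H d * Cfsg.jordanTypeMatrix d K = gram H d
  corner : ∀ k, H (d k) 0 (d k - 1) ≠ 0
  low : ∀ k (a : ℕ), 0 < a → a < d k → H (d k) a (d k - 1) = 0

variable {σ H} (hM : IsModel (d := d) σ H)

include hM in
theorem gram_adj (A : Mσ) : gram H d * adj σ H A = dS σ A * gram H d := by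
  rw [adj, ← mul_assoc, ← mul_assoc, Ring.mul_inverse_cancel _ hM.unit, one_mul]

include hM in
theorem adj_eq_iff (A X : Mσ) : adj σ H A = X ↔ gram H d * X = dS σ A * gram H d := by
  constructor
  · rintro rfl; exact gram_adj hM A
  · intro h
    exact hM.unit.mul_left_cancel ((gram_adj hM A).trans h.symm)

include hM in
theorem adj_mul (A B : Mσ) : adj σ H (A * B) = adj σ H B * adj σ H A := by
  rw [adj_eq_iff hM, ← mul_assoc, gram_adj hM, mul_assoc, gram_adj hM, ← mul_assoc, ← dS_mul]

include hM in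
theorem adj_one : adj σ H (1 : Mσ) = 1 := by
  rw [adj_eq_iff hM, dS_one, mul_one, one_mul]

include hM in
theorem adj_add (A B : Mσ) : adj σ H (A + B) = adj σ H A + adj σ H B := by
  rw [adj_eq_iff hM, mul_add, gram_adj hM, gram_adj hM, dS_add, add_mul]

include hM in
theorem adj_smul (c : K) (A : Mσ) : adj σ H (c • A) = σ c • adj σ H A := by
  rw [adj_eq_iff hM, mul_smul_comm, gram_adj hM, dS_smul, smul_mul_assoc]

include hM in
theorem adj_adj (A : Mσ) : adj σ H (adj σ H A) = A := by
  rw [adj_eq_iff hM]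
  have h := congrArg (dS σ) (gram_adj hM A)
  rw [dS_mul, dS_mul, dS_dS σ hM.invol, hM.herm] at h
  exact h.symm

include hM in
theorem isShift_adj {A : Mσ} (hA : IsShift A) : IsShift (adj σ H A) := by
  rw [← commute_iff_isShift] at hA ⊢
  set J := Cfsg.jordanTypeMatrix d K with hJ
  have hJu : IsUnit Jᵀ := by
    have h := congrArg Matrix.det hM.inv
    rw [Matrix.det_mul, Matrix.det_mul] at h
    rw [Matrix.isUnit_iff_isUnit_det]
    have hu : IsUnit (Jᵀ.det * (gram H d).det * J.det) := by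
      rw [h]; exact (Matrix.isUnit_iff_isUnit_det _).1 hM.unit
    exact (IsUnit.mul_iff.1 (IsUnit.mul_iff.1 hu).1).1
  have hAd : Jᵀ * dS σ A = dS σ A * Jᵀ := by
    rw [← dS_jordan σ, ← dS_mul, ← dS_mul, hA]
  refine hM.unit.mul_left_cancel (hJu.mul_left_cancel ?_)
  calc Jᵀ * (gram H d * (adj σ H A * J)) = Jᵀ * dS σ A * (gram H d * J) := by
        rw [← mul_assoc (gram H d), gram_adj hM]; simp only [mul_assoc]
    _ = dS σ A * (Jᵀ * gram H d * J) := by rw [hAd]; simp only [mul_assoc]
    _ = Jᵀ * gram H d * J * adj σ H A := by rw [hM.inv, gram_adj hM]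
    _ = Jᵀ * (gram H d * (J * adj σ H A)) := by simp only [mul_assoc]

include hM in
theorem btop_adj {A : Mσ} (hA : IsShift A) : btop hd (adj σ H A) = dS σ (btop hd A) := by
  classical
  ext k l
  by_cases h : d k = d l
  · have hd0 := hd l
    set last : Fin (d l) := ⟨d l - 1, by omega⟩ with hlast
    have key := congrFun (congrFun (gram_adj hM A) ⟨k, ⟨0, hd k⟩⟩) ⟨l, last⟩
    rw [Matrix.mul_apply, Matrix.mul_apply] at key
    have hX := isShift_adj hM hA
    rw [Finset.sum_eq_single ⟨k, ⟨d k - 1, by omega⟩⟩ ?_ (fun hh => absurd (Finset.mem_univ _) hh),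
      Finset.sum_eq_single ⟨l, ⟨0, hd l⟩⟩ ?_ (fun hh => absurd (Finset.mem_univ _) hh)] at key
    · simp only [gram, Matrix.of_apply, dS, Matrix.transpose_apply, Matrix.map_apply, if_true] at key
      rw [hX.apply_eq k l (d l - 1) last.2 ⟨d k - 1, by omega⟩,
        if_pos (show d l - 1 ≤ d k - 1 by omega), mul_comm] at key
      have hco := hM.corner k
      simp only [hlast, ← h] at key
      have key' := mul_right_cancel₀ hco key
      simp only [btop, bd, topMat, dS, Matrix.of_apply, Matrix.transpose_apply, Matrix.map_apply,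
        if_pos h, if_pos h.symm]
      refine Eq.trans ?_ key'
      congr 1
      exact Sigma.ext rfl (heq_of_eq (Fin.ext (by show 0 = d k - 1 - (d k - 1); omega)))
    · rintro ⟨m, c⟩ _ hne
      simp only [gram, Matrix.of_apply]
      by_cases e : m = l
      · subst e
        rw [if_pos rfl]
        have hc : 0 < (c : ℕ) := Nat.pos_of_ne_zero fun e' => hne (by
          rw [show c = ⟨0, hd m⟩ from Fin.ext e'])
        rw [hM.low m c hc c.2, mul_zero]
      · rw [if_neg e, mul_zero]
    · rintro ⟨m, c⟩ _ hne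
      simp only [gram, Matrix.of_apply]
      by_cases e : k = m
      · subst e
        rw [if_pos rfl]
        have hc : (c : ℕ) ≠ d k - 1 := fun e' => hne (by
          rw [show c = ⟨d k - 1, by omega⟩ from Fin.ext e'])
        rw [hX.apply_eq k l (d l - 1) last.2 c, if_neg (by have := c.2; omega), mul_zero]
      · rw [if_neg e, zero_mul]
  · simp [btop, bd, dS, h, Ne.symm h]

include hM in
theorem adj_emb {T : Matrix (Fin t) (Fin t) K} (hT : IsBlk d T) :
    adj σ H (emb d T) = emb d (dS σ T) := by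
  rw [adj_eq_iff hM]
  ext ⟨k, a⟩ ⟨l, b⟩
  simp only [Matrix.mul_apply, Fintype.sum_sigma]
  have hl : ∀ m (c : Fin (d m)), gram H d ⟨k, a⟩ ⟨m, c⟩ * emb d (dS σ T) ⟨m, c⟩ ⟨l, b⟩ =
      if k = m ∧ d k = d l ∧ (c : ℕ) = b then H (d k) a c * σ (T l k) else 0 := by
    intro m c
    simp only [gram, emb, dS, Matrix.of_apply, Matrix.transpose_apply, Matrix.map_apply]
    by_cases e : k = m
    · subst e; simp
    · simp [e]
  have hr : ∀ m (c : Fin (d m)), dS σ (emb d T) ⟨k, a⟩ ⟨m, c⟩ * gram H d ⟨m, c⟩ ⟨l, b⟩ =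
      if m = l ∧ d l = d k ∧ (c : ℕ) = a then σ (T l k) * H (d l) c b else 0 := by
    intro m c
    simp only [gram, emb, dS, Matrix.of_apply, Matrix.transpose_apply, Matrix.map_apply]
    by_cases e : m = l
    · subst e
      by_cases e' : d m = d k ∧ (c : ℕ) = a
      · simp [e'.1, e'.2]
      · simp [e']
    · simp [e]
  simp only [hl, hr]
  rw [Finset.sum_eq_single k ?_ (fun hh => absurd (Finset.mem_univ _) hh),
    Finset.sum_eq_single l ?_ (fun hh => absurd (Finset.mem_univ _) hh)]
  · by_cases h : d k = d l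
    · rw [Finset.sum_eq_single ⟨(b : ℕ), by omega⟩ ?_ (fun hh => absurd (Finset.mem_univ _) hh),
        Finset.sum_eq_single ⟨(a : ℕ), by omega⟩ ?_ (fun hh => absurd (Finset.mem_univ _) hh)]
      · rw [if_pos ⟨rfl, h, rfl⟩, if_pos ⟨rfl, h.symm, rfl⟩, mul_comm, show H (d k) = H (d l) from congrArg H h]
      · intro c _ hc
        rw [if_neg (fun e => hc (Fin.ext e.2.2))]
      · intro c _ hc
        rw [if_neg (fun e => hc (Fin.ext e.2.2))]
    · simp [h, Ne.symm h]
  · intro m _ hm
    exact Finset.sum_eq_zero fun c _ => by rw [if_neg (fun e => hm e.1)]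
  · intro m _ hm
    exact Finset.sum_eq_zero fun c _ => by rw [if_neg (fun e => hm e.1.symm)]

theorem top_coord_eq_btop (A : Mσ) (p : Idx d) (hp : JordanComm.IsTop p) :
    coords hd A p = btop hd A p.1.2.1 p.1.1 := by
  obtain ⟨⟨l, k, a⟩, hq⟩ := p
  obtain ⟨h1, h2⟩ := hp
  simp only [coords, btop, bd, topMat, Matrix.of_apply]
  rw [if_pos h1]
  congr 1
  exact Sigma.ext rfl (heq_of_eq (Fin.ext h2))

variable [Fintype K]

/-- The kernel of the reductive part in the unitary centraliser. -/
def kerSet : Set Mσ := {z | IsShift z ∧ btop hd z = 1 ∧ adj σ H z * z = 1}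

include hd hM in
/-- The model centraliser: a `q`-power times the product of the unitary groups of the multiplicities. -/
theorem card_model {q : ℕ} (hq : Fintype.card K = q ^ 2) (θ : K) (hθ : σ θ ≠ θ)
    (hnorm : ∀ h : Mσ, IsShift h → IsUnit h → adj σ H h = h → ∃ k, IsShift k ∧ adj σ H k * k = h) :
    Nat.card {A : Mσ // IsShift A ∧ adj σ H A * A = 1} =
      q ^ Nat.card {p : Idx d // ¬ JordanComm.IsTop p} *
        Nat.card {T : Matrix (Fin t) (Fin t) K // IsBlk d T ∧ dS σ T * T = 1} := by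
  classical
  have hbb : ∀ A : Mσ, IsBlk d (btop hd A) := fun A => isBlk_bd _
  set r := Nat.card {p : Idx d // ¬ JordanComm.IsTop p} with hr
  let L := {x : Mσ // IsShift x ∧ btop hd x = 0}
  let S := {x : Mσ // IsShift x ∧ btop hd x = 0 ∧ adj σ H x = x}
  let U1 := {g : Mσ // IsShift g ∧ btop hd g = 1}
  let Ker := {z : Mσ // z ∈ kerSet (σ := σ) (H := H) hd}
  have hshAdd : ∀ {A B : Mσ}, IsShift A → IsShift B → IsShift (A + B) := by
    intro A B hA hB
    rw [← commute_iff_isShift] at hA hB ⊢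
    rw [add_mul, mul_add, hA, hB]
  have hshSmul : ∀ {A : Mσ} (c : K), IsShift A → IsShift (c • A) := by
    intro A c hA
    rw [← commute_iff_isShift] at hA ⊢
    rw [smul_mul_assoc, mul_smul_comm, hA]
  have hsh1 : IsShift (1 : Mσ) := by rw [← commute_iff_isShift]; simp
  have hbs : ∀ (A : Mσ) (c : K), btop hd (c • A) = c • btop hd A := fun A c => by
    ext k l; by_cases h : d k = d l <;> simp [btop, bd, topMat, h]
  have hL : Nat.card L = (q ^ 2) ^ r := by
    let e : L ≃ ({p : Idx d // ¬ JordanComm.IsTop p} → K) :=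
      { toFun := fun x p => coords hd x.1 p.1
        invFun := fun w => ⟨extend (fun p : Idx d => if h : JordanComm.IsTop p then 0 else w ⟨p, h⟩), isShift_extend _, by
          ext k l
          rw [Matrix.zero_apply]
          by_cases hkl : d k = d l
          · have hp : d k ≤ 0 + d l := by omega
            have h1 := top_coord_eq_btop hd
              (extend (fun p : Idx d => if h : JordanComm.IsTop p then 0 else w ⟨p, h⟩))
              ⟨(l, ⟨k, ⟨0, hd k⟩⟩), hp⟩ ⟨hkl, rfl⟩
            rw [coords_extend, dif_pos ⟨hkl, rfl⟩] at h1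
            exact h1.symm
          · simp [btop, bd, hkl]⟩
        left_inv := fun x => by
          refine Subtype.ext ?_
          show extend (F := K) (d := d)
            (fun p : Idx d => if h : JordanComm.IsTop p then 0 else coords hd x.1 p) = x.1
          refine Eq.trans ?_ (extend_coords hd x.2.1)
          refine congrArg (extend (F := K) (d := d)) (funext fun p => ?_)
          by_cases h : JordanComm.IsTop p
          · rw [dif_pos h, top_coord_eq_btop hd x.1 p h, x.2.2]; rfl
          · rw [dif_neg h]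
        right_inv := fun w => funext fun p => by
          show coords hd (extend (F := K) (d := d)
            (fun p : Idx d => if h : JordanComm.IsTop p then 0 else w ⟨p, h⟩)) p.1 = w p
          rw [coords_extend, dif_neg p.2] }
    rw [Nat.card_congr e, Nat.card_fun, Nat.card_eq_fintype_card, hq]
  have hθ0 : θ - σ θ ≠ 0 := sub_ne_zero.2 (Ne.symm hθ)
  have hSL : Nat.card L = Nat.card S * Nat.card S := by
    rw [← Nat.card_prod]
    refine (Nat.card_eq_of_bijective (fun ab : S × S => (⟨ab.1.1 + θ • ab.2.1,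
      hshAdd ab.1.2.1 (hshSmul θ ab.2.2.1), by
        rw [btop_add, hbs, ab.1.2.2.1, ab.2.2.2.1, smul_zero, add_zero]⟩ : L)) ⟨?_, ?_⟩).symm
    · rintro ⟨a, b⟩ ⟨a', b'⟩ h
      have h1 : a.1 + θ • b.1 = a'.1 + θ • b'.1 := congrArg Subtype.val h
      have h2 := congrArg (adj σ H) h1
      rw [adj_add hM, adj_add hM, adj_smul hM, adj_smul hM, a.2.2.2, a'.2.2.2, b.2.2.2, b'.2.2.2] at h2
      have h3 : (θ - σ θ) • (b.1 - b'.1) = 0 := by
        have := congrArg₂ (· - ·) h1 h2
        rw [sub_smul, smul_sub, smul_sub]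
        rw [add_sub_add_left_eq_sub, add_sub_add_left_eq_sub] at this
        rw [← sub_eq_zero] at this
        rw [← this]; abel
      have h4 : b.1 = b'.1 := sub_eq_zero.1 ((smul_eq_zero.1 h3).resolve_left hθ0)
      rw [h4, add_left_inj] at h1
      exact Prod.ext (Subtype.ext h1) (Subtype.ext h4)
    · rintro ⟨x, hx1, hx2⟩
      set y := adj σ H x with hy
      have hy1 : IsShift y := isShift_adj hM hx1
      have hy2 : btop hd y = 0 := by rw [hy, btop_adj hd hM hx1, hx2]; ext i j; simp [dS]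
      set b := (θ - σ θ)⁻¹ • (x + (-1 : K) • y) with hb
      have hb1 : IsShift b := hshSmul _ (hshAdd hx1 (hshSmul _ hy1))
      have hb2 : btop hd b = 0 := by rw [hb, hbs, btop_add, hbs, hx2, hy2, smul_zero, add_zero, smul_zero]
      have hb3 : adj σ H b = b := by
        rw [hb, adj_smul hM, adj_add hM, adj_smul hM, ← hy, hy, adj_adj hM, map_inv₀, map_sub, hM.invol,
          map_neg, map_one, ← hy, show σ θ - θ = -(θ - σ θ) by ring, inv_neg, neg_smul, ← smul_neg]
        congr 1
        module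
      set a := x + (-θ) • b with ha
      have ha1 : IsShift a := hshAdd hx1 (hshSmul _ hb1)
      have ha2 : btop hd a = 0 := by rw [ha, btop_add, hbs, hx2, hb2, smul_zero, add_zero]
      have hxy : x + (-1 : K) • y = (θ - σ θ) • b := by rw [hb, smul_inv_smul₀ hθ0]
      have ha3 : adj σ H a = a := by
        rw [ha, adj_add hM, adj_smul hM, hb3, map_neg, ← hy]
        have : y = x - (θ - σ θ) • b := by rw [← hxy]; module
        rw [this]; module
      refine ⟨(⟨a, ha1, ha2, ha3⟩, ⟨b, hb1, hb2, hb3⟩), Subtype.ext ?_⟩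
      show a + θ • b = x
      rw [ha]; module
  have hS : Nat.card S = q ^ r := by
    rw [hL, ← pow_mul, mul_comm 2 r, pow_mul, sq] at hSL
    exact Nat.mul_self_inj.1 hSL.symm
  have hdS1 : dS σ (1 : Matrix (Fin t) (Fin t) K) = 1 := dS_one σ
  have hU1unit : ∀ g : Mσ, IsShift g → btop hd g = 1 → IsUnit g := by
    intro g hg hb
    rw [isUnit_iff_top hd hg, Matrix.isUnit_iff_isUnit_det, (topMat_blockTriangular hd hg).det,
      IsUnit.prod_iff]
    intro i _
    have : (topMat hd g).toSquareBlock d i = 1 := by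
      ext ⟨k, hk⟩ ⟨l, hl⟩
      have := congrFun (congrFun hb k) l
      simp only [btop, bd, Matrix.of_apply, if_pos (hk.trans hl.symm)] at this
      rw [Matrix.toSquareBlock_def, Matrix.of_apply, this, Matrix.one_apply, Matrix.one_apply]
      simp only [Subtype.mk.injEq]
    rw [this, Matrix.det_one]; exact isUnit_one
  have hshInv : ∀ g : Mσ, IsShift g → IsUnit g → IsShift (Ring.inverse g) := by
    intro g hg hu
    rw [← commute_iff_isShift] at hg ⊢
    set J := Cfsg.jordanTypeMatrix d K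
    set I := Ring.inverse g
    calc I * J = I * J * (g * I) := by rw [Ring.mul_inverse_cancel _ hu, mul_one]
      _ = I * (J * g) * I := by simp only [mul_assoc]
      _ = J * I := by rw [← hg, ← mul_assoc I g J, Ring.inverse_mul_cancel _ hu, one_mul]
  -- norms
  have hlift : ∀ s : S, ∃ g : U1, adj σ H g.1 * g.1 = 1 + s.1 := by
    rintro ⟨s, hs1, hs2, hs3⟩
    have hh1 : IsShift (1 + s) := hshAdd hsh1 hs1
    have hh2 : btop hd (1 + s) = 1 := by rw [btop_add, btop_one, hs2, add_zero]
    obtain ⟨k, hk1, hk2⟩ := hnorm (1 + s) hh1 (hU1unit _ hh1 hh2) (by rw [adj_add hM, adj_one hM, hs3])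
    set T := btop hd k with hT
    have hTu : dS σ T * T = 1 := by
      rw [hT, ← btop_adj hd hM hk1, ← btop_mul hd (isShift_adj hM hk1) hk1, hk2, hh2]
    have hTb : IsBlk d T := isBlk_bd _
    refine ⟨⟨emb d (dS σ T) * k, (isShift_emb _).mul hk1, ?_⟩, ?_⟩
    · rw [btop_mul hd (isShift_emb _) hk1, btop_emb hd (isBlk_dS σ hTb), hTu]
    · show adj σ H (emb d (dS σ T) * k) * (emb d (dS σ T) * k) = 1 + s
      rw [adj_mul hM, adj_emb hM (isBlk_dS σ hTb), dS_dS σ hM.invol, mul_assoc, ← mul_assoc (emb d T),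
        ← emb_mul hTb (isBlk_dS σ hTb), mul_eq_one_comm.1 hTu, emb_one, one_mul, hk2]
  choose gs hgs using hlift
  have hKer : Nat.card Ker = q ^ r := by
    have h1 : Nat.card U1 = Nat.card L := Nat.card_congr
      { toFun := fun g => ⟨g.1 + (-1 : K) • 1, hshAdd g.2.1 (hshSmul _ hsh1), by
          rw [btop_add, hbs, g.2.2, btop_one]; module⟩
        invFun := fun x => ⟨x.1 + 1, hshAdd x.2.1 hsh1, by rw [btop_add, x.2.2, btop_one, zero_add]⟩
        left_inv := fun g => Subtype.ext (by module)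
        right_inv := fun x => Subtype.ext (by module) }
    have h2 : Nat.card (Ker × S) = Nat.card U1 := by
      refine Nat.card_eq_of_bijective (fun zs : Ker × S =>
        (⟨zs.1.1 * (gs zs.2).1, zs.1.2.1.mul (gs zs.2).2.1, by
          rw [btop_mul hd zs.1.2.1 (gs zs.2).2.1, zs.1.2.2.1, (gs zs.2).2.2, one_mul]⟩ : U1)) ⟨?_, ?_⟩
      · rintro ⟨z, s⟩ ⟨z', s'⟩ h
        have h0 : z.1 * (gs s).1 = z'.1 * (gs s').1 := congrArg Subtype.val h
        have hn : ∀ (z : Ker) (s : S), adj σ H (z.1 * (gs s).1) * (z.1 * (gs s).1) = 1 + s.1 := by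
          intro z s
          rw [adj_mul hM, mul_assoc, ← mul_assoc (adj σ H z.1), z.2.2.2, one_mul, hgs]
        have hs : s = s' := Subtype.ext (add_left_cancel
          ((hn z s).symm.trans ((congrArg (fun X => adj σ H X * X) h0).trans (hn z' s'))))
        subst hs
        exact Prod.ext (Subtype.ext ((hU1unit _ (gs s).2.1 (gs s).2.2).mul_right_cancel h0)) rfl
      · rintro ⟨g, hg1, hg2⟩
        have hN1 : IsShift (adj σ H g * g) := (isShift_adj hM hg1).mul hg1
        have hN2 : btop hd (adj σ H g * g) = 1 := by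
          rw [btop_mul hd (isShift_adj hM hg1) hg1, btop_adj hd hM hg1, hg2, hdS1, one_mul]
        let s : S := ⟨adj σ H g * g + (-1 : K) • 1, hshAdd hN1 (hshSmul _ hsh1), by
          rw [btop_add, hbs, hN2, btop_one]; module, by
          rw [adj_add hM, adj_mul hM, adj_adj hM, adj_smul hM, map_neg, map_one, adj_one hM]⟩
        set g₀ := (gs s).1 with hg₀
        have hu₀ := hU1unit _ (gs s).2.1 (gs s).2.2
        have hI := hshInv _ (gs s).2.1 hu₀
        have hIb : btop hd (Ring.inverse g₀) = 1 := by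
          have := btop_mul hd (gs s).2.1 hI
          rw [Ring.mul_inverse_cancel _ hu₀, btop_one, (gs s).2.2, one_mul] at this
          exact this.symm
        refine ⟨(⟨g * Ring.inverse g₀, hg1.mul hI, by rw [btop_mul hd hg1 hI, hg2, hIb, one_mul], ?_⟩, s),
          Subtype.ext ?_⟩
        · have hh : adj σ H g₀ * g₀ = adj σ H g * g := by
            rw [hg₀, hgs]
            show 1 + (adj σ H g * g + (-1 : K) • 1) = _
            module
          rw [adj_mul hM, mul_assoc, ← mul_assoc (adj σ H g), ← hh, mul_assoc (adj σ H g₀),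
            Ring.mul_inverse_cancel _ hu₀, mul_one, ← adj_mul hM, Ring.mul_inverse_cancel _ hu₀,
            adj_one hM]
        · show g * Ring.inverse g₀ * g₀ = g
          rw [mul_assoc, Ring.inverse_mul_cancel _ hu₀, mul_one]
    rw [Nat.card_prod, hS, h1, hL, ← pow_mul, mul_comm 2 r, pow_mul, sq] at h2
    rcases Nat.eq_zero_or_pos (q ^ r) with h0 | h0
    · exfalso
      have hq0 : q = 0 := pow_eq_zero_iff'.1 h0 |>.1
      rw [hq0] at hq
      exact Fintype.card_ne_zero (hq.trans (by norm_num))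
    · exact Nat.eq_of_mul_eq_mul_right h0 h2
  rw [← hKer, ← Nat.card_prod]
  refine Nat.card_congr
    { toFun := fun A => (⟨emb d (dS σ (btop hd A.1)) * A.1, (isShift_emb _).mul A.2.1, ?_, ?_⟩,
        ⟨btop hd A.1, isBlk_bd _, ?_⟩)
      invFun := fun zT => ⟨emb d zT.2.1 * zT.1.1, (isShift_emb _).mul zT.1.2.1, ?_⟩
      left_inv := fun A => Subtype.ext ?_
      right_inv := fun zT => ?_ }
  · rw [btop_mul hd (isShift_emb _) A.2.1, btop_emb hd (isBlk_dS σ (hbb _)), ← btop_adj hd hM A.2.1,
      ← btop_mul hd (isShift_adj hM A.2.1) A.2.1, A.2.2, btop_one]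
  · rw [adj_mul hM, adj_emb hM (isBlk_dS σ (hbb _)), dS_dS σ hM.invol, mul_assoc,
      ← mul_assoc (emb d (btop hd A.1)), ← emb_mul (hbb _) (isBlk_dS σ (hbb _))]
    have h1 : dS σ (btop hd A.1) * btop hd A.1 = 1 := by
      rw [← btop_adj hd hM A.2.1, ← btop_mul hd (isShift_adj hM A.2.1) A.2.1, A.2.2, btop_one]
    rw [show btop hd A.1 * dS σ (btop hd A.1) = 1 from mul_eq_one_comm.1 h1,
      emb_one, one_mul, A.2.2]
  · rw [← btop_adj hd hM A.2.1, ← btop_mul hd (isShift_adj hM A.2.1) A.2.1, A.2.2, btop_one]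
  · rw [adj_mul hM, adj_emb hM zT.2.2.1, mul_assoc, ← mul_assoc (emb d (dS σ zT.2.1)),
      ← emb_mul (isBlk_dS σ zT.2.2.1) zT.2.2.1, zT.2.2.2, emb_one, one_mul, zT.1.2.2.2]
  · have h1 : dS σ (btop hd A.1) * btop hd A.1 = 1 := by
      rw [← btop_adj hd hM A.2.1, ← btop_mul hd (isShift_adj hM A.2.1) A.2.1, A.2.2, btop_one]
    show emb d (btop hd A.1) * (emb d (dS σ (btop hd A.1)) * A.1) = A.1
    rw [← mul_assoc, ← emb_mul (hbb _) (isBlk_dS σ (hbb _)),
      show btop hd A.1 * dS σ (btop hd A.1) = 1 from mul_eq_one_comm.1 h1, emb_one,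
      one_mul]
  · have hb : btop hd (emb d zT.2.1 * zT.1.1) = zT.2.1 := by
      rw [btop_mul hd (isShift_emb _) zT.1.2.1, btop_emb hd zT.2.2.1, zT.1.2.2.1, mul_one]
    refine Prod.ext (Subtype.ext ?_) (Subtype.ext hb)
    show emb d (dS σ (btop hd (emb d zT.2.1 * zT.1.1))) * (emb d zT.2.1 * zT.1.1) = zT.1.1
    rw [hb, ← mul_assoc, ← emb_mul (isBlk_dS σ zT.2.2.1) zT.2.2.1, zT.2.2.2, emb_one, one_mul]

/-- Blockwise decomposition of the block unitary matrices. -/
theorem card_blk_unitary (σ : K ≃+* K) :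
    Nat.card {T : Matrix (Fin t) (Fin t) K // IsBlk d T ∧ dS σ T * T = 1} =
      ∏ i ∈ Finset.univ.image d, Nat.card {M : Matrix {k : Fin t // d k = i} {k : Fin t // d k = i} K //
        dS σ M * M = 1} := by
  classical
  rw [← Finset.prod_coe_sort (Finset.univ.image d), ← Nat.card_pi]
  have hmul : ∀ (T : Matrix (Fin t) (Fin t) K), IsBlk d T → ∀ i,
      (dS σ T * T).toSquareBlock d i = dS σ (T.toSquareBlock d i) * T.toSquareBlock d i := by
    intro T hT i
    ext ⟨k, hk⟩ ⟨l, hl⟩
    simp only [Matrix.toSquareBlock_def, Matrix.of_apply, Matrix.mul_apply, dS, Matrix.transpose_apply,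
      Matrix.map_apply]
    rw [← Finset.sum_subtype (Finset.univ.filter fun m => d m = i) (fun m => Finset.mem_filter_univ m)
      (fun m => σ (T m k) * T m l)]
    refine (Finset.sum_subset (Finset.filter_subset _ _) fun m _ hm => ?_).symm
    rw [hT m k (fun e => hm ((Finset.mem_filter_univ m).2 (e.trans hk))), map_zero, zero_mul]
  let toT : (∀ i : {i // i ∈ Finset.univ.image d},
      Matrix {k : Fin t // d k = i.1} {k : Fin t // d k = i.1} K) → Matrix (Fin t) (Fin t) K :=
    fun M => Matrix.of fun k l => if h : d k = d l then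
      M ⟨d l, Finset.mem_image_of_mem _ (Finset.mem_univ _)⟩ ⟨k, h⟩ ⟨l, rfl⟩ else 0
  have hblk : ∀ M, IsBlk d (toT M) := fun M k l h => by simp [toT, h]
  have hsq : ∀ M (i : {i // i ∈ Finset.univ.image d}), (toT M).toSquareBlock d i.1 = M i := by
    intro M i
    have key : ∀ (i i' : {i // i ∈ Finset.univ.image d}), i = i' →
        ∀ (k : {k : Fin t // d k = i.1}) (l : {k : Fin t // d k = i.1})
          (k' : {k : Fin t // d k = i'.1}) (l' : {k : Fin t // d k = i'.1}),
          k.1 = k'.1 → l.1 = l'.1 → M i k l = M i' k' l' := by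
      rintro i _ rfl k l k' l' h1 h2
      rw [Subtype.ext h1, Subtype.ext h2]
    ext ⟨k, hk⟩ ⟨l, hl⟩
    simp only [Matrix.toSquareBlock_def, Matrix.of_apply, toT]
    rw [dif_pos (hk.trans hl.symm)]
    exact key _ _ (Subtype.ext hl) _ _ _ _ rfl rfl
  refine Nat.card_congr
    { toFun := fun T i => ⟨T.1.toSquareBlock d i.1, ?_⟩
      invFun := fun M => ⟨toT fun i => (M i).1, hblk (fun i => (M i).1), ?_⟩
      left_inv := fun T => Subtype.ext ?_
      right_inv := fun M => funext fun i => Subtype.ext (hsq (fun i => (M i).1) i) }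
  · rw [← hmul _ T.2.1, T.2.2]
    ext ⟨k, hk⟩ ⟨l, hl⟩
    simp [Matrix.toSquareBlock_def, Matrix.one_apply, Subtype.mk.injEq]
  · ext k l
    by_cases h : d k = d l
    · have hi : d l ∈ Finset.univ.image d := Finset.mem_image_of_mem _ (Finset.mem_univ _)
      have h1 := (M ⟨d l, hi⟩).2
      have h3 : (toT fun i => (M i).1).toSquareBlock d (d l) = (M ⟨d l, hi⟩).1 :=
        hsq (fun i => (M i).1) ⟨d l, hi⟩
      have h4 : (dS σ (toT fun i => (M i).1) * toT fun i => (M i).1).toSquareBlock d (d l) = 1 := by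
        rw [hmul _ (hblk fun i => (M i).1), h3]; exact h1
      have h2 := congrFun (congrFun h4 ⟨k, h⟩) ⟨l, rfl⟩
      refine Eq.trans h2 ?_
      rw [Matrix.one_apply, Matrix.one_apply]
      simp only [Subtype.mk.injEq]
    · exact (isBlk_mul (isBlk_dS σ (hblk fun i => (M i).1)) (hblk fun i => (M i).1) k l h).trans
        (isBlk_one (d := d) k l h).symm
  · ext k l
    by_cases h : d k = d l
    · simp [toT, h, Matrix.toSquareBlock_def]
    · simp [toT, h, T.2.1 k l h]

end CfsgLib.KnownC.JordanHerm
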