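import Mathlib
import Cfsg.Agent.Lib.KnownC.SigmaFactors
import Cfsg.Agent.Lib.KnownC.GLPrimeOrderClasses
import Cfsg.Agent.Lib.Classical.SemiUnitaryExists

set_option autoImplicit false

/-!
Classes of elements of prime order `r ≠ p` in `GU_n(q)`.
-/

namespace CfsgLib.KnownC.GUPrime

open Polynomial CfsgLib.Classical Matrix
open scoped Polynomial

variable {K : Type*} [Field K] [Fintype K] {p q n r : ℕ} [Fact p.Prime] [CharP K p]

theorem orderOf_eq_one_less {G : Type*} [Group G] (hr : r.Prime) :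
    Nat.card {c : ConjClasses G // ∃ g : G, ConjClasses.mk g = c ∧ orderOf g = r} =
      {c : ConjClasses G | ∃ g : G, ConjClasses.mk g = c ∧ g ^ r = 1}.ncard - 1 := by
  have : Fact r.Prime := ⟨hr⟩
  have hset : {c : ConjClasses G | ∃ g, ConjClasses.mk g = c ∧ orderOf g = r} =
      {c | ∃ g, ConjClasses.mk g = c ∧ g ^ r = 1} \ {ConjClasses.mk 1} := by
    ext c
    simp only [Set.mem_ofPred_eq, Set.mem_sdiff, Set.mem_singleton_iff]
    constructor
    · rintro ⟨g, rfl, hg⟩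
      refine ⟨⟨g, rfl, hg ▸ pow_orderOf_eq_one g⟩, fun h => ?_⟩
      rw [ConjClasses.mk_eq_mk_iff_isConj] at h
      rw [isConj_one_left.1 h, orderOf_one] at hg
      exact hr.one_lt.ne hg
    · rintro ⟨⟨g, rfl, hg⟩, h⟩
      exact ⟨g, rfl, orderOf_eq_prime hg fun h1 => h (by rw [h1])⟩
  rw [← Set.ncard_sdiff_singleton_of_mem (s := {c : ConjClasses G | ∃ g, ConjClasses.mk g = c ∧ g ^ r = 1})
    ⟨1, rfl, one_pow r⟩, ← hset]
  exact Nat.card_coe_set_eq _

theorem pow_eq_one_of_dvd {A : GL (Fin n) K} (hA : (orderOf A).Coprime p)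
    (h : ∀ Q : K[X], Q.Monic → Irreducible Q → Q ∣ (A : Matrix (Fin n) (Fin n) K).charpoly → Q ∣ X ^ r - 1) :
    A ^ r = 1 := by
  have h1 := SympOrderR.dvd_pow_of_factors _ (Matrix.charpoly_monic (A : Matrix (Fin n) (Fin n) K)) rfl h
  obtain ⟨k, hk⟩ : ∃ k, (A : Matrix (Fin n) (Fin n) K).charpoly.natDegree ≤ p ^ k :=
    ⟨_, (Nat.lt_pow_self (Fact.out : p.Prime).one_lt).le⟩
  have h2 : (A : Matrix (Fin n) (Fin n) K).charpoly ∣ X ^ (r * p ^ k) - 1 := by
    have h3 := h1.trans (pow_dvd_pow _ hk)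
    rwa [sub_pow_char_pow, one_pow, ← pow_mul] at h3
  have h4 := aeval_eq_zero_of_dvd_aeval_eq_zero h2 (Matrix.aeval_self_charpoly (A : Matrix (Fin n) (Fin n) K))
  rw [map_sub, map_pow, aeval_X, map_one, sub_eq_zero] at h4
  have h5 : A ^ (r * p ^ k) = 1 := Units.ext (by rw [Units.val_pow_eq_pow_val, Units.val_one, h4])
  exact orderOf_dvd_iff_pow_eq_one.1
    ((hA.pow_right k).dvd_of_dvd_mul_right (orderOf_dvd_of_pow_eq_one h5))

theorem ncard_pow_eq_one (hK : Fintype.card K = q ^ 2) (hr : r.Prime) (hrp : r ≠ p) :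
    {c : ConjClasses ↥(Cfsg.GU n K q) | ∃ g : ↥(Cfsg.GU n K q), ConjClasses.mk g = c ∧ g ^ r = 1}.ncard =
      (StarCount.polys (SemiPalin.tilde (qFrob hK)) r n).ncard := by
  classical
  have hco : ∀ g : ↥(Cfsg.GU n K q), g ^ r = 1 → (orderOf (g : GL (Fin n) K)).Coprime p := fun g hg => by
    rw [Subgroup.orderOf_coe]
    exact Nat.Coprime.coprime_dvd_left (orderOf_dvd_of_pow_eq_one hg)
      ((Nat.coprime_primes hr (Fact.out : p.Prime)).2 hrp)
  let cp : ConjClasses ↥(Cfsg.GU n K q) → K[X] :=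
    Quotient.lift (fun g : ↥(Cfsg.GU n K q) => ((g : GL (Fin n) K) : Matrix (Fin n) (Fin n) K).charpoly)
      fun a b h => by
        have h' : IsConj (a : GL (Fin n) K) (b : GL (Fin n) K) :=
          MonoidHom.map_isConj (Cfsg.GU n K q).subtype h
        exact CfsgLib.KnownB.SSClass.charpoly_isConj h'
  have hmem : ∀ g : ↥(Cfsg.GU n K q), g ^ r = 1 →
      ((g : GL (Fin n) K) : Matrix (Fin n) (Fin n) K).charpoly ∈
        StarCount.polys (SemiPalin.tilde (qFrob hK)) r n := fun g hg => by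
    refine ⟨Matrix.charpoly_monic _, SemiUnitaryExists.tilde_charpoly hK g.2,
      by rw [Matrix.charpoly_natDegree_eq_dim, Fintype.card_fin], fun Q _ hQi hQ => ?_⟩
    refine factor_dvd_of_pow_eq_one ?_ hQi hQ
    rw [← SubmonoidClass.coe_pow, hg]; rfl
  refine Set.ncard_congr (fun c _ => cp c) ?_ ?_ ?_
  · rintro _ ⟨g, rfl, hg⟩
    exact hmem g hg
  · rintro _ _ ⟨g, rfl, hg⟩ ⟨h, rfl, hh⟩ he
    exact ConjClasses.mk_eq_mk_iff_isConj.2 ((SemiUnitary.isConj_iff_gl hK g h).2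
      (CfsgLib.KnownB.SSClass.gl_isConj_of_charpoly p (hco g hg) (hco h hh) he))
  · rintro f ⟨hf, hS, hdeg, hall⟩
    have h0 : f.coeff 0 ≠ 0 := by
      intro h0
      have hX : (X : K[X]) ∣ f := Polynomial.X_dvd_iff.2 h0
      have := Polynomial.X_dvd_iff.1 (hall X monic_X irreducible_X hX)
      simp [coeff_X_pow, hr.ne_zero.symm] at this
    obtain ⟨B, hB, hBo, hBc⟩ := SemiUnitaryExists.exists_gu hK p hf hdeg h0 hS
    exact ⟨ConjClasses.mk ⟨B, hB⟩,
      ⟨⟨B, hB⟩, rfl, Subtype.ext (pow_eq_one_of_dvd hBo fun Q h1 h2 h3 => hall Q h1 h2 (hBc ▸ h3))⟩, hBc⟩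

theorem count {i b s : ℕ} (hK : Fintype.card K = q ^ 2) (hr : r.Prime) (hr2 : r ≠ 2) (hrp : r ≠ p)
    (hi : i = orderOf (q : ZMod r)) (hb : b = if Odd i then i else i / 2) (hs : s * b = r - 1) :
    Nat.card {C : ConjClasses ↥(Cfsg.GU n K q) // ∃ g : ↥(Cfsg.GU n K q),
      ConjClasses.mk g = C ∧ orderOf g = r} =
      if i % 4 = 2 then Nat.choose (2 * n / i + s) s - 1
      else Nat.choose (n / (2 * b) + s / 2) (s / 2) - 1 := by
  classical
  haveI : Fact r.Prime := ⟨hr⟩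
  rw [orderOf_eq_one_less hr, ncard_pow_eq_one hK hr hrp]
  obtain ⟨f, -, hf⟩ := FiniteField.card K p
  obtain ⟨c, -, hqc⟩ : ∃ c ≤ (f : ℕ), q = p ^ c :=
    (Nat.dvd_prime_pow (Fact.out : p.Prime)).1 (by rw [← hf, hK]; exact dvd_pow_self q two_ne_zero)
  have hc : ∀ x, qFrob hK x = x ^ p ^ c := fun x => by rw [qFrob_apply, ← hqc]
  have hQ : (Fintype.card K : ZMod r) = (q : ZMod r) ^ 2 := by rw [hK, Nat.cast_pow]
  have hq0 : (q : ZMod r) ≠ 0 := by
    rw [hqc, Nat.cast_pow]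
    refine pow_ne_zero _ fun h => hrp ?_
    exact (Nat.prime_dvd_prime_iff_eq hr Fact.out).1 ((ZMod.natCast_eq_zero_iff p r).1 h)
  have hfin : IsOfFinOrder (q : ZMod r) := isOfFinOrder_iff_pow_eq_one.2
    ⟨r - 1, by have := hr.two_le; omega, ZMod.pow_card_sub_one_eq_one hq0⟩
  have hi0 : 0 < i := hi ▸ hfin.orderOf_pos
  have he : b = orderOf (Fintype.card K : ZMod r) := by
    rw [hQ, orderOf_pow' _ two_ne_zero, ← hi, hb]
    split_ifs with h
    · rw [(Nat.coprime_two_right.2 h).gcd_eq_one, Nat.div_one]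
    · rw [Nat.gcd_eq_right (Nat.even_iff.1 (Nat.not_odd_iff_even.1 h) |> Nat.dvd_of_mod_eq_zero)]
  have hb0 : 0 < b := by
    rw [he, hQ]; exact hfin.pow.orderOf_pos
  have hsb : (r - 1) / b = s := by rw [← hs, Nat.mul_div_cancel _ hb0]
  have h2 : (2 : ZMod r) ≠ 0 := by
    intro h
    exact hr2 ((Nat.prime_dvd_prime_iff_eq hr Nat.prime_two).1 ((ZMod.natCast_eq_zero_iff 2 r).1 (by exact_mod_cast h)))
  have hneg : ∀ k, (q : ZMod r) ^ k = -1 → ¬ Odd i := fun k hk hodd => by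
    have h1 : ((q : ZMod r) ^ k) ^ i = 1 := by rw [← pow_mul, mul_comm, pow_mul, hi, pow_orderOf_eq_one, one_pow]
    rw [hk, hodd.neg_one_pow] at h1
    exact h2 (by linear_combination -h1)
  have hcond : (∃ j : ℕ, (Fintype.card K : ZMod r) ^ j = -((p : ZMod r) ^ c)) ↔ i % 4 = 2 := by
    rw [← Nat.cast_pow, ← hqc, hQ]
    have hhalf : Even i → (q : ZMod r) ^ (i / 2) = -1 := fun hev => by
      have h1 : (q : ZMod r) ^ (i / 2) * (q : ZMod r) ^ (i / 2) = 1 := by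
        rw [← pow_add, show i / 2 + i / 2 = i by obtain ⟨u, hu⟩ := hev; omega, hi, pow_orderOf_eq_one]
      refine (mul_self_eq_one_iff.1 h1).resolve_left fun h => ?_
      have := orderOf_le_of_pow_eq_one (by obtain ⟨u, hu⟩ := hev; omega) h
      omega
    constructor
    · rintro ⟨j, hj⟩
      rw [← pow_mul] at hj
      have hev : Even i := by
        refine Nat.not_odd_iff_even.1 (hneg (2 * j + (i - 1)) ?_)
        rw [pow_add, hj, neg_mul, ← pow_succ', Nat.sub_add_cancel hi0, hi, pow_orderOf_eq_one]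
      have h3 : (q : ZMod r) ^ (2 * j) = (q : ZMod r) ^ (i / 2 + 1) := by
        rw [hj, pow_succ, hhalf hev, neg_one_mul]
      rw [hfin.pow_eq_pow_iff_modEq, ← hi] at h3
      obtain ⟨u, hu⟩ := hev
      have h4 : 2 * j % 2 = (i / 2 + 1) % 2 := (h3.of_dvd ⟨u, by omega⟩)
      omega
    · intro h
      refine ⟨(i / 2 + 1) / 2, ?_⟩
      rw [← pow_mul, show 2 * ((i / 2 + 1) / 2) = i / 2 + 1 by omega, pow_succ,
        hhalf (Nat.even_iff.2 (by omega)), neg_one_mul]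
  split_ifs with h
  · obtain ⟨D⟩ := SigmaFactors.blocks_fixed hr hrp he (qFrob hK) (qFrob_qFrob hK) hc (hcond.2 h)
    rw [D.natCard, hsb, hb, if_neg (Nat.not_odd_iff.2 (by omega))]
    have : n / (i / 2) = 2 * n / i := by
      conv_rhs => rw [show i = 2 * (i / 2) by omega]
      rw [Nat.mul_div_mul_left _ _ two_pos]
    rw [this]
  · obtain ⟨D⟩ := SigmaFactors.blocks_pair hr hrp he (qFrob hK) (qFrob_qFrob hK) hc (fun hj => h (hcond.1 hj))
    rw [D.natCard, hsb]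

end CfsgLib.KnownC.GUPrime
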