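import Cfsg.Agent.Lib.KnownC.JordanTypeRanks
import Cfsg.Agent.Lib.KnownC.SympRegularBasic

set_option autoImplicit false

/-!
Invariant alternating and symmetric forms for a unipotent matrix of given Jordan type.
-/

namespace CfsgLib.KnownC

open Matrix

variable {F : Type*} [Field F]

theorem exists_fixedPointFree_involution (α : Type*) [Fintype α] (h : Even (Fintype.card α)) :
    ∃ σ : α → α, Function.Involutive σ ∧ ∀ a, σ a ≠ a := by
  obtain ⟨c, hc⟩ := h
  have e : α ≃ Bool × Fin c := Fintype.equivOfCardEq (by simp; omega)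
  refine ⟨fun a => e.symm (!(e a).1, (e a).2), fun a => by simp, fun a ha => ?_⟩
  have := congrArg (fun x => (e x).1) ha
  simp at this

theorem exists_pairing {t : ℕ} (d : Fin t → ℕ) (bad : ℕ → Prop)
    (h : ∀ k, bad (d k) → Even (Finset.univ.filter (fun k' : Fin t => d k' = d k)).card) :
    ∃ π : Fin t → Fin t, Function.Involutive π ∧ (∀ k, d (π k) = d k) ∧
      (∀ k, bad (d k) → π k ≠ k) ∧ ∀ k, ¬ bad (d k) → π k = k := by
  classical
  have hσ : ∀ j, ∃ σ : {k // d k = j} → {k // d k = j}, Function.Involutive σ ∧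
      (bad j → ∀ a, σ a ≠ a) ∧ (¬ bad j → σ = id) := by
    intro j
    by_cases hb : bad j
    · by_cases hne : Nonempty {k // d k = j}
      · obtain ⟨⟨k, rfl⟩⟩ := hne
        obtain ⟨σ, h1, h2⟩ := exists_fixedPointFree_involution {k' // d k' = d k}
          (by rw [Fintype.card_subtype]; exact h k hb)
        exact ⟨σ, h1, fun _ => h2, fun hn => absurd hb hn⟩
      · exact ⟨id, fun _ => rfl, fun _ a => absurd ⟨a⟩ hne, fun _ => rfl⟩
    · exact ⟨id, fun _ => rfl, fun hb' => absurd hb' hb, fun _ => rfl⟩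
  choose σ hinv hfree hid using hσ
  let π : Fin t → Fin t := fun k => (σ (d k) ⟨k, rfl⟩).1
  have hπ : ∀ k j (hk : d k = j), π k = (σ j ⟨k, hk⟩).1 := by
    intro k j hk; subst hk; rfl
  refine ⟨π, fun k => ?_, fun k => (σ (d k) ⟨k, rfl⟩).2, fun k hb he => ?_, fun k hb => ?_⟩
  · rw [hπ (π k) (d k) (σ (d k) ⟨k, rfl⟩).2]
    exact congrArg Subtype.val (hinv (d k) ⟨k, rfl⟩)
  · exact hfree (d k) hb ⟨k, rfl⟩ (Subtype.ext he)
  · show (σ (d k) ⟨k, rfl⟩).1 = k
    rw [hid (d k) hb]; rfl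

section Assemble

variable {t : ℕ} (d : Fin t → ℕ)

/-- The index map induced by a size preserving involution of the blocks. -/
def blockPerm (π : Fin t → Fin t) (hπ : Function.Involutive π) (hd : ∀ k, d (π k) = d k) :
    ((k : Fin t) × Fin (d k)) ≃ ((k : Fin t) × Fin (d k)) where
  toFun p := ⟨π p.1, Fin.cast (hd p.1).symm p.2⟩
  invFun p := ⟨π p.1, Fin.cast (hd p.1).symm p.2⟩
  left_inv p := Sigma.ext (hπ p.1) ((Fin.heq_ext_iff (congrArg d (hπ p.1))).2 (by simp))
  right_inv p := Sigma.ext (hπ p.1) ((Fin.heq_ext_iff (congrArg d (hπ p.1))).2 (by simp))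

/-- Forms on single blocks and pairs assemble to a form invariant under the Jordan matrix. -/
theorem exists_assembled_form (ε : F) (hε : ε * ε = 1) (bad : ℕ → Prop) (hd : ∀ k, 1 ≤ d k)
    (heven : ∀ k, bad (d k) → Even (Finset.univ.filter (fun k' : Fin t => d k' = d k)).card)
    (hsingle : ∀ j, 1 ≤ j → ¬ bad j → ∃ P : Matrix (Fin j) (Fin j) F, IsUnit P ∧ Pᵀ = ε • P ∧
      (ε ≠ 1 ∨ (2 : F) = 0 → ∀ i, P i i = 0) ∧
      (Cfsg.jordanBlock j F)ᵀ * P * Cfsg.jordanBlock j F = P)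
    (hpair : ∀ j, 1 ≤ j → bad j → ∃ P : Matrix (Fin j) (Fin j) F, IsUnit P ∧
      (Cfsg.jordanBlock j F)ᵀ * P * Cfsg.jordanBlock j F = P) :
    ∃ G : Matrix ((k : Fin t) × Fin (d k)) ((k : Fin t) × Fin (d k)) F, IsUnit G ∧ Gᵀ = ε • G ∧
      (ε ≠ 1 ∨ (2 : F) = 0 → ∀ x, G x x = 0) ∧
      (Cfsg.jordanTypeMatrix d F)ᵀ * G * Cfsg.jordanTypeMatrix d F = G := by
  classical
  obtain ⟨π, hπ, hdπ, hbad, hgood⟩ := exists_pairing d bad heven
  have hP : ∀ j, ∃ P : Matrix (Fin j) (Fin j) F, 1 ≤ j → IsUnit P ∧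
      (Cfsg.jordanBlock j F)ᵀ * P * Cfsg.jordanBlock j F = P ∧
      (¬ bad j → Pᵀ = ε • P ∧ (ε ≠ 1 ∨ (2 : F) = 0 → ∀ i, P i i = 0)) := by
    intro j
    by_cases hj : 1 ≤ j
    · by_cases hb : bad j
      · obtain ⟨P, h1, h2⟩ := hpair j hj hb
        exact ⟨P, fun _ => ⟨h1, h2, fun h => absurd hb h⟩⟩
      · obtain ⟨P, h1, h2, h3, h4⟩ := hsingle j hj hb
        exact ⟨P, fun _ => ⟨h1, h4, fun _ => ⟨h2, h3⟩⟩⟩
    · exact ⟨1, fun h => absurd h hj⟩
  choose P hP using hP
  let P' : ∀ k, Matrix (Fin (d k)) (Fin (d k)) F := fun k =>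
    if k ≤ π k then P (d k) else ε • (P (d k))ᵀ
  have hcast : ∀ j j' (h : j' = j) (a b : Fin j'), P j (Fin.cast h a) (Fin.cast h b) = P j' a b := by
    intro j j' h a b; subst h; rfl
  set S := blockPerm d π hπ hdπ with hS
  set B := Cfsg.jordanTypeMatrix d F with hB
  set G := (Matrix.blockDiagonal' P').submatrix id S with hG
  have hP'u : ∀ k, IsUnit (P' k) := by
    intro k
    simp only [P']
    split_ifs
    · exact (hP _ (hd k)).1
    · have hu := (Matrix.isUnit_transpose _).2 (hP _ (hd k)).1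
      rw [show ε • (P (d k))ᵀ = (Units.mkOfMulEqOne ε ε hε) • (P (d k))ᵀ from rfl]
      exact hu.smul _
  have hP'inv : ∀ k, (Cfsg.jordanBlock (d k) F)ᵀ * P' k * Cfsg.jordanBlock (d k) F = P' k := by
    intro k
    have h := (hP _ (hd k)).2.1
    simp only [P']
    split_ifs
    · exact h
    · have h' := congrArg Matrix.transpose h
      rw [transpose_mul, transpose_mul, transpose_transpose, ← mul_assoc] at h'
      rw [Matrix.mul_smul, Matrix.smul_mul, h']
  have hBS : B.submatrix S S = B := by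
    ext ⟨k, i⟩ ⟨k', i'⟩
    show B ⟨π k, Fin.cast (hdπ k).symm i⟩ ⟨π k', Fin.cast (hdπ k').symm i'⟩ = B ⟨k, i⟩ ⟨k', i'⟩
    simp only [hB, Cfsg.jordanTypeMatrix]
    by_cases hk : k = k'
    · subst hk
      rw [Matrix.blockDiagonal'_apply_eq, Matrix.blockDiagonal'_apply_eq]
      simp [Cfsg.jordanBlock]
    · rw [Matrix.blockDiagonal'_apply_ne _ _ _ (fun e => hk (hπ.injective e)),
        Matrix.blockDiagonal'_apply_ne _ _ _ hk]
  have hentry : ∀ k k' (i : Fin (d k)) (i' : Fin (d k')), k ≠ π k' → G ⟨k, i⟩ ⟨k', i'⟩ = 0 :=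
    fun k k' i i' h => by
      show Matrix.blockDiagonal' P' ⟨k, i⟩ ⟨π k', Fin.cast (hdπ k').symm i'⟩ = 0
      exact Matrix.blockDiagonal'_apply_ne _ _ _ h
  have hentry' : ∀ k (i : Fin (d (π k))) (i' : Fin (d k)),
      G ⟨π k, i⟩ ⟨k, i'⟩ = P' (π k) i (Fin.cast (hdπ k).symm i') :=
    fun k i i' => by
      show Matrix.blockDiagonal' P' ⟨π k, i⟩ ⟨π k, Fin.cast (hdπ k).symm i'⟩ = _
      exact Matrix.blockDiagonal'_apply_eq _ _ _ _
  have hentry'' : ∀ k (i : Fin (d k)) (i' : Fin (d (π k))),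
      G ⟨k, i⟩ ⟨π k, i'⟩ = P' k i (Fin.cast (hdπ k) i') := by
    intro k i i'
    show Matrix.blockDiagonal' P' ⟨k, i⟩ (S ⟨π k, i'⟩) = _
    rw [show S ⟨π k, i'⟩ = ⟨k, Fin.cast (hdπ k) i'⟩ from
      Sigma.ext (hπ k) ((Fin.heq_ext_iff (congrArg d (hπ k))).2 (by rfl)),
      Matrix.blockDiagonal'_apply_eq]
  refine ⟨G, ?_, ?_, ?_, ?_⟩
  · rw [hG, ← Equiv.coe_refl, Matrix.isUnit_submatrix_equiv]
    exact ⟨⟨Matrix.blockDiagonal' P', Matrix.blockDiagonal' fun k => ((hP'u k).unit⁻¹).1,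
      by rw [← Matrix.blockDiagonal'_mul, funext fun k => (hP'u k).mul_val_inv]
         exact Matrix.blockDiagonal'_one,
      by rw [← Matrix.blockDiagonal'_mul, funext fun k => (hP'u k).val_inv_mul]
         exact Matrix.blockDiagonal'_one⟩, rfl⟩
  · ext ⟨k', i'⟩ ⟨k, i⟩
    rw [Matrix.transpose_apply, Matrix.smul_apply, smul_eq_mul]
    by_cases hk : k = π k'
    · subst hk
      rw [hentry', hentry'']
      rcases lt_trichotomy k' (π k') with h | h | h
      · simp only [P', hπ k', if_pos h.le, if_neg (not_le.2 h), Matrix.smul_apply, Matrix.transpose_apply,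
          smul_eq_mul]
        rw [← hcast (d (π k')) (d k') (hdπ k').symm]
        congr 2
      · have hnb : ¬ bad (d k') := fun hb => hbad k' hb h.symm
        obtain ⟨hsymm, -⟩ := (hP _ (hd k')).2.2 hnb
        simp only [P', hπ k', if_pos h.le, if_pos h.ge]
        have := congrFun (congrFun hsymm i') (Fin.cast (hdπ k') i)
        rw [Matrix.transpose_apply, Matrix.smul_apply, smul_eq_mul] at this
        rw [← this, ← hcast (d (π k')) (d k') (hdπ k').symm]
        congr 1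
      · simp only [P', hπ k', if_pos h.le, if_neg (not_le.2 h), Matrix.smul_apply, Matrix.transpose_apply,
          smul_eq_mul, ← mul_assoc, hε, one_mul]
        rw [← hcast (d (π k')) (d k') (hdπ k').symm]
        congr 1
    · rw [hentry _ _ _ _ hk, hentry _ _ _ _ (fun e => hk (by rw [e, hπ])), mul_zero]
  · intro h ⟨k, i⟩
    by_cases hk : k = π k
    · have hnb : ¬ bad (d k) := fun hb => hbad k hb hk.symm
      obtain ⟨-, hdiag⟩ := (hP _ (hd k)).2.2 hnb
      show Matrix.blockDiagonal' P' ⟨k, i⟩ (S ⟨k, i⟩) = 0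
      rw [show S ⟨k, i⟩ = ⟨k, i⟩ from
        Sigma.ext hk.symm ((Fin.heq_ext_iff (hdπ k)).2 (by rfl)),
        Matrix.blockDiagonal'_apply_eq]
      simp only [P', if_pos hk.le]
      exact hdiag h i
    · exact hentry _ _ _ _ hk
  · have e1 : G * B = (Matrix.blockDiagonal' P' * B).submatrix id S := by
      conv_lhs => rw [hG, ← hBS]
      rw [Matrix.submatrix_mul_equiv]
    rw [mul_assoc, e1]
    conv_lhs => arg 1; rw [← Matrix.submatrix_id_id Bᵀ]
    rw [← Matrix.submatrix_mul _ _ id id S Function.bijective_id, ← mul_assoc, hB, Cfsg.jordanTypeMatrix,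
      Matrix.blockDiagonal'_transpose, ← Matrix.blockDiagonal'_mul, ← Matrix.blockDiagonal'_mul,
      funext hP'inv]

end Assemble

theorem isUnit_jordanBlock (j : ℕ) : IsUnit (Cfsg.jordanBlock j F) := by
  rcases Nat.eq_zero_or_pos j with rfl | hj
  · exact isUnit_of_subsingleton _
  · have h := IsNilpotent.isUnit_add_one ⟨_, (isRegNil_jordanBlock (F := F) hj).nil⟩
    rwa [sub_add_cancel] at h

/-- A bilinear form invariant under a Jordan block. -/
theorem exists_pair_form {j : ℕ} (hj : 1 ≤ j) :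
    ∃ P : Matrix (Fin j) (Fin j) F, IsUnit P ∧
      (Cfsg.jordanBlock j F)ᵀ * P * Cfsg.jordanBlock j F = P := by
  have hN := isRegNil_jordanBlock (F := F) hj
  obtain ⟨T, hT⟩ := (Matrix.isUnit_transpose _).2 (isUnit_jordanBlock (F := F) j)
  have hc : Commute (-((T⁻¹ : GL (Fin j) F) : Matrix (Fin j) (Fin j) F))
      ((T : Matrix (Fin j) (Fin j) F) - 1) :=
    ((Commute.units_inv_left (Commute.refl (T : Matrix (Fin j) (Fin j) F))).neg_left).sub_right
      (Commute.one_right _)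
  have e : ((T⁻¹ : GL (Fin j) F) : Matrix (Fin j) (Fin j) F) - 1 =
      -((T⁻¹ : GL (Fin j) F) : Matrix (Fin j) (Fin j) F) * ((T : Matrix (Fin j) (Fin j) F) - 1) := by
    rw [mul_sub, mul_one, neg_mul, Units.inv_mul]; abel
  have hTn : IsRegNil ((T : Matrix (Fin j) (Fin j) F) - 1) := by
    rw [hT, ← Matrix.transpose_one, ← Matrix.transpose_sub]
    exact ⟨hN.pos, by rw [← Matrix.transpose_pow, hN.nil, Matrix.transpose_zero],
      by rw [Matrix.rank_transpose, hN.rank_eq]⟩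
  have hinv : IsRegNil (((T⁻¹ : GL (Fin j) F) : Matrix (Fin j) (Fin j) F) - 1) := by
    refine ⟨hTn.pos, by rw [e, hc.mul_pow, hTn.nil, mul_zero], ?_⟩
    rw [e, Matrix.rank_mul_eq_right_of_isUnit_det _ _
      ((Matrix.isUnit_iff_isUnit_det _).1 (T⁻¹).isUnit.neg), hTn.rank_eq]
  obtain ⟨g, hg⟩ := hN.exists_conj hinv
  rw [mul_sub, sub_mul, mul_one, one_mul, sub_left_inj] at hg
  exact ⟨g, g.isUnit, by rw [← hT, mul_assoc, hg, ← mul_assoc, Units.mul_inv, one_mul]⟩

theorem alt_entries {ι : Type*} [Fintype ι] [DecidableEq ι] {P : Matrix ι ι F}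
    (h : ∀ v, v ⬝ᵥ P *ᵥ v = 0) : (∀ i, P i i = 0) ∧ Pᵀ = -P := by
  have hdiag : ∀ i, P i i = 0 := fun i => by simpa using h (Pi.single i 1)
  refine ⟨hdiag, ?_⟩
  ext i i'
  have h2 := h (Pi.single i 1 + Pi.single i' 1)
  rw [mulVec_add, dotProduct_add, add_dotProduct, add_dotProduct] at h2
  simp [hdiag] at h2
  rw [transpose_apply, Matrix.neg_apply, eq_neg_iff_add_eq_zero, ← h2]

theorem alt_of_entries {ι : Type*} [Fintype ι] {P : Matrix ι ι F}
    (hdiag : ∀ i, P i i = 0) (hT : Pᵀ = -P) (v : ι → F) : v ⬝ᵥ P *ᵥ v = 0 := by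
  classical
  have h : ∀ s : Finset ι, ∑ i ∈ s, ∑ i' ∈ s, v i * (P i i' * v i') = 0 := by
    intro s
    induction s using Finset.induction_on with
    | empty => simp
    | insert a s ha ih =>
      rw [Finset.sum_insert ha, Finset.sum_insert ha]
      simp only [Finset.sum_insert ha, Finset.sum_add_distrib, ih, hdiag]
      have e : ∑ x ∈ s, v x * (P x a * v a) = -∑ x ∈ s, v a * (P a x * v x) := by
        rw [← Finset.sum_neg_distrib]
        refine Finset.sum_congr rfl fun x _ => ?_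
        have := congrFun (congrFun hT a) x
        rw [transpose_apply, Matrix.neg_apply] at this
        rw [this]; ring
      rw [e]; ring
  simpa [dotProduct, mulVec, Finset.mul_sum] using h Finset.univ

theorem exists_single_alt {j : ℕ} (hj : 1 ≤ j) (he : Even j) :
    ∃ P : Matrix (Fin j) (Fin j) F, IsUnit P ∧ (∀ v, v ⬝ᵥ P *ᵥ v = 0) ∧
      (Cfsg.jordanBlock j F)ᵀ * P * Cfsg.jordanBlock j F = P := by
  obtain ⟨m, rfl⟩ := he
  obtain ⟨u, hu⟩ := exists_regular_symplectic (F := F) (m := m) (by omega)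
  let e : Fin (m + m) ≃ Fin m ⊕ Fin m := finSumFinEquiv.symm
  have hB := (isRegNil_jordanBlock (F := F) hj).reindex e
  obtain ⟨g, hg⟩ := hB.exists_conj hu
  set R := Matrix.reindexAlgEquiv F F e with hR
  have hRB : Matrix.reindex e e (Cfsg.jordanBlock (m + m) F - 1) =
      R (Cfsg.jordanBlock (m + m) F) - 1 := by
    rw [hR, ← Matrix.coe_reindexAlgEquiv F F, map_sub, map_one]
  rw [hRB, mul_sub, sub_mul, mul_one, one_mul, sub_left_inj] at hg
  set Q := (g : Matrix (Fin m ⊕ Fin m) (Fin m ⊕ Fin m) F)ᵀ * Matrix.J (Fin m) F *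
    (g : Matrix (Fin m ⊕ Fin m) (Fin m ⊕ Fin m) F) with hQ
  have halt : ∀ v, v ⬝ᵥ Q *ᵥ v = 0 := by
    intro v
    rw [hQ, ← mulVec_mulVec, ← mulVec_mulVec, dotProduct_mulVec, Matrix.vecMul_transpose]
    set w := (g : Matrix (Fin m ⊕ Fin m) (Fin m ⊕ Fin m) F) *ᵥ v
    simp [Matrix.J, dotProduct, mulVec, Fintype.sum_sum_type, Matrix.fromBlocks, Matrix.one_apply,
      mul_comm]
  have hQu : IsUnit Q := by
    have hJu : IsUnit (Matrix.J (Fin m) F) :=
      IsUnit.of_mul_eq_one (-Matrix.J (Fin m) F) (by rw [mul_neg, Matrix.J_squared, neg_neg])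
    exact (((Matrix.isUnit_transpose _).2 g.isUnit).mul hJu).mul g.isUnit
  have hQinv : (R (Cfsg.jordanBlock (m + m) F))ᵀ * Q * R (Cfsg.jordanBlock (m + m) F) = Q := by
    have hu' := SymplecticGroup.mem_iff'.1 u.2
    calc _ = ((g : Matrix (Fin m ⊕ Fin m) (Fin m ⊕ Fin m) F) * R (Cfsg.jordanBlock (m + m) F))ᵀ *
          Matrix.J (Fin m) F *
          ((g : Matrix (Fin m ⊕ Fin m) (Fin m ⊕ Fin m) F) * R (Cfsg.jordanBlock (m + m) F)) := by
          rw [hQ, transpose_mul]; simp only [mul_assoc]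
      _ = (g : Matrix (Fin m ⊕ Fin m) (Fin m ⊕ Fin m) F)ᵀ *
          ((u : Matrix (Fin m ⊕ Fin m) (Fin m ⊕ Fin m) F)ᵀ * Matrix.J (Fin m) F * u.1) * g.1 := by
          rw [hg, transpose_mul]; simp only [mul_assoc]
      _ = Q := by rw [hu']
  refine ⟨R.symm Q, hQu.map R.symm, fun v => ?_, ?_⟩
  · rw [show R.symm Q = Q.submatrix e e from rfl, Matrix.submatrix_mulVec_equiv,
      ← comp_equiv_symm_dotProduct]
    exact halt _
  · refine R.injective ?_
    rw [map_mul, map_mul, R.apply_symm_apply]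
    conv_rhs => rw [← hQinv]
    rfl

theorem exists_single_symm {j : ℕ} (hj : 1 ≤ j) (ho : Odd j) (h2 : (2 : F) ≠ 0) :
    ∃ P : Matrix (Fin j) (Fin j) F, IsUnit P ∧ Pᵀ = P ∧
      (Cfsg.jordanBlock j F)ᵀ * P * Cfsg.jordanBlock j F = P := by
  haveI : Nonempty (Fin j) := ⟨⟨0, hj⟩⟩
  obtain ⟨P, hPu, hP⟩ := exists_pair_form (F := F) hj
  set B := Cfsg.jordanBlock j F with hB
  have hP' : Bᵀ * Pᵀ * B = Pᵀ := by
    have := congrArg Matrix.transpose hP
    rwa [transpose_mul, transpose_mul, transpose_transpose, ← mul_assoc] at this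
  obtain ⟨V, hVB, hBV, hJV⟩ := exists_left_inv_of_isometry hPu hP
  set h := Ring.inverse P * Pᵀ with hh
  have hPh : P * h = Pᵀ := by rw [hh, ← mul_assoc, Ring.mul_inverse_cancel _ hPu, one_mul]
  have hcm : Commute h B := by
    have h1 : P * (V * (h * B)) = P * h := by
      rw [← mul_assoc, ← hJV, mul_assoc, ← mul_assoc P, hPh, ← mul_assoc, hP']
    have h2' : V * (h * B) = h := hPu.mul_left_cancel h1
    calc h * B = B * V * (h * B) := by rw [hBV, one_mul]
      _ = B * h := by rw [mul_assoc, h2']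
  obtain ⟨c, hc⟩ := (isRegNil_jordanBlock (F := F) hj).exists_scalar
    (hcm.sub_right (Commute.one_right h))
  by_cases hc1 : c = -1
  · exfalso
    subst hc1
    have hu1 : IsUnit (1 - h) := by
      have e : 1 - h = algebraMap F _ 2 + -(h - (-1 : F) • 1) := by
        rw [map_ofNat, ← one_add_one_eq_two, neg_smul, one_smul]; abel
      rw [e]
      exact hc.neg.isUnit_add_left_of_commute ((isUnit_iff_ne_zero.2 h2).map _)
        (Algebra.commutes 2 _).symm
    have hA : IsUnit (P - Pᵀ) := by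
      rw [← hPh, show P - P * h = P * (1 - h) by rw [mul_sub, mul_one]]
      exact hPu.mul hu1
    have heven := CfsgLib.KnownA.even_rank_of_alt_matrix (P - Pᵀ) fun v => by
      rw [sub_mulVec, dotProduct_sub, dotProduct_mulVec v Pᵀ, Matrix.vecMul_transpose,
        dotProduct_comm (P *ᵥ v), sub_self]
    rw [Matrix.rank_of_isUnit _ hA, Fintype.card_fin] at heven
    exact Nat.not_even_iff_odd.2 ho heven
  · refine ⟨P + Pᵀ, ?_, by rw [transpose_add, transpose_transpose, add_comm], by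
      rw [mul_add, add_mul, hP, hP']⟩
    rw [← hPh, show P + P * h = P * (1 + h) by rw [mul_add, mul_one]]
    refine hPu.mul ?_
    have e : 1 + h = algebraMap F _ (1 + c) + (h - c • 1) := by
      rw [Algebra.algebraMap_eq_smul_one, add_smul, one_smul]; abel
    rw [e]
    exact hc.isUnit_add_left_of_commute
      ((isUnit_iff_ne_zero.2 fun h0 => hc1 (eq_neg_of_add_eq_zero_right h0)).map _)
      (Algebra.commutes (1 + c) _).symm

theorem exists_alt_form_of_even {t : ℕ} (d : Fin t → ℕ) (hd : ∀ k, 1 ≤ d k)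
    (h : ∀ j : ℕ, Odd j → Even (Finset.univ.filter (fun k : Fin t => d k = j)).card) :
    ∃ G : Matrix ((k : Fin t) × Fin (d k)) ((k : Fin t) × Fin (d k)) F, IsUnit G ∧
      (∀ v, v ⬝ᵥ G *ᵥ v = 0) ∧ (Cfsg.jordanTypeMatrix d F)ᵀ * G * Cfsg.jordanTypeMatrix d F = G := by
  obtain ⟨G, hu, hT, hdiag, hinv⟩ := exists_assembled_form d (-1 : F) (by simp) Odd hd
    (fun k hk => h _ hk)
    (fun j hj hb => by
      obtain ⟨P, h1, h2, h3⟩ := exists_single_alt (F := F) hj (Nat.not_odd_iff_even.1 hb)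
      obtain ⟨h4, h5⟩ := alt_entries h2
      exact ⟨P, h1, by rw [h5, neg_smul, one_smul], fun _ => h4, h3⟩)
    (fun j hj _ => exists_pair_form hj)
  refine ⟨G, hu, fun v => alt_of_entries (hdiag ?_) (by rw [hT, neg_smul, one_smul]) v, hinv⟩
  by_cases h2 : (2 : F) = 0
  · exact Or.inr h2
  · exact Or.inl fun e => h2 (by rw [← one_add_one_eq_two]; nth_rw 1 [← e]; exact neg_add_cancel 1)

theorem exists_symm_form_of_even {t : ℕ} (d : Fin t → ℕ) (hd : ∀ k, 1 ≤ d k) (h2 : (2 : F) ≠ 0)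
    (h : ∀ j : ℕ, Even j → 0 < j → Even (Finset.univ.filter (fun k : Fin t => d k = j)).card) :
    ∃ G : Matrix ((k : Fin t) × Fin (d k)) ((k : Fin t) × Fin (d k)) F, IsUnit G ∧
      Gᵀ = G ∧ (Cfsg.jordanTypeMatrix d F)ᵀ * G * Cfsg.jordanTypeMatrix d F = G := by
  obtain ⟨G, hu, hT, -, hinv⟩ := exists_assembled_form d (1 : F) (by simp) Even hd
    (fun k hk => h _ hk (hd k))
    (fun j hj hb => by
      obtain ⟨P, h1, h3, h4⟩ := exists_single_symm (F := F) hj (Nat.not_even_iff_odd.1 hb) h2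
      exact ⟨P, h1, by rw [h3, one_smul], fun hh => absurd hh (by simp [h2]), h4⟩)
    (fun j hj _ => exists_pair_form hj)
  exact ⟨G, hu, by rw [hT, one_smul], hinv⟩

end CfsgLib.KnownC
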