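import Mathlib
import Cfsg.Prelude.Def_LieClassical
import Cfsg.Agent.Lib.KnownC.GroupEmbeds
import Cfsg.Agent.Lib.KnownC.FieldFixedCount
import Cfsg.Agent.Lib.KnownC.BinaryUnits
import Cfsg.Agent.Lib.KnownC.HermCongr
import Cfsg.Agent.Lib.Classical.SUOrder

/-!
Conjugacy in `GU_n(q)` is controlled by `GL_n(q²)`.
-/

set_option autoImplicit false

namespace CfsgLib.KnownC

open Matrix CfsgLib.Classical Polynomial
open scoped MatrixGroups

section Dag

variable {K : Type*} [Field K] {n : ℕ}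

/-- The conjugate transpose. -/
def dag (σ : K ≃+* K) (M : Matrix (Fin n) (Fin n) K) : Matrix (Fin n) (Fin n) K := (M.map σ)ᵀ

theorem dag_mul (σ : K ≃+* K) (M N : Matrix (Fin n) (Fin n) K) : dag σ (M * N) = dag σ N * dag σ M := by
  simp [dag, Matrix.map_mul, Matrix.transpose_mul]

theorem dag_one (σ : K ≃+* K) : dag σ (1 : Matrix (Fin n) (Fin n) K) = 1 := by
  simp [dag, Matrix.map_one]

theorem dag_add (σ : K ≃+* K) (M N : Matrix (Fin n) (Fin n) K) : dag σ (M + N) = dag σ M + dag σ N := by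
  simp [dag, Matrix.map_add, Matrix.transpose_add]

theorem dag_smul (σ : K ≃+* K) (c : K) (M : Matrix (Fin n) (Fin n) K) :
    dag σ (c • M) = σ c • dag σ M := by
  ext i j; simp [dag]

theorem dag_dag (σ : K ≃+* K) (hσ : ∀ x, σ (σ x) = x) (M : Matrix (Fin n) (Fin n) K) :
    dag σ (dag σ M) = M := by
  ext i j; simp [dag, hσ]

theorem dag_pow (σ : K ≃+* K) (M : Matrix (Fin n) (Fin n) K) (k : ℕ) :
    dag σ (M ^ k) = dag σ M ^ k := by
  induction k with
  | zero => simp [dag_one]
  | succ k ih => rw [pow_succ, dag_mul, ih, ← pow_succ']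

theorem dag_units (σ : K ≃+* K) (g : GL (Fin n) K) :
    ∃ g' : GL (Fin n) K, (g' : Matrix (Fin n) (Fin n) K) = dag σ (g : Matrix (Fin n) (Fin n) K) :=
  ⟨⟨dag σ g, dag σ (g⁻¹ : GL (Fin n) K), by rw [← dag_mul, Units.inv_mul, dag_one],
    by rw [← dag_mul, Units.mul_inv, dag_one]⟩, rfl⟩

theorem dag_isUnit (σ : K ≃+* K) {M : Matrix (Fin n) (Fin n) K} (h : IsUnit M) :
    IsUnit (dag σ M) := by
  obtain ⟨g, rfl⟩ := h
  obtain ⟨g', hg'⟩ := dag_units σ g
  exact hg' ▸ g'.isUnit

end Dag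

section Main

variable {K : Type*} [Field K] [Fintype K] {q n : ℕ}

theorem exists_conjugation (hK : Fintype.card K = q ^ 2) :
    ∃ σ : K ≃+* K, (∀ x, σ x = x ^ q) ∧ orderOf σ = 2 ∧ ∀ x, σ (σ x) = x := by
  obtain ⟨σ, hσ⟩ : ∃ σ : K ≃+* K, ∀ x, σ x = x ^ q :=
    ⟨RingEquiv.ofBijective (qFrob hK) (Finite.injective_iff_bijective.1 (qFrob hK).injective),
      fun x => qFrob_apply hK x⟩
  have hσσ : ∀ x, σ (σ x) = x := fun x => by
    rw [hσ, hσ, ← qFrob_apply hK, ← qFrob_apply hK, qFrob_qFrob]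
  refine ⟨σ, hσ, orderOf_eq_prime (RingEquiv.ext fun x => hσσ x) fun h => qFrob_ne_id hK ?_, hσσ⟩
  exact RingHom.ext fun x => by rw [qFrob_apply, ← hσ, h]; rfl

theorem mem_gu_iff_dag (hK : Fintype.card K = q ^ 2) (σ : K ≃+* K) (hσ : ∀ x, σ x = x ^ q)
    (hσσ : ∀ x, σ (σ x) = x) (g : GL (Fin n) K) :
    g ∈ Cfsg.GU n K q ↔ dag σ (g : Matrix (Fin n) (Fin n) K) * (g : Matrix (Fin n) (Fin n) K) = 1 := by
  rw [mem_gu_iff hK]
  have e : (qFrob hK : K → K) = (σ : K → K) := funext fun x => by rw [qFrob_apply, hσ]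
  rw [e]
  constructor <;> intro h
  · have h' := congrArg (fun M : Matrix (Fin n) (Fin n) K => M.map σ) h
    simp only [Matrix.map_mul, Matrix.transpose_map, Matrix.map_map, Matrix.map_one σ (map_zero σ) (map_one σ)] at h'
    rw [show ((σ : K → K) ∘ σ) = id from funext hσσ, Matrix.map_id] at h'
    exact h'
  · have h' := congrArg (fun M : Matrix (Fin n) (Fin n) K => M.map σ) h
    simp only [dag, Matrix.map_mul, Matrix.transpose_map, Matrix.map_map,
      Matrix.map_one σ (map_zero σ) (map_one σ)] at h'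
    rw [show ((σ : K → K) ∘ σ) = id from funext hσσ, Matrix.map_id] at h'
    exact h'

/-- A Hermitian invertible matrix is `k† k` with `k` in the algebra it generates. -/
theorem exists_norm_in_algebra (hK : Fintype.card K = q ^ 2) (σ : K ≃+* K) (hσ : ∀ x, σ x = x ^ q)
    (hσ2 : orderOf σ = 2) {h : GL (Fin n) K}
    (hh : dag σ (h : Matrix (Fin n) (Fin n) K) = (h : Matrix (Fin n) (Fin n) K)) :
    ∃ k : GL (Fin n) K, dag σ (k : Matrix (Fin n) (Fin n) K) * (k : Matrix (Fin n) (Fin n) K) =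
        (h : Matrix (Fin n) (Fin n) K) ∧
      ∀ A : Matrix (Fin n) (Fin n) K, Commute (h : Matrix (Fin n) (Fin n) K) A →
        Commute (k : Matrix (Fin n) (Fin n) K) A := by
  classical
  obtain ⟨F, hF, hFc⟩ := exists_fixed_subfield (q₀ := q) (r := 2) two_ne_zero hK σ hσ2
  have : Fintype F := Fintype.ofFinite _
  have hFc' : Fintype.card F = q := by rw [← Nat.card_eq_fintype_card, hFc]
  obtain ⟨a, b, hab⟩ := exists_anisotropic_binary (F := F)
  obtain ⟨D, hD, ha, hb⟩ := exists_extData_of_form hK hFc' a b hab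
  have hconj : ∀ x, D.conj x = σ x := fun x => by rw [hD, hσ]
  let _ : Algebra F K := D.emb.toAlgebra
  set m := orderOf h with hm
  have hm0 : 0 < m := orderOf_pos h
  set f : F[X] := X ^ m - 1 with hf
  have hmon : f.Monic := by rw [hf, ← C_1]; exact monic_X_pow_sub_C _ hm0.ne'
  have : Module.Finite F (AdjoinRoot f) := (AdjoinRoot.powerBasis' hmon).finite
  have : Finite (AdjoinRoot f) := Module.finite_of_finite F
  have hroot : AdjoinRoot.root f ^ m = 1 := by
    have := AdjoinRoot.eval₂_root f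
    rw [Polynomial.eval₂_congr rfl rfl hf] at this
    simpa [sub_eq_zero] using this
  have hu : IsUnit (AdjoinRoot.root f) :=
    IsUnit.of_mul_eq_one (AdjoinRoot.root f ^ (m - 1))
      (by rw [← pow_succ', Nat.sub_add_cancel hm0, hroot])
  obtain ⟨x, y, hxy⟩ := exists_binForm_eq_unit (AdjoinRoot.of f) hab hu
  obtain ⟨P, rfl⟩ := AdjoinRoot.mk_surjective x
  obtain ⟨Q, rfl⟩ := AdjoinRoot.mk_surjective y
  rw [← AdjoinRoot.mk_C, ← AdjoinRoot.mk_C, ← map_binForm, ← AdjoinRoot.mk_X,
    AdjoinRoot.mk_eq_mk] at hxy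
  obtain ⟨W, hW⟩ := hxy
  set H : Matrix (Fin n) (Fin n) K := (h : Matrix (Fin n) (Fin n) K) with hH
  let ev : F[X] →ₐ[F] Matrix (Fin n) (Fin n) K := Polynomial.aeval H
  have hev0 : ev f = 0 := by
    rw [hf, map_sub, map_pow, map_one, Polynomial.aeval_X, hH, ← Units.val_pow_eq_pow_val, hm,
      pow_orderOf_eq_one, Units.val_one, sub_self]
  have hdag : ∀ R : F[X], dag σ (ev R) = ev R := by
    intro R
    induction R using Polynomial.induction_on' with
    | add p r hp hr => rw [map_add, dag_add, hp, hr]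
    | monomial k c =>
      have hc : algebraMap F (Matrix (Fin n) (Fin n) K) c * H ^ k = D.emb c • H ^ k := by
        rw [← Algebra.smul_def]; rfl
      rw [Polynomial.aeval_monomial, hc, dag_smul, dag_pow, hh, ← hconj, D.conj_emb]
  have hevC : ∀ c : F, ev (C c) = D.emb c • (1 : Matrix (Fin n) (Fin n) K) := fun c => by
    rw [Polynomial.aeval_C, Algebra.algebraMap_eq_smul_one]; rfl
  have hcomm : ∀ R S : F[X], ev R * ev S = ev S * ev R := fun R S => by
    rw [← map_mul, ← map_mul, mul_comm]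
  obtain ⟨M, hM⟩ : ∃ M, M = ev P + D.gen • ev Q := ⟨_, rfl⟩
  have hMM : dag σ M * M = H := by
    have e1 := congrArg ev hW
    rw [map_sub, map_mul, hev0, zero_mul, sub_eq_zero, Polynomial.aeval_X] at e1
    simp only [binForm, map_add, map_mul, map_pow, hevC] at e1
    rw [← e1, hM, dag_add, dag_smul, hdag, hdag, ← hconj, ← ha, ← hb]
    simp only [add_mul, mul_add, smul_mul_assoc, mul_smul_comm, one_mul, smul_smul, add_smul, sq,
      hcomm Q P, mul_assoc]
    module
  have hMu : IsUnit M := by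
    rw [Matrix.isUnit_iff_isUnit_det]
    have hd : IsUnit (dag σ M * M).det := by
      rw [hMM]; exact (Matrix.isUnit_iff_isUnit_det _).1 h.isUnit
    rw [Matrix.det_mul] at hd
    exact (IsUnit.mul_iff.1 hd).2
  refine ⟨hMu.unit, hMM, fun A hA => ?_⟩
  rw [IsUnit.unit_spec, hM]
  have hc : ∀ R : F[X], Commute (ev R) A := fun R => by
    induction R using Polynomial.induction_on' with
    | add p r hp hr => rw [map_add]; exact hp.add_left hr
    | monomial k c =>
      rw [Polynomial.aeval_monomial]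
      exact (Algebra.commute_algebraMap_left c A).mul_left (hA.pow_left k)
  exact (hc P).add_left ((hc Q).smul_left D.gen)

theorem isConj_gu_iff (hK : Fintype.card K = q ^ 2) (A B : ↥(Cfsg.GU n K q)) :
    IsConj A B ↔ IsConj (A : GL (Fin n) K) (B : GL (Fin n) K) := by
  refine ⟨fun h => (Cfsg.GU n K q).subtype.map_isConj h, fun hAB => ?_⟩
  obtain ⟨σ, hσ, hσ2, hσσ⟩ := exists_conjugation hK
  obtain ⟨g, hg⟩ := isConj_iff.1 hAB
  obtain ⟨g', hg'⟩ := dag_units σ g
  obtain ⟨A', hA'⟩ := dag_units σ (A : GL (Fin n) K)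
  obtain ⟨B', hB'⟩ := dag_units σ (B : GL (Fin n) K)
  have hA1 : A' * (A : GL (Fin n) K) = 1 := Units.ext (by
    rw [Units.val_mul, hA', Units.val_one]; exact (mem_gu_iff_dag hK σ hσ hσσ _).1 A.2)
  have hB1 : B' * (B : GL (Fin n) K) = 1 := Units.ext (by
    rw [Units.val_mul, hB', Units.val_one]; exact (mem_gu_iff_dag hK σ hσ hσσ _).1 B.2)
  have hgA : g * (A : GL (Fin n) K) = (B : GL (Fin n) K) * g := mul_inv_eq_iff_eq_mul.1 hg
  have hgA' : A' * g' = g' * B' := Units.ext (by
    rw [Units.val_mul, Units.val_mul, hA', hg', hB', ← dag_mul, ← dag_mul, ← Units.val_mul,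
      ← Units.val_mul, hgA])
  -- `h = g† g` is fixed by `A`
  have hcomm : A' * (g' * g) * (A : GL (Fin n) K) = g' * g := by
    rw [← mul_assoc, hgA', mul_assoc, mul_assoc, hgA, ← mul_assoc B', hB1, one_mul]
  have hcomm' : Commute (((g' * g : GL (Fin n) K)) : Matrix (Fin n) (Fin n) K)
      ((A : GL (Fin n) K) : Matrix (Fin n) (Fin n) K) := by
    show _ = _
    rw [← Units.val_mul, ← Units.val_mul]
    refine congrArg Units.val (mul_left_cancel (a := A') ?_)
    rw [← mul_assoc, hcomm, ← mul_assoc, hA1, one_mul]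
  obtain ⟨k, hk, hkA⟩ := exists_norm_in_algebra hK σ hσ hσ2 (h := g' * g) (by
    rw [Units.val_mul, dag_mul, hg', dag_dag σ hσσ])
  obtain ⟨k', hk'⟩ := dag_units σ k
  have hk1 : k' * k = g' * g := Units.ext (by rw [Units.val_mul, hk', hk])
  have hku : k * (A : GL (Fin n) K) = (A : GL (Fin n) K) * k := Units.ext (hkA _ hcomm')
  have hu : g * k⁻¹ ∈ Cfsg.GU n K q := by
    rw [mem_gu_iff_dag hK σ hσ hσσ, Units.val_mul, dag_mul]
    obtain ⟨c, hc⟩ := dag_units σ k⁻¹
    have hck : c = k'⁻¹ := by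
      refine eq_inv_of_mul_eq_one_left (Units.ext ?_)
      rw [Units.val_mul, hc, hk', ← dag_mul, Units.mul_inv, dag_one, Units.val_one]
    rw [← hc, ← hg', ← Units.val_mul, ← Units.val_mul, ← Units.val_mul, hck, ← Units.val_one]
    refine congrArg Units.val ?_
    rw [mul_assoc, ← mul_assoc g', ← hk1, mul_assoc k', mul_inv_cancel, mul_one, inv_mul_cancel]
  refine isConj_iff.2 ⟨⟨_, hu⟩, Subtype.ext ?_⟩
  show g * k⁻¹ * (A : GL (Fin n) K) * (g * k⁻¹)⁻¹ = (B : GL (Fin n) K)
  rw [_root_.mul_inv_rev, inv_inv]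
  calc g * k⁻¹ * (A : GL (Fin n) K) * (k * g⁻¹) = g * (k⁻¹ * ((A : GL (Fin n) K) * k)) * g⁻¹ := by
        simp only [mul_assoc]
    _ = (B : GL (Fin n) K) := by rw [← hku, inv_mul_cancel_left, hgA, mul_inv_cancel_right]

/-- In the cyclic algebra there is `z` with `z + z† T` invertible. -/
theorem exists_hilbert_unit (hK : Fintype.card K = q ^ 2) (σ : K ≃+* K) (hσ : ∀ x, σ x = x ^ q)
    (hσσ : ∀ x, σ (σ x) = x) {m : ℕ} (hm : 0 < m) :
    ∃ P W : K[X], (X ^ m - 1 : K[X]) ∣ (P + (P.map (σ : K →+* K)).comp (X ^ (m - 1)) * X) * W - 1 := by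
  classical
  obtain ⟨θ, hθ⟩ : ∃ θ, σ θ ≠ θ := by
    by_contra h
    push Not at h
    exact qFrob_ne_id hK (RingHom.ext fun x => by rw [qFrob_apply, ← hσ, h]; rfl)
  set f : K[X] := X ^ m - 1 with hf
  have hmon : f.Monic := by rw [hf, ← C_1]; exact monic_X_pow_sub_C _ hm.ne'
  have : Module.Finite K (AdjoinRoot f) := (AdjoinRoot.powerBasis' hmon).finite
  have : Finite (AdjoinRoot f) := Module.finite_of_finite K
  set T := AdjoinRoot.root f with hTdef
  have hroot : T ^ m = 1 := by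
    have := AdjoinRoot.eval₂_root f
    rw [Polynomial.eval₂_congr rfl rfl hf] at this
    simpa [sub_eq_zero] using this
  have hinv : T * T ^ (m - 1) = 1 := by rw [← pow_succ', Nat.sub_add_cancel hm, hroot]
  let star : AdjoinRoot f →+* AdjoinRoot f :=
    AdjoinRoot.lift ((AdjoinRoot.of f).comp (σ : K →+* K)) (T ^ (m - 1)) (by
      rw [Polynomial.eval₂_congr rfl rfl hf, eval₂_sub, eval₂_pow, eval₂_X, eval₂_one, ← pow_mul,
        mul_comm, pow_mul, hroot, one_pow, sub_self])
  have hsC : ∀ c, star (AdjoinRoot.of f c) = AdjoinRoot.of f (σ c) := fun c => AdjoinRoot.lift_of _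
  have hsT : star T = T ^ (m - 1) := AdjoinRoot.lift_root _
  have hss : ∀ x, star (star x) = x := by
    have hext : (star.comp star).comp (AdjoinRoot.mk f) = AdjoinRoot.mk f := by
      refine Polynomial.ringHom_ext (fun c => ?_) ?_
      · simp only [RingHom.comp_apply, AdjoinRoot.mk_C, hsC, hσσ]
      · simp only [RingHom.comp_apply, AdjoinRoot.mk_X, ← hTdef]
        rw [hsT, map_pow, hsT]
        have h1 : star T * star (T ^ (m - 1)) = 1 := by rw [← map_mul, hinv, map_one]
        rw [hsT, map_pow, hsT] at h1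
        exact (left_inv_eq_right_inv hinv h1).symm
    intro x
    obtain ⟨P, rfl⟩ := AdjoinRoot.mk_surjective x
    exact RingHom.congr_fun hext P
  have hsurj : Function.Surjective star := fun x => ⟨star x, hss x⟩
  let ι := {M : Ideal (AdjoinRoot f) // M.IsMaximal}
  let conjM : ι → ι := fun M =>
    ⟨Ideal.comap star M.1, have := M.2; Ideal.comap_isMaximal_of_surjective star hsurj⟩
  have hconj2 : ∀ M, conjM (conjM M) = M := fun M => Subtype.ext (Ideal.ext fun x => by
    simp [conjM, hss])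
  have : Finite (Ideal (AdjoinRoot f)) :=
    Finite.of_injective (fun I => (I : Set (AdjoinRoot f))) SetLike.coe_injective
  let e := Finite.equivFin ι
  let c : ι → AdjoinRoot f := fun M =>
    if conjM M = M then (if T + 1 ∈ M.1 then AdjoinRoot.of f θ else 1)
    else if e M < e (conjM M) then 1 else 0
  obtain ⟨z, hz⟩ := exists_forall_max_sub_mem c
  have hunit : IsUnit (z + star z * T) := by
    by_contra hnu
    obtain ⟨M, hM, hmem⟩ := exists_max_ideal_of_mem_nonunits (mem_nonunits_iff.2 hnu)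
    obtain ⟨Mi, hMi⟩ : ∃ Mi : ι, Mi.1 = M := ⟨⟨M, hM⟩, rfl⟩
    have hprime := hM.isPrime
    have hTu : T ∉ M := fun h => hM.ne_top (M.eq_top_iff_one.2 (hinv ▸ Ideal.mul_mem_right _ M h))
    have h1 : star z - star (c (conjM Mi)) ∈ M := by
      rw [← map_sub, ← hMi]
      exact hz (conjM Mi)
    have h2 : c Mi + star (c (conjM Mi)) * T ∈ M := by
      have := M.sub_mem (M.sub_mem hmem (hMi ▸ hz Mi)) (Ideal.mul_mem_right T M h1)
      convert this using 1
      ring
    by_cases hself : conjM Mi = Mi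
    · rw [hself] at h2
      by_cases hT : T + 1 ∈ M
      · rw [show c Mi = AdjoinRoot.of f θ by
          simp only [c]; rw [if_pos hself, if_pos (by rw [hMi]; exact hT)], hsC] at h2
        have h3 : AdjoinRoot.of f (θ - σ θ) ∈ M := by
          have := M.sub_mem h2 (Ideal.mul_mem_left M (AdjoinRoot.of f (σ θ)) hT)
          convert this using 1
          rw [map_sub]; ring
        exact hM.ne_top (Ideal.eq_top_of_isUnit_mem _ h3
          ((isUnit_iff_ne_zero.2 (sub_ne_zero.2 (Ne.symm hθ))).map _))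
      · rw [show c Mi = 1 by simp only [c]; rw [if_pos hself, if_neg (by rw [hMi]; exact hT)],
          map_one, one_mul, add_comm] at h2
        exact hT h2
    · rcases lt_or_gt_of_ne (fun h => hself (e.injective h).symm : e Mi ≠ e (conjM Mi)) with hlt | hlt
      · rw [show c Mi = 1 by simp only [c]; rw [if_neg hself, if_pos hlt],
          show c (conjM Mi) = 0 by
            simp only [c]; rw [hconj2, if_neg (Ne.symm hself), if_neg hlt.not_gt],
          map_zero, zero_mul, add_zero] at h2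
        exact hM.ne_top (M.eq_top_iff_one.2 h2)
      · rw [show c Mi = 0 by simp only [c]; rw [if_neg hself, if_neg hlt.not_gt],
          show c (conjM Mi) = 1 by
            simp only [c]; rw [hconj2, if_neg (Ne.symm hself), if_pos hlt],
          map_one, one_mul, zero_add] at h2
        exact hTu h2
  obtain ⟨P, hP⟩ := AdjoinRoot.mk_surjective z
  obtain ⟨W, hW⟩ := AdjoinRoot.mk_surjective (↑hunit.unit⁻¹ : AdjoinRoot f)
  refine ⟨P, W, AdjoinRoot.mk_eq_mk.1 ?_⟩
  have hcomp : (AdjoinRoot.mk f).comp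
      ((Polynomial.compRingHom (X ^ (m - 1) : K[X])).comp (Polynomial.mapRingHom (σ : K →+* K))) =
      star.comp (AdjoinRoot.mk f) := by
    refine Polynomial.ringHom_ext (fun c => ?_) ?_
    · simp [hsC]
    · simp [hsT, ← hTdef]
  have hPs : AdjoinRoot.mk f ((P.map (σ : K →+* K)).comp (X ^ (m - 1))) = star z := by
    rw [← hP]; exact RingHom.congr_fun hcomp P
  rw [map_mul, map_add, map_mul, hP, hPs, AdjoinRoot.mk_X, ← hTdef, hW, map_one]
  exact hunit.mul_val_inv

theorem exists_invariant_hermitian (hK : Fintype.card K = q ^ 2) (σ : K ≃+* K)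
    (hσ : ∀ x, σ x = x ^ q) (hσσ : ∀ x, σ (σ x) = x) (A A' g g' : GL (Fin n) K)
    (hA' : (A' : Matrix (Fin n) (Fin n) K) = dag σ (A : Matrix (Fin n) (Fin n) K))
    (hg' : (g' : Matrix (Fin n) (Fin n) K) = dag σ (g : Matrix (Fin n) (Fin n) K))
    (hinv : A' * g * A = g) :
    ∃ h : GL (Fin n) K, dag σ (h : Matrix (Fin n) (Fin n) K) = (h : Matrix (Fin n) (Fin n) K) ∧
      A' * h * A = h := by
  obtain ⟨T, hT⟩ : ∃ T, T = g⁻¹ * g' := ⟨_, rfl⟩
  have hinv' : A' * g' * A = g' := Units.ext (by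
    have h := congrArg (dag σ) (congrArg Units.val hinv)
    simp only [Units.val_mul, dag_mul, hA', dag_dag σ hσσ] at h
    simp only [Units.val_mul, hA', hg']
    rw [mul_assoc]; exact h)
  have hgT : g' = g * T := by rw [hT, mul_inv_cancel_left]
  have hTA : T * A = A * T := by
    have h1 : A' * g * (T * A) = A' * g * (A * T) := by
      rw [← mul_assoc (A' * g), mul_assoc A' g T, ← hgT, hinv', ← mul_assoc, hinv, ← hgT]
    exact mul_left_cancel h1
  obtain ⟨T', hT'⟩ := dag_units σ T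
  have hT'g : T' * g = g * T⁻¹ := by
    have h1 : T' * g' = g := Units.ext (by
      rw [Units.val_mul, hT', hg', ← dag_mul, ← Units.val_mul, ← hgT, hg', dag_dag σ hσσ])
    rw [hgT, ← mul_assoc] at h1
    exact eq_mul_inv_of_mul_eq h1
  obtain ⟨P, W, hPW⟩ := exists_hilbert_unit hK σ hσ hσσ (orderOf_pos T)
  set Tm : Matrix (Fin n) (Fin n) K := (T : Matrix (Fin n) (Fin n) K) with hTm
  set m := orderOf T with hm
  let ev : K[X] →ₐ[K] Matrix (Fin n) (Fin n) K := Polynomial.aeval Tm
  have hTinv : Tm ^ (m - 1) = ((T⁻¹ : GL (Fin n) K) : Matrix (Fin n) (Fin n) K) := by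
    rw [hTm, ← Units.val_pow_eq_pow_val]
    refine congrArg Units.val (eq_inv_of_mul_eq_one_left ?_)
    rw [← pow_succ, Nat.sub_add_cancel (orderOf_pos T), pow_orderOf_eq_one]
  have hdag : ∀ R : K[X], dag σ (ev R) * (g : Matrix (Fin n) (Fin n) K) =
      (g : Matrix (Fin n) (Fin n) K) * ev ((R.map (σ : K →+* K)).comp (X ^ (m - 1))) := by
    intro R
    induction R using Polynomial.induction_on' with
    | add p r hp hr =>
      rw [map_add, dag_add, add_mul, hp, hr, Polynomial.map_add, add_comp, map_add, mul_add]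
    | monomial k c =>
      have hk : dag σ Tm ^ k * (g : Matrix (Fin n) (Fin n) K) =
          (g : Matrix (Fin n) (Fin n) K) * (Tm ^ (m - 1)) ^ k := by
        rw [hTinv, hTm, ← hT', ← Units.val_pow_eq_pow_val, ← Units.val_pow_eq_pow_val,
          ← Units.val_mul, ← Units.val_mul]
        exact congrArg Units.val
          ((show SemiconjBy g T⁻¹ T' from hT'g.symm).pow_right k).eq.symm
      simp only [← C_mul_X_pow_eq_monomial, Polynomial.map_mul, Polynomial.map_C, Polynomial.map_pow,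
        Polynomial.map_X, mul_comp, C_comp, pow_comp, X_comp, map_mul, map_pow, ev,
        Polynomial.aeval_C, Polynomial.aeval_X, Algebra.algebraMap_eq_smul_one, smul_mul_assoc,
        one_mul, dag_smul, dag_pow, mul_smul_comm, RingHom.coe_coe, hk]
  have hevA : ∀ R : K[X], Commute (ev R) (A : Matrix (Fin n) (Fin n) K) := fun R => by
    induction R using Polynomial.induction_on' with
    | add p r hp hr => rw [map_add]; exact hp.add_left hr
    | monomial k c =>
      rw [Polynomial.aeval_monomial]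
      refine (Algebra.commute_algebraMap_left c _).mul_left (Commute.pow_left ?_ k)
      show Tm * _ = _ * Tm
      rw [hTm, ← Units.val_mul, hTA, Units.val_mul]
  obtain ⟨U, hU⟩ : ∃ U, U = P + (P.map (σ : K →+* K)).comp (X ^ (m - 1)) * X := ⟨_, rfl⟩
  have hUu : IsUnit (ev U) := by
    obtain ⟨V, hV⟩ := hPW
    have h := congrArg ev hV
    rw [← hU, map_sub, map_mul, map_one, map_mul (f := ev) (X ^ m - 1), map_sub, map_pow, map_one,
      show ev X = Tm from Polynomial.aeval_X _, hTm, ← Units.val_pow_eq_pow_val, hm,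
      pow_orderOf_eq_one, Units.val_one, sub_self, zero_mul, sub_eq_zero] at h
    exact ⟨⟨_, _, h, by rw [← h, ← map_mul, ← map_mul, mul_comm]⟩, rfl⟩
  refine ⟨g * hUu.unit, ?_, ?_⟩
  · rw [Units.val_mul, IsUnit.unit_spec, hU, map_add, map_mul, show ev X = Tm from Polynomial.aeval_X _,
      mul_add, ← mul_assoc, ← hdag, dag_add, dag_mul, dag_mul, dag_mul, dag_dag σ hσσ,
      mul_assoc, ← hg', hgT, Units.val_mul, ← hTm]
    have h1 : dag σ Tm * ((g : Matrix (Fin n) (Fin n) K) * Tm) = (g : Matrix (Fin n) (Fin n) K) := by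
      rw [hTm, ← hT', ← Units.val_mul, ← Units.val_mul, ← mul_assoc, hT'g, inv_mul_cancel_right]
    rw [← mul_assoc (dag σ Tm), h1, add_comm]
  · refine Units.ext ?_
    rw [Units.val_mul, Units.val_mul, Units.val_mul, IsUnit.unit_spec, mul_assoc, mul_assoc,
      (hevA U).eq, ← mul_assoc, ← mul_assoc, ← Units.val_mul, ← Units.val_mul, hinv]

theorem exists_gu_conj_iff (hK : Fintype.card K = q ^ 2) (A : GL (Fin n) K) :
    (∃ B : ↥(Cfsg.GU n K q), IsConj A (B : GL (Fin n) K)) ↔
      IsConj (A : Matrix (Fin n) (Fin n) K)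
        (((A : Matrix (Fin n) (Fin n) K).map (fun x : K => x ^ q)).transpose)⁻¹ := by
  obtain ⟨σ, hσ, hσ2, hσσ⟩ := exists_conjugation hK
  obtain ⟨A', hA'⟩ := dag_units σ A
  have hX : (((A : Matrix (Fin n) (Fin n) K).map (fun x : K => x ^ q)).transpose)⁻¹ =
      ((A'⁻¹ : GL (Fin n) K) : Matrix (Fin n) (Fin n) K) := by
    rw [Matrix.coe_units_inv, hA', dag, show (fun x : K => x ^ q) = (σ : K → K) from
      funext fun x => (hσ x).symm]
  rw [hX]
  constructor
  · rintro ⟨B, hB⟩
    obtain ⟨g, hg⟩ := isConj_iff.1 hB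
    obtain ⟨g', hg'⟩ := dag_units σ g
    obtain ⟨B', hB'⟩ := dag_units σ (B : GL (Fin n) K)
    have hB1 : B' * (B : GL (Fin n) K) = 1 := Units.ext (by
      rw [Units.val_mul, hB', Units.val_one]; exact (mem_gu_iff_dag hK σ hσ hσσ _).1 B.2)
    have hgA : g * A = (B : GL (Fin n) K) * g := mul_inv_eq_iff_eq_mul.1 hg
    have hgA' : A' * g' = g' * B' := Units.ext (by
      rw [Units.val_mul, Units.val_mul, hA', hg', hB', ← dag_mul, ← dag_mul, ← Units.val_mul,
        ← Units.val_mul, hgA])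
    have hinv : A' * (g' * g) * A = g' * g := by
      rw [← mul_assoc, hgA', mul_assoc, mul_assoc, hgA, ← mul_assoc B', hB1, one_mul]
    refine ⟨g' * g, ?_⟩
    show ((g' * g : GL (Fin n) K) : Matrix (Fin n) (Fin n) K) * _ = _ * _
    rw [← Units.val_mul, ← Units.val_mul]
    refine congrArg Units.val (eq_inv_mul_of_mul_eq ?_)
    rw [← mul_assoc, hinv]
  · rintro ⟨g, hg⟩
    have hg2 : g * A = A'⁻¹ * g := Units.ext (by rw [Units.val_mul, Units.val_mul]; exact hg)
    obtain ⟨g', hg'⟩ := dag_units σ g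
    obtain ⟨h, hh, hinv⟩ := exists_invariant_hermitian hK σ hσ hσσ A A' g g' hA' hg'
      (by rw [mul_assoc, hg2, mul_inv_cancel_left])
    obtain ⟨c, hc⟩ := exists_congr_one σ hσ2 h (by exact hh)
    obtain ⟨k, hk⟩ := dag_units σ c
    obtain ⟨k', hk'⟩ := dag_units σ k
    have hk1 : k' * k = h := Units.ext (by
      rw [Units.val_mul, hk', hk, dag_dag σ hσσ, hc]; rfl)
    have hmem : k * A * k⁻¹ ∈ Cfsg.GU n K q := by
      rw [mem_gu_iff_dag hK σ hσ hσσ]
      obtain ⟨d, hd⟩ := dag_units σ k⁻¹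
      have hdk : d = k'⁻¹ := by
        refine eq_inv_of_mul_eq_one_left (Units.ext ?_)
        rw [Units.val_mul, hd, hk', ← dag_mul, Units.mul_inv, dag_one, Units.val_one]
      simp only [Units.val_mul, dag_mul]
      rw [← hd, ← hA', ← hk']
      simp only [← Units.val_mul]
      rw [← Units.val_one, hdk]
      refine congrArg Units.val ?_
      calc k'⁻¹ * (A' * k') * (k * A * k⁻¹) = k'⁻¹ * (A' * (k' * k) * A) * k⁻¹ := by
            simp only [mul_assoc]
        _ = 1 := by rw [hk1, hinv, ← hk1]; group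
    exact ⟨⟨_, hmem⟩, isConj_iff.2 ⟨k, rfl⟩⟩

end Main

end CfsgLib.KnownC
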