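import Cfsg.Agent.Lib.KnownC.RegNilCommutant
import Cfsg.Agent.Lib.KnownC.UnitaryConj
import Cfsg.Agent.Lib.Classical.SUCenter

set_option autoImplicit false

/-!
Regular unipotent classes of `SU_n(q)`.
-/

namespace CfsgLib.KnownC

open Matrix CfsgLib.Classical
open scoped MatrixGroups

variable {K : Type*} [Field K] [Fintype K] {q n : ℕ}

theorem dag_sub (σ : K ≃+* K) (M N : Matrix (Fin n) (Fin n) K) :
    dag σ (M - N) = dag σ M - dag σ N := by
  ext i j; simp [dag]

theorem dag_zero (σ : K ≃+* K) : dag σ (0 : Matrix (Fin n) (Fin n) K) = 0 := by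
  ext i j; simp [dag]

theorem isRegNil_iff (hn : 1 ≤ n) (N : Matrix (Fin n) (Fin n) K) :
    IsRegNil N ↔ N ^ n = 0 ∧ N.rank = n - 1 := by
  refine ⟨fun h => ⟨by simpa using h.nil, by simpa using h.rank_eq⟩, fun h => ?_⟩
  exact ⟨by simpa using hn, by simpa using h.1, by simpa using h.2⟩

theorem isRegNil_shiftMat (hn : 1 ≤ n) : IsRegNil (shiftMat n K) :=
  (isRegNil_iff hn _).2 (shiftMat_regular hn)

theorem isConj_of_isRegNil {A B : GL (Fin n) K}
    (hA : IsRegNil ((A : Matrix (Fin n) (Fin n) K) - 1))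
    (hB : IsRegNil ((B : Matrix (Fin n) (Fin n) K) - 1)) : IsConj A B := by
  obtain ⟨g, hg⟩ := hA.exists_conj hB
  rw [mul_sub, sub_mul, mul_one, one_mul, sub_left_inj] at hg
  exact ⟨toUnits g, Units.ext hg⟩

theorem isRegNil_of_conj {A B : GL (Fin n) K}
    (hA : IsRegNil ((A : Matrix (Fin n) (Fin n) K) - 1)) (h : IsConj A B) :
    IsRegNil ((B : Matrix (Fin n) (Fin n) K) - 1) := by
  obtain ⟨g, rfl⟩ := isConj_iff.1 h
  have e : ((g * A * g⁻¹ : GL (Fin n) K) : Matrix (Fin n) (Fin n) K) - 1 =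
      (g : Matrix (Fin n) (Fin n) K) * ((A : Matrix (Fin n) (Fin n) K) - 1) *
        ((g⁻¹ : GL (Fin n) K) : Matrix (Fin n) (Fin n) K) := by
    rw [mul_sub, sub_mul, mul_one, Units.mul_inv, Units.val_mul, Units.val_mul]
  refine ⟨hA.pos, ?_, ?_⟩
  · rw [e, Units.conj_pow, hA.nil, mul_zero, zero_mul]
  · rw [e, Matrix.rank_mul_eq_left_of_isUnit_det _ _
      ((Matrix.isUnit_iff_isUnit_det _).1 (g⁻¹).isUnit),
      Matrix.rank_mul_eq_right_of_isUnit_det _ _ ((Matrix.isUnit_iff_isUnit_det _).1 g.isUnit),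
      hA.rank_eq]

theorem det_eq_one_of_isRegNil {A : GL (Fin n) K}
    (hA : IsRegNil ((A : Matrix (Fin n) (Fin n) K) - 1)) :
    (A : Matrix (Fin n) (Fin n) K).det = 1 := by
  have h : IsNilpotent ((A : Matrix (Fin n) (Fin n) K) - (1 : K) • 1) := by
    rw [one_smul]; exact ⟨_, hA.nil⟩
  rw [IsRegNil.det_eq_scalar_pow h, one_pow]

/-- The unitary group contains a regular unipotent element. -/
theorem exists_regular_gu (hK : Fintype.card K = q ^ 2) (hn : 1 ≤ n) :
    ∃ u : ↥(Cfsg.GU n K q), IsRegNil (((u : GL (Fin n) K) : Matrix (Fin n) (Fin n) K) - 1) := by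
  classical
  obtain ⟨σ, hσ, hσ2, hσσ⟩ := exists_conjugation hK
  have hu : IsUnit (1 + shiftMat n K) :=
    IsNilpotent.isUnit_one_add ⟨n, (shiftMat_regular hn).1⟩
  set A : GL (Fin n) K := hu.unit with hA
  have hAv : (A : Matrix (Fin n) (Fin n) K) = 1 + shiftMat n K := rfl
  have hreg : IsRegNil ((A : Matrix (Fin n) (Fin n) K) - 1) := by
    rw [hAv, add_sub_cancel_left]; exact isRegNil_shiftMat hn
  obtain ⟨A', hA'⟩ := dag_units σ A
  have hM : (((A : Matrix (Fin n) (Fin n) K).map (fun x : K => x ^ q)).transpose)⁻¹ =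
      ((A'⁻¹ : GL (Fin n) K) : Matrix (Fin n) (Fin n) K) := by
    rw [Matrix.coe_units_inv, hA', dag, show (fun x : K => x ^ q) = (σ : K → K) from
      funext fun x => (hσ x).symm]
  have hdreg : IsRegNil ((A' : Matrix (Fin n) (Fin n) K) - 1) := by
    rw [hA', ← dag_one σ, ← dag_sub]
    refine ⟨hreg.pos, by rw [← dag_pow, hreg.nil, dag_zero], ?_⟩
    rw [dag, Matrix.rank_transpose, hAv, add_sub_cancel_left]
    have e : (shiftMat n K).map σ = shiftMat n K := by
      ext i j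
      simp only [Matrix.map_apply, shiftMat, Matrix.of_apply]
      split_ifs <;> simp
    rw [e, (shiftMat_regular hn).2, Fintype.card_fin]
  have hinv : IsRegNil (((A'⁻¹ : GL (Fin n) K) : Matrix (Fin n) (Fin n) K) - 1) := by
    have e : ((A'⁻¹ : GL (Fin n) K) : Matrix (Fin n) (Fin n) K) - 1 =
        -((A'⁻¹ : GL (Fin n) K) : Matrix (Fin n) (Fin n) K) *
          ((A' : Matrix (Fin n) (Fin n) K) - 1) := by
      rw [mul_sub, mul_one, neg_mul, Units.inv_mul]; abel
    have hc : Commute (-((A'⁻¹ : GL (Fin n) K) : Matrix (Fin n) (Fin n) K))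
        ((A' : Matrix (Fin n) (Fin n) K) - 1) :=
      ((Commute.units_inv_left (Commute.refl (A' : Matrix (Fin n) (Fin n) K))).neg_left).sub_right
        (Commute.one_right _)
    refine ⟨hdreg.pos, by rw [e, hc.mul_pow, hdreg.nil, mul_zero], ?_⟩
    rw [e, Matrix.rank_mul_eq_right_of_isUnit_det _ _
      ((Matrix.isUnit_iff_isUnit_det _).1 (A'⁻¹).isUnit.neg), hdreg.rank_eq]
  obtain ⟨B, hB⟩ := (exists_gu_conj_iff hK A).2 (by
    rw [hM]; exact (Units.coeHom (Matrix (Fin n) (Fin n) K)).map_isConj (isConj_of_isRegNil hreg hinv))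
  exact ⟨B, isRegNil_of_conj hreg hB⟩

/-- Scalars of unitary matrices commuting with a regular nilpotent have norm one. -/
theorem det_commutant_gu (hK : Fintype.card K = q ^ 2) {N : Matrix (Fin n) (Fin n) K}
    (hN : IsRegNil N) (w : GL (Fin n) K) (hw : w ∈ Cfsg.GU n K q)
    (hc : Commute (w : Matrix (Fin n) (Fin n) K) N) :
    ∃ c : K, c ^ (q + 1) = 1 ∧ (w : Matrix (Fin n) (Fin n) K).det = c ^ n := by
  classical
  obtain ⟨σ, hσ, hσ2, hσσ⟩ := exists_conjugation hK
  haveI : Nonempty (Fin n) := ⟨⟨0, lt_of_lt_of_le Nat.zero_lt_one (by simpa using hN.pos)⟩⟩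
  obtain ⟨c, hnil⟩ := hN.exists_scalar hc
  refine ⟨c, ?_, by simpa using IsRegNil.det_eq_scalar_pow hnil⟩
  have h1 := (mem_gu_iff_dag hK σ hσ hσσ w).1 hw
  set W := (w : Matrix (Fin n) (Fin n) K) with hW
  set D := dag σ W with hD
  have h2 : W * D = 1 := mul_eq_one_comm.1 h1
  have hDn : IsNilpotent (D - σ c • 1) := by
    obtain ⟨k, hk⟩ := hnil
    refine ⟨k, ?_⟩
    rw [show D - σ c • 1 = dag σ (W - c • 1) by rw [dag_sub, dag_smul, dag_one], ← dag_pow, hk,
      dag_zero]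
  have hWD : Commute D W := h1.trans h2.symm
  have hA : IsNilpotent (D * (W - c • 1)) :=
    Commute.isNilpotent_mul_left (hWD.sub_right ((Commute.one_right _).smul_right c)) hnil
  have hB : IsNilpotent (c • (D - σ c • 1)) := hDn.smul c
  have hAB : Commute (D * (W - c • 1)) (c • (D - σ c • 1)) := by
    refine ((Commute.sub_right ?_ ?_).smul_right c)
    · exact (Commute.refl D).mul_left (hWD.symm.sub_left ((Commute.one_left _).smul_left c))
    · exact (Commute.one_right _).smul_right (σ c)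
  have h3 : IsNilpotent ((1 : Matrix (Fin n) (Fin n) K) - (c * σ c) • 1) := by
    have := hAB.isNilpotent_add hA hB
    rwa [mul_sub, h1, mul_smul_comm, mul_one, smul_sub, smul_smul, sub_add_sub_cancel] at this
  have h4 := IsRegNil.scalar_unique (c := c * σ c) (d := 1) h3
    (by rw [one_smul, sub_self]; exact IsNilpotent.zero)
  rw [pow_succ', ← hσ, h4]

theorem exists_gu_det (hK : Fintype.card K = q ^ 2) (hn : 1 ≤ n) (c : K) (hc : c ^ (q + 1) = 1) :
    ∃ s : ↥(Cfsg.GU n K q), ((s : GL (Fin n) K) : Matrix (Fin n) (Fin n) K).det = c := by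
  classical
  have hdet : (Matrix.diagonal (Function.update (1 : Fin n → K) ⟨0, hn⟩ c)).det = c := by
    simp [Matrix.det_diagonal, Finset.prod_update_of_mem]
  let D : GL (Fin n) K := Matrix.GeneralLinearGroup.mk''
    (Matrix.diagonal (Function.update (1 : Fin n → K) ⟨0, hn⟩ c)) (by
      rw [hdet]; exact isUnit_iff_ne_zero.2 fun h => by simp [h] at hc)
  refine ⟨⟨D, (mem_gu_iff hK D).2 ?_⟩, hdet⟩
  change (Matrix.diagonal (Function.update (1 : Fin n → K) ⟨0, hn⟩ c))ᵀ *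
    (Matrix.diagonal (Function.update (1 : Fin n → K) ⟨0, hn⟩ c)).map (qFrob hK) = 1
  rw [Matrix.diagonal_transpose, Matrix.diagonal_map (map_zero _), Matrix.diagonal_mul_diagonal,
    ← Matrix.diagonal_one]
  congr 1
  funext k
  by_cases hk : k = ⟨0, hn⟩
  · subst hk; simp [qFrob_apply, ← pow_succ', hc]
  · simp [Function.update_of_ne hk]

theorem card_su_regular_classes (hK : Fintype.card K = q ^ 2) (hn : 1 ≤ n) :
    Nat.card {C : ConjClasses ↥(Cfsg.SU n K q) // ∃ u : ↥(Cfsg.SU n K q), ConjClasses.mk u = C ∧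
      (((u : GL (Fin n) K) : Matrix (Fin n) (Fin n) K) - 1) ^ n = 0 ∧
      (((u : GL (Fin n) K) : Matrix (Fin n) (Fin n) K) - 1).rank = n - 1} = Nat.gcd n (q + 1) := by
  classical
  obtain ⟨σ, hσ, hσ2, hσσ⟩ := exists_conjugation hK
  obtain ⟨u₀, hu₀⟩ := exists_regular_gu hK hn
  let toSU : (g : GL (Fin n) K) → g ∈ Cfsg.GU n K q →
      (g : Matrix (Fin n) (Fin n) K).det = 1 → ↥(Cfsg.SU n K q) :=
    fun g hg hd => ⟨⟨g, hd⟩, fun u v => hg u v⟩
  let toGL : ↥(Cfsg.SU n K q) → ↥(Cfsg.GU n K q) :=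
    fun s => ⟨Matrix.SpecialLinearGroup.toGL s.1, fun u v => s.2 u v⟩
  let μ : Subgroup Kˣ := (powMonoidHom (q + 1) : Kˣ →* Kˣ).ker
  have hμ : ∀ c : μ, ((c.1 : Kˣ) : K) ^ (q + 1) = 1 := fun c => by
    simpa using congrArg Units.val (MonoidHom.mem_ker.1 c.2)
  choose s hs using fun c : μ => exists_gu_det hK hn _ (hμ c)
  let cl : μ → ↥(Cfsg.SU n K q) := fun c =>
    toSU ((s c * u₀ * (s c)⁻¹ : ↥(Cfsg.GU n K q)) : GL (Fin n) K) (s c * u₀ * (s c)⁻¹).2 (by
      refine det_eq_one_of_isRegNil (isRegNil_of_conj hu₀ ?_)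
      exact isConj_iff.2 ⟨((s c : ↥(Cfsg.GU n K q)) : GL (Fin n) K), rfl⟩)
  have hcl : ∀ c, toGL (cl c) = s c * u₀ * (s c)⁻¹ := fun c => Subtype.ext (Units.ext rfl)
  have hreg : ∀ (x : ↥(Cfsg.SU n K q)),
      ((((x : GL (Fin n) K) : Matrix (Fin n) (Fin n) K) - 1) ^ n = 0 ∧
        (((x : GL (Fin n) K) : Matrix (Fin n) (Fin n) K) - 1).rank = n - 1) ↔
      IsRegNil (((toGL x : GL (Fin n) K) : Matrix (Fin n) (Fin n) K) - 1) := fun x =>
    (isRegNil_iff hn _).symm
  let Φ : μ → {C : ConjClasses ↥(Cfsg.SU n K q) // ∃ u : ↥(Cfsg.SU n K q), ConjClasses.mk u = C ∧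
      (((u : GL (Fin n) K) : Matrix (Fin n) (Fin n) K) - 1) ^ n = 0 ∧
      (((u : GL (Fin n) K) : Matrix (Fin n) (Fin n) K) - 1).rank = n - 1} := fun c =>
    ⟨ConjClasses.mk (cl c), cl c, rfl, (hreg _).2 (by
      rw [hcl]
      exact isRegNil_of_conj hu₀ (isConj_iff.2 ⟨((s c : ↥(Cfsg.GU n K q)) : GL (Fin n) K), rfl⟩))⟩
  let P : Subgroup μ := (powMonoidHom n : μ →* μ).range
  have htoGL : ∀ a b, toGL (a * b) = toGL a * toGL b := fun a b => Subtype.ext (Units.ext rfl)
  have hker : ∀ c d : μ, Φ c = Φ d ↔ c⁻¹ * d ∈ P := by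
    intro c d
    rw [Subtype.ext_iff, show (Φ c).1 = ConjClasses.mk (cl c) from rfl,
      show (Φ d).1 = ConjClasses.mk (cl d) from rfl, ConjClasses.mk_eq_mk_iff_isConj, isConj_iff]
    constructor
    · rintro ⟨t, ht⟩
      have ht' : toGL t * toGL (cl c) = toGL (cl d) * toGL t := by
        rw [← htoGL, ← htoGL, ← ht, inv_mul_cancel_right]
      rw [hcl, hcl] at ht'
      set w := (s d)⁻¹ * toGL t * s c with hw
      have hcomm : w * u₀ = u₀ * w := by
        calc w * u₀ = (s d)⁻¹ * (toGL t * (s c * u₀ * (s c)⁻¹)) * s c := by rw [hw]; group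
          _ = u₀ * w := by rw [ht', hw]; group
      obtain ⟨e, he, hdet⟩ := det_commutant_gu hK hu₀ (w : GL (Fin n) K) w.2 (by
        refine Commute.sub_right ?_ (Commute.one_right _)
        exact congrArg (fun x : ↥(Cfsg.GU n K q) => ((x : GL (Fin n) K) : Matrix (Fin n) (Fin n) K))
          hcomm)
      have hd : ((s d * w : ↥(Cfsg.GU n K q)) : GL (Fin n) K) =
          ((toGL t * s c : ↥(Cfsg.GU n K q)) : GL (Fin n) K) := by
        rw [hw]; group
      have hd' := congrArg (fun x : GL (Fin n) K => (x : Matrix (Fin n) (Fin n) K).det) hd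
      simp only [Subgroup.coe_mul, Units.val_mul, Matrix.det_mul, hs, hdet] at hd'
      rw [show (((toGL t : ↥(Cfsg.GU n K q)) : GL (Fin n) K) : Matrix (Fin n) (Fin n) K).det = 1
        from t.1.2, one_mul] at hd'
      -- `hd' : d * e ^ n = c`
      have he0 : e ≠ 0 := fun h => by simp [h] at he
      refine ⟨⟨(Units.mk0 e he0)⁻¹, ?_⟩, ?_⟩
      · refine inv_mem (MonoidHom.mem_ker.2 (Units.ext ?_))
        simpa using he
      · refine Subtype.ext (Units.ext ?_)
        have hd0 := (d.1).ne_zero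
        simp only [powMonoidHom_apply, Subgroup.coe_pow, Units.val_pow_eq_pow_val, Units.val_inv_eq_inv_val,
          Units.val_mk0, Subgroup.coe_mul, Subgroup.coe_inv, Units.val_mul, ← hd', inv_pow]
        field_simp
    · rintro ⟨⟨e, hem⟩, he⟩
      -- the scalar `e⁻¹` moves the determinant
      have he1 : ((e : Kˣ) : K) ^ (q + 1) = 1 := hμ ⟨e, hem⟩
      let z : GL (Fin n) K := Units.map (algebraMap K (Matrix (Fin n) (Fin n) K)).toMonoidHom e⁻¹
      have hz : z ∈ Cfsg.GU n K q := by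
        rw [mem_gu_iff_dag hK σ hσ hσσ]
        show dag σ (algebraMap K _ ((e⁻¹ : Kˣ) : K)) * algebraMap K _ ((e⁻¹ : Kˣ) : K) = 1
        rw [Algebra.algebraMap_eq_smul_one, dag_smul, dag_one, smul_mul_assoc, one_mul, smul_smul, hσ,
          ← pow_succ, Units.val_inv_eq_inv_val, inv_pow, he1, inv_one, one_smul]
      have hzdet : (z : Matrix (Fin n) (Fin n) K).det = (((e : Kˣ) : K) ^ n)⁻¹ := by
        show (algebraMap K (Matrix (Fin n) (Fin n) K) ((e⁻¹ : Kˣ) : K)).det = _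
        rw [Algebra.algebraMap_eq_smul_one, Matrix.det_smul, Matrix.det_one, mul_one,
          Fintype.card_fin, Units.val_inv_eq_inv_val, inv_pow]
      set t₀ : ↥(Cfsg.GU n K q) := s d * ⟨z, hz⟩ * (s c)⁻¹ with ht₀
      have hec : ((e : Kˣ) : K) ^ n = ((c.1 : Kˣ) : K)⁻¹ * ((d.1 : Kˣ) : K) := by
        simpa using congrArg (fun x : μ => ((x.1 : Kˣ) : K)) he
      have hdet : ((t₀ : GL (Fin n) K) : Matrix (Fin n) (Fin n) K).det = 1 := by
        have h1 : ((((s c)⁻¹ : ↥(Cfsg.GU n K q)) : GL (Fin n) K) : Matrix (Fin n) (Fin n) K).det =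
            ((c.1 : Kˣ) : K)⁻¹ := by
          refine eq_inv_of_mul_eq_one_left ?_
          rw [← hs c, ← Matrix.det_mul, ← Units.val_mul, ← Subgroup.coe_mul, inv_mul_cancel]
          simp
        simp only [ht₀, Subgroup.coe_mul, Units.val_mul, Matrix.det_mul, hs, hzdet, h1, hec]
        have hc0 := (c.1).ne_zero
        have hd0 := (d.1).ne_zero
        field_simp
      refine ⟨toSU _ t₀.2 hdet, ?_⟩
      have hcomm : (⟨z, hz⟩ : ↥(Cfsg.GU n K q)) * u₀ = u₀ * ⟨z, hz⟩ :=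
        Subtype.ext (Units.ext (Algebra.commutes _ _))
      have hinj : Function.Injective toGL := fun a b hab => Subtype.ext (Subtype.ext
        (congrArg (fun x : ↥(Cfsg.GU n K q) => ((x : GL (Fin n) K) : Matrix (Fin n) (Fin n) K)) hab))
      rw [mul_inv_eq_iff_eq_mul]
      refine hinj ?_
      rw [htoGL, htoGL, hcl, hcl, show toGL (toSU _ t₀.2 hdet) = t₀ from Subtype.ext (Units.ext rfl),
        ht₀]
      calc s d * ⟨z, hz⟩ * (s c)⁻¹ * (s c * u₀ * (s c)⁻¹) = s d * (⟨z, hz⟩ * u₀) * (s c)⁻¹ := by group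
        _ = _ := by rw [hcomm]; group
  let Ψ : μ ⧸ P → _ := Quotient.lift Φ fun a b h => (hker a b).2 (QuotientGroup.leftRel_apply.1 h)
  have hΨ : Function.Bijective Ψ := by
    refine ⟨fun a b => ?_, ?_⟩
    · obtain ⟨a, rfl⟩ := QuotientGroup.mk_surjective a
      obtain ⟨b, rfl⟩ := QuotientGroup.mk_surjective b
      exact fun h => QuotientGroup.eq.2 ((hker a b).1 h)
    · rintro ⟨C, u, rfl, hu⟩
      obtain ⟨g, hg⟩ := isConj_iff.1 ((isConj_gu_iff hK u₀ (toGL u)).2
        (isConj_of_isRegNil hu₀ ((hreg u).1 hu)))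
      set c₀ := ((g : GL (Fin n) K) : Matrix (Fin n) (Fin n) K).det with hc₀
      have hc1 : c₀ ^ (q + 1) = 1 := by
        have h := congrArg Matrix.det ((mem_gu_iff_dag hK σ hσ hσσ _).1 g.2)
        rw [Matrix.det_mul, Matrix.det_one, dag, Matrix.det_transpose] at h
        have e : ((((g : GL (Fin n) K) : Matrix (Fin n) (Fin n) K)).map σ).det = σ c₀ := by
          rw [hc₀, RingEquiv.map_det]; rfl
        rw [e, hσ, ← pow_succ] at h
        exact h
      let c : μ := ⟨Units.mk0 c₀ (fun h => by simp [h] at hc1),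
        MonoidHom.mem_ker.2 (Units.ext (by simpa using hc1))⟩
      refine ⟨QuotientGroup.mk c, Subtype.ext ?_⟩
      show ConjClasses.mk (cl c) = ConjClasses.mk u
      rw [ConjClasses.mk_eq_mk_iff_isConj, isConj_iff]
      set t₀ := g * (s c)⁻¹ with ht₀
      have hdet : ((t₀ : GL (Fin n) K) : Matrix (Fin n) (Fin n) K).det = 1 := by
        have h : ((t₀ * s c : ↥(Cfsg.GU n K q)) : GL (Fin n) K) = (g : GL (Fin n) K) := by
          rw [ht₀, inv_mul_cancel_right]
        have h' := congrArg (fun x : GL (Fin n) K => (x : Matrix (Fin n) (Fin n) K).det) h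
        simp only [Subgroup.coe_mul, Units.val_mul, Matrix.det_mul, hs] at h'
        exact (mul_eq_right₀ (c.1).ne_zero).1 h'
      have hinj : Function.Injective toGL := fun a b hab => Subtype.ext (Subtype.ext
        (congrArg (fun x : ↥(Cfsg.GU n K q) => ((x : GL (Fin n) K) : Matrix (Fin n) (Fin n) K)) hab))
      refine ⟨toSU _ t₀.2 hdet, ?_⟩
      rw [mul_inv_eq_iff_eq_mul]
      refine hinj ?_
      rw [htoGL, htoGL, hcl, show toGL (toSU _ t₀.2 hdet) = t₀ from Subtype.ext (Units.ext rfl),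
        ← hg, ht₀]
      group
  rw [← Nat.card_eq_of_bijective Ψ hΨ, ← Subgroup.index_eq_card,
    IsCyclic.index_powMonoidHom_range, show Nat.card μ = q + 1 from ?_, Nat.gcd_comm]
  rw [IsCyclic.card_powMonoidHom_ker, Nat.card_units, Nat.card_eq_fintype_card, hK]
  refine Nat.gcd_eq_right ⟨q - 1, ?_⟩
  rw [show q ^ 2 = q * q from sq q, ← Nat.mul_self_sub_mul_self_eq q 1]

end CfsgLib.KnownC
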