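import Cfsg.Agent.Lib.KnownC.GUCentraliserModel
import Cfsg.Agent.Lib.KnownC.RegularUnipotentUnitary
import Cfsg.Agent.Lib.KnownC.JordanTypeForms

set_option autoImplicit false

/-!
The order of the centraliser of a unipotent element in `GU_n(q)`.
-/

namespace CfsgLib.KnownC.JordanHerm

open Matrix CfsgLib.Classical CfsgLib.KnownC CfsgLib.KnownC.JordanComm
open scoped MatrixGroups

variable {K : Type*} [Field K] [Fintype K] {q n t : ℕ}

/-- A Hermitian matrix invariant under a Jordan block. -/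
theorem exists_block_herm (hK : Fintype.card K = q ^ 2) (σ : K ≃+* K) (hσ : ∀ x, σ x = x ^ q)
    (hσσ : ∀ x, σ (σ x) = x) {j : ℕ} (hj : 1 ≤ j) :
    ∃ P : Matrix (Fin j) (Fin j) K, IsUnit P ∧ dag σ P = P ∧
      (Cfsg.jordanBlock j K)ᵀ * P * Cfsg.jordanBlock j K = P := by
  obtain ⟨u, hu⟩ := exists_regular_gu hK hj
  have hBu : IsUnit (Cfsg.jordanBlock j K) := isUnit_jordanBlock j
  obtain ⟨g, hg⟩ := isConj_iff.1 (isConj_of_isRegNil (A := hBu.unit) (B := (u : GL (Fin j) K))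
    (isRegNil_jordanBlock hj) hu)
  have hg' : (g : Matrix (Fin j) (Fin j) K) * Cfsg.jordanBlock j K =
      ((u : GL (Fin j) K) : Matrix (Fin j) (Fin j) K) * (g : Matrix (Fin j) (Fin j) K) :=
    congrArg Units.val (mul_inv_eq_iff_eq_mul.1 hg)
  have hdJ : dag σ (Cfsg.jordanBlock j K) = (Cfsg.jordanBlock j K)ᵀ := by
    ext a b
    simp only [dag, Cfsg.jordanBlock, Matrix.transpose_apply, Matrix.map_apply, Matrix.of_apply]
    split_ifs <;> simp
  refine ⟨dag σ g.1 * g.1, (dag_isUnit σ g.isUnit).mul g.isUnit, ?_, ?_⟩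
  · rw [dag_mul, dag_dag σ hσσ]
  · rw [← hdJ, ← mul_assoc, ← dag_mul, mul_assoc, hg', dag_mul, mul_assoc (dag σ g.1),
      ← mul_assoc (dag σ ((u : GL (Fin j) K) : Matrix (Fin j) (Fin j) K)),
      (mem_gu_iff_dag hK σ hσ hσσ _).1 u.2, one_mul]

theorem last_column_low {j : ℕ} (hj : 1 ≤ j) {P : Matrix (Fin j) (Fin j) K}
    (hP : (Cfsg.jordanBlock j K)ᵀ * P * Cfsg.jordanBlock j K = P) (a : Fin j) (ha : 0 < (a : ℕ)) :
    P a ⟨j - 1, by omega⟩ = 0 := by
  set last : Fin j := ⟨j - 1, by omega⟩ with hlast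
  set v : Fin j → K := fun c => P c last with hv
  have hlast' : ∀ c, Cfsg.jordanBlock j K c last = if c = last then 1 else 0 := by
    intro c
    simp only [Cfsg.jordanBlock, Matrix.of_apply, hlast]
    by_cases h : (c : ℕ) = j - 1
    · rw [if_pos h, if_pos (Fin.ext h)]
    · rw [if_neg h, if_neg (by have := c.2; omega), if_neg (fun e => h (congrArg Fin.val e))]
  have key : ∀ b : Fin j, ∑ c, Cfsg.jordanBlock j K c b * v c = v b := by
    intro b
    have h := congrFun (congrFun hP b) last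
    rw [Matrix.mul_apply, Finset.sum_eq_single last (fun c _ hc => by rw [hlast', if_neg hc, mul_zero])
      (fun hh => absurd (Finset.mem_univ _) hh), hlast', if_pos rfl, mul_one, Matrix.mul_apply] at h
    simpa [hv] using h
  have h := key ⟨(a : ℕ) - 1, by omega⟩
  have hne : (⟨(a : ℕ) - 1, by omega⟩ : Fin j) ≠ a := fun e => by
    have := congrArg Fin.val e
    simp only at this
    omega
  rw [← Finset.add_sum_erase _ _ (Finset.mem_univ (⟨(a : ℕ) - 1, by omega⟩ : Fin j)),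
    Finset.sum_eq_single a] at h
  · simp only [Cfsg.jordanBlock, Matrix.of_apply] at h
    rw [if_pos trivial, if_neg (show ¬ (a : ℕ) = (a : ℕ) - 1 by omega),
      if_pos (show (a : ℕ) = (a : ℕ) - 1 + 1 by omega), one_mul, one_mul] at h
    simpa [hv] using h
  · intro c hc hca
    simp only [Cfsg.jordanBlock, Matrix.of_apply]
    rw [if_neg (fun e => Finset.ne_of_mem_erase hc (Fin.ext e)), if_neg (fun e => hca (Fin.ext (by omega))),
      zero_mul]
  · exact fun hh => absurd (Finset.mem_erase.2 ⟨hne.symm, Finset.mem_univ _⟩) hh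

theorem corner_ne_zero {j : ℕ} (hj : 1 ≤ j) {P : Matrix (Fin j) (Fin j) K} (hu : IsUnit P)
    (hP : (Cfsg.jordanBlock j K)ᵀ * P * Cfsg.jordanBlock j K = P) :
    P ⟨0, hj⟩ ⟨j - 1, by omega⟩ ≠ 0 := by
  intro h0
  have h : P *ᵥ Pi.single (⟨j - 1, by omega⟩ : Fin j) 1 = 0 := by
    funext a
    rw [Matrix.mulVec_single_one]
    rcases Nat.eq_zero_or_pos (a : ℕ) with ha | ha
    · rw [show a = ⟨0, hj⟩ from Fin.ext ha]; exact h0
    · exact last_column_low hj hP a ha
  have := Matrix.mulVec_injective_of_isUnit hu (h.trans (mulVec_zero _).symm)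
  simpa using congrFun this ⟨j - 1, by omega⟩

theorem card_gu_centralizer_unipotent (hK : Fintype.card K = q ^ 2) (d : Fin t → ℕ) (hd : ∀ k, 1 ≤ d k)
    (e : ((k : Fin t) × Fin (d k)) ≃ Fin n) (u : ↥(Cfsg.GU n K q))
    (hu : IsConj (Matrix.reindex e e (Cfsg.jordanTypeMatrix d K))
      ((u : GL (Fin n) K) : Matrix (Fin n) (Fin n) K)) :
    Nat.card ↥(Subgroup.centralizer ({u} : Set ↥(Cfsg.GU n K q))) =
      q ^ Nat.card {p : Idx d // ¬ JordanComm.IsTop p} *
        ∏ i ∈ Finset.univ.image d,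
          Nat.card (Cfsg.GU (Finset.univ.filter (fun k : Fin t => d k = i)).card K q) := by
  classical
  obtain ⟨σ, hσ, hσ2, hσσ⟩ := exists_conjugation hK
  choose P hPu hPd hPinv using fun (j : ℕ) (hj : 1 ≤ j) => exists_block_herm hK σ hσ hσσ hj
  let H : ℕ → ℕ → ℕ → K := fun j a b =>
    if h : a < j ∧ b < j then P j (by omega) ⟨a, h.1⟩ ⟨b, h.2⟩ else 0
  have hH : ∀ k (a b : Fin (d k)), H (d k) a b = P (d k) (hd k) a b := fun k a b => by
    simp only [H]; rw [dif_pos ⟨a.2, b.2⟩]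
  have hgram : gram H d = Matrix.blockDiagonal' fun k => P (d k) (hd k) := by
    ext ⟨k, a⟩ ⟨l, b⟩
    simp only [gram, Matrix.of_apply]
    by_cases h : k = l
    · subst h
      rw [if_pos rfl, Matrix.blockDiagonal'_apply_eq, hH]
    · rw [if_neg h, Matrix.blockDiagonal'_apply_ne _ _ _ h]
  have hM : IsModel (d := d) σ H := by
    refine ⟨hσσ, ?_, ?_, ?_, ?_, ?_⟩
    · ext ⟨k, a⟩ ⟨l, b⟩
      simp only [dS, Matrix.transpose_apply, Matrix.map_apply, gram, Matrix.of_apply]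
      by_cases h : k = l
      · subst h
        rw [if_pos rfl, if_pos rfl, hH, hH]
        exact congrFun (congrFun (hPd (d k) (hd k)) a) b
      · rw [if_neg h, if_neg (Ne.symm h), map_zero]
    · rw [hgram]
      exact ⟨⟨Matrix.blockDiagonal' fun k => P (d k) (hd k),
        Matrix.blockDiagonal' fun k => ((hPu (d k) (hd k)).unit⁻¹).1,
        by rw [← Matrix.blockDiagonal'_mul, funext fun k => (hPu (d k) (hd k)).mul_val_inv]
           exact Matrix.blockDiagonal'_one,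
        by rw [← Matrix.blockDiagonal'_mul, funext fun k => (hPu (d k) (hd k)).val_inv_mul]
           exact Matrix.blockDiagonal'_one⟩, rfl⟩
    · rw [hgram, Cfsg.jordanTypeMatrix, Matrix.blockDiagonal'_transpose, ← Matrix.blockDiagonal'_mul,
        ← Matrix.blockDiagonal'_mul, funext fun k => hPinv (d k) (hd k)]
    · intro k
      have := corner_ne_zero (hd k) (hPu (d k) (hd k)) (hPinv (d k) (hd k))
      rwa [← hH] at this
    · intro k a ha hak
      have := last_column_low (hd k) (hPinv (d k) (hd k)) ⟨a, hak⟩ ha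
      rwa [← hH] at this
  -- to the standard form
  set R := Matrix.reindexAlgEquiv K K e with hR
  have hdR : ∀ A, dag σ (R A) = R (dS σ A) := fun A => by
    ext i j; simp [dag, dS, hR]
  have hGu : IsUnit (R (gram H d)) := hM.unit.map R
  obtain ⟨h, hh⟩ := exists_congr_one σ hσ2 hGu.unit (by
    show dag σ (R (gram H d)) = R (gram H d)
    rw [hdR, hM.herm])
  obtain ⟨c, hc⟩ := dag_units σ h
  have hG : R (gram H d) = dag σ c.1 * c.1 := by
    rw [hc, dag_dag σ hσσ]
    exact hh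
  set cI : Matrix (Fin n) (Fin n) K := ((c⁻¹ : GL (Fin n) K) : Matrix (Fin n) (Fin n) K) with hcI
  have hcc : c.1 * cI = 1 := c.mul_inv
  have hcc' : cI * c.1 = 1 := c.inv_mul
  let Ψ : Matrix ((k : Fin t) × Fin (d k)) ((k : Fin t) × Fin (d k)) K → Matrix (Fin n) (Fin n) K :=
    fun A => c.1 * R A * cI
  have hΨmul : ∀ A B, Ψ (A * B) = Ψ A * Ψ B := fun A B => by
    simp only [Ψ, map_mul]
    calc c.1 * (R A * R B) * cI = c.1 * R A * (cI * c.1) * R B * cI := by
          rw [hcc', mul_one]; simp only [mul_assoc]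
      _ = _ := by simp only [mul_assoc]
  have hΨadj : ∀ A, dag σ (Ψ A) = Ψ (adj σ H A) := by
    intro A
    have h1 := congrArg R (gram_adj hM A)
    rw [map_mul, map_mul, ← hdR, hG] at h1
    calc dag σ (Ψ A) = dag σ cI * dag σ (R A) * dag σ c.1 * (c.1 * cI) := by
          rw [hcc, mul_one]; simp only [Ψ, dag_mul, mul_assoc]
      _ = dag σ cI * (dag σ (R A) * (dag σ c.1 * c.1)) * cI := by simp only [mul_assoc]
      _ = dag σ cI * (dag σ c.1 * c.1 * R (adj σ H A)) * cI := by rw [h1]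
      _ = dag σ (c.1 * cI) * c.1 * R (adj σ H A) * cI := by rw [dag_mul]; simp only [mul_assoc]
      _ = Ψ (adj σ H A) := by rw [hcc, dag_one, one_mul]
  have hΨinv : ∀ X, Ψ (R.symm (cI * X * c.1)) = X := fun X => by
    simp only [Ψ, AlgEquiv.apply_symm_apply, ← mul_assoc, hcc, one_mul]
    rw [mul_assoc, hcc, mul_one]
  have hΨinj : Function.Injective Ψ := by
    intro A B hAB
    refine R.injective ?_
    have := congrArg (fun X => cI * X * c.1) hAB
    simp only [Ψ, ← mul_assoc, hcc', one_mul] at this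
    simpa [mul_assoc, hcc'] using this
  have hΨone : Ψ 1 = 1 := by simp only [Ψ, map_one, mul_one, hcc]
  set J := Cfsg.jordanTypeMatrix d K with hJ
  -- the model element
  have hJu : IsUnit J := by
    have hh := congrArg Matrix.det hM.inv
    rw [Matrix.det_mul, Matrix.det_mul] at hh
    rw [Matrix.isUnit_iff_isUnit_det]
    have hu' : IsUnit (Jᵀ.det * (gram H d).det * J.det) := by
      rw [hh]; exact (Matrix.isUnit_iff_isUnit_det _).1 hM.unit
    exact (IsUnit.mul_iff.1 hu').2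
  set g₀ : GL (Fin n) K := c * (hJu.map R).unit * c⁻¹ with hg₀
  have hg₀v : g₀.1 = Ψ J := rfl
  have hadjJ : adj σ H J * J = 1 := by
    refine hM.unit.mul_left_cancel ?_
    rw [← mul_assoc, gram_adj hM, hJ, dS_jordan, hM.inv, mul_one]
  have hg₀mem : g₀ ∈ Cfsg.GU n K q := by
    rw [mem_gu_iff_dag hK σ hσ hσσ, hg₀v, hΨadj, ← hΨmul, hadjJ, hΨone]
  set u₀ : ↥(Cfsg.GU n K q) := ⟨g₀, hg₀mem⟩ with hu₀
  have hconj : IsConj u₀ u := by
    rw [isConj_gu_iff hK]
    obtain ⟨w, hw⟩ := hu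
    refine isConj_iff.2 ⟨(toUnits (w : GL (Fin n) K)).1 * c⁻¹, Units.ext ?_⟩
    have hw' : w.1 * R J = ((u : GL (Fin n) K) : Matrix (Fin n) (Fin n) K) * w.1 := hw
    show w.1 * cI * (c.1 * R J * cI) * ((w * c⁻¹)⁻¹ : GL (Fin n) K).1 = _
    rw [_root_.mul_inv_rev, inv_inv, Units.val_mul]
    simp only [← mul_assoc]
    rw [mul_assoc w.1 cI c.1, hcc', mul_one, mul_assoc (w.1 * R J) cI c.1, hcc', mul_one, hw',
      mul_assoc, Units.mul_inv, mul_one]
  obtain ⟨x, hx⟩ := isConj_iff.1 hconj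
  have hcard1 : Nat.card ↥(Subgroup.centralizer ({u} : Set ↥(Cfsg.GU n K q))) =
      Nat.card ↥(Subgroup.centralizer ({u₀} : Set ↥(Cfsg.GU n K q))) := by
    refine Nat.card_congr ((MulAut.conj x).toEquiv.symm.subtypeEquiv fun g => ?_)
    rw [Subgroup.mem_centralizer_singleton_iff, Subgroup.mem_centralizer_singleton_iff, ← hx]
    show g * (x * u₀ * x⁻¹) = x * u₀ * x⁻¹ * g ↔ x⁻¹ * g * x * u₀ = u₀ * (x⁻¹ * g * x)
    constructor
    · intro hg
      calc x⁻¹ * g * x * u₀ = x⁻¹ * (g * (x * u₀ * x⁻¹)) * x := by group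
        _ = _ := by rw [hg]; group
    · intro hg
      calc g * (x * u₀ * x⁻¹) = x * (x⁻¹ * g * x * u₀) * x⁻¹ := by group
        _ = _ := by rw [hg]; group
  have hshift : ∀ A, IsShift A ↔ Ψ A * Ψ J = Ψ J * Ψ A := fun A => by
    rw [← commute_iff_isShift, ← hΨmul, ← hΨmul, hΨinj.eq_iff]
  have hcard2 : Nat.card ↥(Subgroup.centralizer ({u₀} : Set ↥(Cfsg.GU n K q))) =
      Nat.card {A : Matrix ((k : Fin t) × Fin (d k)) ((k : Fin t) × Fin (d k)) K //
        IsShift A ∧ adj σ H A * A = 1} := by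
    have hinv : ∀ g : GL (Fin n) K, g ∈ Cfsg.GU n K q ↔ dag σ g.1 * g.1 = 1 := fun g =>
      mem_gu_iff_dag hK σ hσ hσσ g
    symm
    refine Nat.card_eq_of_bijective (fun A => ⟨⟨(Units.mkOfMulEqOne (dag σ (Ψ A.1)) (Ψ A.1) (by
      rw [hΨadj, ← hΨmul, A.2.2, hΨone]))⁻¹, (hinv _).2 (by
        show dag σ (Ψ A.1) * Ψ A.1 = 1
        rw [hΨadj, ← hΨmul, A.2.2, hΨone])⟩, ?_⟩) ⟨?_, ?_⟩
    · rw [Subgroup.mem_centralizer_singleton_iff]
      refine Subtype.ext (Units.ext ?_)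
      exact (hshift A.1).1 A.2.1
    · intro A B hAB
      exact Subtype.ext (hΨinj (congrArg (fun y : ↥(Subgroup.centralizer ({u₀} : Set ↥(Cfsg.GU n K q))) =>
        (((y : ↥(Cfsg.GU n K q)) : GL (Fin n) K) : Matrix (Fin n) (Fin n) K)) hAB))
    · rintro ⟨⟨g, hg⟩, hgc⟩
      refine ⟨⟨R.symm (cI * g.1 * c.1), (hshift _).2 ?_, hΨinj ?_⟩,
        Subtype.ext (Subtype.ext (Units.ext ?_))⟩
      · rw [hΨinv]
        exact congrArg (fun y : ↥(Cfsg.GU n K q) => ((y : GL (Fin n) K) : Matrix (Fin n) (Fin n) K))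
          (Subgroup.mem_centralizer_singleton_iff.1 hgc)
      · rw [hΨmul, ← hΨadj, hΨinv, hΨone]
        exact (hinv g).1 hg
      · exact hΨinv g.1
  obtain ⟨θ, hθ⟩ : ∃ θ, σ θ ≠ θ := by
    by_contra hh'
    push Not at hh'
    exact qFrob_ne_id hK (RingHom.ext fun x => by rw [qFrob_apply, ← hσ, hh']; rfl)
  rw [hcard1, hcard2, card_model hd hM hK θ hθ ?_, card_blk_unitary σ]
  · congr 1
    refine Finset.prod_congr rfl fun i _ => ?_
    set a := (Finset.univ.filter (fun k : Fin t => d k = i)).card with ha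
    have hci : Fintype.card {k : Fin t // d k = i} = a := Fintype.card_subtype _
    set E := Matrix.reindexAlgEquiv K K (Fintype.equivFinOfCardEq hci) with hE
    have hdE : ∀ A, dag σ (E A) = E (dS σ A) := fun A => by
      ext i j; simp [dag, dS, hE]
    refine Nat.card_eq_of_bijective (fun M => ⟨(Units.mkOfMulEqOne (dag σ (E M.1)) (E M.1) (by
      rw [hdE, ← map_mul, M.2, map_one]))⁻¹, (mem_gu_iff_dag hK σ hσ hσσ _).2 (by
        show dag σ (E M.1) * E M.1 = 1
        rw [hdE, ← map_mul, M.2, map_one])⟩) ⟨?_, ?_⟩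
    · intro A B hAB
      exact Subtype.ext (E.injective (congrArg (fun y : ↥(Cfsg.GU a K q) =>
        ((y : GL (Fin a) K) : Matrix (Fin a) (Fin a) K)) hAB))
    · rintro ⟨g, hg⟩
      refine ⟨⟨E.symm g.1, E.injective ?_⟩, Subtype.ext (Units.ext (E.apply_symm_apply _))⟩
      rw [map_mul, ← hdE, E.apply_symm_apply, map_one]
      exact (mem_gu_iff_dag hK σ hσ hσσ g).1 hg
  · intro A hA hAu hAadj
    have hΨu : IsUnit (Ψ A) := (c.isUnit.mul (hAu.map R)).mul (c⁻¹).isUnit
    obtain ⟨k, hk, hkc⟩ := exists_norm_in_algebra hK σ hσ hσ2 (h := hΨu.unit) (by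
      show dag σ (Ψ A) = Ψ A
      rw [hΨadj, hAadj])
    refine ⟨R.symm (cI * k.1 * c.1), (hshift _).2 ?_, hΨinj ?_⟩
    · rw [hΨinv]
      exact hkc _ ((hshift A).1 hA)
    · rw [hΨmul, ← hΨadj, hΨinv]
      exact hk

end CfsgLib.KnownC.JordanHerm
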