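import Mathlib
import Cfsg.Agent.Lib.KnownC.GroupEmbeds

/-!
`Sp_2a(q²) → Sp_4a(q)` and `O⁻_2m(q) → O⁺_2m(q²)`.
-/

set_option autoImplicit false

namespace CfsgLib.KnownC

open Matrix CfsgLib.Classical

variable {F K : Type*} [Field F] [Fintype F] [Field K] [Fintype K] {q : ℕ}

/-- The group of invertible symplectic matrices, inside `GL`. -/
def spUnits (n : ℕ) (R : Type*) [Field R] : Subgroup (GL (Fin n ⊕ Fin n) R) where
  carrier := {g | ∀ u v, Cfsg.sympForm n R ((g : Matrix _ _ R) *ᵥ u) ((g : Matrix _ _ R) *ᵥ v) =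
    Cfsg.sympForm n R u v}
  mul_mem' {a b} ha hb u v := by
    rw [Units.val_mul, ← Matrix.mulVec_mulVec, ← Matrix.mulVec_mulVec, ha, hb]
  one_mem' u v := by rw [Units.val_one, Matrix.one_mulVec, Matrix.one_mulVec]
  inv_mem' {a} ha u v := by
    rw [← ha, Matrix.mulVec_mulVec, Matrix.mulVec_mulVec, ← Units.val_mul, mul_inv_cancel,
      Units.val_one, Matrix.one_mulVec, Matrix.one_mulVec]

theorem exists_spUnits_equiv (n : ℕ) (R : Type*) [Field R] :
    ∃ e : spUnits n R →* Matrix.symplecticGroup (Fin n) R, Function.Bijective e := by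
  refine ⟨MonoidHom.codRestrict ((Units.coeHom _).comp (Subgroup.subtype _)) _
    fun g => (CfsgLib.Geom.mem_symplecticGroup_iff_form _).2 g.2, fun a b h => ?_, fun A => ?_⟩
  · exact Subtype.ext (Units.ext (congrArg Subtype.val h))
  · refine ⟨⟨⟨(A : Matrix _ _ R), ((A⁻¹ : Matrix.symplecticGroup (Fin n) R) : Matrix _ _ R),
      ?_, ?_⟩, (CfsgLib.Geom.mem_symplecticGroup_iff_form _).1 A.2⟩, rfl⟩
    · rw [← Submonoid.coe_mul, mul_inv_cancel, Submonoid.coe_one]
    · rw [← Submonoid.coe_mul, inv_mul_cancel, Submonoid.coe_one]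

/-- Coordinates turning a symplectic space over the big field into one over the small field. -/
noncomputable def spExtCoord (D : ExtData F K) {a : ℕ} :
    (Fin a ⊕ Fin a → K) →+ (Fin (a + a) ⊕ Fin (a + a) → F) :=
  AddMonoidHom.mk' (fun v => Sum.elim
      (Fin.append (fun i => D.c0 (v (Sum.inl i))) (fun i => D.c1 (v (Sum.inl i))))
      (Fin.append (fun i => D.tr (v (Sum.inr i))) (fun i => D.tr (D.gen * v (Sum.inr i)))))
    fun u v => by
      funext i
      rcases i with i | i <;> refine Fin.addCases (fun j => ?_) (fun j => ?_) i <;>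
        simp only [Sum.elim_inl, Sum.elim_inr, Fin.append_left, Fin.append_right, Pi.add_apply,
          D.c0_add, D.c1_add, mul_add, D.tr_add]

omit [Fintype F] [Fintype K] in
theorem spExtCoord_spec (D : ExtData F K) {a : ℕ} (u v : Fin a ⊕ Fin a → K) :
    Cfsg.sympForm (a + a) F (spExtCoord D u) (spExtCoord D v) =
      D.tr (Cfsg.sympForm a K u v) := by
  rw [CfsgLib.Geom.sympForm_eq_sum, CfsgLib.Geom.sympForm_eq_sum, Fin.sum_univ_add,
    ← Finset.sum_add_distrib]
  let T : K →+ F := AddMonoidHom.mk' D.tr D.tr_add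
  rw [show D.tr _ = T _ from rfl, map_sum]
  refine Finset.sum_congr rfl fun i _ => ?_
  simp only [spExtCoord, AddMonoidHom.mk'_apply, Sum.elim_inl, Sum.elim_inr, Fin.append_left,
    Fin.append_right]
  rw [map_sub]
  have h1 := D.tr_mul (u (Sum.inl i)) (v (Sum.inr i))
  have h2 := D.tr_mul (v (Sum.inl i)) (u (Sum.inr i))
  have e1 : T (u (Sum.inr i) * v (Sum.inl i)) = D.tr (v (Sum.inl i) * u (Sum.inr i)) := by
    rw [mul_comm]; rfl
  have e2 : T (u (Sum.inl i) * v (Sum.inr i)) = D.tr (u (Sum.inl i) * v (Sum.inr i)) := rfl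
  rw [e1, e2]
  linear_combination h2 - h1

omit [Fintype F] [Fintype K] in
theorem spExtCoord_injective (D : ExtData F K) {a : ℕ} :
    Function.Injective (spExtCoord D (a := a)) := by
  refine (injective_iff_map_eq_zero _).2 fun v hv => funext fun i => ?_
  rcases i with i | i
  · have h0 := congrFun hv (Sum.inl (Fin.castAdd a i))
    have h1 := congrFun hv (Sum.inl (Fin.natAdd a i))
    simp only [spExtCoord, AddMonoidHom.mk'_apply, Sum.elim_inl, Fin.append_left, Fin.append_right,
      Pi.zero_apply] at h0 h1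
    rw [Pi.zero_apply, ← D.decomp (v (Sum.inl i)), h0, h1]
    simp
  · have h0 := congrFun hv (Sum.inr (Fin.castAdd a i))
    have h1 := congrFun hv (Sum.inr (Fin.natAdd a i))
    simp only [spExtCoord, AddMonoidHom.mk'_apply, Sum.elim_inr, Fin.append_left, Fin.append_right,
      Pi.zero_apply] at h0 h1
    exact D.eq_zero_of_tr h0 h1

theorem symplectic_ext_embeds (hK : Fintype.card K = q ^ 2) (hF : Fintype.card F = q) (a : ℕ) :
    ∃ φ : ↥(Matrix.symplecticGroup (Fin a) K) →* ↥(Matrix.symplecticGroup (Fin (2 * a)) F),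
      Function.Injective φ := by
  rw [two_mul]
  obtain ⟨D, -⟩ := exists_extData hK hF
  obtain ⟨L, hL⟩ := exists_addEquiv_of_injective (spExtCoord D (a := a)) (spExtCoord_injective D)
    (by simp [hK, hF, ← pow_mul]; ring_nf)
  obtain ⟨φ, hφ⟩ := exists_embed_of_addEquiv D.emb L (fun t v => by
      rw [hL, hL]
      funext i
      rcases i with i | i <;> refine Fin.addCases (fun j => ?_) (fun j => ?_) i <;>
        simp only [spExtCoord, AddMonoidHom.mk'_apply, Sum.elim_inl, Sum.elim_inr, Fin.append_left,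
          Fin.append_right, Pi.smul_apply, smul_eq_mul, D.c0_emb_mul, D.c1_emb_mul, D.tr_emb_mul,
          mul_left_comm D.gen])
    (spUnits a K) (spUnits (a + a) F) fun g hg g' hg' u v => by
      obtain ⟨u, rfl⟩ := L.surjective u
      obtain ⟨v, rfl⟩ := L.surjective v
      rw [hg', hg', hL, hL, hL, hL, spExtCoord_spec, spExtCoord_spec, hg]
  obtain ⟨e, he⟩ := exists_spUnits_equiv a K
  obtain ⟨e', he'⟩ := exists_spUnits_equiv (a + a) F
  exact ⟨e'.comp (φ.comp (MulEquiv.ofBijective e he).symm.toMonoidHom),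
    fun x y h => (MulEquiv.ofBijective e he).symm.injective (hφ (he'.1 h))⟩

omit [Fintype F] [Fintype K] in
/-- The scalar extension of the minus form. -/
theorem quadFormMinus_extend (ι : F →+* K) (θ : K) (k : ℕ) (a b : F)
    (u w : (Fin k ⊕ Fin k) ⊕ Fin 2 → F) :
    Cfsg.quadFormMinus k K (ι a) (ι b) (fun j => ι (u j) + θ * ι (w j)) =
      ι (Cfsg.quadFormMinus k F a b u) + θ ^ 2 * ι (Cfsg.quadFormMinus k F a b w) +
        θ * (ι (Cfsg.quadFormMinus k F a b fun j => u j + w j) -
          ι (Cfsg.quadFormMinus k F a b u) - ι (Cfsg.quadFormMinus k F a b w)) := by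
  have hs : ∑ i : Fin k, (ι (u (.inl (.inl i))) + θ * ι (w (.inl (.inl i)))) *
      (ι (u (.inl (.inr i))) + θ * ι (w (.inl (.inr i)))) =
      ι (∑ i : Fin k, u (.inl (.inl i)) * u (.inl (.inr i))) +
        θ ^ 2 * ι (∑ i : Fin k, w (.inl (.inl i)) * w (.inl (.inr i))) +
        θ * (ι (∑ i : Fin k, (u (.inl (.inl i)) + w (.inl (.inl i))) *
            (u (.inl (.inr i)) + w (.inl (.inr i)))) -
          ι (∑ i : Fin k, u (.inl (.inl i)) * u (.inl (.inr i))) -
          ι (∑ i : Fin k, w (.inl (.inl i)) * w (.inl (.inr i)))) := by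
    simp only [map_sum, map_mul, map_add, ← Finset.sum_sub_distrib, Finset.mul_sum,
      ← Finset.sum_add_distrib]
    exact Finset.sum_congr rfl fun i _ => by ring
  simp only [Cfsg.quadFormMinus]
  rw [hs]
  simp only [map_add, map_mul, map_pow]
  ring

/-- Coordinates splitting the minus form over the quadratic extension. -/
noncomputable def splitCoord (D : ExtData F K) {k : ℕ} :
    ((Fin k ⊕ Fin k) ⊕ Fin 2 → K) →+ (Fin (k + 1) ⊕ Fin (k + 1) → K) :=
  AddMonoidHom.mk' (fun v => Sum.elim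
      (Fin.snoc (fun i => v (.inl (.inl i))) (v (.inr 0) + D.gen * v (.inr 1)))
      (Fin.snoc (fun i => v (.inl (.inr i))) (v (.inr 0) + D.conj D.gen * v (.inr 1))))
    fun u v => by
      funext i
      rcases i with i | i <;> refine Fin.lastCases ?_ (fun j => ?_) i <;> simp <;> ring

theorem orth_minus_embeds_plus (hF : Fintype.card F = q) (hK : Fintype.card K = q ^ 2) (k : ℕ)
    (a b : F) (hab : ∀ z₁ z₂ : F, z₁ ^ 2 + a * z₁ * z₂ + b * z₂ ^ 2 = 0 → z₁ = 0 ∧ z₂ = 0) :
    ∃ φ : ↥(Cfsg.isometryGroup F (Cfsg.quadFormMinus k F a b)) →*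
      ↥(Cfsg.isometryGroup K (Cfsg.quadFormPlus (k + 1) K)), Function.Injective φ := by
  obtain ⟨D, -, ha, hb⟩ := exists_extData_of_form hK hF a b hab
  have hinj : Function.Injective (splitCoord D (k := k)) := by
    refine (injective_iff_map_eq_zero _).2 fun v hv => ?_
    have hl : ∀ i, v (.inl i) = 0 := fun i => by
      rcases i with i | i
      · simpa [splitCoord] using congrFun hv (Sum.inl i.castSucc)
      · simpa [splitCoord] using congrFun hv (Sum.inr i.castSucc)
    have h0 : v (.inr 0) + D.gen * v (.inr 1) = 0 := by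
      simpa [splitCoord] using congrFun hv (Sum.inl (Fin.last k))
    have h1 : v (.inr 0) + D.conj D.gen * v (.inr 1) = 0 := by
      simpa [splitCoord] using congrFun hv (Sum.inr (Fin.last k))
    have h2 : v (.inr 1) = 0 :=
      (mul_eq_zero.1 (show (D.gen - D.conj D.gen) * v (.inr 1) = 0 by
        linear_combination h0 - h1)).resolve_left D.sub_ne
    funext i
    rcases i with i | i
    · exact hl i
    · fin_cases i
      · simpa [h2] using h0
      · exact h2
  obtain ⟨L, hL⟩ := exists_addEquiv_of_injective (splitCoord D (k := k)) hinj (by simp; ring_nf)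
  have hspec : ∀ v, Cfsg.quadFormPlus (k + 1) K (L v) =
      Cfsg.quadFormMinus k K (D.emb a) (D.emb b) v := by
    intro v
    rw [hL, ← ha, ← hb]
    simp only [Cfsg.quadFormPlus, Cfsg.quadFormMinus, splitCoord, AddMonoidHom.mk'_apply,
      Sum.elim_inl, Sum.elim_inr, Fin.sum_univ_castSucc, Fin.snoc_castSucc, Fin.snoc_last]
    ring
  let up : GL ((Fin k ⊕ Fin k) ⊕ Fin 2) F →* GL ((Fin k ⊕ Fin k) ⊕ Fin 2) K :=
    Units.map D.emb.mapMatrix.toMonoidHom
  have hup : Function.Injective up :=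
    Units.map_injective (fun A B h => Matrix.map_injective D.emb.injective h)
  have hmain : ∀ g ∈ Subgroup.map up (Cfsg.isometryGroup F (Cfsg.quadFormMinus k F a b)),
      ∀ g' : GL (Fin (k + 1) ⊕ Fin (k + 1)) K, (∀ v, (g' : Matrix _ _ K) *ᵥ L v =
        L ((g : Matrix _ _ K) *ᵥ v)) → g' ∈ Cfsg.isometryGroup K (Cfsg.quadFormPlus (k + 1) K) := by
    rintro _ ⟨g, hg, rfl⟩ g' hg' x y
    obtain ⟨v, rfl⟩ := L.surjective x
    show Cfsg.quadFormPlus (k + 1) K ((g' : Matrix _ _ K) *ᵥ L v) = Cfsg.quadFormPlus (k + 1) K (L v)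
    rw [hg', hspec, hspec]
    obtain ⟨u, w, rfl⟩ : ∃ u w : (Fin k ⊕ Fin k) ⊕ Fin 2 → F,
        v = fun j => D.emb (u j) + D.gen * D.emb (w j) :=
      ⟨fun j => D.c0 (v j), fun j => D.c1 (v j), funext fun j => by
        rw [mul_comm D.gen, D.decomp]⟩
    set A : Matrix ((Fin k ⊕ Fin k) ⊕ Fin 2) ((Fin k ⊕ Fin k) ⊕ Fin 2) F :=
      Units.val g with hA
    have hv : (up g : Matrix _ _ K) *ᵥ (fun j => D.emb (u j) + D.gen * D.emb (w j)) =
        fun j => D.emb ((A *ᵥ u) j) + D.gen * D.emb ((A *ᵥ w) j) := by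
      show A.map D.emb *ᵥ ((D.emb ∘ u) + D.gen • (D.emb ∘ w)) = _
      rw [Matrix.mulVec_add, Matrix.mulVec_smul]
      funext j
      rw [Pi.add_apply, Pi.smul_apply, smul_eq_mul, RingHom.map_mulVec, RingHom.map_mulVec]
    have hadd : (fun j => (A *ᵥ u) j + (A *ᵥ w) j) = A *ᵥ (fun j => u j + w j) := by
      rw [show (fun j => u j + w j) = u + w from rfl, Matrix.mulVec_add]; rfl
    have hg0 : ∀ x, Cfsg.quadFormMinus k F a b (A *ᵥ x) = Cfsg.quadFormMinus k F a b x :=
      fun x => hg x x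
    rw [hv, quadFormMinus_extend, quadFormMinus_extend, hadd, hg0, hg0, hg0]
  obtain ⟨φ, hφ⟩ := exists_embed_of_addEquiv (RingHom.id K) L
    (fun t v => by
      rw [hL, hL]
      funext i
      rcases i with i | i <;> refine Fin.lastCases ?_ (fun j => ?_) i <;>
        simp [splitCoord] <;> ring)
    (Subgroup.map up (Cfsg.isometryGroup F (Cfsg.quadFormMinus k F a b)))
    (Cfsg.isometryGroup K (Cfsg.quadFormPlus (k + 1) K)) hmain
  refine ⟨φ.comp (up.subgroupMap _), hφ.comp ?_⟩
  exact fun x y h => Subtype.ext (hup (congrArg Subtype.val h))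

end CfsgLib.KnownC
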