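import Mathlib

set_option autoImplicit false

/-!
Binomial coefficients without small prime divisors, for the Hall subgroups of symmetric groups.
-/

namespace CfsgLib.KnownC.HallPerm

/-- A prime not dividing a binomial coefficient gives additions without carries. -/
theorem no_carry {p x y : ℕ} (hp : p.Prime) (h : ¬ p ∣ (x + y).choose x) (i : ℕ) :
    x % p ^ i + y % p ^ i < p ^ i := by
  have h0 : ((y + x).choose x).factorization p = 0 :=
    Nat.factorization_eq_zero_of_not_dvd (by rwa [add_comm])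
  rcases Nat.eq_zero_or_pos i with rfl | hi
  · simp [Nat.mod_one]
  rw [Nat.factorization_choose' hp (b := Nat.log p (y + x) + 1 + i + 1) (by omega),
    Finset.card_eq_zero, Finset.filter_eq_empty_iff] at h0
  have := h0 (x := i) (Finset.mem_Ico.2 ⟨hi, by omega⟩)
  omega

/-- A number all whose prime factors avoid the binomial coefficient and which is congruent to
`y + 1` modulo itself divides the other summand. -/
theorem dvd_of_succ {x y : ℕ} (h : ∀ p, p.Prime → p ∣ y + 1 → ¬ p ∣ (x + y).choose x) : y + 1 ∣ x := by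
  refine Nat.dvd_iff_prime_pow_dvd_dvd _ _ |>.2 fun p i hp hdvd => ?_
  rcases Nat.eq_zero_or_pos i with rfl | hi
  · simp
  have hq : 1 < p ^ i := Nat.one_lt_pow hi.ne' hp.one_lt
  have h1 := no_carry hp (h p hp ((dvd_pow_self p hi.ne').trans hdvd)) i
  obtain ⟨c, hc⟩ := hdvd
  have hy : y % p ^ i = p ^ i - 1 := by
    rcases c with _ | c
    · simp at hc
    rw [Nat.mul_add, Nat.mul_one] at hc
    rw [show y = (p ^ i - 1) + p ^ i * c by omega, Nat.add_mul_mod_self_left, Nat.mod_eq_of_lt (by omega)]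
  refine Nat.dvd_of_mod_eq_zero ?_
  generalize x % p ^ i = a, y % p ^ i = b, p ^ i = q at *
  omega

theorem prime_factor_le {m b : ℕ} (hm : ¬ m.Prime) (hb : m ≤ 2 * b + 1) {p : ℕ} (hp : p.Prime)
    (hpm : p ∣ m) (h0 : 0 < m) : p ≤ b := by
  obtain ⟨c, hc⟩ := hpm
  have hc2 : 2 ≤ c := by
    rcases c with _ | _ | c
    · simp at hc; omega
    · simp at hc; exact absurd (hc ▸ hp) hm
    · omega
  have : p * 2 ≤ p * c := Nat.mul_le_mul_left p hc2
  omega

/-- The only binomial coefficient `C(k+l, k)`, `2 ≤ k ≤ l`, prime to all primes at most `l` is `C(7,3)`. -/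
theorem eq_seven_three {k l : ℕ} (hk : 2 ≤ k) (hkl : k ≤ l)
    (h : ∀ p, p.Prime → p ≤ l → ¬ p ∣ (k + l).choose k) : k = 3 ∧ l = 4 := by
  have h2 : ∀ i, k % 2 ^ i + l % 2 ^ i < 2 ^ i := fun i =>
    no_carry Nat.prime_two (h 2 Nat.prime_two (by omega)) i
  -- `l + 1` is a prime
  have hl1 : (l + 1).Prime := by
    by_contra hnp
    have := Nat.le_of_dvd (by omega) (dvd_of_succ (x := k) (y := l) fun p hp hpd =>
      h p hp (prime_factor_le hnp (by omega) hp hpd (by omega)))
    omega
  -- `k < l`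
  have hlt : k < l := by
    refine lt_of_le_of_ne hkl fun he => ?_
    subst he
    exact h 2 Nat.prime_two hk (by
      rw [← two_mul]; exact Nat.two_dvd_centralBinom_of_one_le (by omega))
  -- `k + 1` divides `l`
  obtain ⟨t, ht⟩ : k + 1 ∣ l := dvd_of_succ (x := l) (y := k) fun p hp hpd => by
    have hple : p ≤ l := (Nat.le_of_dvd (by omega) hpd).trans hlt
    rw [add_comm, ← Nat.choose_symm_add]
    exact h p hp hple
  -- `k + l` is prime and `k + l - 1` divides `k (k - 1)`
  have hn : (k + l).Prime := by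
    by_contra hnp
    have hd : k + l ∣ k := Nat.dvd_iff_prime_pow_dvd_dvd _ _ |>.2 fun p i hp hdvd => by
      rcases Nat.eq_zero_or_pos i with rfl | hi
      · simp
      have h1 := no_carry hp (h p hp (prime_factor_le hnp (by omega) hp
        ((dvd_pow_self p hi.ne').trans hdvd) (by omega))) i
      have h3 : (k % p ^ i + l % p ^ i) % p ^ i = 0 := by
        rw [← Nat.add_mod]; exact Nat.mod_eq_zero_of_dvd hdvd
      rw [Nat.mod_eq_of_lt h1] at h3
      refine Nat.dvd_of_mod_eq_zero ?_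
      generalize k % p ^ i = a, l % p ^ i = b at *
      omega
    have := Nat.le_of_dvd (by omega) hd
    omega
  have hodd : Odd (k + l) := hn.odd_of_ne_two (by omega)
  have hn1 : ¬ (k + l - 1).Prime := fun hp => by
    obtain ⟨j, hj⟩ := hodd
    rcases hp.eq_one_or_self_of_dvd 2 ⟨j, by omega⟩ with h' | h' <;> omega
  obtain ⟨c, hc⟩ : k + l - 1 ∣ k * (k - 1) := Nat.dvd_iff_prime_pow_dvd_dvd _ _ |>.2 fun p i hp hdvd => by
    rcases Nat.eq_zero_or_pos i with rfl | hi
    · simp
    have hq : 1 < p ^ i := Nat.one_lt_pow hi.ne' hp.one_lt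
    have h1 := no_carry hp (h p hp (prime_factor_le hn1 (by omega) hp
      ((dvd_pow_self p hi.ne').trans hdvd) (by omega))) i
    have h3 : (k % p ^ i + l % p ^ i) % p ^ i = 1 := by
      obtain ⟨c, hc⟩ := hdvd
      rw [← Nat.add_mod, show k + l = 1 + p ^ i * c by omega, Nat.add_mul_mod_self_left, Nat.mod_eq_of_lt hq]
    rw [Nat.mod_eq_of_lt h1] at h3
    rcases Nat.eq_zero_or_pos (k % p ^ i) with h4 | h4
    · exact (Nat.dvd_of_mod_eq_zero h4).mul_right _
    · refine Dvd.dvd.mul_left ?_ _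
      have h5 := Nat.div_add_mod k (p ^ i)
      refine ⟨k / p ^ i, ?_⟩
      generalize k % p ^ i = a, l % p ^ i = b, p ^ i * (k / p ^ i) = d at *
      omega
  -- hence `l = k + 1`
  have htpos : 0 < t := by rcases Nat.eq_zero_or_pos t with rfl | ht' <;> simp_all
  have hlk : l = k + 1 := by
    obtain ⟨j, rfl⟩ : ∃ j, k = j + 2 := ⟨k - 2, by omega⟩
    rw [show j + 2 - 1 = j + 1 by omega] at hc
    obtain ⟨u, rfl⟩ : ∃ u, t = u + 1 := ⟨t - 1, by omega⟩
    rw [show j + 2 + l - 1 = j + 1 + l by omega] at hc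
    have hdiv : j + 3 ∣ 2 * (c + 1) := by
      have e : 2 * (c + 1) + (j + 3) * (j + 2) * 1 = (j + 3) * (c * (u + 2) + 2) := by
        subst ht
        nlinarith [hc]
      rw [mul_one] at e
      exact (Nat.dvd_add_left (Dvd.intro _ rfl)).1 ⟨_, e⟩
    have hcK := Nat.le_of_dvd (by omega) hdiv
    rcases Nat.eq_zero_or_pos u with rfl | hu
    · omega
    exfalso
    have h4 : (j + 1) * (j + 1 + l) ≤ 2 * ((j + 1 + l) * c) := by
      calc (j + 1) * (j + 1 + l) ≤ (2 * c) * (j + 1 + l) := Nat.mul_le_mul_right _ (by omega)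
        _ = _ := by ring
    rw [← hc] at h4
    have h5 : (j + 3) * 2 ≤ l := by rw [ht]; exact Nat.mul_le_mul_left _ (by omega)
    have h6 : (j + 1) * (j + 1 + l) ≤ (j + 1) * (2 * (j + 2)) := by
      calc _ ≤ 2 * ((j + 2) * (j + 1)) := h4
        _ = _ := by ring
    have := Nat.le_of_mul_le_mul_left h6 (by omega)
    omega
  subst hlk
  -- `k + 3` divides `k (k - 1)`
  have hn2 : ¬ (k + 1 + 2).Prime := fun hp => by
    have := hp.odd_of_ne_two (by omega)
    have := hl1.odd_of_ne_two (by omega)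
    rw [Nat.odd_iff] at *
    omega
  have h3 : k + 3 ∣ k * (k - 1) := Nat.dvd_iff_prime_pow_dvd_dvd _ _ |>.2 fun p i hp hdvd => by
    rcases Nat.eq_zero_or_pos i with rfl | hi
    · simp
    have hq : 1 < p ^ i := Nat.one_lt_pow hi.ne' hp.one_lt
    have h1 := no_carry hp (h p hp (prime_factor_le hn2 (by omega) hp
      ((dvd_pow_self p hi.ne').trans hdvd) (by omega))) i
    have hy : (k + 1) % p ^ i = p ^ i - 2 := by
      obtain ⟨d, hd⟩ := hdvd
      rcases d with _ | d
      · simp at hd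
      rw [Nat.mul_add, Nat.mul_one] at hd
      rw [show k + 1 = (p ^ i - 2) + p ^ i * d by omega, Nat.add_mul_mod_self_left, Nat.mod_eq_of_lt (by omega)]
    rcases Nat.eq_zero_or_pos (k % p ^ i) with h4 | h4
    · exact (Nat.dvd_of_mod_eq_zero h4).mul_right _
    · refine Dvd.dvd.mul_left ?_ _
      have h5 := Nat.div_add_mod k (p ^ i)
      exact ⟨k / p ^ i, by omega⟩
  have h12 : k + 3 ∣ 12 := by
    obtain ⟨j, rfl⟩ : ∃ j, k = j + 1 := ⟨k - 1, by omega⟩
    obtain ⟨d, hd⟩ := h3
    refine ⟨d + 4 - (j + 1), ?_⟩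
    rw [show j + 1 - 1 = j by omega] at hd
    have hle : j + 1 ≤ d + 4 := by nlinarith [hd]
    zify [hle]
    nlinarith [hd]
  have hk12 : k + 3 ≤ 12 := Nat.le_of_dvd (by norm_num) h12
  have := h2 4
  have hk9 : k ≤ 9 := by omega
  interval_cases k <;> first | omega | (exfalso; revert hn hl1 h12; norm_num)

end CfsgLib.KnownC.HallPerm
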