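import Mathlib
import Cfsg.Agent.Lib.KnownC.HallPermArith

set_option autoImplicit false
set_option linter.unusedSectionVars false

/-!
Hall subgroups of symmetric and alternating groups: reduction to fewer points.
-/

namespace CfsgLib.KnownC.HallPerm

open Equiv

variable {π : Set ℕ}

/-- All prime divisors lie in `π`. -/
def IsPiNum (π : Set ℕ) (m : ℕ) : Prop := ∀ p, p.Prime → p ∣ m → p ∈ π

/-- No prime divisor lies in `π`. -/
def IsFree (π : Set ℕ) (m : ℕ) : Prop := ∀ p, p.Prime → p ∈ π → ¬ p ∣ m

theorem IsPiNum.of_dvd {m k : ℕ} (h : IsPiNum π m) (hd : k ∣ m) : IsPiNum π k :=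
  fun p hp hpk => h p hp (hpk.trans hd)

theorem IsFree.of_dvd {m k : ℕ} (h : IsFree π m) (hd : k ∣ m) : IsFree π k :=
  fun p hp hπ hpk => h p hp hπ (hpk.trans hd)

/-- At most one prime of `π` is at most `n`. -/
def Small (π : Set ℕ) (n : ℕ) : Prop :=
  ∀ p q : ℕ, p.Prime → q.Prime → p ∈ π → q ∈ π → p ≤ n → q ≤ n → p = q

/-- Every prime at most `n` is in `π`. -/
def AllPrimes (π : Set ℕ) (n : ℕ) : Prop := ∀ p : ℕ, p.Prime → p ≤ n → p ∈ π

/-- The point stabiliser case. -/
def PointCase (π : Set ℕ) (n : ℕ) : Prop := n.Prime ∧ ∀ p : ℕ, p.Prime → p ≤ n → (p ∈ π ↔ p < n)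

/-- The exceptional case. -/
def Exc (π : Set ℕ) (n : ℕ) : Prop :=
  (n = 7 ∨ n = 8) ∧ ∀ p : ℕ, p.Prime → p ≤ n → (p ∈ π ↔ (p = 2 ∨ p = 3))

/-- The numbers of points admitting Hall subgroups. -/
def Allowed (π : Set ℕ) (n : ℕ) : Prop :=
  Small π n ∨ AllPrimes π n ∨ PointCase π n ∨ Exc π n

/-- `H` is a Hall subgroup of `G`. -/
def HallIn {X : Type*} [Group X] (π : Set ℕ) (H G : Subgroup X) : Prop :=
  H ≤ G ∧ IsPiNum π (Nat.card H) ∧ IsFree π (H.relIndex G)

/-- Hall subgroups pull back along injective homomorphisms. -/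
theorem HallIn.comap {X Y : Type*} [Group X] [Group Y] [Finite X] [Finite Y] {H G : Subgroup X}
    (h : HallIn π H G) (f : Y →* X) (hf : Function.Injective f) (hr : H ≤ f.range) :
    HallIn π (H.comap f) (G.comap f) := by
  obtain ⟨hle, hπ, hfree⟩ := h
  refine ⟨Subgroup.comap_mono hle, ?_, ?_⟩
  · have : Nat.card (H.comap f) = Nat.card H := by
      rw [← Subgroup.card_map_of_injective hf, Subgroup.map_comap_eq_self hr]
    rwa [this]
  · rw [Subgroup.relIndex_comap, Subgroup.map_comap_eq]
    exact hfree.of_dvd ((Subgroup.relIndex_dvd_of_le_left _ le_rfl).trans (by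
      have h1 := Subgroup.relIndex_mul_relIndex H (f.range ⊓ G) G (le_inf hr hle) inf_le_right
      exact Dvd.intro _ h1))

/-- Hall subgroups map forward along any homomorphism. -/
theorem HallIn.map {X Y : Type*} [Group X] [Group Y] [Finite X] {H G : Subgroup X}
    (h : HallIn π H G) (f : X →* Y) : HallIn π (H.map f) (G.map f) := by
  obtain ⟨hle, hπ, hfree⟩ := h
  refine ⟨Subgroup.map_mono hle, hπ.of_dvd (Subgroup.card_map_dvd H f), hfree.of_dvd ?_⟩
  have hmap : (H.subgroupOf G).map (f.subgroupMap G) = (H.map f).subgroupOf (G.map f) := by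
    ext y
    rw [Subgroup.mem_subgroupOf, Subgroup.mem_map]
    constructor
    · rintro ⟨x, hx, rfl⟩
      exact ⟨x.1, hx, rfl⟩
    · rintro ⟨x, hx, hxy⟩
      exact ⟨⟨x, hle hx⟩, hx, Subtype.ext hxy⟩
  rw [Subgroup.relIndex, ← hmap]
  exact Subgroup.index_map_dvd _ (f.subgroupMap_surjective G)

variable {α : Type*} [Fintype α] [DecidableEq α]

/-- The subgroups between the alternating and the symmetric group. -/
theorem eq_top_or_alternating {G : Subgroup (Perm α)} (hG : alternatingGroup α ≤ G) :
    G = ⊤ ∨ G = alternatingGroup α := by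
  rcases subsingleton_or_nontrivial α with hα | hα
  · exact Or.inl (Subsingleton.elim _ _)
  have h2 : (alternatingGroup α).index = 2 := alternatingGroup.index_eq_two
  have h1 := Subgroup.relIndex_mul_index hG
  rw [h2] at h1
  rcases (Nat.dvd_prime Nat.prime_two).1 (Dvd.intro_left _ h1) with h | h
  · exact Or.inl (Subgroup.index_eq_one.1 h)
  · rw [h] at h1
    exact Or.inr (le_antisymm (Subgroup.relIndex_eq_one.1 (by omega)) hG)

theorem half_factorial_dvd_card {G : Subgroup (Perm α)} (hG : alternatingGroup α ≤ G) {m : ℕ}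
    (h : 2 * m ∣ (Fintype.card α).factorial) : m ∣ Nat.card G := by
  rcases eq_top_or_alternating hG with rfl | rfl
  · rw [Subgroup.card_top, Nat.card_perm, Nat.card_eq_fintype_card]
    exact (Dvd.intro_left 2 rfl).trans h
  · rcases subsingleton_or_nontrivial α with hα | hα
    · have : Fintype.card α ≤ 1 := Fintype.card_le_one_iff_subsingleton.2 hα
      rw [Nat.factorial_eq_one.2 this] at h
      have := Nat.le_of_dvd one_pos h
      have : m ≠ 0 := fun h0 => by subst h0; simp at h
      omega
    · have h2 := two_mul_nat_card_alternatingGroup (α := α)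
      rw [Nat.card_perm, Nat.card_eq_fintype_card (α := α)] at h2
      rw [← h2] at h
      exact Nat.dvd_of_mul_dvd_mul_left two_pos h

theorem dvd_factorial_two_mul {n p : ℕ} (hn : 4 ≤ n) (hp : p.Prime) (hpn : p ≤ n) :
    2 * p ∣ n.factorial := by
  by_cases h2 : p = 2
  · subst h2
    exact (show 2 * 2 ∣ Nat.factorial 4 by decide).trans (Nat.factorial_dvd_factorial hn)
  · exact Nat.Coprime.mul_dvd_of_dvd_of_dvd ((Nat.coprime_primes Nat.prime_two hp).2 (Ne.symm h2))
      (Nat.dvd_factorial two_pos (by omega)) (Nat.dvd_factorial hp.pos hpn)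

/-- A Hall subgroup containing the alternating group forces all primes into `π`. -/
theorem allPrimes_of_alternating_le {G H : Subgroup (Perm α)} (h4 : 4 ≤ Fintype.card α)
    (h : HallIn π H G) (hA : alternatingGroup α ≤ H) : AllPrimes π (Fintype.card α) := fun _ hp hpn =>
  h.2.1 _ hp (half_factorial_dvd_card hA (dvd_factorial_two_mul h4 hp hpn))

/-- A `π`-element of prime power order has a conjugate in a Hall subgroup. -/
theorem exists_conj_mem {X : Type*} [Group X] [Finite X] {H G : Subgroup X} (h : HallIn π H G) {p : ℕ}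
    (hp : p.Prime) (hpπ : p ∈ π) {x : X} (hx : x ∈ G) {j : ℕ} (hord : x ^ p ^ j = 1) :
    ∃ g ∈ G, g * x * g⁻¹ ∈ H := by
  haveI : Fact p.Prime := ⟨hp⟩
  obtain ⟨P⟩ : Nonempty (Sylow p ↥(H.subgroupOf G)) := Sylow.nonempty
  obtain ⟨P', hP'⟩ : ∃ P' : Subgroup G, P' = (P : Subgroup (H.subgroupOf G)).map (H.subgroupOf G).subtype :=
    ⟨_, rfl⟩
  have hP'p : IsPGroup p P' := hP' ▸ P.isPGroup'.map _
  have hle : P' ≤ H.subgroupOf G := hP' ▸ Subgroup.map_subtype_le _
  have hidx : ¬ p ∣ P'.index := by
    rw [← Subgroup.relIndex_mul_index hle]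
    refine hp.not_dvd_mul ?_ (h.2.2 p hp hpπ)
    rw [hP', Subgroup.relIndex]
    show ¬ p ∣ (Subgroup.comap _ (Subgroup.map _ _)).index
    rw [Subgroup.comap_map_eq_self_of_injective (Subgroup.subtype_injective _)]
    exact P.not_dvd_index
  obtain ⟨S, hS⟩ := hP'p.exists_le_sylow
  have hS' : (S : Subgroup G) = P' := by
    refine le_antisymm ?_ hS
    obtain ⟨k, hk⟩ := S.isPGroup'.index (H := P'.subgroupOf (S : Subgroup G))
    have h1 : P'.relIndex (S : Subgroup G) * (S : Subgroup G).index = P'.index := Subgroup.relIndex_mul_index hS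
    rcases k with _ | k
    · exact Subgroup.relIndex_eq_one.1 (by rw [Subgroup.relIndex, hk, pow_zero])
    · exact absurd (h1 ▸ (Dvd.dvd.mul_right (by rw [Subgroup.relIndex, hk]; exact dvd_pow_self p (by omega)) _))
        hidx
  obtain ⟨T, hT⟩ := (show IsPGroup p (Subgroup.zpowers (⟨x, hx⟩ : G)) from
    IsPGroup.of_card (n := Nat.card (Subgroup.zpowers (⟨x, hx⟩ : G)) |>.factorization p) (by
      obtain ⟨i, -, hi⟩ := (Nat.dvd_prime_pow hp).1 (orderOf_dvd_of_pow_eq_one
        (show (⟨x, hx⟩ : G) ^ p ^ j = 1 from Subtype.ext (by rw [SubmonoidClass.coe_pow]; exact hord)))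
      rw [Nat.card_zpowers, hi, Nat.factorization_pow, Finsupp.smul_apply, hp.factorization_self,
        smul_eq_mul, mul_one])).exists_le_sylow
  obtain ⟨g, hg⟩ := MulAction.exists_smul_eq G T S
  refine ⟨g.1, g.2, ?_⟩
  have h1 : g * ⟨x, hx⟩ * g⁻¹ ∈ (S : Subgroup G) := by
    rw [← hg]
    exact Subgroup.smul_mem_pointwise_smul _ (MulAut.conj g) _ (hT (Subgroup.mem_zpowers _))
  exact hle (hS' ▸ h1)

/-- A subgroup of small index contains the alternating group. -/
theorem alternating_le_of_small_index {G H : Subgroup (Perm α)} (h5 : 5 ≤ Fintype.card α)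
    (hG : alternatingGroup α ≤ G) (h : 2 * (H.relIndex G).factorial < (Fintype.card α).factorial) :
    alternatingGroup α ≤ H := by
  haveI : Nontrivial α := Fintype.one_lt_card_iff_nontrivial.1 (by omega)
  haveI := alternatingGroup.isSimpleGroup (α := α) (by rwa [Nat.card_eq_fintype_card])
  obtain ⟨K, hK⟩ : ∃ K, K = H.subgroupOf (alternatingGroup α) := ⟨_, rfl⟩
  have hKidx : K.index ≤ H.relIndex G := by
    rw [hK, ← Subgroup.relIndex]
    exact Subgroup.relIndex_le_of_le_right hG (by
      rw [Subgroup.relIndex]; exact Subgroup.index_ne_zero_of_finite)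
  rcases (inferInstance : K.normalCore.Normal).eq_bot_or_eq_top with hc | hc
  · exfalso
    haveI : FaithfulSMul (alternatingGroup α) (alternatingGroup α ⧸ K) := ⟨fun {a b} hab => by
      have h1 : a⁻¹ * b ∈ (MulAction.toPermHom (alternatingGroup α) (alternatingGroup α ⧸ K)).ker := by
        rw [MonoidHom.mem_ker, map_mul, map_inv, inv_mul_eq_one]
        exact Equiv.ext fun q => hab q
      rw [← Subgroup.normalCore_eq_ker, hc, Subgroup.mem_bot] at h1
      exact inv_mul_eq_one.1 h1⟩
    have h1 : Nat.card (alternatingGroup α) ≤ Nat.card (Perm (alternatingGroup α ⧸ K)) :=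
      Nat.card_le_card_of_injective _ (MulAction.toPerm_injective (α := alternatingGroup α)
        (β := alternatingGroup α ⧸ K))
    rw [Nat.card_perm, ← Subgroup.index_eq_card] at h1
    have h2 := two_mul_nat_card_alternatingGroup (α := α)
    rw [Nat.card_perm, Nat.card_eq_fintype_card (α := α)] at h2
    have := Nat.factorial_le hKidx
    omega
  · intro g hg
    have : (⟨g, hg⟩ : alternatingGroup α) ∈ K := K.normalCore_le (hc ▸ Subgroup.mem_top _)
    rw [hK] at this
    exact this

/-- The relative index in `G` of a subgroup with an odd element, if `G` is the alternating group. -/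
theorem relIndex_eq_index {G R : Subgroup (Perm α)} (hG : alternatingGroup α ≤ G)
    (hR : ¬ R ≤ alternatingGroup α) : R.relIndex G = R.index := by
  rcases eq_top_or_alternating hG with rfl | rfl
  · exact Subgroup.relIndex_top_right R
  haveI : Nontrivial α := by
    by_contra h
    rw [not_nontrivial_iff_subsingleton] at h
    exact hR fun x _ => by rw [Subsingleton.elim x 1]; exact one_mem _
  have h2 : (alternatingGroup α).index = 2 := alternatingGroup.index_eq_two
  have h1 : (alternatingGroup α).relIndex R = 2 := by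
    have hd := Subgroup.relIndex_dvd_index_of_normal (alternatingGroup α) R
    rw [h2] at hd
    rcases (Nat.dvd_prime Nat.prime_two).1 hd with h | h
    · exact absurd (Subgroup.relIndex_eq_one.1 h) hR
    · exact h
  have e1 := Subgroup.relIndex_mul_index (inf_le_left : alternatingGroup α ⊓ R ≤ alternatingGroup α)
  have e2 := Subgroup.relIndex_mul_index (inf_le_right : alternatingGroup α ⊓ R ≤ R)
  rw [Subgroup.inf_relIndex_right, h1] at e2
  rw [Subgroup.inf_relIndex_left, h2] at e1
  omega

/-- The permutations preserving a subset. -/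
def setStab (p : α → Prop) : Subgroup (Perm α) where
  carrier := {g | ∀ a, p (g a) ↔ p a}
  one_mem' a := Iff.rfl
  mul_mem' {g h} hg hh a := (hg (h a)).trans (hh a)
  inv_mem' {g} hg a := by rw [← hg (g⁻¹ a)]; simp

variable (p : α → Prop) [DecidablePred p]

theorem range_subtypeCongr : (Perm.subtypeCongrHom p).range = setStab p := by
  ext g
  constructor
  · rintro ⟨⟨a, b⟩, rfl⟩ x
    show p (Perm.subtypeCongr a b x) ↔ p x
    by_cases hx : p x
    · rw [Perm.subtypeCongr.left_apply _ _ hx]; exact iff_of_true (a ⟨x, hx⟩).2 hx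
    · rw [Perm.subtypeCongr.right_apply _ _ hx]; exact iff_of_false (b ⟨x, hx⟩).2 hx
  · intro hg
    refine ⟨⟨g.subtypePerm hg, g.subtypePerm fun a => not_congr (hg a)⟩, Equiv.ext fun x => ?_⟩
    show Perm.subtypeCongr _ _ x = g x
    by_cases hx : p x
    · rw [Perm.subtypeCongr.left_apply _ _ hx]; rfl
    · rw [Perm.subtypeCongr.right_apply _ _ hx]; rfl

theorem index_setStab :
    (setStab p).index = (Fintype.card α).choose (Fintype.card {a // p a}) := by
  have hc : Nat.card (setStab p) = (Fintype.card {a // p a}).factorial * (Fintype.card {a // ¬ p a}).factorial := by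
    rw [← range_subtypeCongr p,
      ← Nat.card_congr (MonoidHom.ofInjective (Perm.subtypeCongrHom_injective p)).toEquiv, Nat.card_prod,
      Nat.card_perm, Nat.card_perm, Nat.card_eq_fintype_card, Nat.card_eq_fintype_card]
  have h := (setStab p).index_mul_card
  rw [hc, Nat.card_perm, Nat.card_eq_fintype_card, Fintype.card_subtype_compl] at h
  have hle : Fintype.card {a // p a} ≤ Fintype.card α := Fintype.card_subtype_le p
  rw [← Nat.choose_mul_factorial_mul_factorial hle, mul_assoc] at h
  exact Nat.eq_of_mul_eq_mul_right (Nat.mul_pos (Nat.factorial_pos _) (Nat.factorial_pos _)) h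

/-- A Hall subgroup preserving a subset: the binomial coefficient is `π'` and both restrictions give
Hall subgroups on fewer points. -/
theorem split_hall {G H : Subgroup (Perm α)} (h3 : 3 ≤ Fintype.card α) (hG : alternatingGroup α ≤ G)
    (h : HallIn π H G) (hH : H ≤ setStab p) :
    IsFree π ((Fintype.card α).choose (Fintype.card {a // p a})) ∧
      ∃ H₁ G₁ : Subgroup (Perm {a // p a}), alternatingGroup {a // p a} ≤ G₁ ∧ HallIn π H₁ G₁ := by
  constructor
  · rw [← index_setStab p, ← relIndex_eq_index hG]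
    · have h1 := Subgroup.relIndex_mul_relIndex H (setStab p ⊓ G) G (le_inf hH h.1) inf_le_right
      rw [Subgroup.inf_relIndex_right] at h1
      exact h.2.2.of_dvd (Dvd.intro_left _ h1)
    · -- an odd element
      obtain ⟨a, b, hab, hiff⟩ : ∃ a b : α, a ≠ b ∧ (p a ↔ p b) := by
        obtain ⟨a, b, c, hab, hac, hbc⟩ := Fintype.two_lt_card_iff.1 (show 2 < Fintype.card α by omega)
        by_cases ha : p a <;> by_cases hb : p b <;> by_cases hc : p c <;>
          first
          | exact ⟨a, b, hab, by tauto⟩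
          | exact ⟨a, c, hac, by tauto⟩
          | exact ⟨b, c, hbc, by tauto⟩
      intro hle
      have h1 := Equiv.Perm.mem_alternatingGroup.1 (hle (x := Equiv.swap a b) fun x => by
        rcases eq_or_ne x a with rfl | hxa
        · rw [Equiv.swap_apply_left]; exact hiff.symm
        rcases eq_or_ne x b with rfl | hxb
        · rw [Equiv.swap_apply_right]; exact hiff
        rw [Equiv.swap_apply_of_ne_of_ne hxa hxb])
      rw [Equiv.Perm.sign_swap hab] at h1
      exact absurd h1 (by decide)
  · have hinj := Perm.subtypeCongrHom_injective p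
    have hr : H ≤ (Perm.subtypeCongrHom p).range := by rwa [range_subtypeCongr]
    refine ⟨(H.comap (Perm.subtypeCongrHom p)).map (MonoidHom.fst _ _), (G.comap (Perm.subtypeCongrHom p)).map (MonoidHom.fst _ _),
      fun a ha => ⟨(a, 1), hG ?_, rfl⟩, (h.comap _ hinj hr).map _⟩
    rw [Equiv.Perm.mem_alternatingGroup] at ha ⊢
    show Equiv.Perm.sign (Perm.subtypeCongr a 1) = 1
    rw [Equiv.Perm.sign_subtypeCongr, ha, map_one, one_mul]

omit p in
/-- A transitive Hall subgroup gives one on one point less, and the number of points is a `π`-number. -/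
theorem stab_hall {G H : Subgroup (Perm α)} (h3 : 3 ≤ Fintype.card α) (hG : alternatingGroup α ≤ G)
    (h : HallIn π H G) (htr : ∀ a b : α, ∃ g ∈ H, g a = b) (a : α) :
    IsPiNum π (Fintype.card α) ∧
      Fintype.card α * Nat.card ((H.comap (Perm.ofSubtype : Perm {x // x ≠ a} →* Perm α))) = Nat.card H ∧
      alternatingGroup {x // x ≠ a} ≤ G.comap (Perm.ofSubtype : Perm {x // x ≠ a} →* Perm α) ∧
      HallIn π (H.comap (Perm.ofSubtype : Perm {x // x ≠ a} →* Perm α))
        (G.comap (Perm.ofSubtype : Perm {x // x ≠ a} →* Perm α)) := by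
  obtain ⟨S, hS⟩ : ∃ S, S = (Perm.ofSubtype : Perm {x // x ≠ a} →* Perm α).range := ⟨_, rfl⟩
  have hSmem : ∀ g, g ∈ S ↔ g a = a := fun g => by
    rw [hS]
    constructor
    · rintro ⟨f, rfl⟩; exact Perm.ofSubtype_apply_of_not_mem f (by simp)
    · intro hg
      have hp : ∀ x, g x ≠ a ↔ x ≠ a := fun x => not_congr ⟨fun hx => g.injective (hx.trans hg.symm), fun hx => hx ▸ hg⟩
      exact ⟨g.subtypePerm hp, Perm.ofSubtype_subtypePerm hp fun x hx hxa => hx (by rw [hxa, hg])⟩
  have hinj : Function.Injective (Perm.ofSubtype : Perm {x // x ≠ a} →* Perm α) :=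
    Perm.ofSubtype_injective
  -- orbit and stabiliser
  have horb : ∀ K : Subgroup (Perm α), (∀ b, ∃ g ∈ K, g a = b) →
      S.relIndex K = Fintype.card α := fun K hK => by
    haveI : MulAction.IsPretransitive K α := ⟨fun b c => by
      obtain ⟨g, hg, rfl⟩ := hK b
      obtain ⟨g', hg', rfl⟩ := hK c
      exact ⟨⟨g', hg'⟩ * ⟨g, hg⟩⁻¹, by simp [Subgroup.smul_def]⟩⟩
    rw [Subgroup.relIndex, show S.subgroupOf K = MulAction.stabilizer K a from
      Subgroup.ext fun g => by rw [Subgroup.mem_subgroupOf, hSmem]; rfl,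
      MulAction.index_stabilizer_of_transitive, Nat.card_eq_fintype_card]
  have hHa := horb H (htr a)
  have hGa := horb G fun b => by obtain ⟨g, hg, hgb⟩ := htr a b; exact ⟨g, h.1 hg, hgb⟩
  have hcard : Fintype.card α * Nat.card (H.comap (Perm.ofSubtype : Perm {x // x ≠ a} →* Perm α)) =
      Nat.card H := by
    rw [← hHa, ← Subgroup.card_map_of_injective hinj, Subgroup.map_comap_eq, ← hS]
    have h1 := Subgroup.index_mul_card (S.subgroupOf H)
    rw [← Subgroup.relIndex] at h1
    rw [← h1]
    congr 1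
    exact (Nat.card_congr (Subgroup.subgroupOfEquivOfLe (inf_le_right : S ⊓ H ≤ H)).toEquiv).symm.trans
      (by rw [Subgroup.inf_subgroupOf_right])
  have hA : alternatingGroup {x // x ≠ a} ≤ G.comap (Perm.ofSubtype : Perm {x // x ≠ a} →* Perm α) :=
    fun f hf => hG (by
      rw [Equiv.Perm.mem_alternatingGroup] at hf ⊢
      rw [Perm.sign_ofSubtype]; exact hf)
  refine ⟨h.2.1.of_dvd (Dvd.intro _ hcard), hcard, hA,
    ⟨Subgroup.comap_mono h.1, h.2.1.of_dvd (Dvd.intro_left _ hcard), ?_⟩⟩
  rw [Subgroup.relIndex_comap, Subgroup.map_comap_eq, ← hS]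
  -- the two ways through the lattice
  have e1 := Subgroup.relIndex_mul_relIndex (S ⊓ H) H G inf_le_right h.1
  have e2 := Subgroup.relIndex_mul_relIndex (S ⊓ H) (S ⊓ G) G (inf_le_inf_left S h.1) inf_le_right
  rw [Subgroup.inf_relIndex_right, hHa] at e1
  rw [Subgroup.inf_relIndex_right, hGa, ← e1, mul_comm] at e2
  have e4 : (S ⊓ H).relIndex (S ⊓ G) = H.relIndex (S ⊓ G) := by
    conv_rhs => rw [← Subgroup.inf_relIndex_right]
    rw [show H ⊓ (S ⊓ G) = S ⊓ H by rw [inf_left_comm, inf_eq_left.2 h.1]]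
  rw [← e4]
  refine h.2.2.of_dvd (dvd_of_eq ?_)
  exact Nat.eq_of_mul_eq_mul_left (by omega : 0 < Fintype.card α) (by linarith)

end CfsgLib.KnownC.HallPerm
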