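import Mathlib
import Cfsg.Agent.Lib.KnownC.HallPermBasic
import Cfsg.Agent.Lib.Char.Burnside
import Cfsg.Agent.Lib.Perm.Basic

set_option autoImplicit false
set_option linter.unusedSectionVars false

/-!
The numbers of points for which the symmetric or alternating group has a Hall subgroup.
-/

namespace CfsgLib.KnownC.HallPerm

open Equiv

universe u

variable {π : Set ℕ}

/-- A point stabiliser in a transitive group of prime degree with an abelian normal subgroup has order
dividing `n - 1`. -/
theorem card_stabilizer_dvd_of_solvable {G X : Type*} [Group G] [Finite G] [Finite X] [MulAction G X]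
    [FaithfulSMul G X] [MulAction.IsPretransitive G X] (hp : (Nat.card X).Prime) (hs : Group.IsSolvable G)
    (a : X) : Nat.card (MulAction.stabilizer G a) ∣ Nat.card X - 1 := by
  classical
  haveI := hs
  haveI : Nontrivial G := by
    obtain ⟨b, hb⟩ : ∃ b, b ≠ a := by
      haveI : Nontrivial X := Finite.one_lt_card_iff_nontrivial.1 hp.one_lt
      exact exists_ne a
    obtain ⟨g, hg⟩ := MulAction.exists_smul_eq G a b
    exact ⟨⟨g, 1, fun h => hb (by rw [← hg, h, one_smul])⟩⟩
  obtain ⟨k, hk⟩ := (Group.isSolvable_def G).1 hs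
  obtain ⟨D, hDn, hD, hDab⟩ : ∃ D : Subgroup G, D.Normal ∧ D ≠ ⊥ ∧ ∀ x ∈ D, ∀ y ∈ D, x * y = y * x := by
    have hex : ∃ j, derivedSeries G j = ⊥ := ⟨k, hk⟩
    obtain ⟨j, hj⟩ : ∃ j, Nat.find hex = j + 1 := ⟨Nat.find hex - 1, by
      have : Nat.find hex ≠ 0 := fun h => by
        have := Nat.find_spec hex
        rw [h, derivedSeries_zero] at this
        exact top_ne_bot this
      omega⟩
    refine ⟨derivedSeries G j, derivedSeries_normal G j, Nat.find_min hex (by omega), fun x hx y hy => ?_⟩
    have h := Nat.find_spec hex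
    rw [hj, derivedSeries_succ] at h
    have h1 := Subgroup.commutator_mem_commutator hx hy
    rw [h, Subgroup.mem_bot, commutatorElement_eq_one_iff_mul_comm] at h1
    exact h1
  haveI := hDn
  haveI : MulAction.IsPreprimitive G X := MulAction.IsPreprimitive.of_prime_card hp
  haveI : MulAction.IsPretransitive D X := CfsgLib.Perm.normal_isPretransitive hD
  have hreg : ∀ d : D, ∀ x : X, d • x = x → d = 1 := fun d x hx => by
    refine Subtype.ext (eq_of_smul_eq_smul (α := X) fun y => ?_)
    obtain ⟨e, rfl⟩ := MulAction.exists_smul_eq D x y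
    show d.1 • (e.1 • x) = (1 : G) • (e • x)
    rw [one_smul, ← mul_smul, hDab _ d.2 _ e.2, mul_smul, show d.1 • x = x from hx]
    rfl
  have hcard : Nat.card D = Nat.card X :=
    Nat.card_eq_of_bijective (fun d : D => d • a) ⟨fun d e h => by
      have h' : (e⁻¹ * d) • a = a := by
        rw [mul_smul]; show e⁻¹ • (fun d : D => d • a) d = a
        rw [h]; exact inv_smul_smul e a
      exact (inv_mul_eq_one.1 (hreg _ a h')).symm, fun x => MulAction.exists_smul_eq D a x⟩
  haveI : Fact (Nat.card X).Prime := ⟨hp⟩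
  haveI : IsCyclic D := isCyclic_of_prime_card hcard
  have haut : Nat.card (MulAut D) = Nat.card X - 1 := by
    rw [IsCyclic.card_mulAut, hcard, Nat.totient_prime hp]
  rw [← haut]
  refine Subgroup.card_dvd_of_injective
    ((MulAut.conjNormal (H := D)).comp (MulAction.stabilizer G a).subtype) fun g h hgh => ?_
  refine Subtype.ext (eq_of_smul_eq_smul (α := X) fun y => ?_)
  obtain ⟨d, rfl⟩ := MulAction.exists_smul_eq D a y
  have h1 := congrArg Subtype.val (DFunLike.congr_fun hgh d)
  simp only [MonoidHom.comp_apply, Subgroup.coe_subtype, MulAut.conjNormal_apply] at h1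
  have key : ∀ g : MulAction.stabilizer G a, g.1 • (d • a) = (g.1 * d.1 * (g.1)⁻¹) • a := fun g => by
    rw [mul_smul, mul_smul, inv_smul_eq_iff.2 (MulAction.mem_stabilizer_iff.1 g.2).symm]
    rfl
  rw [key, key, h1]

variable {α : Type*} [Fintype α] [DecidableEq α]

/-- A transitive Hall subgroup on a prime number of points forces all smaller primes into `π`. -/
theorem prime_transitive {G H : Subgroup (Perm α)} (hG : alternatingGroup α ≤ G) (h : HallIn π H G)
    (h5 : 5 ≤ Fintype.card α) (hn : (Fintype.card α).Prime) (htr : ∀ a b : α, ∃ g ∈ H, g a = b)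
    {r : ℕ} (hr : r.Prime) (hrπ : r ∈ π) (hrn : r < Fintype.card α) (hS : Small π (Fintype.card α - 1)) :
    AllPrimes π (Fintype.card α) := by
  obtain ⟨a⟩ : Nonempty α := Fintype.card_pos_iff.1 (by omega)
  obtain ⟨hnπ, hcard, -, -⟩ := stab_hall (by omega) hG h htr a
  obtain ⟨n, hn'⟩ : ∃ n, n = Fintype.card α := ⟨_, rfl⟩
  haveI : MulAction.IsPretransitive H α := ⟨fun x y => by
    obtain ⟨g, hg, hgx⟩ := htr x y
    exact ⟨⟨g, hg⟩, hgx⟩⟩
  obtain ⟨c, hc⟩ : ∃ c, c = Nat.card (MulAction.stabilizer H a) := ⟨_, rfl⟩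
  have hHc : Nat.card H = n * c := by
    have h1 := Subgroup.index_mul_card (MulAction.stabilizer H a)
    rw [MulAction.index_stabilizer_of_transitive, Nat.card_eq_fintype_card (α := α), ← hc, ← hn'] at h1
    exact h1.symm
  have hcH : c ∣ Nat.card H := ⟨n, by rw [hHc, mul_comm]⟩
  have hHn : Nat.card H ∣ n.factorial := by
    rw [hn', ← Nat.card_eq_fintype_card, ← Nat.card_perm]
    exact Subgroup.card_subgroup_dvd_card H
  -- the stabiliser is an `r`-group
  have hcr : c = r ^ c.factorization r := by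
    have hc0 : c ≠ 0 := hc ▸ Nat.card_pos.ne'
    refine Nat.eq_pow_of_factorization_eq_single hc0 ?_
    ext p
    by_cases hpr : p = r
    · subst hpr; simp
    rw [Finsupp.single_eq_of_ne hpr]
    by_contra hne
    have hp : p.Prime := Nat.prime_of_mem_primeFactors (by
      rw [← Nat.support_factorization]; exact Finsupp.mem_support_iff.2 hne)
    have hpc : p ∣ c := Nat.dvd_of_factorization_pos hne
    have hpn1 : p ≤ n - 1 := by
      have hd : n * c ∣ n * (n - 1).factorial := by
        rw [Nat.mul_factorial_pred (by omega), ← hHc]; exact hHn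
      exact hp.dvd_factorial.1 (hpc.trans (Nat.dvd_of_mul_dvd_mul_left (by omega) hd))
    exact hpr (hS p r hp hr (h.2.1 p hp (hpc.trans hcH)) hrπ (hn' ▸ hpn1) (by omega))
  have hsol : Group.IsSolvable H := CfsgLib.Char.burnside_pq n r (hn' ▸ hn) hr 1 (c.factorization r) H
    (by rw [pow_one, ← hcr]; exact hHc)
  have hc1 : c ∣ n - 1 := by
    rw [hc, hn', ← Nat.card_eq_fintype_card]
    exact card_stabilizer_dvd_of_solvable (by rwa [Nat.card_eq_fintype_card]) hsol a
  -- the `r`-part of `G` is larger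
  have hpart : ∀ i, r ^ i ∣ Nat.card G → r ^ i ∣ n - 1 := fun i hi => by
    refine dvd_trans ?_ hc1
    have hcop : Nat.Coprime (r ^ i) n := Nat.Coprime.pow_left _
      ((Nat.coprime_primes hr (hn' ▸ hn)).2 (by omega))
    refine hcop.dvd_of_dvd_mul_left ?_
    rw [← hHc]
    have h1 : Nat.card H * H.relIndex G = Nat.card G := by
      have := Subgroup.relIndex_mul_index h.1
      have h2 := H.index_mul_card
      have h3 := G.index_mul_card
      rw [← h3, ← this] at h2
      have hG0 : G.index ≠ 0 := Subgroup.index_ne_zero_of_finite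
      exact Nat.eq_of_mul_eq_mul_left (Nat.pos_of_ne_zero hG0) (by linarith)
    rw [← h1] at hi
    exact (Nat.Coprime.pow_left i ((Nat.Prime.coprime_iff_not_dvd hr).2 (h.2.2 r hr hrπ))).dvd_of_dvd_mul_right hi
  obtain ⟨v, hv⟩ : ∃ v, v = (n - 1).factorization r := ⟨_, rfl⟩
  have hv1 : r ^ v ∣ n - 1 := hv ▸ Nat.ordProj_dvd _ _
  have hv2 : ¬ r ^ (v + 1) ∣ n - 1 := hv ▸ Nat.pow_succ_factorization_not_dvd (by omega) hr
  by_cases h25 : r = 2 ∧ n = 5
  · obtain ⟨rfl, h5'⟩ := h25
    have hcard' : Nat.card H * H.relIndex G = Nat.card G := by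
      have := Subgroup.relIndex_mul_index h.1
      have h2 := H.index_mul_card
      have h3 := G.index_mul_card
      rw [← h3, ← this] at h2
      have hG0 : G.index ≠ 0 := Subgroup.index_ne_zero_of_finite
      exact Nat.eq_of_mul_eq_mul_left (Nat.pos_of_ne_zero hG0) (by linarith)
    refine allPrimes_of_alternating_le (by omega) h (alternating_le_of_small_index h5 hG ?_)
    rcases eq_top_or_alternating hG with rfl | rfl
    · exfalso
      have h8 : 2 ^ 3 ∣ n - 1 := hpart 3 (by
        rw [Subgroup.card_top, Nat.card_perm, Nat.card_eq_fintype_card, ← hn', h5']; decide)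
      rw [h5'] at h8
      norm_num at h8
    · haveI : Nontrivial α := Fintype.one_lt_card_iff_nontrivial.1 (by omega)
      have h2' := two_mul_nat_card_alternatingGroup (α := α)
      rw [Nat.card_perm, Nat.card_eq_fintype_card (α := α), ← hn', h5', ← hcard', hHc, h5',
        show Nat.factorial 5 = 120 from rfl] at h2'
      have h4 : 2 ^ 2 ∣ c := by
        refine Nat.Coprime.dvd_of_dvd_mul_left (show Nat.Coprime (2 ^ 2) 5 by norm_num) ?_
        rw [← h5', ← hHc]
        have h6 : 2 ^ 2 ∣ Nat.card H * H.relIndex (alternatingGroup α) := by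
          rw [hHc, h5']; exact ⟨15, by linarith⟩
        exact (Nat.Coprime.pow_left 2 ((Nat.Prime.coprime_iff_not_dvd hr).2 (h.2.2 2 hr hrπ))).dvd_of_dvd_mul_right h6
      have h7 : c ∣ 4 := by rw [h5'] at hc1; exact hc1
      have hc4 : c = 4 := Nat.dvd_antisymm h7 h4
      subst hc4
      have h9 : H.relIndex (alternatingGroup α) = 3 := by omega
      rw [h9, ← hn', h5']
      decide
  · exfalso
    refine hv2 (hpart (v + 1) (half_factorial_dvd_card hG ?_))
    rw [← hn']
    obtain ⟨j, rfl⟩ : ∃ j, n = j + 2 := ⟨n - 2, by omega⟩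
    have hr1 : r < j + 1 := by
      have : Odd (j + 2) := (hn' ▸ hn).odd_of_ne_two (by omega)
      rcases lt_or_eq_of_le (show r ≤ j + 1 by omega) with h' | h'
      · exact h'
      rcases hr.eq_two_or_odd' with rfl | hro
      · omega
      · rw [Nat.odd_iff] at *; omega
    have hfac : (j + 1) * j.factorial ∣ (j + 2).factorial := by
      rw [← Nat.factorial_succ]; exact Nat.factorial_dvd_factorial (by omega)
    rcases hr.eq_two_or_odd' with rfl | hro
    · have h4 : 2 * 2 ∣ j.factorial :=
        (show 2 * 2 ∣ Nat.factorial 4 by decide).trans (Nat.factorial_dvd_factorial (by omega))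
      refine dvd_trans ?_ hfac
      rw [show 2 * 2 ^ (v + 1) = 2 ^ v * (2 * 2) by ring]
      exact Nat.mul_dvd_mul hv1 h4
    · have hodd : Odd (r ^ (v + 1)) := hro.pow
      refine Nat.Coprime.mul_dvd_of_dvd_of_dvd (Nat.coprime_two_left.2 hodd)
        (Nat.dvd_factorial two_pos (by omega)) (dvd_trans ?_ hfac)
      rw [pow_succ]
      exact Nat.mul_dvd_mul hv1 (Nat.dvd_factorial hr.pos (by omega))

/-- A transitive Hall subgroup of nine points with `2, 3 ∈ π` contains the alternating group. -/
theorem nine_points {G H : Subgroup (Perm α)} (hG : alternatingGroup α ≤ G) (h : HallIn π H G)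
    (h9 : Fintype.card α = 9) (h2 : 2 ∈ π) (h3 : 3 ∈ π) (htr : ∀ a b : α, ∃ g ∈ H, g a = b) :
    alternatingGroup α ≤ H := by
  classical
  have hfix : ∀ a b c : α, b ≠ a → c ≠ a → ∃ g ∈ H, g a = a ∧ g b = c := by
    intro a
    obtain ⟨-, -, hA', hH'⟩ := stab_hall (by omega) hG h htr a
    obtain ⟨H', hH'def⟩ : ∃ H', H' = H.comap (Perm.ofSubtype : Perm {x // x ≠ a} →* Perm α) := ⟨_, rfl⟩
    rw [← hH'def] at hH'
    intro b c hb hc
    by_contra hcon
    have hc8 : Fintype.card {x : α // x ≠ a} = 8 := by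
      rw [Fintype.card_subtype_compl, Fintype.card_subtype_eq, h9]
    let p : {x : α // x ≠ a} → Prop := fun x => ∃ g ∈ H', g ⟨b, hb⟩ = x
    have hle : H' ≤ setStab p := fun g hg x => by
      constructor
      · rintro ⟨k, hk, hkx⟩
        exact ⟨g⁻¹ * k, H'.mul_mem (H'.inv_mem hg) hk, by simp [hkx]⟩
      · rintro ⟨k, hk, rfl⟩
        exact ⟨g * k, H'.mul_mem hg hk, rfl⟩
    obtain ⟨hfree, -⟩ := split_hall p (by omega) hA' hH' hle
    have h1 : 0 < Fintype.card {x // p x} :=
      Fintype.card_pos_iff.2 ⟨⟨⟨b, hb⟩, 1, H'.one_mem, rfl⟩⟩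
    have h8 : Fintype.card {x // p x} < 8 := by
      rw [← hc8]
      refine Fintype.card_subtype_lt (x := ⟨c, hc⟩) ?_
      rintro ⟨g, hg, hgx⟩
      rw [hH'def, Subgroup.mem_comap] at hg
      refine hcon ⟨_, hg, Perm.ofSubtype_apply_of_not_mem g (by simp), ?_⟩
      have := congrArg Subtype.val hgx
      rwa [← Perm.ofSubtype_apply_coe g ⟨b, hb⟩] at this
    rw [hc8] at hfree
    have hev : ∀ k < 8, 0 < k → 2 ∣ Nat.choose 8 k := by decide
    exact hfree 2 Nat.prime_two h2 (hev _ h8 h1)
  have hprim : MulAction.IsPreprimitive H α := by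
    refine MulAction.isPreprimitive_of_is_two_pretransitive (MulAction.is_two_pretransitive_iff.2 ?_)
    intro a b c d hab hcd
    obtain ⟨g, hg, hga⟩ := htr a c
    obtain ⟨k, hk, hkc, hkb⟩ := hfix c (g b) d (fun h => hab (g.injective (hga.trans h.symm))) (Ne.symm hcd)
    exact ⟨⟨k * g, H.mul_mem hk hg⟩, show k (g a) = c by rw [hga, hkc], hkb⟩
  obtain ⟨a, b, c, hab, hac, hbc⟩ := Fintype.two_lt_card_iff.1 (show 2 < Fintype.card α by omega)
  have h3c : (Equiv.swap a b * Equiv.swap a c).IsThreeCycle :=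
    Equiv.Perm.isThreeCycle_swap_mul_swap_same hab hac hbc
  obtain ⟨g, -, hg⟩ := exists_conj_mem h (p := 3) Nat.prime_three h3 (j := 1)
    (hG h3c.mem_alternatingGroup) (by rw [pow_one, ← h3c.orderOf]; exact pow_orderOf_eq_one _)
  refine Equiv.Perm.alternatingGroup_le_of_isPreprimitive_of_isThreeCycle_mem hprim ?_ hg
  rw [Equiv.Perm.IsThreeCycle, Equiv.Perm.cycleType_conj]
  exact h3c

/-- The intransitive case. -/
theorem allowed_of_split {k l : ℕ} (hk : 1 ≤ k) (hkl : k ≤ l) (hfree : IsFree π ((k + l).choose k))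
    (hl : Allowed π l) : Allowed π (k + l) := by
  have hbig : ∀ p, p.Prime → p ∈ π → p ≤ k + l → p ≤ l := fun p hp hpπ hpn => by
    by_contra h
    exact hfree p hp hpπ (hp.dvd_choose_add (by omega) (by omega) hpn)
  by_cases hS : Small π (k + l)
  · exact Or.inl hS
  have hSl : ¬ Small π l := fun h => hS fun p q hp hq hpπ hqπ hpn hqn =>
    h p q hp hq hpπ hqπ (hbig p hp hpπ hpn) (hbig q hq hqπ hqn)
  have hexcl : (∀ p, p.Prime → p ∣ l + 1 → p ∈ π) → False := fun h => by
    have := Nat.le_of_dvd (by omega) (dvd_of_succ (x := k) (y := l) fun p hp hpd => hfree p hp (h p hp hpd))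
    omega
  rcases hl with h | h | h | h
  · exact absurd h hSl
  · by_cases hA : AllPrimes π (k + l)
    · exact Or.inr (Or.inl hA)
    obtain ⟨q, hq, hqn, hqπ⟩ : ∃ q, q.Prime ∧ q ≤ k + l ∧ q ∉ π := by
      by_contra hcon
      exact hA fun p hp hpn => by_contra fun hpπ => hcon ⟨p, hp, hpn, hpπ⟩
    rcases Nat.lt_or_ge k 2 with hk2 | hk2
    · have hq1 : q = k + l := by
        by_contra hne
        exact hqπ (h q hq (by omega))
      refine Or.inr (Or.inr (Or.inl ⟨hq1 ▸ hq, fun p hp hpn => ⟨fun hpπ => ?_, fun hpl => h p hp (by omega)⟩⟩))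
      refine lt_of_le_of_ne hpn fun he => hqπ ?_
      rwa [hq1, ← he]
    · obtain ⟨rfl, rfl⟩ := eq_seven_three hk2 hkl fun p hp hpl => hfree p hp (h p hp hpl)
      refine Or.inr (Or.inr (Or.inr ⟨Or.inl rfl, fun p hp hp7 => ⟨fun hpπ => ?_, ?_⟩⟩))
      · have h4 := hbig p hp hpπ hp7
        interval_cases p <;> first | omega | (exfalso; revert hp; norm_num)
      · rintro (rfl | rfl) <;> exact h _ hp (by norm_num)
  · exfalso
    obtain ⟨hlp, hl'⟩ := h
    rcases hlp.eq_two_or_odd' with rfl | hodd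
    · exact hSl fun p q hp hq _ _ hp2 hq2 => by have := hp.two_le; have := hq.two_le; omega
    · refine hexcl fun p hp hpd => ?_
      have hnp : ¬ (l + 1).Prime := fun h => by
        have := h.odd_of_ne_two (by have := hlp.two_le; omega)
        rw [Nat.odd_iff] at *; omega
      have hl3 : 3 ≤ l := by have := hlp.two_le; rw [Nat.odd_iff] at hodd; omega
      have hple := prime_factor_le (b := l - 1) hnp (by omega) hp hpd (by omega)
      exact (hl' p hp (by omega)).2 (by omega)
  · exfalso
    obtain ⟨rfl | rfl, hl'⟩ := h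
    · refine hexcl fun p hp hpd => ?_
      have hp2 : p = 2 := (Nat.prime_dvd_prime_iff_eq hp Nat.prime_two).1 (hp.dvd_of_dvd_pow (n := 3) hpd)
      exact (hl' p hp (by omega)).2 (Or.inl hp2)
    · refine hexcl fun p hp hpd => ?_
      have hp2 : p = 3 := (Nat.prime_dvd_prime_iff_eq hp Nat.prime_three).1 (hp.dvd_of_dvd_pow (n := 2) hpd)
      exact (hl' p hp (by omega)).2 (Or.inr hp2)

/-- The classification. -/
theorem classify (n : ℕ) : ∀ (α : Type u) [Fintype α] [DecidableEq α], Fintype.card α = n →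
    ∀ G H : Subgroup (Perm α), alternatingGroup α ≤ G → HallIn π H G → Allowed π n := by
  induction n using Nat.strong_induction_on with
  | _ n ih =>
  intro α _ _ hα G H hG h
  classical
  by_cases hS : Small π n
  · exact Or.inl hS
  by_cases hA : AllPrimes π n
  · exact Or.inr (Or.inl hA)
  obtain ⟨r, s, hr, hs, hrπ, hsπ, hrn, hsn, hrs⟩ : ∃ r s : ℕ, r.Prime ∧ s.Prime ∧ r ∈ π ∧ s ∈ π ∧
      r ≤ n ∧ s ≤ n ∧ r ≠ s := by
    by_contra hcon
    exact hS fun p q hp hq hpπ hqπ hpn hqn => by_contra fun hne =>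
      hcon ⟨p, q, hp, hq, hpπ, hqπ, hpn, hqn, hne⟩
  obtain ⟨q, hq, hqn, hqπ⟩ : ∃ q, q.Prime ∧ q ≤ n ∧ q ∉ π := by
    by_contra hcon
    exact hA fun p hp hpn => by_contra fun hpπ => hcon ⟨p, hp, hpn, hpπ⟩
  have h5 : 5 ≤ n := by
    by_contra hlt
    have hqr : q ≠ r := fun e => hqπ (e ▸ hrπ)
    have hqs : q ≠ s := fun e => hqπ (e ▸ hsπ)
    have key : ∀ p, p.Prime → p ≤ n → p = 2 ∨ p = 3 := fun p hp hpn => by
      have := hp.two_le
      by_contra hc
      push Not at hc
      obtain rfl : p = 4 := by omega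
      exact absurd hp (by norm_num)
    rcases key r hr hrn with h1 | h1 <;> rcases key s hs hsn with h2 | h2 <;>
      rcases key q hq hqn with h3 | h3 <;> omega
  obtain ⟨a⟩ : Nonempty α := Fintype.card_pos_iff.1 (by omega)
  by_cases htr : ∀ b, ∃ g ∈ H, g a = b
  · have htr' : ∀ x y : α, ∃ g ∈ H, g x = y := fun x y => by
      obtain ⟨g, hg, rfl⟩ := htr x
      obtain ⟨k, hk, rfl⟩ := htr y
      exact ⟨k * g⁻¹, H.mul_mem hk (H.inv_mem hg), by simp⟩
    obtain ⟨hnπ, -, hA', hH'⟩ := stab_hall (by omega) hG h htr' a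
    rw [hα] at hnπ
    have hc1 : Fintype.card {x : α // x ≠ a} = n - 1 := by
      rw [Fintype.card_subtype_compl, Fintype.card_subtype_eq, hα]
    rcases ih (n - 1) (by omega) _ hc1 _ _ hA' hH' with h1 | h1 | h1 | h1
    · -- `n` is a prime
      have hn : n.Prime := by
        by_contra hnp
        refine hrs (h1 r s hr hs hrπ hsπ ?_ ?_)
        · rcases lt_or_eq_of_le hrn with h' | h'
          · omega
          · exact absurd (h' ▸ hr) hnp
        · rcases lt_or_eq_of_le hsn with h' | h'
          · omega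
          · exact absurd (h' ▸ hs) hnp
      refine absurd ?_ hA
      rw [← hα]
      rcases lt_or_eq_of_le hrn with h' | h'
      · exact prime_transitive hG h (by omega) (hα ▸ hn) htr' hr hrπ (by omega) (hα ▸ h1)
      · exact prime_transitive hG h (by omega) (hα ▸ hn) htr' hs hsπ (by omega) (hα ▸ h1)
    · refine absurd ?_ hA
      intro p hp hpn
      rcases lt_or_eq_of_le hpn with h' | h'
      · exact h1 p hp (by omega)
      · exact hnπ p hp (h' ▸ dvd_rfl)
    · -- `n - 1 = q`
      obtain ⟨hq1, hlow⟩ := h1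
      have hnot : n - 1 ∉ π := fun hπ => by
        have := (hlow (n - 1) hq1 le_rfl).1 hπ
        omega
      refine absurd ?_ hA
      rw [← hα]
      refine allPrimes_of_alternating_le (by omega) h (alternating_le_of_small_index (by omega) hG ?_)
      have hnn : ¬ n.Prime := fun hn => by
        have h2 := hn.odd_of_ne_two (by omega)
        have h3 := hq1.odd_of_ne_two (by omega)
        rw [Nat.odd_iff] at h2 h3; omega
      have hd : H.relIndex G ∣ n.factorial := by
        rw [← hα, ← Nat.card_eq_fintype_card, ← Nat.card_perm]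
        exact (Subgroup.relIndex_dvd_card H G).trans (Subgroup.card_subgroup_dvd_card G)
      have hdle : H.relIndex G ≤ n - 1 := by
        refine Nat.le_of_dvd (by omega) ((Nat.dvd_iff_prime_pow_dvd_dvd _ _).2 fun p i hp hpi => ?_)
        rcases Nat.eq_zero_or_pos i with rfl | hi
        · simp
        have hpd : p ∣ H.relIndex G := (dvd_pow_self p hi.ne').trans hpi
        have hpn : p ≤ n := hp.dvd_factorial.1 (hpd.trans hd)
        have hpne : p ≠ n := fun e => hnn (e ▸ hp)
        have hpq : p = n - 1 := by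
          by_contra hne
          exact h.2.2 p hp ((hlow p hp (by omega)).2 (by omega)) hpd
        subst hpq
        have hi1 : i = 1 := by
          by_contra hne
          obtain ⟨j, rfl⟩ : ∃ j, n = j + 2 := ⟨n - 2, by omega⟩
          simp only [show j + 2 - 1 = j + 1 by omega] at *
          have h2 : (j + 1) ^ 2 ∣ (j + 2).factorial := (pow_dvd_pow _ (by omega)).trans (hpi.trans hd)
          rw [Nat.factorial_succ, Nat.factorial_succ, pow_two, mul_left_comm] at h2
          have h3 := Nat.dvd_of_mul_dvd_mul_left (by omega) h2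
          rcases (Nat.Prime.dvd_mul hp).1 h3 with h4 | h4
          · have := (Nat.dvd_add_right (dvd_refl (j + 1))).1 (show j + 1 ∣ j + 1 + 1 from h4)
            have := Nat.le_of_dvd one_pos this
            omega
          · have := hp.dvd_factorial.1 h4; omega
        rw [hi1, pow_one]
      rw [hα]
      calc 2 * (H.relIndex G).factorial ≤ 2 * (n - 1).factorial :=
            Nat.mul_le_mul_left 2 (Nat.factorial_le hdle)
        _ < n * (n - 1).factorial := Nat.mul_lt_mul_of_pos_right (by omega) (Nat.factorial_pos _)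
        _ = n.factorial := Nat.mul_factorial_pred (by omega)
    · obtain ⟨h78, hlow⟩ := h1
      rcases h78 with h' | h'
      · refine Or.inr (Or.inr (Or.inr ⟨Or.inr (by omega), fun p hp hpn => hlow p hp ?_⟩))
        rcases lt_or_eq_of_le hpn with h'' | h''
        · omega
        · exfalso; rw [show p = 8 by omega] at hp; revert hp; norm_num
      · refine absurd ?_ hA
        rw [← hα]
        exact allPrimes_of_alternating_le (by omega) h (nine_points hG h (by omega)
          ((hlow 2 Nat.prime_two (by omega)).2 (Or.inl rfl)) ((hlow 3 Nat.prime_three (by omega)).2 (Or.inr rfl)) htr')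
  · obtain ⟨b, hb⟩ := not_forall.1 htr
    let p : α → Prop := fun x => ∃ g ∈ H, g a = x
    have hle : H ≤ setStab p := fun g hg x => by
      constructor
      · rintro ⟨k, hk, hkx⟩
        exact ⟨g⁻¹ * k, H.mul_mem (H.inv_mem hg) hk, by simp [hkx]⟩
      · rintro ⟨k, hk, rfl⟩
        exact ⟨g * k, H.mul_mem hg hk, rfl⟩
    have hle' : H ≤ setStab fun x => ¬ p x := fun g hg x => not_congr (hle hg x)
    obtain ⟨hfree, H₁, G₁, hA₁, hH₁⟩ := split_hall p (by omega) hG h hle
    obtain ⟨-, H₂, G₂, hA₂, hH₂⟩ := split_hall (fun x => ¬ p x) (by omega) hG h hle'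
    obtain ⟨k, hk⟩ : ∃ k, k = Fintype.card {x // p x} := ⟨_, rfl⟩
    obtain ⟨l, hl⟩ : ∃ l, l = Fintype.card {x // ¬ p x} := ⟨_, rfl⟩
    have hkl : k + l = n := by
      rw [hk, hl, ← hα, Fintype.card_subtype_compl]
      have := Fintype.card_subtype_le p
      omega
    have hk1 : 1 ≤ k := hk ▸ Fintype.card_pos_iff.2 ⟨⟨a, 1, H.one_mem, rfl⟩⟩
    have hl1 : 1 ≤ l := hl ▸ Fintype.card_pos_iff.2 ⟨⟨b, hb⟩⟩
    rw [hα, ← hk, ← hkl] at hfree
    rcases le_total k l with hc | hc
    · exact hkl ▸ allowed_of_split hk1 hc hfree (ih l (by omega) _ hl.symm _ _ hA₂ hH₂)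
    · rw [← hkl, add_comm]
      refine allowed_of_split hl1 hc ?_ (ih k (by omega) _ hk.symm _ _ hA₁ hH₁)
      rw [add_comm l k, ← Nat.choose_symm_add]
      exact hfree

end CfsgLib.KnownC.HallPerm
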