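import Mathlib
import Cfsg.Agent.Lib.KnownC.HallPermClass

set_option autoImplicit false
set_option linter.unusedSectionVars false

/-!
Existence and conjugacy of the Hall subgroups of symmetric and alternating groups.
-/

namespace CfsgLib.KnownC.HallPerm

open Equiv
open scoped Pointwise

universe u

variable {π : Set ℕ}

section General

variable {X : Type*} [Group X] [Finite X]

theorem card_mul_relIndex {H G : Subgroup X} (h : H ≤ G) : Nat.card H * H.relIndex G = Nat.card G := by
  rw [Subgroup.relIndex, mul_comm, ← Nat.card_congr (Subgroup.subgroupOfEquivOfLe h).toEquiv,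
    Subgroup.index_mul_card]

/-- Hall subgroups of the same group have the same order. -/
theorem HallIn.card_eq {H K G : Subgroup X} (hH : HallIn π H G) (hK : HallIn π K G) :
    Nat.card H = Nat.card K := by
  have key : ∀ {H K : Subgroup X}, HallIn π H G → HallIn π K G → Nat.card H ∣ Nat.card K := by
    intro H K hH hK
    have hcop : Nat.Coprime (Nat.card H) (K.relIndex G) := Nat.coprime_of_dvd fun p hp hpH hpK =>
      hK.2.2 p hp (hH.2.1 p hp hpH) hpK
    refine hcop.dvd_of_dvd_mul_right ?_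
    rw [card_mul_relIndex hK.1, ← card_mul_relIndex hH.1]
    exact dvd_mul_right _ _
  exact Nat.dvd_antisymm (key hH hK) (key hK hH)

/-- A Hall subgroup inside another subgroup with the Hall order is equal to it. -/
theorem HallIn.eq_of_le {H K G : Subgroup X} (hH : HallIn π H G) (hK : HallIn π K G) (hle : H ≤ K) :
    H = K :=
  Subgroup.eq_of_le_of_card_ge hle (hH.card_eq hK).ge

theorem HallIn.conj {H G : Subgroup X} (h : HallIn π H G) {g : X} (hg : g ∈ G) :
    HallIn π (H.map (MulAut.conj g).toMonoidHom) G := by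
  have hG : G.map (MulAut.conj g).toMonoidHom = G := by
    refine le_antisymm ?_ fun x hx => ⟨g⁻¹ * x * g, G.mul_mem (G.mul_mem (G.inv_mem hg) hx) hg, by
      simp [mul_assoc]⟩
    rintro _ ⟨x, hx, rfl⟩
    exact G.mul_mem (G.mul_mem hg hx) (G.inv_mem hg)
  have := h.map (MulAut.conj g).toMonoidHom
  rwa [hG] at this

/-- A subgroup whose order is a power of a prime `r` and of index prime to `r` is conjugate to any other. -/
theorem conj_of_pgroup {H K G : Subgroup X} {r : ℕ} (hr : r.Prime) (hHG : H ≤ G) (hKG : K ≤ G)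
    (hHp : IsPGroup r H) (hKp : IsPGroup r K) (hHi : ¬ r ∣ H.relIndex G) (hKi : ¬ r ∣ K.relIndex G) :
    ∃ g ∈ G, K = H.map (MulAut.conj g).toMonoidHom := by
  haveI : Fact r.Prime := ⟨hr⟩
  obtain ⟨g, hg⟩ := MulAction.exists_smul_eq G
    ((hHp.of_equiv (Subgroup.subgroupOfEquivOfLe hHG).symm).toSylow hHi)
    ((hKp.of_equiv (Subgroup.subgroupOfEquivOfLe hKG).symm).toSylow hKi)
  have h1 : (H.subgroupOf G).map (MulAut.conj g).toMonoidHom = K.subgroupOf G :=
    congrArg (fun P : Sylow r G => (P : Subgroup G)) hg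
  refine ⟨g.1, g.2, le_antisymm (fun x hx => ?_) ?_⟩
  · obtain ⟨y, hy, hyx⟩ : (⟨x, hKG hx⟩ : G) ∈ (H.subgroupOf G).map (MulAut.conj g).toMonoidHom :=
      h1 ▸ (show (⟨x, hKG hx⟩ : G) ∈ K.subgroupOf G from hx)
    exact ⟨y.1, hy, congrArg Subtype.val hyx⟩
  · rintro _ ⟨y, hy, rfl⟩
    have : g * ⟨y, hHG hy⟩ * g⁻¹ ∈ K.subgroupOf G := h1 ▸ ⟨⟨y, hHG hy⟩, hy, rfl⟩
    exact this

end General

variable {α : Type u} [Fintype α] [DecidableEq α]

theorem dvd_factorial_of_card {G : Subgroup (Perm α)} {p : ℕ} (hp : p.Prime) (h : p ∣ Nat.card G) :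
    p ≤ Fintype.card α := by
  have h1 := h.trans (Subgroup.card_subgroup_dvd_card G)
  rw [Nat.card_perm, Nat.card_eq_fintype_card] at h1
  exact hp.dvd_factorial.1 h1

theorem prime_le_of_relIndex {G H : Subgroup (Perm α)} {p : ℕ} (hp : p.Prime) (h : p ∣ H.relIndex G) :
    p ≤ Fintype.card α :=
  dvd_factorial_of_card hp (h.trans (Subgroup.relIndex_dvd_card H G))

theorem IsPGroup_of_small {G H : Subgroup (Perm α)} {r : ℕ} (hr : r.Prime) (hrπ : r ∈ π)
    (hrn : r ≤ Fintype.card α) (hS : Small π (Fintype.card α)) (h : IsPiNum π (Nat.card H))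
    (_hHG : H ≤ G) : IsPGroup r H := by
  exact IsPGroup.of_card (Nat.eq_prime_pow_of_unique_prime_dvd Nat.card_pos.ne' fun {d} hd hdvd =>
    hS d r hd hr (h d hd hdvd) hrπ (dvd_factorial_of_card hd hdvd) hrn)

/-- The permutations preserving a partition into two parts. -/
def pairStab (p : α → Prop) : Subgroup (Perm α) where
  carrier := {g | ∀ x y, (p (g x) ↔ p (g y)) ↔ (p x ↔ p y)}
  one_mem' x y := Iff.rfl
  mul_mem' {g h} hg hh x y := (hg (h x) (h y)).trans (hh x y)
  inv_mem' {g} hg x y := by rw [← hg (g⁻¹ x) (g⁻¹ y)]; simp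

theorem exists_perm_odd (p : α → Prop) (h3 : 3 ≤ Fintype.card α) :
    ∃ s ∈ setStab p, Equiv.Perm.sign s = -1 := by
  classical
  obtain ⟨a, b, hab, hiff⟩ : ∃ a b : α, a ≠ b ∧ (p a ↔ p b) := by
    obtain ⟨a, b, c, hab, hac, hbc⟩ := Fintype.two_lt_card_iff.1 (show 2 < Fintype.card α by omega)
    by_cases ha : p a <;> by_cases hb : p b <;> by_cases hc : p c <;>
      first
      | exact ⟨a, b, hab, by tauto⟩
      | exact ⟨a, c, hac, by tauto⟩
      | exact ⟨b, c, hbc, by tauto⟩
  refine ⟨Equiv.swap a b, fun x => ?_, Equiv.Perm.sign_swap hab⟩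
  rcases eq_or_ne x a with rfl | hxa
  · rw [Equiv.swap_apply_left]; exact hiff.symm
  rcases eq_or_ne x b with rfl | hxb
  · rw [Equiv.swap_apply_right]; exact hiff
  rw [Equiv.swap_apply_of_ne_of_ne hxa hxb]

theorem setStab_le_pairStab (p : α → Prop) : setStab p ≤ pairStab p := fun g hg x y => by
  rw [hg x, hg y]

theorem setStab_relIndex (p : α → Prop) [DecidablePred p] {G : Subgroup (Perm α)}
    (hG : alternatingGroup α ≤ G) (h3 : 3 ≤ Fintype.card α) :
    (setStab p).relIndex G = (Fintype.card α).choose (Fintype.card {a // p a}) := by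
  rw [← index_setStab p]
  refine relIndex_eq_index hG fun hle => ?_
  obtain ⟨s, hs, hsign⟩ := exists_perm_odd p h3
  have := Equiv.Perm.mem_alternatingGroup.1 (hle hs)
  rw [hsign] at this
  exact absurd this (by decide)

theorem pairStab_relIndex {p : α → Prop} [DecidablePred p] {G : Subgroup (Perm α)}
    (hG : alternatingGroup α ≤ G) (hc : 2 * Fintype.card {a // p a} = Fintype.card α)
    (h3 : 3 ≤ Fintype.card α) :
    2 * (pairStab p).relIndex G = (Fintype.card α).choose (Fintype.card {a // p a}) := by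
  have hle := setStab_le_pairStab p
  have h2 : (setStab p).relIndex (pairStab p) = 2 := by
    obtain ⟨e⟩ : Nonempty ({a // p a} ≃ {a // ¬ p a}) :=
      ⟨Fintype.equivOfCardEq (by rw [Fintype.card_subtype_compl]; omega)⟩
    obtain ⟨w, hw⟩ : ∃ w : Perm α, ∀ x, (p (w x) ↔ ¬ p x) := by
      refine ⟨((Equiv.sumCompl p).symm.trans ((Equiv.sumCongr e e.symm).trans (Equiv.sumComm _ _))).trans
        (Equiv.sumCompl p), fun x => ?_⟩
      by_cases hx : p x
      · simp [Equiv.sumCompl_symm_apply_of_pos hx, hx, (e ⟨x, hx⟩).2]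
      · simp [Equiv.sumCompl_symm_apply_of_neg hx, hx, (e.symm ⟨x, hx⟩).2]
    obtain ⟨x₀⟩ : Nonempty α := Fintype.card_pos_iff.1 (by omega)
    rw [Subgroup.relIndex, Subgroup.index_eq_two_iff]
    refine ⟨⟨w, fun x y => by rw [hw, hw]; exact not_iff_not⟩, fun b => ?_⟩
    have hb : ∀ x, (p (b.1 x) ↔ p x) ↔ (p (b.1 x₀) ↔ p x₀) := fun x => by
      have := b.2 x x₀
      tauto
    by_cases h0 : (p (b.1 x₀) ↔ p x₀)
    · refine Or.inr ⟨fun x => (hb x).2 h0, fun h => ?_⟩
      have h' : p (b.1 (w x₀)) ↔ p x₀ := h x₀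
      have h'' := (hb (w x₀)).2 h0
      have := hw x₀
      tauto
    · refine Or.inl ⟨fun x => ?_, fun h => h0 (h x₀)⟩
      have h'' := hb (w x)
      have := hw x
      show p (b.1 (w x)) ↔ p x
      tauto
  have h1 : pairStab p ⊓ alternatingGroup α ≤ alternatingGroup α := inf_le_right
  rw [← index_setStab p, ← Subgroup.relIndex_mul_index hle, h2]
  congr 1
  refine relIndex_eq_index hG fun hA => ?_
  obtain ⟨s, hs, hsign⟩ := exists_perm_odd p h3
  have := Equiv.Perm.mem_alternatingGroup.1 (hA (hle hs))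
  rw [hsign] at this
  exact absurd this (by decide)

theorem card_setStab (p : α → Prop) [DecidablePred p] :
    Nat.card (setStab p) =
      (Fintype.card {a // p a}).factorial * (Fintype.card {a // ¬ p a}).factorial := by
  rw [← range_subtypeCongr p,
    ← Nat.card_congr (MonoidHom.ofInjective (Perm.subtypeCongrHom_injective p)).toEquiv, Nat.card_prod,
    Nat.card_perm, Nat.card_perm, Nat.card_eq_fintype_card, Nat.card_eq_fintype_card]

theorem card_pairStab {p : α → Prop} [DecidablePred p] (hc : 2 * Fintype.card {a // p a} = Fintype.card α)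
    (h3 : 3 ≤ Fintype.card α) :
    Nat.card (pairStab p) = 2 * ((Fintype.card {a // p a}).factorial * (Fintype.card {a // p a}).factorial) := by
  have h1 := (pairStab p).index_mul_card
  have h2 := (setStab p).index_mul_card
  have h4 := pairStab_relIndex (G := ⊤) le_top hc h3
  rw [Subgroup.relIndex_top_right] at h4
  rw [index_setStab p, ← h4, card_setStab p, Fintype.card_subtype_compl,
    show Fintype.card α - Fintype.card {a // p a} = Fintype.card {a // p a} by omega, ← h1] at h2
  refine Nat.eq_of_mul_eq_mul_left (Nat.pos_of_ne_zero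
    (Subgroup.index_ne_zero_of_finite (H := pairStab p))) ?_
  rw [← h2]; ring

/-- Some element of `G` carries one subset to another of the same size. -/
theorem exists_mem_map {G : Subgroup (Perm α)} (hG : alternatingGroup α ≤ G) (h3 : 3 ≤ Fintype.card α)
    (p q : α → Prop) [DecidablePred p] [DecidablePred q]
    (hc : Fintype.card {a // p a} = Fintype.card {a // q a}) :
    ∃ g ∈ G, ∀ x, q (g x) ↔ p x := by
  obtain ⟨e⟩ : Nonempty ({a // p a} ≃ {a // q a}) := ⟨Fintype.equivOfCardEq hc⟩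
  obtain ⟨g, hg⟩ : ∃ g : Perm α, ∀ x, q (g x) ↔ p x := ⟨e.extendSubtype, fun x => by
    by_cases hx : p x
    · exact iff_of_true (Equiv.extendSubtype_mem e x hx) hx
    · exact iff_of_false (Equiv.extendSubtype_not_mem e x hx) hx⟩
  obtain ⟨s, hs, hsign⟩ := exists_perm_odd q h3
  rcases Int.units_eq_one_or (Equiv.Perm.sign g) with h | h
  · exact ⟨g, hG (Equiv.Perm.mem_alternatingGroup.2 h), hg⟩
  · exact ⟨s * g, hG (Equiv.Perm.mem_alternatingGroup.2 (by rw [map_mul, hsign, h]; rfl)),
      fun x => (hs (g x)).trans (hg x)⟩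

theorem map_conj_setStab {G : Subgroup (Perm α)} {g : Perm α} (hgG : g ∈ G) {p q : α → Prop}
    (hg : ∀ x, q (g x) ↔ p x) :
    (setStab p ⊓ G).map (MulAut.conj g).toMonoidHom = setStab q ⊓ G := by
  refine le_antisymm ?_ fun y hy => ⟨g⁻¹ * y * g, ⟨fun x => ?_, G.mul_mem (G.mul_mem (G.inv_mem hgG) hy.2) hgG⟩,
    by simp [mul_assoc]⟩
  · rintro _ ⟨y, ⟨hy, hyG⟩, rfl⟩
    refine ⟨fun x => ?_, G.mul_mem (G.mul_mem hgG hyG) (G.inv_mem hgG)⟩
    obtain ⟨z, rfl⟩ := g.surjective x
    show q (g (y (g.symm (g z)))) ↔ q (g z)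
    rw [Equiv.symm_apply_apply, hg, hg, hy z]
  · show p ((g⁻¹ * y * g) x) ↔ p x
    rw [← hg, ← hg x]
    show q (g (g.symm (y (g x)))) ↔ _
    rw [Equiv.apply_symm_apply]
    exact hy.1 (g x)

theorem map_conj_pairStab {G : Subgroup (Perm α)} {g : Perm α} (hgG : g ∈ G) {p q : α → Prop}
    (hg : ∀ x, q (g x) ↔ p x) :
    (pairStab p ⊓ G).map (MulAut.conj g).toMonoidHom = pairStab q ⊓ G := by
  refine le_antisymm ?_ fun y hy => ⟨g⁻¹ * y * g, ⟨fun x z => ?_, G.mul_mem (G.mul_mem (G.inv_mem hgG) hy.2) hgG⟩,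
    by simp [mul_assoc]⟩
  · rintro _ ⟨y, ⟨hy, hyG⟩, rfl⟩
    refine ⟨fun x x' => ?_, G.mul_mem (G.mul_mem hgG hyG) (G.inv_mem hgG)⟩
    obtain ⟨z, rfl⟩ := g.surjective x
    obtain ⟨z', rfl⟩ := g.surjective x'
    show (q (g (y (g.symm (g z)))) ↔ q (g (y (g.symm (g z'))))) ↔ (q (g z) ↔ q (g z'))
    rw [Equiv.symm_apply_apply, Equiv.symm_apply_apply, hg, hg, hg, hg, hy z z']
  · show (p ((g⁻¹ * y * g) x) ↔ p ((g⁻¹ * y * g) z)) ↔ (p x ↔ p z)
    rw [← hg, ← hg ((g⁻¹ * y * g) z), ← hg x, ← hg z]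
    show (q (g (g.symm (y (g x)))) ↔ q (g (g.symm (y (g z))))) ↔ _
    rw [Equiv.apply_symm_apply, Equiv.apply_symm_apply]
    exact hy.1 (g x) (g z)

/-- The Hall subgroup that is a set stabiliser. -/
theorem hallIn_setStab {G : Subgroup (Perm α)} (hG : alternatingGroup α ≤ G) (h3 : 3 ≤ Fintype.card α)
    (p : α → Prop) [DecidablePred p] (hfree : IsFree π ((Fintype.card α).choose (Fintype.card {a // p a})))
    (hsm : ∀ r, r.Prime → (r ≤ Fintype.card {a // p a} ∨ r ≤ Fintype.card {a // ¬ p a}) → r ∈ π) :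
    HallIn π (setStab p ⊓ G) G := by
  refine ⟨inf_le_right, fun r hr hd => ?_, ?_⟩
  · have := hd.trans (Subgroup.card_dvd_of_le (inf_le_left : setStab p ⊓ G ≤ setStab p))
    rw [card_setStab, hr.dvd_mul, hr.dvd_factorial, hr.dvd_factorial] at this
    exact hsm r hr this
  · rwa [Subgroup.inf_relIndex_right, setStab_relIndex p hG h3]

/-- The prototypes of subsets. -/
theorem exists_subset_card {k : ℕ} (hk : k ≤ Fintype.card α) :
    ∃ (p : α → Prop) (_ : DecidablePred p), Fintype.card {a // p a} = k := by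
  obtain ⟨s, hs⟩ := Finset.exists_subset_card_eq (s := (Finset.univ : Finset α)) (n := k) (by simpa)
  exact ⟨fun a => a ∈ s, fun a => Finset.decidableMem a s, by rw [Fintype.card_coe]; exact hs.2⟩

theorem two_three_of_exc {n : ℕ} (h : Exc π n) : 2 ∈ π ∧ 3 ∈ π := by
  obtain ⟨h7, h⟩ := h
  exact ⟨(h 2 Nat.prime_two (by omega)).2 (Or.inl rfl), (h 3 Nat.prime_three (by omega)).2 (Or.inr rfl)⟩

theorem hallIn_pairStab {G : Subgroup (Perm α)} (hG : alternatingGroup α ≤ G) (h8 : Fintype.card α = 8)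
    (hE : Exc π 8) (p : α → Prop) [DecidablePred p] (hc : Fintype.card {a // p a} = 4) :
    HallIn π (pairStab p ⊓ G) G := by
  obtain ⟨h2, h3⟩ := two_three_of_exc hE
  refine ⟨inf_le_right, fun r hr hd => ?_, fun r hr hrπ hd => ?_⟩
  · have h1 := hd.trans (Subgroup.card_dvd_of_le (inf_le_left : pairStab p ⊓ G ≤ pairStab p))
    rw [card_pairStab (by omega) (by omega), hc, hr.dvd_mul, hr.dvd_mul, hr.dvd_factorial] at h1
    have hr4 : r ≤ 4 := by
      rcases h1 with h1 | h1
      · have := Nat.le_of_dvd two_pos h1; omega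
      · omega
    have := hr.two_le
    interval_cases r
    · exact h2
    · exact h3
    · exact absurd hr (by norm_num)
  · have h1 := pairStab_relIndex (G := G) hG (p := p) (by omega) (by omega)
    rw [Subgroup.inf_relIndex_right] at hd
    rw [h8, hc, show Nat.choose 8 4 = 70 from rfl] at h1
    rw [show (pairStab p).relIndex G = 35 by omega] at hd
    have hr8 : r ≤ 8 := by
      have := Nat.le_of_dvd (by norm_num) hd
      rcases (hr.dvd_mul (m := 5) (n := 7)).1 hd with h | h <;> have := Nat.le_of_dvd (by norm_num) h <;> omega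
    rcases (hE.2 r hr hr8).1 hrπ with rfl | rfl <;> norm_num at hd

/-- Existence. -/
theorem exists_hall {G : Subgroup (Perm α)} (hG : alternatingGroup α ≤ G)
    (h : Allowed π (Fintype.card α)) : ∃ H, HallIn π H G := by
  classical
  rcases h with h | h | h | h
  · by_cases hex : ∃ r, r.Prime ∧ r ∈ π ∧ r ≤ Fintype.card α
    · obtain ⟨r, hr, hrπ, hrn⟩ := hex
      haveI : Fact r.Prime := ⟨hr⟩
      obtain ⟨P⟩ : Nonempty (Sylow r G) := Sylow.nonempty
      refine ⟨(P : Subgroup G).map G.subtype, Subgroup.map_subtype_le _, fun s hs hd => ?_, fun s hs hsπ hd => ?_⟩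
      · obtain ⟨j, hj⟩ := (P.isPGroup'.map G.subtype).exists_card_eq
        rw [hj] at hd
        rwa [(Nat.prime_dvd_prime_iff_eq hs hr).1 (hs.dvd_of_dvd_pow hd)]
      · obtain rfl : s = r := h s r hs hr hsπ hrπ (prime_le_of_relIndex hs hd) hrn
        rw [Subgroup.relIndex, Subgroup.subgroupOf,
          Subgroup.comap_map_eq_self_of_injective G.subtype_injective] at hd
        exact P.not_dvd_index hd
    · refine ⟨⊥, bot_le, fun s hs hd => ?_, fun s hs hsπ hd => hex ⟨s, hs, hsπ, prime_le_of_relIndex hs hd⟩⟩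
      rw [Subgroup.card_bot] at hd
      exact absurd (Nat.le_of_dvd one_pos hd) (by have := hs.two_le; omega)
  · refine ⟨G, le_rfl, fun s hs hd => h s hs (dvd_factorial_of_card hs hd), fun s hs hsπ hd => ?_⟩
    rw [Subgroup.relIndex_self] at hd
    exact hs.not_dvd_one hd
  · obtain ⟨hn, hlow⟩ := h
    by_cases h3 : Fintype.card α = 2
    · refine ⟨⊥, bot_le, fun s hs hd => ?_, fun s hs hsπ hd => ?_⟩
      · rw [Subgroup.card_bot] at hd; exact absurd hd hs.not_dvd_one
      · have := prime_le_of_relIndex hs hd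
        have := (hlow s hs this).1 hsπ
        have := hs.two_le
        omega
    obtain ⟨p, _, hp⟩ := exists_subset_card (α := α) (k := 1) hn.one_le
    refine ⟨_, hallIn_setStab hG (by have := hn.two_le; omega) p ?_ fun r hr hd => ?_⟩
    · rw [hp, Nat.choose_one_right]
      intro r hr hrπ hd
      rw [(Nat.prime_dvd_prime_iff_eq hr hn).1 hd] at hrπ
      exact lt_irrefl _ ((hlow _ hn le_rfl).1 hrπ)
    · rw [Fintype.card_subtype_compl, hp] at hd
      have := hr.two_le
      exact (hlow r hr (by omega)).2 (by omega)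
  · obtain ⟨h2, h3⟩ := two_three_of_exc h
    obtain ⟨h78 | h78, hlow⟩ := h
    · obtain ⟨p, _, hp⟩ := exists_subset_card (α := α) (k := 3) (by omega)
      refine ⟨_, hallIn_setStab hG (by omega) p ?_ fun r hr hd => ?_⟩
      · rw [h78, hp, show Nat.choose 7 3 = 5 * 7 from rfl]
        intro r hr hrπ hd
        rcases hr.dvd_mul.1 hd with hd | hd <;>
          have := Nat.le_of_dvd (by norm_num) hd <;>
          rcases (hlow r hr (by omega)).1 hrπ with rfl | rfl <;> norm_num at hd
      · rw [Fintype.card_subtype_compl, hp, h78] at hd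
        have := hr.two_le
        have hr4 : r ≤ 4 := by omega
        interval_cases r
        · exact h2
        · exact h3
        · exact absurd hr (by norm_num)
    · obtain ⟨p, _, hp⟩ := exists_subset_card (α := α) (k := 4) (by omega)
      exact ⟨_, hallIn_pairStab hG h78 ⟨Or.inr rfl, h78 ▸ hlow⟩ p hp⟩

/-- An orbit gives an invariant subset of size at most half. -/
theorem exists_invariant {H : Subgroup (Perm α)} (h : ¬ ∀ a b : α, ∃ g ∈ H, g a = b) :
    ∃ (p : α → Prop) (_ : DecidablePred p), H ≤ setStab p ∧ 1 ≤ Fintype.card {a // p a} ∧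
      2 * Fintype.card {a // p a} ≤ Fintype.card α := by
  classical
  push Not at h
  obtain ⟨a, b, hb⟩ := h
  let p : α → Prop := fun x => ∃ g ∈ H, g a = x
  have hle : H ≤ setStab p := fun g hg x => by
    constructor
    · rintro ⟨k, hk, hkx⟩
      exact ⟨g⁻¹ * k, H.mul_mem (H.inv_mem hg) hk, by simp [hkx]⟩
    · rintro ⟨k, hk, rfl⟩
      exact ⟨g * k, H.mul_mem hg hk, rfl⟩
  have hk1 : 0 < Fintype.card {x // p x} := Fintype.card_pos_iff.2 ⟨⟨a, 1, H.one_mem, rfl⟩⟩
  have hlt : Fintype.card {x // p x} < Fintype.card α :=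
    Fintype.card_subtype_lt (x := b) (fun ⟨g, hg, hgb⟩ => hb g hg hgb)
  by_cases hc : 2 * Fintype.card {x // p x} ≤ Fintype.card α
  · exact ⟨p, inferInstance, hle, hk1, hc⟩
  · refine ⟨fun x => ¬ p x, inferInstance, fun g hg x => not_congr (hle hg x), ?_, ?_⟩ <;>
      rw [Fintype.card_subtype_compl] <;> omega

/-- In the point case a Hall subgroup fixes a point. -/
theorem point_shape {G H : Subgroup (Perm α)} (hG : alternatingGroup α ≤ G) (hP : PointCase π (Fintype.card α))
    (h3 : 3 ≤ Fintype.card α) (h : HallIn π H G) :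
    ∃ (p : α → Prop) (_ : DecidablePred p), Fintype.card {a // p a} = 1 ∧ H ≤ setStab p := by
  obtain ⟨hn, hlow⟩ := hP
  have htr : ¬ ∀ a b : α, ∃ g ∈ H, g a = b := fun htr => by
    obtain ⟨a⟩ : Nonempty α := Fintype.card_pos_iff.1 (by omega)
    exact lt_irrefl _ ((hlow _ hn le_rfl).1 ((stab_hall h3 hG h htr a).1 _ hn dvd_rfl))
  obtain ⟨p, _, hle, h1, h2⟩ := exists_invariant htr
  refine ⟨p, inferInstance, ?_, hle⟩
  obtain ⟨hfree, -⟩ := split_hall p h3 hG h hle
  obtain ⟨k, hk⟩ : ∃ k, k = Fintype.card {a // p a} := ⟨_, rfl⟩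
  obtain ⟨l, hl⟩ : ∃ l, k + l = Fintype.card α := ⟨Fintype.card α - k, by omega⟩
  rw [← hk, ← hl] at hfree
  by_contra hne
  obtain ⟨rfl, rfl⟩ := eq_seven_three (k := k) (l := l) (by omega) (by omega)
    fun r hr hrl => hfree r hr ((hlow r hr (by omega)).2 (by omega))
  exact hfree 5 (by norm_num) ((hlow 5 (by norm_num) (by omega)).2 (by omega)) (by decide)

/-- In seven points a Hall `{2,3}`-subgroup fixes a three-element subset. -/
theorem seven_shape {G H : Subgroup (Perm α)} (hG : alternatingGroup α ≤ G) (hE : Exc π 7)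
    (h7 : Fintype.card α = 7) (h : HallIn π H G) :
    ∃ (p : α → Prop) (_ : DecidablePred p), Fintype.card {a // p a} = 3 ∧ H ≤ setStab p := by
  classical
  obtain ⟨h2, h3⟩ := two_three_of_exc hE
  have hnot : ∀ r, r.Prime → r ≤ 7 → r ≠ 2 → r ≠ 3 → r ∉ π := fun r hr hr7 hr2 hr3 hrπ =>
    ((hE.2 r hr hr7).1 hrπ).elim hr2 hr3
  have htr : ¬ ∀ a b : α, ∃ g ∈ H, g a = b := fun htr => by
    obtain ⟨a⟩ : Nonempty α := Fintype.card_pos_iff.1 (by omega)
    exact hnot 7 (by norm_num) le_rfl (by norm_num) (by norm_num)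
      ((stab_hall (by omega) hG h htr a).1 7 (by norm_num) (by rw [h7]))
  obtain ⟨p, _, hle, h1, hk2⟩ := exists_invariant htr
  refine ⟨p, inferInstance, ?_, hle⟩
  obtain ⟨hfree, -⟩ := split_hall p (by omega) hG h hle
  have hle' : H ≤ setStab fun x => ¬ p x := fun g hg x => not_congr (hle hg x)
  obtain ⟨-, H₂, G₂, hA₂, hH₂⟩ := split_hall (fun x => ¬ p x) (by omega) hG h hle'
  have hl : Fintype.card {x // ¬ p x} = 7 - Fintype.card {a // p a} := by
    rw [Fintype.card_subtype_compl, h7]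
  have hall := classify _ _ hl G₂ H₂ hA₂ hH₂
  rw [h7] at hfree
  have hk3 : Fintype.card {a // p a} ≤ 3 := by omega
  generalize Fintype.card {a // p a} = k at *
  interval_cases k
  · exfalso
    rcases hall with hS | hA | hP | hX
    · exact absurd (hS 2 3 Nat.prime_two Nat.prime_three h2 h3 (by norm_num) (by norm_num)) (by norm_num)
    · exact hnot 5 (by norm_num) (by norm_num) (by norm_num) (by norm_num) (hA 5 (by norm_num) (by norm_num))
    · exact absurd hP.1 (by norm_num)
    · obtain ⟨hX | hX, -⟩ := hX <;> norm_num at hX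
  · exact absurd (by decide) (hfree 3 Nat.prime_three h3)
  · rfl

/-- In eight points a Hall `{2,3}`-subgroup preserves a partition into two halves. -/
theorem eight_shape {G H : Subgroup (Perm α)} (hG : alternatingGroup α ≤ G) (hE : Exc π 8)
    (h8 : Fintype.card α = 8) (h : HallIn π H G) :
    ∃ (p : α → Prop) (_ : DecidablePred p), Fintype.card {a // p a} = 4 ∧ H ≤ pairStab p := by
  classical
  obtain ⟨h2, h3⟩ := two_three_of_exc hE
  have htr : ∀ a b : α, ∃ g ∈ H, g a = b := by
    by_contra htr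
    obtain ⟨p, _, hle, h1, hk⟩ := exists_invariant htr
    obtain ⟨hfree, -⟩ := split_hall p (by omega) hG h hle
    rw [h8] at hfree
    have hev : ∀ k < 8, 0 < k → 2 ∣ Nat.choose 8 k := by decide
    exact hfree 2 Nat.prime_two h2 (hev _ (by omega) (by omega))
  obtain ⟨a⟩ : Nonempty α := Fintype.card_pos_iff.1 (by omega)
  obtain ⟨-, -, hA', hH'⟩ := stab_hall (by omega) hG h htr a
  have hc7 : Fintype.card {x : α // x ≠ a} = 7 := by
    rw [Fintype.card_subtype_compl, Fintype.card_subtype_eq, h8]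
  have hE7 : Exc π 7 := ⟨Or.inl rfl, fun r hr hr7 => hE.2 r hr (by omega)⟩
  obtain ⟨q, _, hq, hleq⟩ := seven_shape hA' hE7 hc7 hH'
  have hS : HallIn π (setStab q ⊓ _) (G.comap (Perm.ofSubtype : Perm {x // x ≠ a} →* Perm α)) :=
    hallIn_setStab hA' (by omega) q (by
      rw [hc7, hq, show Nat.choose 7 3 = 5 * 7 from rfl]
      intro r hr hrπ hd
      rcases hr.dvd_mul.1 hd with hd | hd <;>
        have := Nat.le_of_dvd (by norm_num) hd <;>
        rcases (hE7.2 r hr (by omega)).1 hrπ with rfl | rfl <;> norm_num at hd)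
      fun r hr hd => by
        rw [Fintype.card_subtype_compl, hq, hc7] at hd
        have := hr.two_le
        have hr4 : r ≤ 4 := by omega
        interval_cases r
        · exact h2
        · exact h3
        · exact absurd hr (by norm_num)
  have heq := hH'.eq_of_le hS (le_inf hleq hH'.1)
  have horbit : ∀ x y : {x : α // x ≠ a}, (q x ↔ q y) → ∃ g ∈ H, g a = a ∧ g x.1 = y.1 := by
    intro x y hxy
    rcases eq_or_ne x y with rfl | hne
    · exact ⟨1, H.one_mem, rfl, rfl⟩
    obtain ⟨c, d, hcd, hcdq, hcn⟩ : ∃ c d : {x : α // x ≠ a}, c ≠ d ∧ (q c ↔ q d) ∧ ¬ (q c ↔ q x) := by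
      by_cases hx : q x
      · obtain ⟨⟨c, hc⟩, ⟨d, hd⟩, hne⟩ := Fintype.exists_pair_of_one_lt_card
          (α := {z : {x : α // x ≠ a} // ¬ q z}) (by rw [Fintype.card_subtype_compl]; omega)
        exact ⟨c, d, fun e => hne (Subtype.ext e), iff_of_false hc hd, fun e => hc (e.2 hx)⟩
      · obtain ⟨⟨c, hc⟩, ⟨d, hd⟩, hne⟩ := Fintype.exists_pair_of_one_lt_card
          (α := {z : {x : α // x ≠ a} // q z}) (by omega)
        exact ⟨c, d, fun e => hne (Subtype.ext e), iff_of_true hc hd, fun e => hx (e.1 hc)⟩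
    have hswap : ∀ {u v : {x : α // x ≠ a}}, (q u ↔ q v) → Equiv.swap u v ∈ setStab q := by
      intro u v huv z
      rcases eq_or_ne z u with rfl | hzu
      · rw [Equiv.swap_apply_left]; exact huv.symm
      rcases eq_or_ne z v with rfl | hzv
      · rw [Equiv.swap_apply_right]; exact huv
      rw [Equiv.swap_apply_of_ne_of_ne hzu hzv]
    have hmem : Equiv.swap c d * Equiv.swap x y ∈
        H.comap (Perm.ofSubtype : Perm {x // x ≠ a} →* Perm α) := by
      rw [heq]
      refine ⟨(setStab q).mul_mem (hswap hcdq) (hswap hxy), hA' ?_⟩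
      rw [Equiv.Perm.mem_alternatingGroup, map_mul, Equiv.Perm.sign_swap hcd, Equiv.Perm.sign_swap hne]
      rfl
    refine ⟨_, hmem, Perm.ofSubtype_apply_of_not_mem _ (by simp), ?_⟩
    rw [Perm.ofSubtype_apply_coe, Equiv.Perm.mul_apply, Equiv.swap_apply_left, Equiv.swap_apply_of_ne_of_ne]
    · intro e; subst e; exact hcn hxy.symm
    · intro e; subst e; exact hcn (hcdq.trans hxy.symm)
  let p : α → Prop := fun z => ∀ hz : z ≠ a, q ⟨z, hz⟩
  have hp4 : Fintype.card {z // p z} = 4 := by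
    rw [← Fintype.card_congr (α := Option {x : {x : α // x ≠ a} // q x})
      { toFun := fun o => o.elim ⟨a, fun hz => absurd rfl hz⟩ fun z => ⟨z.1.1, fun _ => z.2⟩
        invFun := fun z => if h : z.1 = a then none else some ⟨⟨z.1, h⟩, z.2 h⟩
        left_inv := fun o => by rcases o with _ | ⟨⟨z, hz⟩, hq⟩ <;> simp_all
        right_inv := fun z => by
          by_cases h : z.1 = a
          · simp only [dif_pos h]; exact Subtype.ext h.symm
          · simp only [dif_neg h]; rfl },
      Fintype.card_option, hq]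
  refine ⟨p, inferInstance, hp4, ?_⟩
  -- a block through `a`
  have hnp : ¬ MulAction.IsPreprimitive H α := fun hprim => by
    obtain ⟨x, y, z, hxy, hxz, hyz⟩ := Fintype.two_lt_card_iff.1 (show 2 < Fintype.card α by omega)
    have h3c : (Equiv.swap x y * Equiv.swap x z).IsThreeCycle :=
      Equiv.Perm.isThreeCycle_swap_mul_swap_same hxy hxz hyz
    obtain ⟨g, -, hg⟩ := exists_conj_mem h (p := 3) Nat.prime_three h3 (j := 1)
      (hG h3c.mem_alternatingGroup) (by rw [pow_one, ← h3c.orderOf]; exact pow_orderOf_eq_one _)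
    have hA := allPrimes_of_alternating_le (by omega) h
      (Equiv.Perm.alternatingGroup_le_of_isPreprimitive_of_isThreeCycle_mem hprim (by
        rw [Equiv.Perm.IsThreeCycle, Equiv.Perm.cycleType_conj]; exact h3c) hg)
    have h5 := (hE.2 5 (by norm_num) (by norm_num)).1 (hA 5 (by norm_num) (by omega))
    norm_num at h5
  haveI htrH : MulAction.IsPretransitive H α := ⟨fun x y => by
    obtain ⟨g, hg, hgx⟩ := htr x y
    exact ⟨⟨g, hg⟩, hgx⟩⟩
  obtain ⟨B, haB, hB, hBnt⟩ : ∃ B : Set α, a ∈ B ∧ MulAction.IsBlock H B ∧ ¬ MulAction.IsTrivialBlock B := by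
    by_contra hcon
    refine hnp (MulAction.IsPreprimitive.of_isTrivialBlock_base a fun {B} ha hB => ?_)
    by_contra hBn
    exact hcon ⟨B, ha, hB, hBn⟩
  have hinv : ∀ g ∈ H, g a = a → ∀ x ∈ B, g x ∈ B := fun g hg hga x hx => by
    have hBe : (⟨g, hg⟩ : H) • B = B := hB.smul_eq_of_mem haB (by show g a ∈ B; rwa [hga])
    rw [← hBe]
    exact ⟨x, hx, rfl⟩
  have hside : ∀ x : {x : α // x ≠ a}, x.1 ∈ B → ∀ y : {x : α // x ≠ a}, (q x ↔ q y) → y.1 ∈ B :=
    fun x hx y hxy => by
      obtain ⟨g, hg, hga, hgx⟩ := horbit x y hxy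
      exact hgx ▸ hinv g hg hga _ hx
  obtain ⟨x, hxB, hxa⟩ : ∃ x ∈ B, x ≠ a := by
    by_contra hcon
    push Not at hcon
    exact hBnt (Or.inl fun u hu v hv => (hcon u hu).trans (hcon v hv).symm)
  obtain ⟨y, hyB⟩ : ∃ y, y ∉ B := by
    by_contra hcon
    push Not at hcon
    exact hBnt (Or.inr (Set.eq_univ_of_forall hcon))
  have hya : y ≠ a := fun e => hyB (e ▸ haB)
  have hdiff : ¬ (q ⟨x, hxa⟩ ↔ q ⟨y, hya⟩) := fun e => hyB (hside ⟨x, hxa⟩ hxB ⟨y, hya⟩ e)
  have hBeq : ∀ z, z ∈ B ↔ (z = a ∨ ∃ hz : z ≠ a, (q ⟨z, hz⟩ ↔ q ⟨x, hxa⟩)) := by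
    intro z
    constructor
    · intro hz
      by_cases hza : z = a
      · exact Or.inl hza
      refine Or.inr ⟨hza, ?_⟩
      by_contra hne
      exact hyB (hside ⟨z, hza⟩ hz ⟨y, hya⟩ (by tauto))
    · rintro (rfl | ⟨hz, e⟩)
      · exact haB
      · exact hside ⟨x, hxa⟩ hxB ⟨z, hz⟩ e.symm
  have hdvd : B.ncard ∣ 8 := by
    rw [← h8, ← Nat.card_eq_fintype_card]
    exact hB.ncard_dvd_card ⟨a, haB⟩
  have hqx : q ⟨x, hxa⟩ := by
    by_contra hqx
    have hc5 : B.ncard = 5 := by
      have hBc : B = {z | ¬ p z} ∪ {a} := by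
        ext z
        rw [hBeq]
        constructor
        · rintro (rfl | ⟨hz, e⟩)
          · exact Or.inr rfl
          · exact Or.inl fun hp => hqx (e.1 (hp hz))
        · rintro (hz | rfl)
          · by_cases hza : z = a
            · exact Or.inl hza
            · exact Or.inr ⟨hza, iff_of_false (fun e => hz fun _ => e) hqx⟩
          · exact Or.inl rfl
      rw [hBc, Set.ncard_union_eq (by
          rw [Set.disjoint_singleton_right]; exact fun hn => hn fun hz => absurd rfl hz)
          (Set.toFinite _) (Set.toFinite _), Set.ncard_singleton, Set.ncard_eq_toFinset_card',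
        Set.toFinset_setOf, ← Fintype.card_subtype, Fintype.card_subtype_compl, hp4, h8]
    rw [hc5] at hdvd
    norm_num at hdvd
  have hBp : ∀ z, z ∈ B ↔ p z := fun z => by
    rw [hBeq]
    constructor
    · rintro (rfl | ⟨hz, e⟩)
      · exact fun hz => absurd rfl hz
      · exact fun _ => e.2 hqx
    · intro hp
      by_cases hza : z = a
      · exact Or.inl hza
      · exact Or.inr ⟨hza, iff_of_true (hp hza) hqx⟩
  intro g hg
  have hcard : ((⟨g, hg⟩ : H) • B).ncard = B.ncard := Set.ncard_image_of_injective _ (MulAction.injective _)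
  rcases hB.smul_eq_or_disjoint (⟨g, hg⟩ : H) with he | hdis
  · intro u v
    have key : ∀ u, p (g u) ↔ p u := fun u => by
      rw [← hBp, ← hBp]
      conv_lhs => rw [← he]
      exact ⟨fun ⟨w, hw, hwu⟩ => g.injective hwu ▸ hw, fun hu => ⟨u, hu, rfl⟩⟩
    rw [key, key]
  · have hB4 : B.ncard = 4 := by
      rw [show B = {z | p z} from Set.ext hBp, Set.ncard_eq_toFinset_card', Set.toFinset_setOf,
        ← Fintype.card_subtype, hp4]
    have hcomp : (⟨g, hg⟩ : H) • B = Bᶜ := Set.eq_of_subset_of_ncard_le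
      (fun w hw hwB => Set.disjoint_left.1 hdis hw hwB)
      (by
        have := Set.ncard_add_ncard_compl B
        rw [Nat.card_eq_fintype_card, h8] at this
        omega)
    intro u v
    have key : ∀ u, p (g u) ↔ ¬ p u := fun u => by
      rw [← hBp, ← hBp]
      constructor
      · intro hgu hu
        have : g u ∈ (⟨g, hg⟩ : H) • B := ⟨u, hu, rfl⟩
        rw [hcomp] at this
        exact this hgu
      · intro hu
        by_contra hgu
        have : g u ∈ (⟨g, hg⟩ : H) • B := hcomp ▸ hgu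
        obtain ⟨w, hw, hwu⟩ := this
        exact hu (g.injective hwu ▸ hw)
    rw [key, key]
    exact not_iff_not

/-- Conjugacy. -/
theorem hall_conj {G H K : Subgroup (Perm α)} (hG : alternatingGroup α ≤ G) (hH : HallIn π H G)
    (hK : HallIn π K G) : ∃ g ∈ G, K = H.map (MulAut.conj g).toMonoidHom := by
  classical
  have hall := classify _ α rfl G H hG hH
  have triv : ∀ H K : Subgroup (Perm α), HallIn π H G → HallIn π K G → H = G →
      ∃ g ∈ G, K = H.map (MulAut.conj g).toMonoidHom := fun H K hH hK e => by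
    refine ⟨1, G.one_mem, ?_⟩
    rw [map_one]
    refine (hK.eq_of_le (e ▸ hH) hK.1).trans ?_
    rw [e]
    exact (Subgroup.map_id G).symm
  rcases hall with h | h | h | h
  · by_cases hex : ∃ r, r.Prime ∧ r ∈ π ∧ r ≤ Fintype.card α
    · obtain ⟨r, hr, hrπ, hrn⟩ := hex
      exact conj_of_pgroup hr hH.1 hK.1 (IsPGroup_of_small hr hrπ hrn h hH.2.1 hH.1)
        (IsPGroup_of_small hr hrπ hrn h hK.2.1 hK.1) (hH.2.2 r hr hrπ) (hK.2.2 r hr hrπ)
    · have hone : ∀ L : Subgroup (Perm α), HallIn π L G → L = ⊥ := fun L hL => by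
        refine Subgroup.eq_bot_of_card_eq _ (Nat.eq_one_iff_not_exists_prime_dvd.2 fun s hs hd => ?_)
        exact hex ⟨s, hs, hL.2.1 s hs hd, dvd_factorial_of_card hs hd⟩
      refine ⟨1, G.one_mem, ?_⟩
      rw [hone H hH, hone K hK, Subgroup.map_bot]
  · refine triv H K hH hK (le_antisymm hH.1 (Subgroup.relIndex_eq_one.1 ?_))
    refine Nat.eq_one_iff_not_exists_prime_dvd.2 fun s hs hd => ?_
    exact hH.2.2 s hs (h s hs (prime_le_of_relIndex hs hd)) hd
  · by_cases h2 : Fintype.card α = 2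
    · have hone : ∀ L : Subgroup (Perm α), HallIn π L G → L = ⊥ := fun L hL => by
        refine Subgroup.eq_bot_of_card_eq _ (Nat.eq_one_iff_not_exists_prime_dvd.2 fun s hs hd => ?_)
        have := (h.2 s hs (dvd_factorial_of_card hs hd)).1 (hL.2.1 s hs hd)
        have := hs.two_le
        omega
      refine ⟨1, G.one_mem, ?_⟩
      rw [hone H hH, hone K hK, Subgroup.map_bot]
    have h3 : 3 ≤ Fintype.card α := by have := h.1.two_le; omega
    obtain ⟨p, _, hp, hHp⟩ := point_shape hG h h3 hH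
    obtain ⟨q, _, hq, hKq⟩ := point_shape hG h h3 hK
    obtain ⟨g, hgG, hg⟩ := exists_mem_map hG h3 p q (hp.trans hq.symm)
    refine ⟨g, hgG, hK.eq_of_le (hH.conj hgG) ?_ |>.trans rfl⟩
    have hs : ∀ (r : α → Prop) [DecidablePred r], Fintype.card {a // r a} = 1 → HallIn π (setStab r ⊓ G) G :=
      fun r _ hr => hallIn_setStab hG h3 r (by
        rw [hr, Nat.choose_one_right]
        intro s hs hsπ hd
        rw [(Nat.prime_dvd_prime_iff_eq hs h.1).1 hd] at hsπ
        exact lt_irrefl _ ((h.2 _ h.1 le_rfl).1 hsπ))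
        fun s hs hd => by
          rw [Fintype.card_subtype_compl, hr] at hd
          have := hs.two_le
          exact (h.2 s hs (by omega)).2 (by omega)
    rw [hH.eq_of_le (hs p hp) (le_inf hHp hH.1), map_conj_setStab hgG hg]
    exact le_inf hKq hK.1
  · obtain ⟨h78 | h78, hlow⟩ := h
    · have hE : Exc π 7 := ⟨Or.inl rfl, h78 ▸ hlow⟩
      obtain ⟨p, _, hp, hHp⟩ := seven_shape hG hE h78 hH
      obtain ⟨q, _, hq, hKq⟩ := seven_shape hG hE h78 hK
      obtain ⟨g, hgG, hg⟩ := exists_mem_map hG (by omega) p q (hp.trans hq.symm)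
      obtain ⟨h2, h3⟩ := two_three_of_exc hE
      have hs : ∀ (r : α → Prop) [DecidablePred r], Fintype.card {a // r a} = 3 → HallIn π (setStab r ⊓ G) G :=
        fun r _ hr => hallIn_setStab hG (by omega) r (by
          rw [h78, hr, show Nat.choose 7 3 = 5 * 7 from rfl]
          intro s hs hsπ hd
          rcases hs.dvd_mul.1 hd with hd | hd <;>
            have := Nat.le_of_dvd (by norm_num) hd <;>
            rcases (hE.2 s hs (by omega)).1 hsπ with rfl | rfl <;> norm_num at hd)
          fun s hs hd => by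
            rw [Fintype.card_subtype_compl, hr, h78] at hd
            have := hs.two_le
            have hs4 : s ≤ 4 := by omega
            interval_cases s
            · exact h2
            · exact h3
            · exact absurd hs (by norm_num)
      refine ⟨g, hgG, hK.eq_of_le (hH.conj hgG) ?_⟩
      rw [hH.eq_of_le (hs p hp) (le_inf hHp hH.1), map_conj_setStab hgG hg]
      exact le_inf hKq hK.1
    · have hE : Exc π 8 := ⟨Or.inr rfl, h78 ▸ hlow⟩
      obtain ⟨p, _, hp, hHp⟩ := eight_shape hG hE h78 hH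
      obtain ⟨q, _, hq, hKq⟩ := eight_shape hG hE h78 hK
      obtain ⟨g, hgG, hg⟩ := exists_mem_map hG (by omega) p q (hp.trans hq.symm)
      refine ⟨g, hgG, hK.eq_of_le (hH.conj hgG) ?_⟩
      rw [hH.eq_of_le (hallIn_pairStab hG h78 hE p hp) (le_inf hHp hH.1), map_conj_pairStab hgG hg]
      exact le_inf hKq hK.1

end CfsgLib.KnownC.HallPerm
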