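import Mathlib
import Cfsg.Prelude.Def_HallClasses
import Cfsg.Agent.Lib.KnownC.HallPermConj

set_option autoImplicit false
set_option linter.unusedSectionVars false

/-!
The Sylow analogues for sets of primes in symmetric and alternating groups.
-/

namespace CfsgLib.KnownC.HallPerm

open Equiv
open scoped Pointwise

variable {π : Set ℕ} {n : ℕ}

theorem isPiHall_iff_hallIn {X : Type*} [Group X] (G : Subgroup X) (M : Subgroup G) :
    Cfsg.IsPiHall π M ↔ HallIn π (M.map G.subtype) G := by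
  have h1 : Nat.card (M.map G.subtype) = Nat.card M := Subgroup.card_map_of_injective G.subtype_injective
  have h2 : (M.map G.subtype).relIndex G = M.index := by
    rw [Subgroup.relIndex, Subgroup.subgroupOf,
      Subgroup.comap_map_eq_self_of_injective G.subtype_injective]
  refine ⟨fun h => ⟨Subgroup.map_subtype_le M, h1 ▸ h.1, h2 ▸ h.2⟩, fun h => ⟨?_, ?_⟩⟩
  · intro p hp hd; exact h.2.1 p hp (h1 ▸ hd)
  · intro p hp hπ hd; exact h.2.2 p hp hπ (h2 ▸ hd)

theorem isPiHall_iff_hallIn_top {X : Type*} [Group X] (M : Subgroup X) :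
    Cfsg.IsPiHall π M ↔ HallIn π M ⊤ := by
  refine ⟨fun h => ⟨le_top, h.1, by rw [Subgroup.relIndex_top_right]; exact h.2⟩, fun h => ⟨h.2.1, ?_⟩⟩
  have := h.2.2
  rwa [Subgroup.relIndex_top_right] at this

theorem ePi_perm_iff (π : Set ℕ) (n : ℕ) :
    Cfsg.IsEPiGroup π (Perm (Fin n)) ↔ Allowed π n := by
  constructor
  · rintro ⟨H, hH⟩
    exact classify n (Fin n) (Fintype.card_fin n) ⊤ H le_top ((isPiHall_iff_hallIn_top H).1 hH)
  · intro h
    obtain ⟨H, hH⟩ := exists_hall (α := Fin n) (G := ⊤) le_top (by rwa [Fintype.card_fin])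
    exact ⟨H, (isPiHall_iff_hallIn_top H).2 hH⟩

theorem ePi_alt_iff (π : Set ℕ) (n : ℕ) :
    Cfsg.IsEPiGroup π (alternatingGroup (Fin n)) ↔ Allowed π n := by
  constructor
  · rintro ⟨H, hH⟩
    exact classify n (Fin n) (Fintype.card_fin n) (alternatingGroup (Fin n)) _ le_rfl
      ((isPiHall_iff_hallIn _ H).1 hH)
  · intro h
    obtain ⟨H, hH⟩ := exists_hall (α := Fin n) (G := alternatingGroup (Fin n)) le_rfl
      (by rwa [Fintype.card_fin])
    refine ⟨H.subgroupOf _, (isPiHall_iff_hallIn _ _).2 ?_⟩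
    rwa [Subgroup.subgroupOf_map_subtype, inf_eq_left.2 hH.1]

theorem perm_conj (π : Set ℕ) (n : ℕ) (H K : Subgroup (Perm (Fin n))) (hH : Cfsg.IsPiHall π H)
    (hK : Cfsg.IsPiHall π K) : ∃ g, K = H.map (MulAut.conj g).toMonoidHom := by
  obtain ⟨g, -, hg⟩ := hall_conj le_top ((isPiHall_iff_hallIn_top H).1 hH) ((isPiHall_iff_hallIn_top K).1 hK)
  exact ⟨g, hg⟩

theorem alt_conj (π : Set ℕ) (n : ℕ) (H K : Subgroup (alternatingGroup (Fin n))) (hH : Cfsg.IsPiHall π H)
    (hK : Cfsg.IsPiHall π K) : ∃ g, K = H.map (MulAut.conj g).toMonoidHom := by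
  obtain ⟨g, hg, he⟩ := hall_conj (G := alternatingGroup (Fin n)) le_rfl ((isPiHall_iff_hallIn _ H).1 hH)
    ((isPiHall_iff_hallIn _ K).1 hK)
  refine ⟨⟨g, hg⟩, Subgroup.map_injective (alternatingGroup (Fin n)).subtype_injective ?_⟩
  rw [he, Subgroup.map_map, Subgroup.map_map]
  rfl

/-- Hall subgroups of the alternating group are the intersections of those of the symmetric group. -/
theorem alt_hall_iff (π : Set ℕ) (n : ℕ) (M : Subgroup (alternatingGroup (Fin n))) :
    Cfsg.IsPiHall π M ↔ ∃ M₀ : Subgroup (Perm (Fin n)),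
      Cfsg.IsPiHall π M₀ ∧ M = M₀.subgroupOf (alternatingGroup (Fin n)) := by
  have key : ∀ M₀ : Subgroup (Perm (Fin n)), Cfsg.IsPiHall π M₀ →
      Cfsg.IsPiHall π (M₀.subgroupOf (alternatingGroup (Fin n))) := fun M₀ h => by
    rw [isPiHall_iff_hallIn, Subgroup.subgroupOf_map_subtype]
    refine ⟨inf_le_right, fun p hp hd => h.1 p hp (hd.trans (Subgroup.card_dvd_of_le inf_le_left)),
      fun p hp hπ hd => h.2 p hp hπ (hd.trans ?_)⟩
    rw [Subgroup.inf_relIndex_right]
    haveI : (alternatingGroup (Fin n)).Normal := inferInstance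
    -- `[A : M₀ ∩ A]` divides `[G : M₀]`
    have e1 := Subgroup.relIndex_mul_index (inf_le_right : M₀ ⊓ alternatingGroup (Fin n) ≤ alternatingGroup (Fin n))
    have e2 := Subgroup.relIndex_mul_index (inf_le_left : M₀ ⊓ alternatingGroup (Fin n) ≤ M₀)
    rw [Subgroup.inf_relIndex_right] at e1
    rw [Subgroup.inf_relIndex_left] at e2
    obtain ⟨c, hc⟩ := Subgroup.relIndex_dvd_index_of_normal (alternatingGroup (Fin n)) M₀
    have hpos : (alternatingGroup (Fin n)).relIndex M₀ ≠ 0 :=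
      Subgroup.index_ne_zero_of_finite
    refine Dvd.intro c (Nat.eq_of_mul_eq_mul_left (Nat.pos_of_ne_zero hpos) ?_)
    calc (alternatingGroup (Fin n)).relIndex M₀ * (M₀.relIndex (alternatingGroup (Fin n)) * c)
        = M₀.relIndex (alternatingGroup (Fin n)) * ((alternatingGroup (Fin n)).relIndex M₀ * c) := by ring
      _ = _ := by rw [← hc, e1, ← e2]
  refine ⟨fun hM => ?_, fun ⟨M₀, h, e⟩ => e ▸ key M₀ h⟩
  obtain ⟨M₀, hM₀⟩ := (ePi_perm_iff π n).2 ((ePi_alt_iff π n).1 ⟨M, hM⟩)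
  obtain ⟨g, hg⟩ := alt_conj π n _ _ (key M₀ hM₀) hM
  refine ⟨M₀.map (MulAut.conj g.1).toMonoidHom, ?_, ?_⟩
  · rw [isPiHall_iff_hallIn_top] at hM₀ ⊢
    exact hM₀.conj (Subgroup.mem_top _)
  · rw [hg]
    ext x
    rw [Subgroup.mem_subgroupOf, Subgroup.mem_map_equiv, Subgroup.mem_map_equiv, Subgroup.mem_subgroupOf]
    rfl

/-- In a finite group with the full Sylow analogue some Hall subgroup contains a conjugate of every
`π`-subgroup. -/
theorem hall_of_dPi {X : Type*} [Group X] [Finite X] (h : Cfsg.IsDPiGroup π X) :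
    ∃ H : Subgroup X, Cfsg.IsPiHall π H ∧
      ∀ L : Subgroup X, Cfsg.IsPiSubgroup π L → ∃ g : X, L.map (MulAut.conj g).toMonoidHom ≤ H := by
  have hbot : Cfsg.IsPiSubgroup π (⊥ : Subgroup X) := fun p hp hd => by
    rw [Subgroup.card_bot] at hd; exact absurd hd hp.not_dvd_one
  have hmax : ∀ L : Subgroup X, Cfsg.IsPiSubgroup π L → ∃ M, L ≤ M ∧ Maximal (Cfsg.IsPiSubgroup π) M :=
    fun L hL => Finite.exists_le_maximal hL
  obtain ⟨M, -, hM⟩ := hmax ⊥ hbot
  have hcont : ∀ L : Subgroup X, Cfsg.IsPiSubgroup π L → ∃ g : X, L.map (MulAut.conj g).toMonoidHom ≤ M :=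
    fun L hL => by
      obtain ⟨M', hle, hM'⟩ := hmax L hL
      obtain ⟨g, hg⟩ := h M' M hM' hM
      exact ⟨g, hg ▸ Subgroup.map_mono hle⟩
  refine ⟨M, ⟨hM.1, fun p hp hpπ hd => ?_⟩, hcont⟩
  haveI : Fact p.Prime := ⟨hp⟩
  obtain ⟨P⟩ : Nonempty (Sylow p X) := Sylow.nonempty
  obtain ⟨g, hg⟩ := hcont P.1 fun r hr hrd => by
    obtain ⟨j, hj⟩ := P.isPGroup'.exists_card_eq
    rw [hj] at hrd
    rwa [(Nat.prime_dvd_prime_iff_eq hr hp).1 (hr.dvd_of_dvd_pow hrd)]
  have h1 := (Subgroup.index_dvd_of_le hg)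
  have h2 : ((P.1 : Subgroup X).map (MulAut.conj g).toMonoidHom).index = P.1.index := by
    rw [Subgroup.index_map_of_bijective (MulAut.conj g).bijective]
  rw [h2] at h1
  exact P.not_dvd_index (hd.trans h1)

theorem prime_dvd_card_alt (hn : 5 ≤ n) {p : ℕ} (hp : p.Prime) :
    p ∣ Nat.card (alternatingGroup (Fin n)) ↔ p ≤ n := by
  refine ⟨fun h => (Fintype.card_fin n) ▸ dvd_factorial_of_card hp h, fun h =>
    half_factorial_dvd_card le_rfl ?_⟩
  rw [Fintype.card_fin]
  exact dvd_factorial_two_mul (by omega) hp h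

/-- The stabiliser of the partition of six points into two halves, made even, has transitive generators. -/
theorem six_transitive : ∀ i : Fin 6, ∃ f : Perm (Fin 6),
    f ∈ pairStab (fun x : Fin 6 => x.val < 3) ∧ Equiv.Perm.sign f = 1 ∧ f 0 = i := by
  let P := pairStab (fun x : Fin 6 => x.val < 3)
  obtain ⟨c, hc, hcs, c0, c1⟩ : ∃ c : Perm (Fin 6), c ∈ P ∧ Equiv.Perm.sign c = 1 ∧ c 0 = 1 ∧ c 1 = 2 :=
    ⟨Equiv.swap 0 1 * Equiv.swap 1 2, by
      show ∀ x y, _
      decide, by simp, by decide, by decide⟩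
  obtain ⟨d, hd, hds, d3, d4⟩ : ∃ d : Perm (Fin 6), d ∈ P ∧ Equiv.Perm.sign d = 1 ∧ d 3 = 4 ∧ d 4 = 5 :=
    ⟨Equiv.swap 3 4 * Equiv.swap 4 5, by
      show ∀ x y, _
      decide, by simp, by decide, by decide⟩
  obtain ⟨w, hw, hws, w0⟩ : ∃ w : Perm (Fin 6), w ∈ P ∧ Equiv.Perm.sign w = 1 ∧ w 0 = 3 :=
    ⟨Equiv.swap 0 3 * Equiv.swap 1 4 * Equiv.swap 2 5 * Equiv.swap 1 2, by
      show ∀ x y, _
      decide, by simp, by decide⟩
  intro i
  fin_cases i
  · exact ⟨1, P.one_mem, map_one _, rfl⟩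
  · exact ⟨c, hc, hcs, c0⟩
  · exact ⟨c * c, P.mul_mem hc hc, by rw [map_mul, hcs]; rfl, by rw [Equiv.Perm.mul_apply, c0, c1]; rfl⟩
  · exact ⟨w, hw, hws, w0⟩
  · exact ⟨d * w, P.mul_mem hd hw, by rw [map_mul, hds, hws]; rfl, by rw [Equiv.Perm.mul_apply, w0, d3]; rfl⟩
  · exact ⟨d * (d * w), P.mul_mem hd (P.mul_mem hd hw), by rw [map_mul, map_mul, hds, hws]; rfl, by
      rw [Equiv.Perm.mul_apply, Equiv.Perm.mul_apply, w0, d3, d4]; rfl⟩

/-- No full Sylow analogue in the exceptional cases. -/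
theorem not_dPi_special (hn : 5 ≤ n) (h : PointCase π n ∨ Exc π n) :
    ¬ Cfsg.IsDPiGroup π (alternatingGroup (Fin n)) := by
  classical
  intro hD
  obtain ⟨H, hH, hcont⟩ := hall_of_dPi hD
  have hH' := (isPiHall_iff_hallIn _ H).1 hH
  -- a subgroup of `Perm` meeting `A`, pulled back
  have use : ∀ L : Subgroup (Perm (Fin n)), IsPiNum π (Nat.card L) →
      ∃ g : Perm (Fin n), ∀ l ∈ L ⊓ alternatingGroup (Fin n), g * l * g⁻¹ ∈ H.map (alternatingGroup (Fin n)).subtype := by
    intro L hL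
    obtain ⟨g, hg⟩ := hcont (L.subgroupOf _) fun r hr hd => hL r hr (hd.trans
      (Subgroup.card_comap_dvd_of_injective L _ (Subgroup.subtype_injective _)))
    exact ⟨g.1, fun l hl => ⟨g * ⟨l, hl.2⟩ * g⁻¹, hg ⟨⟨l, hl.2⟩, hl.1, rfl⟩, rfl⟩⟩
  rcases h with hP | hE
  · obtain ⟨hp', _, hp, hle⟩ := point_shape (G := alternatingGroup (Fin n)) le_rfl
      (by rwa [Fintype.card_fin]) (by rw [Fintype.card_fin]; omega) hH'
    obtain ⟨t, _, ht⟩ := exists_subset_card (α := Fin n) (k := 3) (by rw [Fintype.card_fin]; omega)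
    have hL : IsPiNum π (Nat.card (setStab t)) := fun r hr hd => by
      rw [card_setStab, hr.dvd_mul, hr.dvd_factorial, hr.dvd_factorial, Fintype.card_subtype_compl, ht,
        Fintype.card_fin] at hd
      have := hr.two_le
      exact (hP.2 r hr (by omega)).2 (by omega)
    obtain ⟨g, hg⟩ := use _ hL
    obtain ⟨⟨x, hx⟩⟩ : Nonempty {a // hp' a} := Fintype.card_pos_iff.1 (by omega)
    obtain ⟨z, hz⟩ := g.surjective x
    -- an element moving `z`
    have hcl : Fintype.card {a // ¬ t a} = n - 3 := by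
      rw [Fintype.card_subtype_compl, ht, Fintype.card_fin]
    obtain ⟨y, hyz, hy⟩ : ∃ y, y ≠ z ∧ (t y ↔ t z) := by
      by_cases htz : t z
      · obtain ⟨⟨y, hy⟩, hne⟩ := Fintype.exists_ne_of_one_lt_card (by omega : 1 < Fintype.card {a // t a}) ⟨z, htz⟩
        exact ⟨y, fun e => hne (Subtype.ext e), iff_of_true hy htz⟩
      · obtain ⟨⟨y, hy⟩, hne⟩ := Fintype.exists_ne_of_one_lt_card (by omega : 1 < Fintype.card {a // ¬ t a}) ⟨z, htz⟩
        exact ⟨y, fun e => hne (Subtype.ext e), iff_of_false hy htz⟩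
    obtain ⟨c, d, hcd, hcdt, hcz⟩ : ∃ c d, c ≠ d ∧ (t c ↔ t d) ∧ ¬ (t c ↔ t z) := by
      by_cases htz : t z
      · obtain ⟨⟨c, hc⟩, ⟨d, hd⟩, hne⟩ := Fintype.exists_pair_of_one_lt_card (α := {a // ¬ t a}) (by omega)
        exact ⟨c, d, fun e => hne (Subtype.ext e), iff_of_false hc hd, fun e => hc (e.2 htz)⟩
      · obtain ⟨⟨c, hc⟩, ⟨d, hd⟩, hne⟩ := Fintype.exists_pair_of_one_lt_card (α := {a // t a}) (by omega)
        exact ⟨c, d, fun e => hne (Subtype.ext e), iff_of_true hc hd, fun e => htz (e.1 hc)⟩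
    have hswap : ∀ {u v : Fin n}, (t u ↔ t v) → Equiv.swap u v ∈ setStab t := by
      intro u v huv w
      rcases eq_or_ne w u with rfl | hwu
      · rw [Equiv.swap_apply_left]; exact huv.symm
      rcases eq_or_ne w v with rfl | hwv
      · rw [Equiv.swap_apply_right]; exact huv
      rw [Equiv.swap_apply_of_ne_of_ne hwu hwv]
    have hl := hg (Equiv.swap c d * Equiv.swap z y) ⟨(setStab t).mul_mem (hswap hcdt) (hswap hy.symm), by
      show _ ∈ alternatingGroup _
      rw [Equiv.Perm.mem_alternatingGroup, map_mul, Equiv.Perm.sign_swap hcd,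
        Equiv.Perm.sign_swap hyz.symm]
      rfl⟩
    have h1 := hle hl x
    rw [← hz] at h1
    have h2 : (g * (Equiv.swap c d * Equiv.swap z y) * g⁻¹) (g z) = g y := by
      show g ((Equiv.swap c d) ((Equiv.swap z y) (g.symm (g z)))) = g y
      rw [Equiv.symm_apply_apply, Equiv.swap_apply_left, Equiv.swap_apply_of_ne_of_ne]
      · intro e; subst e; exact hcz hy
      · intro e; subst e; exact hcz (hcdt.trans hy)
    rw [h2] at h1
    have hone : ∀ u v, hp' u → hp' v → u = v := fun u v hu hv => congrArg Subtype.val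
      (Fintype.card_le_one_iff.1 hp.le ⟨u, hu⟩ ⟨v, hv⟩)
    exact hyz (g.injective (hone _ _ (h1.2 (hz ▸ hx)) (hz ▸ hx)))
  · obtain ⟨h2, h3⟩ := two_three_of_exc hE
    have h6 : 6 ≤ n := by obtain ⟨h | h, -⟩ := hE <;> omega
    let p6 : Fin n → Prop := fun x => x.val < 6
    obtain ⟨e, he⟩ : ∃ e : Fin 6 ≃ {x : Fin n // p6 x}, ∀ i : Fin 6, (e i).1 = Fin.castLE h6 i :=
      ⟨⟨fun i => ⟨Fin.castLE h6 i, i.2⟩, fun x => ⟨x.1.val, x.2⟩, fun i => rfl, fun x => rfl⟩, fun i => rfl⟩
    obtain ⟨L, hLdef⟩ : ∃ L : Subgroup (Perm (Fin n)),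
        L = (pairStab (fun x : Fin 6 => x.val < 3)).map (Equiv.Perm.extendDomainHom e) := ⟨_, rfl⟩
    have hL : IsPiNum π (Nat.card L) := fun r hr hd => by
      have hd' := hd.trans (hLdef ▸ Subgroup.card_map_dvd _ _ : Nat.card L ∣
        Nat.card (pairStab (fun x : Fin 6 => x.val < 3)))
      rw [card_pairStab (by decide) (by decide),
        show Fintype.card {x : Fin 6 // x.val < 3} = 3 by decide] at hd'
      rw [hr.dvd_mul, hr.dvd_mul, hr.dvd_factorial] at hd'
      have hr3 : r ≤ 3 := by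
        rcases hd' with hd' | hd'
        · have := Nat.le_of_dvd two_pos hd'; omega
        · omega
      have := hr.two_le
      interval_cases r
      · exact h2
      · exact h3
    obtain ⟨g, hg⟩ := use L hL
    -- conjugates of an element sending `0` to `i`
    obtain ⟨hx, hfix⟩ : (∀ i : Fin 6, ∃ l ∈ L ⊓ alternatingGroup (Fin n),
        l (Fin.castLE h6 0) = Fin.castLE h6 i) ∧ ∀ l ∈ L, ∀ x, ¬ p6 x → l x = x := by
      refine ⟨fun i => ?_, fun l hl x hxp => ?_⟩
      · obtain ⟨f, hf, hfs, hf0⟩ := six_transitive i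
        refine ⟨f.extendDomain e, ⟨hLdef ▸ ⟨f, hf, rfl⟩, ?_⟩, ?_⟩
        · show _ ∈ alternatingGroup _
          rw [Equiv.Perm.mem_alternatingGroup, Equiv.Perm.sign_extendDomain, hfs]
        · rw [← he, Equiv.Perm.extendDomain_apply_image, hf0, he]
      · rw [hLdef] at hl
        obtain ⟨f, -, rfl⟩ := hl
        exact Equiv.Perm.extendDomain_apply_not_subtype f e hxp
    have hinv : ∀ (r : Fin n → Prop), (∀ l ∈ L ⊓ alternatingGroup (Fin n), ∀ x, r (l x) ↔ r x) →
        ∀ i : Fin 6, r (Fin.castLE h6 i) ↔ r (Fin.castLE h6 0) := fun r hr i => by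
      obtain ⟨l, hl, hli⟩ := hx i
      rw [← hli]; exact hr l hl _
    have hcount : ∀ (r : Fin n → Prop) [DecidablePred r], (∀ i : Fin 6, r (Fin.castLE h6 i)) →
        6 ≤ Fintype.card {x // r x} := fun r _ hr => by
      refine le_trans (by simp) (Fintype.card_le_of_injective (fun i : Fin 6 => (⟨_, hr i⟩ : {x // r x})) ?_)
      intro i j hij
      exact Fin.castLE_injective h6 (congrArg Subtype.val hij)
    have conclude : ∀ (q : Fin n → Prop) [DecidablePred q],
        (∀ l ∈ L ⊓ alternatingGroup (Fin n), ∀ x, q (g (l x)) ↔ q (g x)) →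
        Fintype.card {a // q a} < 6 → Fintype.card {a // ¬ q a} < 6 → False := fun q _ hinvq hc1 hc2 => by
      have hall := hinv (fun x => q (g x)) hinvq
      have hce : ∀ (r : Fin n → Prop) [DecidablePred r], Fintype.card {x // r (g x)} = Fintype.card {x // r x} :=
        fun r _ => Fintype.card_congr (g.subtypeEquiv fun x => Iff.rfl)
      by_cases h0 : q (g (Fin.castLE h6 0))
      · have := hcount (fun x => q (g x)) fun i => (hall i).2 h0
        rw [hce q] at this
        omega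
      · have := hcount (fun x => ¬ q (g x)) fun i h => h0 ((hall i).1 h)
        rw [hce fun x => ¬ q x] at this
        omega
    have hconj : ∀ (l : Perm (Fin n)) (x : Fin n), (g * l * g⁻¹) (g x) = g (l x) := fun l x => by
      show g (l (g.symm (g x))) = g (l x)
      rw [Equiv.symm_apply_apply]
    obtain ⟨hn78 | hn78, hlow⟩ := hE
    · obtain ⟨q, _, hq, hle⟩ := seven_shape (G := alternatingGroup (Fin n)) le_rfl
        ⟨Or.inl rfl, fun r hr hr7 => hlow r hr (by omega)⟩ (by rw [Fintype.card_fin]; omega) hH'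
      refine conclude q (fun l hl x => ?_) (by omega)
        (by rw [Fintype.card_subtype_compl, hq, Fintype.card_fin]; omega)
      have := hle (hg l hl) (g x)
      rwa [hconj] at this
    · obtain ⟨q, _, hq, hle⟩ := eight_shape (G := alternatingGroup (Fin n)) le_rfl
        ⟨Or.inr rfl, fun r hr hr8 => hlow r hr (by omega)⟩ (by rw [Fintype.card_fin]; omega) hH'
      refine conclude q (fun l hl x => ?_) (by omega)
        (by rw [Fintype.card_subtype_compl, hq, Fintype.card_fin]; omega)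
      have h7 : (⟨6, by omega⟩ : Fin n) = l ⟨6, by omega⟩ := (hfix l hl.1 _ (by simp [p6])).symm
      have := hle (hg l hl) (g x) (g ⟨6, by omega⟩)
      rw [hconj, hconj, ← h7] at this
      tauto

/-- The full Sylow analogue for alternating groups. -/
theorem dPi_alt_iff (hn : 5 ≤ n) :
    Cfsg.IsDPiGroup π (alternatingGroup (Fin n)) ↔ (Small π n ∨ AllPrimes π n) := by
  classical
  constructor
  · intro hD
    obtain ⟨H, hH, -⟩ := hall_of_dPi hD
    rcases (ePi_alt_iff π n).1 ⟨H, hH⟩ with h | h | h | h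
    · exact Or.inl h
    · exact Or.inr h
    · exact absurd hD (not_dPi_special hn (Or.inl h))
    · exact absurd hD (not_dPi_special hn (Or.inr h))
  · intro h M K hM hK
    suffices hall : ∀ M : Subgroup (alternatingGroup (Fin n)), Maximal (Cfsg.IsPiSubgroup π) M →
        Cfsg.IsPiHall π M from alt_conj π n M K (hall M hM) (hall K hK)
    intro M hM
    refine ⟨hM.1, fun r hr hrπ hd => ?_⟩
    rcases h with h | h
    · haveI : Fact r.Prime := ⟨hr⟩
      have hrn : r ≤ n := (prime_dvd_card_alt hn hr).1 (hd.trans (Subgroup.index_dvd_card M))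
      have hMp : IsPGroup r M := IsPGroup.of_card (Nat.eq_prime_pow_of_unique_prime_dvd Nat.card_pos.ne'
        fun {d} hdp hdd => h d r hdp hr (hM.1 d hdp hdd) hrπ
          ((prime_dvd_card_alt hn hdp).1 (hdd.trans (Subgroup.card_subgroup_dvd_card M))) hrn)
      obtain ⟨P, hP⟩ := hMp.exists_le_sylow
      have hPπ : Cfsg.IsPiSubgroup π (P : Subgroup (alternatingGroup (Fin n))) := fun s hs hsd => by
        obtain ⟨j, hj⟩ := P.isPGroup'.exists_card_eq
        rw [hj] at hsd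
        rwa [(Nat.prime_dvd_prime_iff_eq hs hr).1 (hs.dvd_of_dvd_pow hsd)]
      have hMP : M = P := le_antisymm hP (hM.2 hPπ hP)
      exact P.not_dvd_index (hMP ▸ hd)
    · have htop : Cfsg.IsPiSubgroup π (⊤ : Subgroup (alternatingGroup (Fin n))) := fun s hs hsd => by
        rw [Subgroup.card_top] at hsd
        exact h s hs ((prime_dvd_card_alt hn hs).1 hsd)
      have hMt : M = ⊤ := le_antisymm le_top (hM.2 htop le_top)
      rw [hMt, Subgroup.index_top] at hd
      exact hr.not_dvd_one hd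

end CfsgLib.KnownC.HallPerm
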