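import Cfsg.Agent.Lib.KnownC.JordanTypeForms
import Cfsg.Agent.Lib.Geom.SympSpace
import Cfsg.Prelude.Def_Classical

set_option autoImplicit false

/-!
Jordan types occurring in symplectic and orthogonal groups.
-/

namespace CfsgLib.KnownC

open Matrix

variable {F : Type*} [Field F]

theorem isUnit_matrix_J (m : ℕ) : IsUnit (Matrix.J (Fin m) F) :=
  IsUnit.of_mul_eq_one (-Matrix.J (Fin m) F) (by rw [mul_neg, Matrix.J_squared, neg_neg])

theorem dot_J_self (m : ℕ) (w : Fin m ⊕ Fin m → F) : w ⬝ᵥ Matrix.J (Fin m) F *ᵥ w = 0 := by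
  simp [Matrix.J, dotProduct, mulVec, Fintype.sum_sum_type, Matrix.fromBlocks, Matrix.one_apply, mul_comm]

theorem sep_of_isUnit {ι : Type*} [Fintype ι] [DecidableEq ι] {G : Matrix ι ι F} (h : IsUnit G)
    (x : ι → F) (hx : ∀ y, x ⬝ᵥ G *ᵥ y = 0) : x = 0 := by
  have h1 : x ᵥ* G = 0 := funext fun i => by
    have := hx (Pi.single i 1)
    rw [dotProduct_mulVec] at this
    simpa using this
  obtain ⟨u, rfl⟩ := h
  have := congrArg (fun v => v ᵥ* ((u⁻¹ : (Matrix ι ι F)ˣ) : Matrix ι ι F)) h1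
  simpa [Matrix.vecMul_vecMul] using this

theorem matrix_eq_of_forall_dot {ι : Type*} [Fintype ι] [DecidableEq ι] {A B : Matrix ι ι F}
    (h : ∀ u v, u ⬝ᵥ A *ᵥ v = u ⬝ᵥ B *ᵥ v) : A = B := by
  ext i i'
  simpa using h (Pi.single i 1) (Pi.single i' 1)

theorem exists_congr_J {m : ℕ} {G : Matrix (Fin m ⊕ Fin m) (Fin m ⊕ Fin m) F} (hG : IsUnit G)
    (halt : ∀ v, v ⬝ᵥ G *ᵥ v = 0) :
    ∃ g : GL (Fin m ⊕ Fin m) F,
      (g : Matrix (Fin m ⊕ Fin m) (Fin m ⊕ Fin m) F)ᵀ * Matrix.J (Fin m) F * g.1 = G := by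
  obtain ⟨e, he⟩ := CfsgLib.Geom.exists_symp_isometry (F := F) (2 * m)
    (Matrix.toLinearMap₂' F G) (Matrix.toLinearMap₂' F (Matrix.J (Fin m) F))
    (fun v => by rw [Matrix.toLinearMap₂'_apply']; exact halt v)
    (fun x hx => sep_of_isUnit hG x fun y => by
      have := hx y; rwa [Matrix.toLinearMap₂'_apply'] at this)
    (fun v => by rw [Matrix.toLinearMap₂'_apply']; exact dot_J_self m v)
    (fun x hx => sep_of_isUnit (isUnit_matrix_J m) x fun y => by
      have := hx y; rwa [Matrix.toLinearMap₂'_apply'] at this)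
    (by simp; omega) (by simp; omega)
  set M := LinearMap.toMatrix' e.toLinearMap with hM
  have hMv : ∀ v, M *ᵥ v = e v := fun v => LinearMap.toMatrix'_mulVec e.toLinearMap v
  have hu : IsUnit M := Matrix.mulVec_injective_iff_isUnit.1 fun a b hab => by
    have hab' : M *ᵥ a = M *ᵥ b := hab
    rw [hMv, hMv] at hab'
    exact e.injective hab'
  refine ⟨hu.unit, matrix_eq_of_forall_dot fun u v => ?_⟩
  have := he u v
  rw [Matrix.toLinearMap₂'_apply', Matrix.toLinearMap₂'_apply', ← hMv, ← hMv] at this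
  show u ⬝ᵥ (Mᵀ * Matrix.J (Fin m) F * M) *ᵥ v = _
  rw [← mulVec_mulVec, ← mulVec_mulVec, dotProduct_mulVec, Matrix.vecMul_transpose]
  exact this

theorem alt_reindex {ι κ : Type*} [Fintype ι] [Fintype κ] (e : κ ≃ ι) {G : Matrix κ κ F}
    (halt : ∀ v, v ⬝ᵥ G *ᵥ v = 0) (v : ι → F) : v ⬝ᵥ Matrix.reindex e e G *ᵥ v = 0 := by
  rw [Matrix.reindex_apply, Matrix.submatrix_mulVec_equiv, Equiv.symm_symm,
    ← comp_equiv_dotProduct_comp_equiv v _ e]
  rw [show ((G *ᵥ (v ∘ e)) ∘ e.symm) ∘ e = G *ᵥ (v ∘ e) from funext fun i => by simp]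
  exact halt _

theorem reindex_isometry {ι κ : Type*} [Fintype ι] [DecidableEq ι] [Fintype κ] [DecidableEq κ]
    (e : κ ≃ ι) {G B : Matrix κ κ F} (h : Bᵀ * G * B = G) :
    (Matrix.reindex e e B)ᵀ * Matrix.reindex e e G * Matrix.reindex e e B = Matrix.reindex e e G := by
  simp only [Matrix.reindex_apply, Matrix.transpose_submatrix, Matrix.submatrix_mul_equiv, h]

theorem isUnit_jordanTypeMatrix {t : ℕ} (d : Fin t → ℕ) : IsUnit (Cfsg.jordanTypeMatrix d F) := by
  have h := fun k => isUnit_jordanBlock (F := F) (d k)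
  exact ⟨⟨Matrix.blockDiagonal' fun k => Cfsg.jordanBlock (d k) F,
    Matrix.blockDiagonal' fun k => ((h k).unit⁻¹).1,
    by rw [← Matrix.blockDiagonal'_mul, funext fun k => (h k).mul_val_inv]
       exact Matrix.blockDiagonal'_one,
    by rw [← Matrix.blockDiagonal'_mul, funext fun k => (h k).val_inv_mul]
       exact Matrix.blockDiagonal'_one⟩, rfl⟩

theorem jordanType_in_symplectic_iff {m t : ℕ} (d : Fin t → ℕ) (hd : ∀ k, 1 ≤ d k)
    (hsum : ∑ k, d k = 2 * m) :
    (∃ e : ((k : Fin t) × Fin (d k)) ≃ (Fin m ⊕ Fin m), ∃ A : Matrix.symplecticGroup (Fin m) F,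
      IsConj (Matrix.reindex e e (Cfsg.jordanTypeMatrix d F))
        (A : Matrix (Fin m ⊕ Fin m) (Fin m ⊕ Fin m) F)) ↔
      ∀ j : ℕ, Odd j → Even (Finset.univ.filter (fun k : Fin t => d k = j)).card := by
  constructor
  · rintro ⟨e, A, hA⟩
    exact jordanType_even_count_of_alt d hd e (isUnit_matrix_J m) (dot_J_self m)
      (SymplecticGroup.mem_iff'.1 A.2) hA
  · intro h
    obtain ⟨G, hu, halt, hinv⟩ := exists_alt_form_of_even (F := F) d hd h
    let e : ((k : Fin t) × Fin (d k)) ≃ (Fin m ⊕ Fin m) :=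
      Fintype.equivOfCardEq (by simp [hsum, two_mul])
    set B := Matrix.reindex e e (Cfsg.jordanTypeMatrix d F) with hB
    obtain ⟨g, hg⟩ := exists_congr_J (G := Matrix.reindex e e G)
      ((Matrix.isUnit_submatrix_equiv e.symm e.symm).2 hu) (alt_reindex e halt)
    have hmem : g.1 * B * (g⁻¹).1 ∈ Matrix.symplecticGroup (Fin m) F := by
      rw [SymplecticGroup.mem_iff']
      calc (g.1 * B * (g⁻¹).1)ᵀ * Matrix.J (Fin m) F * (g.1 * B * (g⁻¹).1)
          = (g⁻¹).1ᵀ * (Bᵀ * (g.1ᵀ * Matrix.J (Fin m) F * g.1) * B) * (g⁻¹).1 := by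
            simp only [transpose_mul, mul_assoc]
        _ = (g.1 * (g⁻¹).1)ᵀ * Matrix.J (Fin m) F * (g.1 * (g⁻¹).1) := by
            rw [hg, hB, reindex_isometry e hinv, ← hg, transpose_mul]
            simp only [mul_assoc]
        _ = Matrix.J (Fin m) F := by rw [Units.mul_inv, transpose_one, one_mul, mul_one]
    refine ⟨e, ⟨_, hmem⟩, g, ?_⟩
    show g.1 * B = g.1 * B * (g⁻¹).1 * g.1
    rw [mul_assoc _ (g⁻¹).1, Units.inv_mul, mul_one]

theorem mem_isometryGroup_iff_forall {n : ℕ} (Q : (Fin n → F) → F) (A : GL (Fin n) F) :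
    A ∈ Cfsg.isometryGroup F Q ↔ ∀ v, Q ((A : Matrix (Fin n) (Fin n) F) *ᵥ v) = Q v :=
  ⟨fun h v => h v 0, fun h u _ => h u⟩

theorem exists_polar_matrix {n : ℕ} (Q : QuadraticForm F (Fin n → F))
    (hQ : (QuadraticMap.polarBilin Q).Nondegenerate) :
    ∃ P : Matrix (Fin n) (Fin n) F, IsUnit P ∧ ∀ u v, QuadraticMap.polar Q u v = u ⬝ᵥ P *ᵥ v := by
  set P := LinearMap.toMatrix₂' F (QuadraticMap.polarBilin Q) with hP
  have hv : ∀ u v, QuadraticMap.polar Q u v = u ⬝ᵥ P *ᵥ v := fun u v => by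
    rw [← Matrix.toLinearMap₂'_apply', hP, Matrix.toLinearMap₂'_toMatrix']
    rfl
  refine ⟨P, ?_, hv⟩
  rw [← Matrix.mulVec_injective_iff_isUnit]
  refine (injective_iff_map_eq_zero P.mulVecLin).2 fun x hx => hQ.2 x fun y => ?_
  show QuadraticMap.polar Q y x = 0
  rw [hv, show P *ᵥ x = 0 from hx, dotProduct_zero]

theorem isometry_polar {n : ℕ} (Q : QuadraticForm F (Fin n → F)) {P A : Matrix (Fin n) (Fin n) F}
    (hP : ∀ u v, QuadraticMap.polar Q u v = u ⬝ᵥ P *ᵥ v) (hA : ∀ v, Q (A *ᵥ v) = Q v) :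
    Aᵀ * P * A = P := by
  refine matrix_eq_of_forall_dot fun u v => ?_
  rw [← mulVec_mulVec, ← mulVec_mulVec, dotProduct_mulVec, Matrix.vecMul_transpose, ← hP, ← hP]
  simp only [QuadraticMap.polar, ← mulVec_add, hA]

theorem jordanType_in_orthogonal_odd_iff (h2 : (2 : F) ≠ 0) {n t : ℕ} (d : Fin t → ℕ)
    (hd : ∀ k, 1 ≤ d k) (hsum : ∑ k, d k = n) :
    (∃ Q : QuadraticForm F (Fin n → F), (QuadraticMap.polarBilin Q).Nondegenerate ∧
      ∃ e : ((k : Fin t) × Fin (d k)) ≃ Fin n, ∃ A : ↥(Cfsg.isometryGroup F ⇑Q),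
        IsConj (Matrix.reindex e e (Cfsg.jordanTypeMatrix d F))
          ((A : Matrix.GeneralLinearGroup (Fin n) F) : Matrix (Fin n) (Fin n) F)) ↔
      ∀ j : ℕ, Even j → 0 < j → Even (Finset.univ.filter (fun k : Fin t => d k = j)).card := by
  constructor
  · rintro ⟨Q, hQ, e, A, hA⟩
    obtain ⟨P, hPu, hP⟩ := exists_polar_matrix Q hQ
    refine jordanType_even_count_of_symm d hd h2 e hPu ?_
      (isometry_polar Q hP ((mem_isometryGroup_iff_forall _ _).1 A.2)) hA
    refine matrix_eq_of_forall_dot fun u v => ?_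
    rw [dotProduct_mulVec, Matrix.vecMul_transpose, dotProduct_comm, ← hP, ← hP,
      QuadraticMap.polar_comm]
  · intro h
    obtain ⟨G₀, hu₀, hT, hinv₀⟩ := exists_symm_form_of_even (F := F) d hd h2 h
    let e : ((k : Fin t) × Fin (d k)) ≃ Fin n := Fintype.equivOfCardEq (by simp [hsum])
    set G := Matrix.reindex e e G₀ with hG
    set B := Matrix.reindex e e (Cfsg.jordanTypeMatrix d F) with hB
    have hGu : IsUnit G := (Matrix.isUnit_submatrix_equiv e.symm e.symm).2 hu₀
    have hGT : Gᵀ = G := by rw [hG, Matrix.reindex_apply, Matrix.transpose_submatrix, hT]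
    have hinv : Bᵀ * G * B = G := reindex_isometry e hinv₀
    have hQ : ∀ v, G.toQuadraticForm' v = v ⬝ᵥ G *ᵥ v := fun v =>
      Matrix.toLinearMap₂'_apply' G v v
    have hBu : IsUnit B :=
      (Matrix.isUnit_submatrix_equiv e.symm e.symm).2 (isUnit_jordanTypeMatrix d)
    have hpolar : ∀ u v, QuadraticMap.polar G.toQuadraticForm' u v = 2 * (u ⬝ᵥ G *ᵥ v) := by
      intro u v
      have hs : v ⬝ᵥ G *ᵥ u = u ⬝ᵥ G *ᵥ v := by
        conv_lhs => rw [← hGT, dotProduct_mulVec, Matrix.vecMul_transpose, dotProduct_comm]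
      simp only [QuadraticMap.polar, hQ, mulVec_add, dotProduct_add, add_dotProduct, hs]
      ring
    refine ⟨G.toQuadraticForm', ⟨fun x hx => ?_, fun x hx => ?_⟩, e, ⟨hBu.unit, ?_⟩, IsConj.refl _⟩
    · refine sep_of_isUnit hGu x fun y => ?_
      have := hx y
      change QuadraticMap.polar _ x y = 0 at this
      rw [hpolar] at this
      exact (mul_eq_zero.1 this).resolve_left h2
    · refine sep_of_isUnit hGu x fun y => ?_
      have := hx y
      change QuadraticMap.polar _ y x = 0 at this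
      rw [QuadraticMap.polar_comm, hpolar] at this
      exact (mul_eq_zero.1 this).resolve_left h2
    · refine (mem_isometryGroup_iff_forall _ _).2 fun v => ?_
      show G.toQuadraticForm' (B *ᵥ v) = G.toQuadraticForm' v
      rw [hQ, hQ]
      conv_rhs => rw [← hinv, ← mulVec_mulVec, ← mulVec_mulVec, dotProduct_mulVec, Matrix.vecMul_transpose]

theorem jordanType_in_orthogonal_even_iff [Fintype F] [CharP F 2] {m t : ℕ} (d : Fin t → ℕ)
    (hd : ∀ k, 1 ≤ d k) (hsum : ∑ k, d k = 2 * m) :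
    (∃ Q : QuadraticForm F (Fin (2 * m) → F), (QuadraticMap.polarBilin Q).Nondegenerate ∧
      ∃ e : ((k : Fin t) × Fin (d k)) ≃ Fin (2 * m), ∃ A : ↥(Cfsg.isometryGroup F ⇑Q),
        IsConj (Matrix.reindex e e (Cfsg.jordanTypeMatrix d F))
          ((A : Matrix.GeneralLinearGroup (Fin (2 * m)) F) : Matrix (Fin (2 * m)) (Fin (2 * m)) F)) ↔
      ∀ j : ℕ, Odd j → Even (Finset.univ.filter (fun k : Fin t => d k = j)).card := by
  classical
  have h20 : (2 : F) = 0 := CharTwo.two_eq_zero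
  constructor
  · rintro ⟨Q, hQ, e, A, hA⟩
    obtain ⟨P, hPu, hP⟩ := exists_polar_matrix Q hQ
    refine jordanType_even_count_of_alt d hd e hPu (fun v => ?_)
      (isometry_polar Q hP ((mem_isometryGroup_iff_forall _ _).1 A.2)) hA
    rw [← hP, QuadraticMap.polar_self, two_nsmul, CharTwo.add_self_eq_zero]
  · intro h
    obtain ⟨G₀, hu₀, halt₀, hinv₀⟩ := exists_alt_form_of_even (F := F) d hd h
    let e : ((k : Fin t) × Fin (d k)) ≃ Fin (2 * m) := Fintype.equivOfCardEq (by simp [hsum])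
    set G := Matrix.reindex e e G₀ with hG
    set B := Matrix.reindex e e (Cfsg.jordanTypeMatrix d F) with hB
    have hGu : IsUnit G := (Matrix.isUnit_submatrix_equiv e.symm e.symm).2 hu₀
    obtain ⟨hdiag, hGT⟩ := alt_entries (alt_reindex e halt₀)
    have hinv : Bᵀ * G * B = G := reindex_isometry e hinv₀
    have hBu : IsUnit B :=
      (Matrix.isUnit_submatrix_equiv e.symm e.symm).2 (isUnit_jordanTypeMatrix d)
    set U : Matrix (Fin (2 * m)) (Fin (2 * m)) F :=
      Matrix.of fun i i' => if i < i' then G i i' else 0 with hU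
    have hUU : U + Uᵀ = G := by
      ext i i'
      simp only [hU, Matrix.add_apply, Matrix.transpose_apply, Matrix.of_apply]
      rcases lt_trichotomy i i' with h | h | h
      · rw [if_pos h, if_neg h.le.not_gt, add_zero]
      · subst h; rw [if_neg (lt_irrefl i), add_zero]; exact (hdiag i).symm
      · rw [if_neg h.le.not_gt, if_pos h, zero_add]
        have := congrFun (congrFun hGT i) i'
        rw [transpose_apply, Matrix.neg_apply] at this
        rw [hG, this, CharTwo.neg_eq]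
    set Q₀ := U.toQuadraticForm' with hQ₀def
    have hQ₀ : ∀ v, Q₀ v = v ⬝ᵥ U *ᵥ v := fun v => Matrix.toLinearMap₂'_apply' U v v
    have hpolar : ∀ u v, QuadraticMap.polar Q₀ u v = u ⬝ᵥ G *ᵥ v := by
      intro u v
      have hs : v ⬝ᵥ U *ᵥ u = u ⬝ᵥ Uᵀ *ᵥ v := by
        rw [dotProduct_mulVec u, Matrix.vecMul_transpose, dotProduct_comm v]
      simp only [QuadraticMap.polar, hQ₀, mulVec_add, dotProduct_add, add_dotProduct, ← hUU,
        add_mulVec, hs]
      ring
    -- the defect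
    set δ : (Fin (2 * m) → F) → F := fun x => Q₀ (B *ᵥ x) + Q₀ x with hδ
    have hadd : ∀ u v, δ (u + v) = δ u + δ v := by
      intro u v
      have h1 : QuadraticMap.polar Q₀ (B *ᵥ u) (B *ᵥ v) = QuadraticMap.polar Q₀ u v := by
        rw [hpolar, hpolar]
        conv_rhs => rw [← hinv, ← mulVec_mulVec, ← mulVec_mulVec, dotProduct_mulVec, Matrix.vecMul_transpose]
      simp only [hδ]
      rw [mulVec_add, QuadraticMap.map_add (⇑Q₀), QuadraticMap.map_add (⇑Q₀), h1]
      linear_combination (norm := ring_nf) QuadraticMap.polar Q₀ u v * h20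
    have hsmul : ∀ (c : F) u, δ (c • u) = c * c * δ u := by
      intro c u
      simp only [hδ, mulVec_smul, QuadraticMap.map_smul, smul_eq_mul]
      ring
    haveI : ExpChar F 2 := ExpChar.prime Nat.prime_two
    set r : F → F := fun x => (frobeniusEquiv F 2).symm x with hr
    have hr2 : ∀ x, r x * r x = x := fun x => by
      have h := frobeniusEquiv_symm_pow_p F 2 x
      rw [sq] at h
      exact h
    have hrinj : ∀ x y : F, x * x = y * y → x = y := fun x y hxy => by
      refine frobenius_inj F 2 ?_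
      simp [frobenius_def, sq, hxy]
    let l : (Fin (2 * m) → F) →ₗ[F] F :=
      { toFun := fun x => r (δ x)
        map_add' := fun u v => hrinj _ _ (by
          rw [hr2, hadd, CharTwo.add_mul_self, hr2, hr2])
        map_smul' := fun c u => hrinj _ _ (by
          rw [RingHom.id_apply, smul_eq_mul, hr2, hsmul, mul_mul_mul_comm, hr2]) }
    have hl : ∀ x, l x * l x = δ x := fun x => hr2 (δ x)
    set N := Matrix.mulVecLin B + LinearMap.id with hN
    have hmem : l ∈ LinearMap.range N.dualMap := by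
      rw [LinearMap.range_dualMap_eq_dualAnnihilator_ker, Submodule.mem_dualAnnihilator]
      intro x hx
      have hx' : B *ᵥ x = x := by
        have h0 : B *ᵥ x + x = 0 := hx
        have h1 := eq_neg_of_add_eq_zero_left h0
        rw [h1]; funext i; exact CharTwo.neg_eq _
      refine hrinj _ _ ?_
      rw [hl, mul_zero, hδ]
      show Q₀ (B *ᵥ x) + Q₀ x = 0
      rw [hx', CharTwo.add_self_eq_zero]
    obtain ⟨lam, hlam⟩ := hmem
    have hlam' : ∀ x, lam (B *ᵥ x) = lam x + l x := fun x => by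
      have := LinearMap.congr_fun hlam x
      rw [LinearMap.dualMap_apply, hN, LinearMap.add_apply, mulVecLin_apply, LinearMap.id_apply,
        map_add] at this
      rw [← this, ← add_assoc, add_comm (lam x) (lam (B *ᵥ x)), add_assoc, CharTwo.add_self_eq_zero,
        add_zero]
    let Q : QuadraticForm F (Fin (2 * m) → F) := Q₀ + QuadraticMap.linMulLin lam lam
    have hQ : ∀ x, Q x = Q₀ x + lam x * lam x := fun x => rfl
    have hpolarQ : ∀ u v, QuadraticMap.polar Q u v = u ⬝ᵥ G *ᵥ v := by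
      intro u v
      rw [← hpolar]
      simp only [QuadraticMap.polar, hQ, map_add, CharTwo.add_mul_self]
      ring
    refine ⟨Q, ⟨fun x hx => ?_, fun x hx => ?_⟩, e, ⟨hBu.unit, ?_⟩, IsConj.refl _⟩
    · refine sep_of_isUnit hGu x fun y => ?_
      rw [← hpolarQ]; exact hx y
    · refine sep_of_isUnit hGu x fun y => ?_
      rw [← hpolarQ, QuadraticMap.polar_comm]; exact hx y
    · refine (mem_isometryGroup_iff_forall _ _).2 fun v => ?_
      show Q (B *ᵥ v) = Q v
      rw [hQ, hQ, hlam', CharTwo.add_mul_self, hl]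
      simp only [hδ]
      linear_combination (norm := ring_nf) Q₀ (B *ᵥ v) * h20

end CfsgLib.KnownC
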