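import Cfsg.Agent.Lib.KnownC.RegNilCommutant
import Cfsg.Agent.Lib.KnownA.AltRank
import Cfsg.Prelude.Def_JordanBlocks

set_option autoImplicit false

/-!
Jordan types of isometries: parity constraints from the ranks of powers of `A - 1`.
-/

namespace CfsgLib.KnownC

open Matrix

variable {F : Type*} [Field F]

theorem jordanBlock_eq_one_add (j : ℕ) :
    Cfsg.jordanBlock j F = 1 + (shiftMat j F)ᵀ := by
  ext i i'
  simp only [Cfsg.jordanBlock, Matrix.of_apply, shiftMat, Matrix.add_apply, Matrix.one_apply,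
    Matrix.transpose_apply]
  by_cases h : (i : ℕ) = i'
  · rw [if_pos h, if_pos (Fin.ext h), if_neg (by omega), add_zero]
  · rw [if_neg h, if_neg (fun e => h (congrArg Fin.val e)), zero_add]

theorem isRegNil_jordanBlock {j : ℕ} (hj : 1 ≤ j) : IsRegNil (Cfsg.jordanBlock j F - 1) := by
  rw [jordanBlock_eq_one_add, add_sub_cancel_left]
  have h := shiftMat_regular (F := F) hj
  refine ⟨by simpa using hj, ?_, ?_⟩
  · rw [Fintype.card_fin, ← Matrix.transpose_pow, h.1, Matrix.transpose_zero]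
  · rw [Matrix.rank_transpose, h.2, Fintype.card_fin]

theorem IsRegNil.rank_pow {ι : Type*} [Fintype ι] [DecidableEq ι] {N : Matrix ι ι F}
    (h : IsRegNil N) (k : ℕ) : (N ^ k).rank = Fintype.card ι - k := by
  rcases le_total (Fintype.card ι) k with hk | hk
  · rw [Nat.sub_eq_zero_of_le hk, pow_eq_zero_of_le hk h.nil, Matrix.rank_zero]
  have key : ∀ i, Fintype.card ι ≤ (N ^ i).rank + i := fun i => by
    have h1 := finrank_ker_pow_le N h.le_rank i
    have h2 := (Matrix.mulVecLin (N ^ i)).finrank_range_add_finrank_ker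
    rw [Module.finrank_fintype_fun_eq_card] at h2
    have h3 : (N ^ i).rank = Module.finrank F (LinearMap.range (Matrix.mulVecLin (N ^ i))) := rfl
    omega
  have h4 : LinearMap.range (Matrix.mulVecLin (N ^ (Fintype.card ι - k))) ≤
      LinearMap.ker (Matrix.mulVecLin (N ^ k)) := by
    rintro _ ⟨x, rfl⟩
    rw [LinearMap.mem_ker, mulVecLin_apply, mulVecLin_apply, mulVec_mulVec, ← pow_add,
      show k + (Fintype.card ι - k) = Fintype.card ι by omega, h.nil, zero_mulVec]
  have h5 := Submodule.finrank_mono h4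
  have h6 : (N ^ (Fintype.card ι - k)).rank =
    Module.finrank F (LinearMap.range (Matrix.mulVecLin (N ^ (Fintype.card ι - k)))) := rfl
  have h7 := key (Fintype.card ι - k)
  have h8 := key k
  have h9 := (Matrix.mulVecLin (N ^ k)).finrank_range_add_finrank_ker
  rw [Module.finrank_fintype_fun_eq_card] at h9
  have h10 : (N ^ k).rank = Module.finrank F (LinearMap.range (Matrix.mulVecLin (N ^ k))) := rfl
  omega

theorem blockDiagonal'_mulVec_apply {o : Type*} [Fintype o] [DecidableEq o] {n : o → Type*}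
    [∀ k, Fintype (n k)] (M : ∀ k, Matrix (n k) (n k) F) (x : ((k : o) × n k) → F) (k : o) (i : n k) :
    (Matrix.blockDiagonal' M *ᵥ x) ⟨k, i⟩ = (M k *ᵥ fun j => x ⟨k, j⟩) i := by
  classical
  simp only [mulVec, dotProduct]
  rw [Fintype.sum_sigma, Finset.sum_eq_single k]
  · simp [Matrix.blockDiagonal'_apply_eq]
  · intro b _ hb
    exact Finset.sum_eq_zero fun j _ => by
      rw [Matrix.blockDiagonal'_apply_ne _ _ _ (Ne.symm hb), zero_mul]
  · intro h; exact absurd (Finset.mem_univ _) h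

theorem rank_blockDiagonal' {o : Type*} [Fintype o] [DecidableEq o] {n : o → Type*}
    [∀ k, Fintype (n k)] [∀ k, DecidableEq (n k)] (M : ∀ k, Matrix (n k) (n k) F) :
    (Matrix.blockDiagonal' M).rank = ∑ k, (M k).rank := by
  classical
  let e : LinearMap.ker (Matrix.blockDiagonal' M).mulVecLin ≃ₗ[F]
      ((k : o) → LinearMap.ker (M k).mulVecLin) :=
    { toFun := fun x k => ⟨fun j => x.1 ⟨k, j⟩, LinearMap.mem_ker.2 (funext fun i => by
        rw [mulVecLin_apply, ← blockDiagonal'_mulVec_apply]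
        exact congrFun (LinearMap.mem_ker.1 x.2) ⟨k, i⟩)⟩
      map_add' := fun x y => rfl
      map_smul' := fun c x => rfl
      invFun := fun y => ⟨fun p => (y p.1).1 p.2, LinearMap.mem_ker.2 (funext fun p => by
        obtain ⟨k, i⟩ := p
        rw [mulVecLin_apply, blockDiagonal'_mulVec_apply]
        exact congrFun (LinearMap.mem_ker.1 (y k).2) i)⟩
      left_inv := fun x => rfl
      right_inv := fun y => rfl }
  have h1 := (Matrix.blockDiagonal' M).mulVecLin.finrank_range_add_finrank_ker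
  rw [e.finrank_eq, Module.finrank_pi_fintype, Module.finrank_fintype_fun_eq_card,
    Fintype.card_sigma] at h1
  have h2 : ∑ k, (M k).rank + ∑ k, Module.finrank F (LinearMap.ker (M k).mulVecLin) =
      ∑ k, Fintype.card (n k) := by
    rw [← Finset.sum_add_distrib]
    refine Finset.sum_congr rfl fun k _ => ?_
    have := (M k).mulVecLin.finrank_range_add_finrank_ker
    rwa [Module.finrank_fintype_fun_eq_card] at this
  have h3 : (Matrix.blockDiagonal' M).rank =
      Module.finrank F (LinearMap.range (Matrix.blockDiagonal' M).mulVecLin) := rfl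
  omega

theorem rank_jordanType_pow {t : ℕ} (d : Fin t → ℕ) (hd : ∀ k, 1 ≤ d k) (h : ℕ) :
    ((Cfsg.jordanTypeMatrix d F - 1) ^ h).rank = ∑ k, (d k - h) := by
  rw [Cfsg.jordanTypeMatrix, ← Matrix.blockDiagonal'_one, ← Matrix.blockDiagonal'_sub,
    ← Matrix.blockDiagonal'_pow, rank_blockDiagonal']
  refine Finset.sum_congr rfl fun k _ => ?_
  rw [Pi.pow_apply, Pi.sub_apply, Pi.one_apply, (isRegNil_jordanBlock (hd k)).rank_pow,
    Fintype.card_fin]

/-- Parities of two ranks control the multiplicity of a block size. -/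
theorem even_count_of_even_sums {t : ℕ} (d : Fin t → ℕ) {j : ℕ} (hj : 1 ≤ j)
    (h1 : Even (∑ k, (d k - (j - 1)))) (h2 : Even (∑ k, (d k - (j + 1)))) :
    Even (Finset.univ.filter (fun k : Fin t => d k = j)).card := by
  have e : ∑ k, (d k - (j - 1)) + ∑ k, (d k - (j + 1)) =
      2 * ∑ k, (d k - j) + (Finset.univ.filter (fun k : Fin t => d k = j)).card := by
    rw [Finset.card_filter, Finset.mul_sum, ← Finset.sum_add_distrib, ← Finset.sum_add_distrib]
    refine Finset.sum_congr rfl fun k _ => ?_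
    split_ifs <;> omega
  have h3 : Even (2 * ∑ k, (d k - j) + (Finset.univ.filter (fun k : Fin t => d k = j)).card) :=
    e ▸ h1.add h2
  exact (Nat.even_add.1 h3).1 (even_two_mul _)

section Isometry

variable {ι : Type*} [Fintype ι] [DecidableEq ι] {J A : Matrix ι ι F}

theorem exists_left_inv_of_isometry (hJ : IsUnit J) (hA : Aᵀ * J * A = J) :
    ∃ V, V * A = 1 ∧ A * V = 1 ∧ Aᵀ * J = J * V := by
  have hAu : IsUnit A := by
    rw [Matrix.isUnit_iff_isUnit_det]
    have h := congrArg Matrix.det hA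
    rw [Matrix.det_mul, Matrix.det_mul] at h
    have hu : IsUnit (Aᵀ.det * J.det * A.det) := by
      rw [h]; exact (Matrix.isUnit_iff_isUnit_det _).1 hJ
    exact (IsUnit.mul_iff.1 hu).2
  obtain ⟨u, rfl⟩ := hAu
  refine ⟨(u⁻¹ : (Matrix ι ι F)ˣ), u.inv_mul, u.mul_inv, ?_⟩
  exact (congrArg (· * ((u⁻¹ : (Matrix ι ι F)ˣ) : Matrix ι ι F)) hA).symm.trans
    (by rw [mul_assoc, u.mul_inv, mul_one]) |>.symm

theorem even_rank_pow_even_of_alt (hJ : IsUnit J) (halt : ∀ v, v ⬝ᵥ J *ᵥ v = 0)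
    (hA : Aᵀ * J * A = J) (h : ℕ) : Even ((A - 1) ^ (2 * h)).rank := by
  obtain ⟨V, hVA, hAV, hJV⟩ := exists_left_inv_of_isometry hJ hA
  set N := A - 1 with hN
  set W := -V with hW
  have hWN : Commute W N := by
    refine Commute.sub_right ?_ (Commute.one_right _)
    show -V * A = A * -V
    rw [neg_mul, mul_neg, hVA, hAV]
  have hNJ : Nᵀ * J = J * (W * N) := by
    rw [hN, hW, transpose_sub, transpose_one, sub_mul, one_mul, neg_mul, mul_sub, mul_one, hVA, neg_sub,
      mul_sub, mul_one, hJV]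
  have hpow : ∀ k, (N ^ k)ᵀ * J = J * (W * N) ^ k := by
    intro k
    induction k with
    | zero => simp
    | succ k ih => rw [pow_succ, transpose_mul, mul_assoc, ih, ← mul_assoc, hNJ, mul_assoc, ← pow_succ']
  have hM : (N ^ h)ᵀ * J * N ^ h = J * W ^ h * N ^ (2 * h) := by
    rw [hpow, hWN.mul_pow, two_mul, pow_add]
    simp only [mul_assoc]
  have hWu : IsUnit (J * W ^ h) :=
    hJ.mul ((IsUnit.of_mul_eq_one (-A) (by rw [hW, neg_mul_neg, hVA])).pow h)
  have he := CfsgLib.KnownA.even_rank_of_alt_matrix ((N ^ h)ᵀ * J * N ^ h) fun v => by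
    rw [← mulVec_mulVec, ← mulVec_mulVec, dotProduct_mulVec, Matrix.vecMul_transpose]
    exact halt _
  rwa [hM, Matrix.rank_mul_eq_right_of_isUnit_det _ _ ((Matrix.isUnit_iff_isUnit_det _).1 hWu)] at he

theorem even_rank_pow_odd_of_symm (h2 : (2 : F) ≠ 0) (hJ : IsUnit J) (hsymm : Jᵀ = J)
    (hA : Aᵀ * J * A = J) (hnil : IsNilpotent (A - 1)) (h : ℕ) :
    Even ((A - 1) ^ (2 * h + 1)).rank := by
  obtain ⟨V, hVA, hAV, hJV⟩ := exists_left_inv_of_isometry hJ hA
  set N := A - 1 with hN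
  set W := -V with hW
  have hWN : Commute W N := by
    refine Commute.sub_right ?_ (Commute.one_right _)
    show -V * A = A * -V
    rw [neg_mul, mul_neg, hVA, hAV]
  have hNJ : Nᵀ * J = J * (W * N) := by
    rw [hN, hW, transpose_sub, transpose_one, sub_mul, one_mul, neg_mul, mul_sub, mul_one, hVA, neg_sub,
      mul_sub, mul_one, hJV]
  have hpow : ∀ k, (N ^ k)ᵀ * J = J * (W * N) ^ k := by
    intro k
    induction k with
    | zero => simp
    | succ k ih => rw [pow_succ, transpose_mul, mul_assoc, ih, ← mul_assoc, hNJ, mul_assoc, ← pow_succ']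
  set Y := V * (A + 1) with hY
  have hX : A - V = Y * N := by
    rw [hY, hN, mul_assoc, show (A + 1) * (A - 1) = A * A - 1 by noncomm_ring, mul_sub,
      ← mul_assoc, hVA, one_mul, mul_one]
  have hM : (N ^ h)ᵀ * (J * (A - V)) * N ^ h = J * (W ^ h * Y) * N ^ (2 * h + 1) := by
    have hYN : Commute Y N := by
      refine Commute.mul_left ?_ ((Commute.refl A).add_left (Commute.one_left A) |>.sub_right
        (Commute.one_right _))
      exact (show Commute V A from hVA.trans hAV.symm).sub_right (Commute.one_right _)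
    rw [← mul_assoc ((N ^ h)ᵀ), hpow, hX, hWN.mul_pow, two_mul, pow_succ, pow_add]
    simp only [mul_assoc]
    rw [← mul_assoc (N ^ h) Y, (hYN.symm.pow_left h).eq]
    simp only [mul_assoc]
    rw [← pow_succ, ← pow_succ']
  have hWu : IsUnit (J * (W ^ h * Y)) := by
    refine hJ.mul (((IsUnit.of_mul_eq_one (-A) (by rw [hW, neg_mul_neg, hVA])).pow h).mul ?_)
    refine (IsUnit.of_mul_eq_one A hVA).mul ?_
    rw [show A + 1 = algebraMap F _ 2 + N by rw [hN, map_ofNat, ← one_add_one_eq_two]; abel]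
    exact hnil.isUnit_add_left_of_commute ((isUnit_iff_ne_zero.2 h2).map _)
      (Algebra.commutes 2 N).symm
  have hsw : ∀ v : ι → F, v ⬝ᵥ (J * (A - V)) *ᵥ v = 0 := by
    intro v
    rw [mul_sub, sub_mulVec, dotProduct_sub, ← hJV, ← mulVec_mulVec, ← mulVec_mulVec,
      dotProduct_mulVec v Aᵀ, Matrix.vecMul_transpose]
    have e : v ⬝ᵥ J *ᵥ (A *ᵥ v) = (A *ᵥ v) ⬝ᵥ J *ᵥ v := by
      rw [dotProduct_mulVec, ← hsymm, Matrix.vecMul_transpose, dotProduct_comm, hsymm]
    rw [e, sub_self]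
  have he := CfsgLib.KnownA.even_rank_of_alt_matrix ((N ^ h)ᵀ * (J * (A - V)) * N ^ h) fun v => by
    rw [← mulVec_mulVec, ← mulVec_mulVec, dotProduct_mulVec, Matrix.vecMul_transpose]
    exact hsw _
  rwa [hM, Matrix.rank_mul_eq_right_of_isUnit_det _ _ ((Matrix.isUnit_iff_isUnit_det _).1 hWu)] at he

end Isometry

/-- Similar matrices have powers of `· - 1` of equal rank. -/
theorem rank_pow_sub_one_of_similar {ι κ : Type*} [Fintype ι] [DecidableEq ι] [Fintype κ]
    [DecidableEq κ] (e : κ ≃ ι) (M : Matrix κ κ F) (A : Matrix ι ι F)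
    (hsim : IsConj (Matrix.reindex e e M) A) (h : ℕ) :
    ((A - 1) ^ h).rank = ((M - 1) ^ h).rank := by
  obtain ⟨c, hc⟩ := hsim
  have hA : A - 1 = (c : Matrix ι ι F) * (Matrix.reindexAlgEquiv F F e (M - 1)) *
      ((c⁻¹ : (Matrix ι ι F)ˣ) : Matrix ι ι F) := by
    rw [map_sub, map_one, Matrix.coe_reindexAlgEquiv, mul_sub, sub_mul, mul_one, c.mul_inv,
      hc, mul_assoc, c.mul_inv, mul_one]
  rw [hA, Units.conj_pow, ← map_pow, Matrix.rank_mul_eq_left_of_isUnit_det _ _
      ((Matrix.isUnit_iff_isUnit_det _).1 (c⁻¹).isUnit),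
    Matrix.rank_mul_eq_right_of_isUnit_det _ _ ((Matrix.isUnit_iff_isUnit_det _).1 c.isUnit),
    Matrix.coe_reindexAlgEquiv, Matrix.rank_reindex]

theorem jordanType_even_count_of_alt {ι : Type*} [Fintype ι] [DecidableEq ι] {t : ℕ} (d : Fin t → ℕ)
    (hd : ∀ k, 1 ≤ d k) (e : ((k : Fin t) × Fin (d k)) ≃ ι) {J A : Matrix ι ι F} (hJ : IsUnit J)
    (halt : ∀ v, v ⬝ᵥ J *ᵥ v = 0) (hA : Aᵀ * J * A = J)
    (hsim : IsConj (Matrix.reindex e e (Cfsg.jordanTypeMatrix d F)) A) (j : ℕ) (hj : Odd j) :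
    Even (Finset.univ.filter (fun k : Fin t => d k = j)).card := by
  obtain ⟨i, rfl⟩ := hj
  have key : ∀ h, Even (∑ k, (d k - 2 * h)) := fun h => by
    rw [← rank_jordanType_pow (F := F) d hd, ← rank_pow_sub_one_of_similar e _ A hsim]
    exact even_rank_pow_even_of_alt hJ halt hA h
  refine even_count_of_even_sums d (by omega) ?_ ?_
  · rw [show 2 * i + 1 - 1 = 2 * i by omega]; exact key i
  · rw [show 2 * i + 1 + 1 = 2 * (i + 1) by omega]; exact key (i + 1)

theorem jordanType_even_count_of_symm {ι : Type*} [Fintype ι] [DecidableEq ι] {t : ℕ} (d : Fin t → ℕ)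
    (hd : ∀ k, 1 ≤ d k) (h2 : (2 : F) ≠ 0) (e : ((k : Fin t) × Fin (d k)) ≃ ι) {J A : Matrix ι ι F}
    (hJ : IsUnit J) (hsymm : Jᵀ = J) (hA : Aᵀ * J * A = J)
    (hsim : IsConj (Matrix.reindex e e (Cfsg.jordanTypeMatrix d F)) A) (j : ℕ) (hj : Even j)
    (hj0 : 0 < j) : Even (Finset.univ.filter (fun k : Fin t => d k = j)).card := by
  obtain ⟨i, rfl⟩ := hj
  have hnil : IsNilpotent (A - 1) := by
    refine ⟨∑ k, d k, ?_⟩
    have h0 : ((A - 1) ^ (∑ k, d k)).rank = 0 := by
      rw [rank_pow_sub_one_of_similar e _ A hsim, rank_jordanType_pow d hd]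
      exact Finset.sum_eq_zero fun k _ => Nat.sub_eq_zero_of_le
        (Finset.single_le_sum (fun x _ => Nat.zero_le (d x)) (Finset.mem_univ k))
    have h1 : LinearMap.range ((A - 1) ^ (∑ k, d k)).mulVecLin = ⊥ := Submodule.finrank_eq_zero.1 h0
    refine Matrix.ext_iff_mulVec.2 fun v => ?_
    rw [zero_mulVec]
    simpa [LinearMap.range_eq_bot] using LinearMap.congr_fun (LinearMap.range_eq_bot.1 h1) v
  have key : ∀ h, Even (∑ k, (d k - (2 * h + 1))) := fun h => by
    rw [← rank_jordanType_pow (F := F) d hd, ← rank_pow_sub_one_of_similar e _ A hsim]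
    exact even_rank_pow_odd_of_symm h2 hJ hsymm hA hnil h
  refine even_count_of_even_sums d (by omega) ?_ ?_
  · rw [show i + i - 1 = 2 * (i - 1) + 1 by omega]; exact key _
  · rw [show i + i + 1 = 2 * i + 1 by omega]; exact key _

end CfsgLib.KnownC
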