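import Mathlib

/-!
The Lang-Steinberg theorem for `GL_n` over an algebraically closed field of positive characteristic.
-/

set_option autoImplicit false

namespace CfsgLib.KnownC

open Polynomial

variable {K : Type*} [Field K]

/-- Polynomials expressing the coefficients of a fixed vector through the last one. -/
noncomputable def langPoly (q : ℕ) (a : ℕ → K) : ℕ → K[X]
  | 0 => C (a 0) * X ^ q
  | i + 1 => langPoly q a i ^ q + C (a (i + 1)) * X ^ q

theorem langPoly_deg {q : ℕ} (hq : 2 ≤ q) (a : ℕ → K) :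
    ∀ i, langPoly q a i = 0 ∨ q ≤ (langPoly q a i).natDegree
  | 0 => by
    by_cases h : a 0 = 0
    · exact Or.inl (by simp [langPoly, h])
    · exact Or.inr (by rw [langPoly, natDegree_C_mul_X_pow q _ h])
  | i + 1 => by
    rcases langPoly_deg hq a i with h | h
    · by_cases ha : a (i + 1) = 0
      · exact Or.inl (by simp [langPoly, h, ha, zero_pow (show q ≠ 0 by omega)])
      · refine Or.inr ?_
        rw [langPoly, h, zero_pow (show q ≠ 0 by omega), zero_add, natDegree_C_mul_X_pow q _ ha]
    · refine Or.inr ?_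
      have h1 : (C (a (i + 1)) * X ^ q).natDegree < (langPoly q a i ^ q).natDegree := by
        refine lt_of_le_of_lt (natDegree_C_mul_X_pow_le _ _) ?_
        rw [natDegree_pow]
        nlinarith
      rw [langPoly, natDegree_add_eq_left_of_natDegree_lt h1]
      exact le_trans (le_of_lt (by
        rw [natDegree_pow]; nlinarith : q < (langPoly q a i ^ q).natDegree)) le_rfl

theorem langPoly_eq_zero {q : ℕ} (hq : 2 ≤ q) (a : ℕ → K) :
    ∀ i, langPoly q a i = 0 → ∀ j ≤ i, a j = 0
  | 0, h, j, hj => by
    obtain rfl : j = 0 := by omega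
    by_contra ha
    have := congrArg (fun P : K[X] => P.natDegree) h
    simp only [langPoly, natDegree_C_mul_X_pow q _ ha, natDegree_zero] at this
    omega
  | i + 1, h, j, hj => by
    rcases langPoly_deg hq a i with h0 | h0
    · rw [langPoly, h0, zero_pow (show q ≠ 0 by omega), zero_add] at h
      rcases Nat.lt_or_ge j (i + 1) with hj' | hj'
      · exact langPoly_eq_zero hq a i h0 j (by omega)
      · obtain rfl : j = i + 1 := by omega
        by_contra ha
        have := congrArg (fun P : K[X] => P.natDegree) h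
        simp only [natDegree_C_mul_X_pow q _ ha, natDegree_zero] at this
        omega
    · exfalso
      have h1 : (C (a (i + 1)) * X ^ q).natDegree < (langPoly q a i ^ q).natDegree := by
        refine lt_of_le_of_lt (natDegree_C_mul_X_pow_le _ _) ?_
        rw [natDegree_pow]
        nlinarith
      have h2 := natDegree_add_eq_left_of_natDegree_lt h1
      rw [← langPoly, h, natDegree_zero, natDegree_pow] at h2
      nlinarith

theorem X_dvd_langPoly {q : ℕ} (hq : 2 ≤ q) (a : ℕ → K) (i : ℕ) :
    (langPoly q a i).coeff 0 = 0 := by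
  induction i with
  | zero => simp [langPoly, show q ≠ 0 by omega, coeff_X_pow, Ne.symm (show q ≠ 0 by omega)]
  | succ i ih =>
    rw [coeff_zero_eq_eval_zero] at ih ⊢
    simp [langPoly, ih, zero_pow (show q ≠ 0 by omega)]

theorem exists_ne_zero_fixed_coeff [IsAlgClosed K] {q : ℕ} (hq : 2 ≤ q) (a : ℕ → K) {k : ℕ}
    (ha : ∃ j ≤ k, a j ≠ 0) : ∃ y : K, y ≠ 0 ∧ (langPoly q a k).eval y = y := by
  obtain ⟨P, hP⟩ : ∃ P, P = langPoly q a k - X := ⟨_, rfl⟩
  have hne : langPoly q a k ≠ 0 := fun h => by
    obtain ⟨j, hj, h'⟩ := ha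
    exact h' (langPoly_eq_zero hq a k h j hj)
  have hd : q ≤ (langPoly q a k).natDegree := (langPoly_deg hq a k).resolve_left hne
  obtain ⟨R, hR⟩ : X ∣ P := X_dvd_iff.2 (by rw [hP, coeff_sub, X_dvd_langPoly hq, coeff_X_zero, sub_zero])
  have hPd : P.natDegree = (langPoly q a k).natDegree := by
    rw [hP, natDegree_sub_eq_left_of_natDegree_lt (by rw [natDegree_X]; omega)]
  have hR0 : R.eval 0 = -1 := by
    have h1 : P.coeff 1 = R.coeff 0 := by rw [hR]; exact coeff_X_mul R 0
    have h2 : ∀ i, (langPoly q a i).coeff 1 = 0 := by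
      intro i
      induction i with
      | zero => simp [langPoly, coeff_X_pow, show ¬ 1 = q by omega]
      | succ i _ =>
        rw [langPoly, coeff_add, coeff_C_mul_X_pow, if_neg (by omega), add_zero]
        obtain ⟨S, hS⟩ : X ∣ langPoly q a i := X_dvd_iff.2 (X_dvd_langPoly hq a i)
        rw [hS, mul_pow, coeff_X_pow_mul', if_neg (by omega)]
    rw [← coeff_zero_eq_eval_zero, ← h1, hP, coeff_sub, h2, coeff_X_one, zero_sub]
  have hRd : R.degree ≠ 0 := by
    intro h
    have : P.natDegree ≤ 1 := by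
      rw [hR]
      refine le_trans natDegree_mul_le ?_
      rw [natDegree_X, natDegree_eq_zero_iff_degree_le_zero.2 h.le]
    omega
  obtain ⟨y, hy⟩ := IsAlgClosed.exists_root R hRd
  refine ⟨y, fun h => ?_, ?_⟩
  · rw [IsRoot, h, hR0] at hy
    exact one_ne_zero (neg_eq_zero.1 hy)
  · have : P.eval y = 0 := by rw [hR, eval_mul, hy, mul_zero]
    rw [hP, eval_sub, eval_X, sub_eq_zero] at this
    exact this

variable [IsAlgClosed K] {σ : K →+* K} {q : ℕ}

/-- An injective Frobenius-semilinear endomorphism has a non-zero fixed vector. -/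
theorem exists_fixed_vector_lang {V : Type*} [AddCommGroup V] [Module K V] [FiniteDimensional K V]
    [Nontrivial V] (hq : 2 ≤ q) (hσ : ∀ x, σ x = x ^ q) (φ : V →ₛₗ[σ] V)
    (hφ : Function.Injective φ) : ∃ w : V, w ≠ 0 ∧ φ w = w := by
  classical
  obtain ⟨v₀, hv₀⟩ := exists_ne (0 : V)
  let s : ℕ → V := fun i => φ^[i] v₀
  have hs : ∀ i, s (i + 1) = φ (s i) := fun i => Function.iterate_succ_apply' φ i v₀
  have hex : ∃ k, ¬ LinearIndependent K (fun i : Fin k => s i) :=
    ⟨Module.finrank K V + 1, fun h => by simpa using h.fintype_card_le_finrank⟩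
  obtain ⟨k, hk, hmin⟩ : ∃ k, ¬ LinearIndependent K (fun i : Fin k => s i) ∧
      ∀ j < k, LinearIndependent K (fun i : Fin j => s i) :=
    ⟨Nat.find hex, Nat.find_spec hex, fun j hj => not_not.1 (Nat.find_min hex hj)⟩
  obtain ⟨k, rfl⟩ : ∃ m, k = m + 1 := ⟨k - 1, by
    rcases Nat.eq_zero_or_pos k with rfl | h
    · exact absurd linearIndependent_empty_type hk
    · omega⟩
  obtain ⟨k, rfl⟩ : ∃ m, k = m + 1 := ⟨k - 1, by
    rcases Nat.eq_zero_or_pos k with rfl | h
    · exact absurd (LinearIndependent.of_subsingleton (ι := Fin 1) 0 hv₀) hk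
    · omega⟩
  have hli := hmin (k + 1) (by omega)
  have hmem : s (k + 1) ∈ Submodule.span K (Set.range fun i : Fin (k + 1) => s i) := by
    by_contra h
    refine hk ?_
    rw [linearIndependent_fin_succ']
    exact ⟨hli, h⟩
  rw [Submodule.mem_span_range_iff_exists_fun] at hmem
  obtain ⟨a', ha'⟩ := hmem
  let a : ℕ → K := fun i => if h : i < k + 1 then a' ⟨i, h⟩ else 0
  have haa : ∀ i : Fin (k + 1), a i = a' i := fun i => dif_pos i.2
  have hane : ∃ j ≤ k, a j ≠ 0 := by
    by_contra h
    push Not at h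
    have h0 : s (k + 1) = 0 := by
      rw [← ha']
      exact Finset.sum_eq_zero fun i _ => by rw [← haa, h i (by omega), zero_smul]
    have hne : ∀ i, s i ≠ 0 := fun i => by
      induction i with
      | zero => exact hv₀
      | succ i ih => rw [hs]; exact fun h => ih (hφ (h.trans (map_zero φ).symm))
    exact hne _ h0
  obtain ⟨y, hy0, hy⟩ := exists_ne_zero_fixed_coeff hq a hane
  let c : Fin (k + 1) → K := fun i => (langPoly q a i).eval y
  refine ⟨∑ i, c i • s i, fun h => hy0 ?_, ?_⟩
  · have := Fintype.linearIndependent_iff.1 hli c h (Fin.last k)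
    simpa [c, hy] using this
  · rw [map_sum]
    simp only [map_smulₛₗ, hσ, ← hs]
    rw [Fin.sum_univ_castSucc]
    simp only [Fin.val_last, Fin.val_castSucc]
    rw [← ha', Finset.smul_sum, Fin.sum_univ_succ (n := k)]
    rw [Fin.sum_univ_succ (f := fun i => c i • s i)]
    rw [← add_assoc, add_comm _ ((c (Fin.last k) ^ q) • _), add_assoc, ← Finset.sum_add_distrib]
    have hlast : c (Fin.last k) = y := by simp [c, hy]
    congr 1
    · rw [hlast, smul_smul]
      congr 1
      simp only [c, ← haa, Fin.val_zero, langPoly, eval_mul, eval_C, eval_pow, eval_X]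
      ring
    · refine Finset.sum_congr rfl fun i _ => ?_
      rw [hlast, smul_smul, Fin.val_succ, ← add_smul]
      congr 1
      simp only [c, ← haa, Fin.val_succ, Fin.val_castSucc, langPoly, eval_add, eval_mul, eval_C,
        eval_pow, eval_X]
      ring

/-- The fixed vectors of an injective Frobenius-semilinear endomorphism span. -/
theorem span_fixed_eq_top {V : Type*} [AddCommGroup V] [Module K V] [FiniteDimensional K V]
    (hq : 2 ≤ q) (hσ : ∀ x, σ x = x ^ q) (φ : V →ₛₗ[σ] V)
    (hφ : Function.Injective φ) : Submodule.span K {w | φ w = w} = ⊤ := by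
  classical
  have hroot : ∀ c : K, ∃ t, t ^ q - t = c := fun c => by
    have hd : (X ^ q - X - C c : K[X]).degree ≠ 0 := by
      rw [degree_sub_C]
      · rw [degree_sub_eq_left_of_degree_lt (by rw [degree_X, degree_X_pow]; exact_mod_cast hq),
          degree_X_pow]
        exact_mod_cast (show q ≠ 0 by omega)
      · rw [degree_sub_eq_left_of_degree_lt (by rw [degree_X, degree_X_pow]; exact_mod_cast hq),
          degree_X_pow]
        exact_mod_cast (show 0 < q by omega)
    obtain ⟨t, ht⟩ := IsAlgClosed.exists_root _ hd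
    exact ⟨t, by simpa [sub_eq_zero] using ht⟩
  have hsurj : ∀ c : K, ∃ t, σ t = c := fun c => by
    obtain ⟨t, ht⟩ := IsAlgClosed.exists_pow_nat_eq c (show 0 < q by omega)
    exact ⟨t, by rw [hσ, ht]⟩
  set W := Submodule.span K {w | φ w = w} with hW
  by_contra htop
  have hmap : ∀ x ∈ W, φ x ∈ W := fun x hx => by
    induction hx using Submodule.span_induction with
    | mem x hx => exact Submodule.subset_span (show φ (φ x) = φ x by rw [show φ x = x from hx, hx])
    | zero => rw [map_zero]; exact W.zero_mem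
    | add x y _ _ hx hy => rw [map_add]; exact W.add_mem hx hy
    | smul c x _ hx => rw [map_smulₛₗ]; exact W.smul_mem _ hx
  have hpre : ∀ y ∈ W, ∃ x ∈ W, φ x = y := fun y hy => by
    induction hy using Submodule.span_induction with
    | mem x hx => exact ⟨x, Submodule.subset_span hx, hx⟩
    | zero => exact ⟨0, W.zero_mem, map_zero φ⟩
    | add x y _ _ hx hy =>
      obtain ⟨u, hu, rfl⟩ := hx
      obtain ⟨v, hv, rfl⟩ := hy
      exact ⟨u + v, W.add_mem hu hv, map_add φ u v⟩
    | smul c x _ hx =>
      obtain ⟨u, hu, rfl⟩ := hx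
      obtain ⟨t, rfl⟩ := hsurj c
      exact ⟨t • u, W.smul_mem _ hu, map_smulₛₗ φ t u⟩
  have hfix' : ∀ y ∈ W, ∀ c : K, ∃ x ∈ W, φ x - x = c • y := fun y hy => by
    induction hy using Submodule.span_induction with
    | mem x hx =>
      intro c
      obtain ⟨t, ht⟩ := hroot c
      refine ⟨t • x, W.smul_mem _ (Submodule.subset_span hx), ?_⟩
      rw [map_smulₛₗ, hσ, show φ x = x from hx, ← sub_smul, ht]
    | zero => intro c; exact ⟨0, W.zero_mem, by rw [map_zero, sub_zero, smul_zero]⟩
    | add x y _ _ hx hy =>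
      intro c
      obtain ⟨u, hu, hu'⟩ := hx c
      obtain ⟨v, hv, hv'⟩ := hy c
      exact ⟨u + v, W.add_mem hu hv, by rw [map_add, smul_add, ← hu', ← hv']; abel⟩
    | smul d x _ hx =>
      intro c
      rw [smul_smul]
      exact hx (c * d)
  have hfix : ∀ y ∈ W, ∃ x ∈ W, φ x - x = y := fun y hy => by simpa using hfix' y hy 1
  let φQ : V ⧸ W →ₛₗ[σ] V ⧸ W := W.mapQ W φ hmap
  have hφQ : Function.Injective φQ := by
    refine (injective_iff_map_eq_zero φQ).2 fun z hz => ?_
    obtain ⟨x, rfl⟩ := Submodule.Quotient.mk_surjective W z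
    rw [show φQ (Submodule.Quotient.mk x) = Submodule.Quotient.mk (φ x) from rfl,
      Submodule.Quotient.mk_eq_zero] at hz
    obtain ⟨u, hu, hux⟩ := hpre _ hz
    rw [Submodule.Quotient.mk_eq_zero, ← hφ hux]
    exact hu
  have : Nontrivial (V ⧸ W) := Submodule.Quotient.nontrivial_iff.2 htop
  obtain ⟨z, hz0, hz⟩ := exists_fixed_vector_lang hq hσ φQ hφQ
  obtain ⟨u, rfl⟩ := Submodule.Quotient.mk_surjective W z
  rw [show φQ (Submodule.Quotient.mk u) = Submodule.Quotient.mk (φ u) from rfl,
    Submodule.Quotient.eq] at hz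
  obtain ⟨x, hx, hxd⟩ := hfix _ hz
  refine hz0 ((Submodule.Quotient.mk_eq_zero W).2 ?_)
  have hfx : φ (u - x) = u - x := by
    rw [map_sub]
    have : φ x = φ u - u + x := eq_add_of_sub_eq hxd
    rw [this]; abel
  simpa using W.add_mem (Submodule.subset_span hfx : u - x ∈ W) hx

/-- Lang's theorem for `GL_n`. -/
theorem lang_gl {n : ℕ} (hq : 2 ≤ q) (hσ : ∀ x, σ x = x ^ q) (g : GL (Fin n) K) :
    ∃ x : GL (Fin n) K, g = x * (Matrix.GeneralLinearGroup.map σ x)⁻¹ := by
  classical
  let φ : (Fin n → K) →ₛₗ[σ] (Fin n → K) :=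
    { toFun := fun v => (g : Matrix (Fin n) (Fin n) K).mulVec (fun i => σ (v i))
      map_add' := fun u v => by
        rw [← Matrix.mulVec_add]; congr 1; funext i; simp
      map_smul' := fun c v => by
        rw [← Matrix.mulVec_smul]; congr 1; funext i; simp }
  have hφ : Function.Injective φ := fun u v h => funext fun i =>
    σ.injective (congrFun (Matrix.mulVec_injective_of_isUnit g.isUnit h) i)
  obtain ⟨t, ht, hspan, hli⟩ := exists_linearIndependent K {w : Fin n → K | φ w = w}
  rw [span_fixed_eq_top hq hσ φ hφ] at hspan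
  let b : Module.Basis t K (Fin n → K) :=
    Module.Basis.mk hli (by rw [Subtype.range_coe, hspan])
  have : Fintype t := FiniteDimensional.fintypeBasisIndex b
  have hcard : Fintype.card t = n := by
    rw [← Module.finrank_eq_card_basis b, Module.finrank_fin_fun]
  let e : Fin n ≃ t := (Fintype.equivFinOfCardEq hcard).symm
  let M : Matrix (Fin n) (Fin n) K := Matrix.of fun i j => (e j : Fin n → K) i
  have hM : IsUnit M := by
    rw [Matrix.isUnit_iff_isUnit_det, isUnit_iff_ne_zero]
    intro h
    obtain ⟨c, hc0, hc⟩ := (Matrix.exists_mulVec_eq_zero_iff).2 h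
    refine hc0 (funext (Fintype.linearIndependent_iff.1 (hli.comp e e.injective) c ?_))
    rw [← hc]; funext i
    simp [M, Matrix.mulVec, dotProduct, mul_comm]
  refine ⟨hM.unit, eq_mul_inv_of_mul_eq (Units.ext (Matrix.ext fun i j => ?_))⟩
  have := congrFun (ht (e j).2 : φ (e j : Fin n → K) = (e j : Fin n → K)) i
  rw [Units.val_mul, Matrix.mul_apply]
  exact this

end CfsgLib.KnownC
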