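import Mathlib

/-!
Linear algebra for products of two regular unipotent maps: avoidance of few affine hyperplanes,
the bordering step and the block triangular step.
-/

set_option autoImplicit false
set_option linter.unusedSectionVars false

namespace CfsgLib.KnownC.Lev

open Module

universe u v

variable {K : Type u} [Field K] {V : Type v} [AddCommGroup V] [Module K V]

theorem card_lt_enat {k : ℕ} (hK : 4 ≤ Cardinal.mk K) (hk : k ≤ 3) : (k : ℕ∞) < ENat.card K := by
  have h : ((4 : ℕ) : ℕ∞) ≤ ENat.card K := by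
    simpa [ENat.card] using (OrderHomClass.mono Cardinal.toENat hK)
  exact lt_of_lt_of_le (by exact_mod_cast (by omega : k < 4)) h

theorem exists_notMem (hK : 4 ≤ Cardinal.mk K) (S : Finset K) (hS : S.card ≤ 3) : ∃ t : K, t ∉ S := by
  by_contra h
  push_neg at h
  letI : Fintype K := ⟨S, h⟩
  have := card_lt_enat hK hS
  rw [ENat.card_eq_coe_fintype_card] at this
  have h5 : Fintype.card K = S.card := rfl
  rw [h5] at this
  exact lt_irrefl _ this

theorem exists_ne₃ (hK : 4 ≤ Cardinal.mk K) (a b c : K) : ∃ t : K, t ≠ a ∧ t ≠ b ∧ t ≠ c := by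
  classical
  obtain ⟨t, ht⟩ := exists_notMem hK {a, b, c} Finset.card_le_three
  simp only [Finset.mem_insert, Finset.mem_singleton, not_or] at ht
  exact ⟨t, ht⟩

/-- Three affine hyperplanes do not cover an affine space. -/
theorem avoid₃ (hK : 4 ≤ Cardinal.mk K) (D : Submodule K V) (x₀ : V) (f₁ f₂ f₃ : Dual K V) (a₁ a₂ a₃ : K)
    (h₁ : ∃ d ∈ D, f₁ (x₀ + d) ≠ a₁) (h₂ : ∃ d ∈ D, f₂ (x₀ + d) ≠ a₂) (h₃ : ∃ d ∈ D, f₃ (x₀ + d) ≠ a₃) :
    ∃ d ∈ D, f₁ (x₀ + d) ≠ a₁ ∧ f₂ (x₀ + d) ≠ a₂ ∧ f₃ (x₀ + d) ≠ a₃ := by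
  classical
  have step : ∀ (f : Dual K V) (a : K) (p w : V), f p ≠ a ∨ f w ≠ 0 →
      ∃ t₀ : K, ∀ t, t ≠ t₀ → f (p + t • w) ≠ a := by
    intro f a p w h
    by_cases hw : f w = 0
    · exact ⟨0, fun t _ => by simpa [hw] using h.resolve_right (not_not_intro hw)⟩
    · refine ⟨(a - f p) / f w, fun t ht e => ht ?_⟩
      rw [eq_div_iff hw, ← e]; simp
  -- one step: from a point avoiding the first conditions to one avoiding one more
  obtain ⟨d₁, hd₁, e₁⟩ := h₁
  obtain ⟨d₂, hd₂, e₂⟩ := h₂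
  obtain ⟨d₃, hd₃, e₃⟩ := h₃
  obtain ⟨d, hd, k₁, k₂⟩ : ∃ d ∈ D, f₁ (x₀ + d) ≠ a₁ ∧ f₂ (x₀ + d) ≠ a₂ := by
    obtain ⟨t₁, ht₁⟩ := step f₁ a₁ (x₀ + d₁) (d₂ - d₁) (Or.inl e₁)
    obtain ⟨t₂, ht₂⟩ := step f₂ a₂ (x₀ + d₁) (d₂ - d₁) (by
      by_cases h : f₂ (x₀ + d₁) = a₂
      · right; intro e; apply e₂; rw [← h]
        simp only [map_sub] at e; simp only [map_add]; linear_combination e
      · exact Or.inl h)
    obtain ⟨t, n₁, n₂, -⟩ := exists_ne₃ hK t₁ t₂ t₂
    refine ⟨d₁ + t • (d₂ - d₁), D.add_mem hd₁ (D.smul_mem t (D.sub_mem hd₂ hd₁)), ?_, ?_⟩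
    · rw [← add_assoc]; exact ht₁ t n₁
    · rw [← add_assoc]; exact ht₂ t n₂
  obtain ⟨t₁, ht₁⟩ := step f₁ a₁ (x₀ + d) (d₃ - d) (Or.inl k₁)
  obtain ⟨t₂, ht₂⟩ := step f₂ a₂ (x₀ + d) (d₃ - d) (Or.inl k₂)
  obtain ⟨t₃, ht₃⟩ := step f₃ a₃ (x₀ + d) (d₃ - d) (by
    by_cases h : f₃ (x₀ + d) = a₃
    · right; intro e; apply e₃; rw [← h]
      simp only [map_sub] at e; simp only [map_add]; linear_combination e
    · exact Or.inl h)
  obtain ⟨t, n₁, n₂, n₃⟩ := exists_ne₃ hK t₁ t₂ t₃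
  refine ⟨d + t • (d₃ - d), D.add_mem hd (D.smul_mem t (D.sub_mem hd₃ hd)), ?_, ?_, ?_⟩
  · rw [← add_assoc]; exact ht₁ t n₁
  · rw [← add_assoc]; exact ht₂ t n₂
  · rw [← add_assoc]; exact ht₃ t n₃

/-- A vector outside the kernel of `r` and outside three proper subspaces. -/
theorem avoid_sub (hK : 4 ≤ Cardinal.mk K) {r : Dual K V} (hr : r ≠ 0) (p₁ p₂ p₃ : Submodule K V)
    (h₁ : p₁ ≠ ⊤) (h₂ : p₂ ≠ ⊤) (h₃ : p₃ ≠ ⊤) : ∃ v, r v ≠ 0 ∧ v ∉ p₁ ∧ v ∉ p₂ ∧ v ∉ p₃ := by
  obtain ⟨x, hx⟩ := DFunLike.ne_iff.1 hr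
  have key : ∀ p : Submodule K V, p ≠ ⊤ → ∃ f : Dual K V, p ≤ LinearMap.ker f ∧ ∃ d ∈ LinearMap.ker r,
      f (x + d) ≠ 0 := by
    intro p hp
    obtain ⟨f, hf, hle⟩ := Submodule.exists_le_ker_of_lt_top p (lt_top_iff_ne_top.2 hp)
    refine ⟨f, hle, ?_⟩
    by_contra h
    push_neg at h
    have hfx : f x = 0 := by simpa using h 0 (Submodule.zero_mem _)
    refine hf (LinearMap.ext fun w => ?_)
    have := h (w - (r w / r x) • x) (by
      rw [LinearMap.mem_ker, map_sub, map_smul, smul_eq_mul]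
      rw [div_mul_cancel₀ _ hx]; simp)
    simpa [hfx] using this
  obtain ⟨f₁, l₁, e₁⟩ := key p₁ h₁
  obtain ⟨f₂, l₂, e₂⟩ := key p₂ h₂
  obtain ⟨f₃, l₃, e₃⟩ := key p₃ h₃
  obtain ⟨d, hd, k₁, k₂, k₃⟩ := avoid₃ hK (LinearMap.ker r) x f₁ f₂ f₃ 0 0 0 e₁ e₂ e₃
  exact ⟨x + d, by rw [map_add, LinearMap.mem_ker.1 hd, add_zero]; exact hx,
    fun h => k₁ (l₁ h), fun h => k₂ (l₂ h), fun h => k₃ (l₃ h)⟩

/-- Unipotent with a single Jordan block. -/
def RegUni (X : Module.End K V) : Prop :=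
  (X - 1) ^ finrank K V = 0 ∧ (X - 1) ^ (finrank K V - 1) ≠ 0

/-- A product decomposition with the side conditions used in the induction. -/
def Fac (g : Module.End K V) (c : V) (r : Dual K V) : Prop :=
  ∃ X Y : Module.End K V, RegUni X ∧ RegUni Y ∧ X * Y = g ∧
    ((X - 1) ^ (finrank K V - 1)) c ≠ 0 ∧ r.comp ((Y - 1) ^ (finrank K V - 1)) ≠ 0

variable {g : Module.End K V} {v : V} {u : Dual K V}

/-- The projection on the kernel of `u` along `v`. -/
def proj (huv : u v = 1) : V →ₗ[K] LinearMap.ker u :=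
  LinearMap.codRestrict _ (LinearMap.id - u.smulRight v) fun x => by simp [huv]

theorem proj_coe (huv : u v = 1) (x : V) : ((proj huv x : LinearMap.ker u) : V) = x - u x • v := rfl

theorem proj_of_mem (huv : u v = 1) (w : LinearMap.ker u) : proj huv (w : V) = w := by
  apply Subtype.ext
  rw [proj_coe, LinearMap.mem_ker.1 w.2, zero_smul, sub_zero]

/-- The Schur complement. -/
def child (g : Module.End K V) (hug : u (g v) = 1) : Module.End K (LinearMap.ker u) :=
  LinearMap.codRestrict _ ((g - (u.comp g).smulRight (g v)).comp (LinearMap.ker u).subtype) fun w => by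
    simp [hug]

theorem child_coe (hug : u (g v) = 1) (w : LinearMap.ker u) :
    ((child g hug w : LinearMap.ker u) : V) = g (w : V) - u (g w) • g v := rfl

/-- The moved vector minus the vector, inside the kernel. -/
def moved (huv : u v = 1) (hug : u (g v) = 1) : LinearMap.ker u := ⟨g v - v, by simp [huv, hug]⟩

theorem finrank_ker [FiniteDimensional K V] (huv : u v = 1) :
    finrank K (LinearMap.ker u) + 1 = finrank K V := by
  have hsurj : LinearMap.range u = ⊤ := LinearMap.range_eq_top.2 fun a => ⟨a • v, by simp [huv]⟩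
  have := u.finrank_range_add_finrank_ker
  rw [hsurj, finrank_top, finrank_self] at this
  omega

theorem det_child [FiniteDimensional K V] (huv : u v = 1) (hug : u (g v) = 1) :
    LinearMap.det (child g hug) = LinearMap.det g := by
  obtain ⟨g', hg'⟩ : ∃ g' : Module.End K V, g' = g * LinearMap.transvection (u - u.comp g) v := ⟨_, rfl⟩
  have happ : ∀ x, g' x = g x + (u x - u (g x)) • g v := fun x => by
    rw [hg', Module.End.mul_apply, LinearMap.transvection.apply, map_add, map_smul]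
    rfl
  have hu : ∀ x, u (g' x) = u x := fun x => by
    rw [happ, map_add, map_smul, hug, smul_eq_mul, mul_one, add_sub_cancel]
  have hle : LinearMap.ker u ≤ (LinearMap.ker u).comap g' := fun x hx => by
    rw [Submodule.mem_comap, LinearMap.mem_ker, hu, LinearMap.mem_ker.1 hx]
  have h1 := LinearMap.det_eq_det_mul_det (LinearMap.ker u) g' hle
  have hq : (LinearMap.ker u).mapQ (LinearMap.ker u) g' hle = LinearMap.id := by
    refine Submodule.linearMap_qext _ (LinearMap.ext fun x => ?_)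
    show Submodule.Quotient.mk (g' x) = Submodule.Quotient.mk x
    rw [Submodule.Quotient.eq, LinearMap.mem_ker, map_sub, hu, sub_self]
  have hr : g'.restrict hle = child g hug := by
    refine LinearMap.ext fun w => Subtype.ext ?_
    show g' (w : V) = _
    rw [happ, child_coe, LinearMap.mem_ker.1 w.2, zero_sub, neg_smul, sub_eq_add_neg]
  rw [hq, LinearMap.det_id, mul_one, hr, hg', map_mul, LinearMap.transvection.det] at h1
  rw [← h1, LinearMap.sub_apply, LinearMap.comp_apply, huv, hug, sub_self, add_zero, mul_one]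

/-- The bordering step. -/
theorem fac_step [FiniteDimensional K V] (huv : u v = 1) (hug : u (g v) = 1) {c₀ : V} {r : Dual K V}
    (hc : u c₀ ≠ 0) (hr : r v ≠ 0) (hm : 1 ≤ finrank K (LinearMap.ker u))
    (h : Fac (child g hug) (moved huv hug) ((u.comp g).comp (LinearMap.ker u).subtype)) : Fac g c₀ r := by
  obtain ⟨X₁, Y₁, ⟨hX0, hX1⟩, ⟨hY0, hY1⟩, hXY, hXc, hYr⟩ := h
  obtain ⟨m, hm'⟩ : ∃ m, finrank K (LinearMap.ker u) = m + 1 := ⟨_, (Nat.sub_add_cancel hm).symm⟩
  have hn : finrank K V = m + 1 + 1 := by rw [← hm', finrank_ker huv]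
  rw [hm'] at hX0 hX1 hY0 hY1 hXc hYr
  simp only [Nat.add_sub_cancel] at hX1 hY1 hXc hYr
  let P := proj huv
  let b : Dual K (LinearMap.ker u) := (u.comp g).comp (LinearMap.ker u).subtype
  let X : Module.End K V := u.smulRight (g v) + (LinearMap.ker u).subtype.comp (X₁.comp P)
  let Y : Module.End K V := (u + b.comp P).smulRight v + (LinearMap.ker u).subtype.comp (Y₁.comp P)
  have hXapp : ∀ x, X x = u x • g v + (X₁ (P x) : V) := fun x => rfl
  have hYapp : ∀ x, Y x = (u x + b (P x)) • v + (Y₁ (P x) : V) := fun x => rfl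
  have hdec : ∀ x, x = u x • v + (P x : V) := fun x => by
    rw [proj_coe]; abel
  have hXsub : ∀ x, (X - 1) x = u x • ((moved huv hug : LinearMap.ker u) : V) + ((X₁ - 1) (P x) : V) :=
    fun x => by
      conv_lhs => rw [LinearMap.sub_apply, Module.End.one_apply, hXapp]; arg 2; rw [hdec x]
      simp only [moved, LinearMap.sub_apply, Module.End.one_apply, Submodule.coe_sub, smul_sub]
      abel
  have hYsub : ∀ x, (Y - 1) x = b (P x) • v + ((Y₁ - 1) (P x) : V) := fun x => by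
    conv_lhs => rw [LinearMap.sub_apply, Module.End.one_apply, hYapp]; arg 2; rw [hdec x]
    simp only [LinearMap.sub_apply, Module.End.one_apply, Submodule.coe_sub, add_smul]
    abel
  have hPv : P v = 0 := Subtype.ext (by rw [proj_coe, huv, one_smul, sub_self]; rfl)
  have hXpow : ∀ (k : ℕ) (x : V), ((X - 1) ^ (k + 1)) x =
      Subtype.val (((X₁ - 1) ^ k) (u x • moved huv hug + (X₁ - 1) (P x))) := by
    intro k
    induction k with
    | zero => intro x; rw [zero_add, pow_one, hXsub, pow_zero]; rfl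
    | succ k ih =>
      intro x
      rw [pow_succ' (X - 1) (k + 1), Module.End.mul_apply, ih, hXsub, LinearMap.mem_ker.1 (Subtype.prop _),
        zero_smul, zero_add, proj_of_mem, pow_succ', Module.End.mul_apply]
  have hYpow : ∀ (k : ℕ) (x : V), ((Y - 1) ^ (k + 1)) x =
      b (((Y₁ - 1) ^ k) (P x)) • v + Subtype.val (((Y₁ - 1) ^ (k + 1)) (P x)) := by
    intro k
    induction k with
    | zero => intro x; rw [zero_add, pow_one, hYsub, pow_zero, pow_one, Module.End.one_apply]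
    | succ k ih =>
      intro x
      rw [pow_succ' (Y - 1) (k + 1), Module.End.mul_apply, ih, hYsub]
      simp only [map_add, map_smul, hPv, smul_zero, zero_add]
      rw [proj_of_mem, ← Module.End.mul_apply, ← pow_succ']
  have hc' : ((X - 1) ^ (m + 1)) c₀ = u c₀ • Subtype.val (((X₁ - 1) ^ m) (moved huv hug)) := by
    rw [hXpow, map_add, map_smul, ← Module.End.mul_apply, ← pow_succ, hX0, LinearMap.zero_apply, add_zero]
    rfl
  have hr' : ∀ x, r (((Y - 1) ^ (m + 1)) x) = b (((Y₁ - 1) ^ m) (P x)) * r v := fun x => by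
    rw [hYpow, hY0, LinearMap.zero_apply, ZeroMemClass.coe_zero, add_zero, map_smul, smul_eq_mul]
  have hne : ((X - 1) ^ (m + 1)) c₀ ≠ 0 := by
    rw [hc']
    exact smul_ne_zero hc fun e => hXc (Subtype.ext e)
  obtain ⟨w, hw⟩ := DFunLike.ne_iff.1 hYr
  have hrne : r (((Y - 1) ^ (m + 1)) (w : V)) ≠ 0 := by
    rw [hr', proj_of_mem]
    exact mul_ne_zero hw hr
  refine ⟨X, Y, ⟨?_, ?_⟩, ⟨?_, ?_⟩, LinearMap.ext fun x => ?_, ?_, ?_⟩
  · rw [hn]
    refine LinearMap.ext fun x => ?_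
    rw [hXpow, map_add, map_smul, pow_succ (X₁ - 1) m, Module.End.mul_apply]
    simp only [← Module.End.mul_apply, ← pow_succ, hX0, LinearMap.zero_apply]
    simp
  · rw [hn, Nat.add_sub_cancel]
    exact fun e => hne (by rw [e]; rfl)
  · rw [hn]
    refine LinearMap.ext fun x => ?_
    rw [hYpow, hY0, pow_succ (Y₁ - 1) (m + 1), hY0]
    simp
  · rw [hn, Nat.add_sub_cancel]
    exact fun e => hrne (by rw [e]; simp)
  · have hYu : u (Y x) = u x + b (P x) := by
      rw [hYapp, map_add, map_smul, huv, LinearMap.mem_ker.1 (Subtype.prop _), add_zero, smul_eq_mul,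
        mul_one]
    have hPY : P (Y x) = Y₁ (P x) := by
      rw [hYapp, map_add, map_smul, hPv, smul_zero, zero_add, proj_of_mem]
    rw [Module.End.mul_apply, hXapp, hYu, hPY, ← Module.End.mul_apply, hXY, child_coe]
    conv_rhs => rw [hdec x, map_add, map_smul]
    show _ = _
    simp only [b, LinearMap.comp_apply, Submodule.subtype_apply, add_smul]
    abel
  · rw [hn, Nat.add_sub_cancel]; exact hne
  · rw [hn, Nat.add_sub_cancel]
    exact fun e => hrne (LinearMap.congr_fun e _)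

/-- The block triangular step. -/
theorem reg_block [FiniteDimensional K V] (hK : 4 ≤ Cardinal.mk K) {p q : Submodule K V} (hpq : IsCompl p q)
    (hp1 : 1 ≤ finrank K p) (hq1 : 1 ≤ finrank K q) (A : Module.End K p) (B : Module.End K q)
    (C : q →ₗ[K] p)
    (hA : ∃ X Y : Module.End K p, RegUni X ∧ RegUni Y ∧ X * Y = A)
    (hB : ∃ X Y : Module.End K q, RegUni X ∧ RegUni Y ∧ X * Y = B)
    (hgp : ∀ x : p, g x = A x) (hgq : ∀ y : q, g y = (C y : V) + B y) :
    ∃ X Y : Module.End K V, RegUni X ∧ RegUni Y ∧ X * Y = g := by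
  obtain ⟨X₁, Y₁, ⟨hX₁0, hX₁1⟩, ⟨hY₁0, hY₁1⟩, rfl⟩ := hA
  obtain ⟨X₂, Y₂, ⟨hX₂0, hX₂1⟩, ⟨hY₂0, hY₂1⟩, rfl⟩ := hB
  obtain ⟨a, ha⟩ : ∃ a, finrank K p = a + 1 := ⟨_, (Nat.sub_add_cancel hp1).symm⟩
  obtain ⟨b, hb⟩ : ∃ b, finrank K q = b + 1 := ⟨_, (Nat.sub_add_cancel hq1).symm⟩
  have hn : finrank K V = a + 1 + (b + 1) := by
    rw [← ha, ← hb, Submodule.finrank_add_eq_of_isCompl hpq]
  rw [ha] at hX₁0 hX₁1 hY₁0 hY₁1
  rw [hb] at hX₂0 hX₂1 hY₂0 hY₂1
  simp only [Nat.add_sub_cancel] at hX₁1 hY₁1 hX₂1 hY₂1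
  obtain ⟨U, hU⟩ : IsUnit X₁ := by
    simpa using IsNilpotent.isUnit_one_add (r := X₁ - 1) ⟨a + 1, hX₁0⟩
  obtain ⟨V₂, hV₂⟩ : IsUnit Y₂ := by
    simpa using IsNilpotent.isUnit_one_add (r := Y₂ - 1) ⟨b + 1, hY₂0⟩
  let T : Module.End K p := (↑U⁻¹ : Module.End K p)
  -- the two functionals
  obtain ⟨x₀, hx₀⟩ : ∃ x, ((X₁ - 1) ^ a) x ≠ 0 := by
    simpa using DFunLike.ne_iff.1 hX₁1
  obtain ⟨w₀, hw₀⟩ : ∃ w, ((X₂ - 1) ^ b) w ≠ 0 := by
    simpa using DFunLike.ne_iff.1 hX₂1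
  obtain ⟨x₁, hx₁⟩ : ∃ x, ((Y₁ - 1) ^ a) x ≠ 0 := by
    simpa using DFunLike.ne_iff.1 hY₁1
  obtain ⟨w₁, hw₁⟩ : ∃ w, ((Y₂ - 1) ^ b) w ≠ 0 := by
    simpa using DFunLike.ne_iff.1 hY₂1
  have hw₁' : Y₂ (((Y₂ - 1) ^ b) w₁) ≠ 0 := fun e => hw₁ (by
    have := congrArg (↑V₂⁻¹ : Module.End K q) e
    rw [map_zero, ← hV₂, ← Module.End.mul_apply, Units.inv_mul, Module.End.one_apply] at this
    rw [hV₂] at this
    exact this)
  obtain ⟨ψ₀, hψ₀⟩ := Module.Projective.exists_dual_eq_one K hw₀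
  obtain ⟨ψ₁, hψ₁⟩ := Module.Projective.exists_dual_eq_one K hw₁'
  let F : (q →ₗ[K] p) → (q →ₗ[K] p) := fun P => ((X₁ - 1) ^ a).comp (P.comp ((X₂ - 1) ^ b))
  let G : (q →ₗ[K] p) → (q →ₗ[K] p) := fun P =>
    ((Y₁ - 1) ^ a).comp ((T.comp (C - P.comp Y₂)).comp ((Y₂ - 1) ^ b))
  obtain ⟨P₀, hP₀⟩ : ∃ P₀, P₀ = ψ₀.smulRight x₀ := ⟨_, rfl⟩
  obtain ⟨P₁, hP₁⟩ : ∃ P₁, P₁ = ψ₁.smulRight (X₁ x₁) := ⟨_, rfl⟩
  have hF₀ : F P₀ w₀ ≠ 0 := by
    show ((X₁ - 1) ^ a) (P₀ (((X₂ - 1) ^ b) w₀)) ≠ 0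
    rw [hP₀, LinearMap.smulRight_apply, hψ₀, one_smul]; exact hx₀
  have hG₁ : ∀ (P : q →ₗ[K] p) (t : K),
      G (P + t • P₁) w₁ = G P w₁ - t • ((Y₁ - 1) ^ a) x₁ := fun P t => by
    have e : P₁ (Y₂ (((Y₂ - 1) ^ b) w₁)) = X₁ x₁ := by
      rw [hP₁, LinearMap.smulRight_apply, hψ₁, one_smul]
    show ((Y₁ - 1) ^ a) (T (C _ - (P (Y₂ _) + t • P₁ (Y₂ _)))) = _
    rw [e, ← sub_sub, map_sub, map_sub, map_smul, map_smul,
      show T (X₁ x₁) = x₁ by rw [← hU, ← Module.End.mul_apply, Units.inv_mul, Module.End.one_apply]]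
    rfl
  have hchoose : ∀ P : q →ₗ[K] p, ∃ t₀ : K, ∀ t, t ≠ t₀ → G (P + t • P₁) w₁ ≠ 0 := fun P => by
    by_cases h : ∃ t₀ : K, G P w₁ = t₀ • ((Y₁ - 1) ^ a) x₁
    · obtain ⟨t₀, e⟩ := h
      refine ⟨t₀, fun t ht hz => ht ?_⟩
      rw [hG₁, e, ← sub_smul, smul_eq_zero, sub_eq_zero] at hz
      exact (hz.resolve_right hx₁).symm
    · exact ⟨0, fun t _ hz => h ⟨t, by rwa [hG₁, sub_eq_zero] at hz⟩⟩
  obtain ⟨P, hPF, hPG⟩ : ∃ P, F P ≠ 0 ∧ G P ≠ 0 := by
    by_cases h : F P₁ = 0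
    · obtain ⟨t₀, ht₀⟩ := hchoose P₀
      obtain ⟨t, ht, -⟩ := exists_ne₃ hK t₀ t₀ t₀
      refine ⟨P₀ + t • P₁, fun e => hF₀ ?_, fun e => ht₀ t ht (by rw [e]; rfl)⟩
      have e1 : F (P₀ + t • P₁) = F P₀ + t • F P₁ := by
        simp only [F, LinearMap.add_comp, LinearMap.smul_comp, LinearMap.comp_add, LinearMap.comp_smul]
      rw [h, smul_zero, add_zero] at e1
      rw [← e1, e]; rfl
    · obtain ⟨t₀, ht₀⟩ := hchoose 0
      obtain ⟨t, ht, ht0, -⟩ := exists_ne₃ hK t₀ 0 0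
      refine ⟨0 + t • P₁, fun e => h ?_, fun e => ht₀ t ht (by rw [e]; rfl)⟩
      rw [zero_add] at e
      have e1 : F (t • P₁) = t • F P₁ := by
        simp only [F, LinearMap.smul_comp, LinearMap.comp_smul]
      rw [e1, smul_eq_zero] at e
      exact e.resolve_left ht0
  obtain ⟨Q, hQ⟩ : ∃ Q, Q = T.comp (C - P.comp Y₂) := ⟨_, rfl⟩
  have hPG' : ((Y₁ - 1) ^ a).comp (Q.comp ((Y₂ - 1) ^ b)) ≠ 0 := hQ ▸ hPG
  let πp := Submodule.projectionOnto p q hpq
  let πq := Submodule.projectionOnto q p hpq.symm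
  let mk : Module.End K p → (q →ₗ[K] p) → Module.End K q → Module.End K V := fun M R N =>
    p.subtype.comp (M.comp πp + R.comp πq) + q.subtype.comp (N.comp πq)
  have hmkp : ∀ M R N x, πp (mk M R N x) = M (πp x) + R (πq x) := fun M R N x => by
    show πp ((M (πp x) + R (πq x) : p) + (N (πq x) : q) : V) = _
    rw [map_add, Submodule.projectionOnto_apply_left, Submodule.projectionOnto_apply_right,
      add_zero]
  have hmkq : ∀ M R N x, πq (mk M R N x) = N (πq x) := fun M R N x => by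
    show πq ((M (πp x) + R (πq x) : p) + (N (πq x) : q) : V) = _
    rw [map_add, Submodule.projectionOnto_apply_left, Submodule.projectionOnto_apply_right,
      zero_add]
  have hdec : ∀ x, x = (πp x : V) + πq x := fun x =>
    (Submodule.projection_add_projection_eq_self hpq x).symm
  have hext : ∀ x y, πp x = πp y → πq x = πq y → x = y := fun x y h1 h2 => by
    rw [hdec x, hdec y, h1, h2]
  -- regularity of block triangular unipotents
  have hreg : ∀ (M : Module.End K p) (R : q →ₗ[K] p) (N : Module.End K q),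
      (M - 1) ^ (a + 1) = 0 → (N - 1) ^ (b + 1) = 0 →
      ((M - 1) ^ a).comp (R.comp ((N - 1) ^ b)) ≠ 0 → RegUni (mk M R N) := by
    intro M R N hM hN hne
    obtain ⟨E, hE⟩ : ∃ E, E = mk M R N - 1 := ⟨_, rfl⟩
    have hEp : ∀ x, πp (E x) = (M - 1) (πp x) + R (πq x) := fun x => by
      rw [hE, LinearMap.sub_apply, map_sub, hmkp, Module.End.one_apply, LinearMap.sub_apply,
        Module.End.one_apply]; abel
    have hEq : ∀ x, πq (E x) = (N - 1) (πq x) := fun x => by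
      rw [hE, LinearMap.sub_apply, map_sub, hmkq, Module.End.one_apply, LinearMap.sub_apply,
        Module.End.one_apply]
    have hq' : ∀ k x, πq ((E ^ k) x) = ((N - 1) ^ k) (πq x) := by
      intro k
      induction k with
      | zero => intro x; simp
      | succ k ih => intro x; rw [pow_succ', Module.End.mul_apply, hEq, ih, pow_succ', Module.End.mul_apply]
    have hp' : ∀ k x, ((M - 1) ^ a) (πp ((E ^ (k + 1)) x)) =
        ((M - 1) ^ a) (R (((N - 1) ^ k) (πq x))) := by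
      intro k x
      rw [pow_succ', Module.End.mul_apply, hEp, map_add, ← Module.End.mul_apply, ← pow_succ, hM,
        LinearMap.zero_apply, zero_add, hq']
    have hpk : ∀ k x, πq ((E ^ k) x) = 0 → ∀ j, πp ((E ^ (j + k)) x) = ((M - 1) ^ j) (πp ((E ^ k) x)) := by
      intro k x hx j
      induction j with
      | zero => simp
      | succ j ih =>
        rw [show j + 1 + k = j + k + 1 by omega, pow_succ', Module.End.mul_apply, hEp, ih, hq',
          show j + k = j + k from rfl, pow_add, Module.End.mul_apply, ← hq', hx, map_zero, map_zero, add_zero,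
          pow_succ', Module.End.mul_apply]
    have hbz : ∀ x, πq ((E ^ (b + 1)) x) = 0 := fun x => by rw [hq', hN, LinearMap.zero_apply]
    refine ⟨?_, ?_⟩
    · rw [← hE, hn]
      refine LinearMap.ext fun x => hext _ _ ?_ ?_
      · rw [hpk (b + 1) x (hbz x) (a + 1), hM]; simp
      · rw [pow_add, Module.End.mul_apply, hq', hbz, map_zero]; simp
    · rw [← hE, hn, show a + 1 + (b + 1) - 1 = a + (b + 1) by omega]
      intro e
      obtain ⟨w, hw⟩ := DFunLike.ne_iff.1 hne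
      apply hw
      have h1 := hpk (b + 1) (w : V) (hbz _) a
      rw [e, LinearMap.zero_apply, map_zero, hp'] at h1
      rw [show πq (w : V) = w from Submodule.projectionOnto_apply_left hpq.symm w] at h1
      exact h1.symm
  refine ⟨mk X₁ P X₂, mk Y₁ Q Y₂, hreg _ _ _ hX₁0 hX₂0 hPF, hreg _ _ _ hY₁0 hY₂0 hPG',
    LinearMap.ext fun x => ?_⟩
  rw [Module.End.mul_apply]
  have hgx : g x = ((X₁ * Y₁) (πp x) : V) + ((C (πq x) : V) + (X₂ * Y₂) (πq x)) := by
    conv_lhs => rw [hdec x, map_add, hgp, hgq]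
  refine hext _ _ ?_ ?_
  · simp only [hmkp, hmkq, hgx, hQ, πp, map_add, Submodule.projectionOnto_apply_left,
      Submodule.projectionOnto_apply_right, add_zero]
    show X₁ (Y₁ _) + X₁ (T (C _ - P (Y₂ _))) + P (Y₂ _) = _
    rw [show ∀ z, X₁ (T z) = z from fun z => by
      rw [← hU, ← Module.End.mul_apply, Units.mul_inv, Module.End.one_apply]]
    rw [Module.End.mul_apply]
    abel
  · rw [hmkq, hmkq, hgx, map_add, map_add, Submodule.projectionOnto_apply_left,
      Submodule.projectionOnto_apply_right, Submodule.projectionOnto_apply_right, zero_add,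
      zero_add, Module.End.mul_apply]

/-- A regular unipotent matrix is conjugate to the standard one. -/
theorem conj_standard {n : ℕ} {X J : Matrix (Fin n) (Fin n) K}
    (hJ : ∀ i j : Fin n, J i j = if i = j then 1 else if j.val = i.val + 1 then 1 else 0)
    (hX : RegUni (Matrix.toLin' X)) : ∃ P : GL (Fin n) K, X * (P : Matrix (Fin n) (Fin n) K) = P * J := by
  obtain ⟨h0, h1⟩ := hX
  rw [Module.finrank_fin_fun] at h0 h1
  obtain ⟨N, hN⟩ : ∃ N, N = Matrix.toLin' X - 1 := ⟨_, rfl⟩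
  rw [← hN] at h0 h1
  obtain ⟨x, hx⟩ : ∃ x, (N ^ (n - 1)) x ≠ 0 := by simpa using DFunLike.ne_iff.1 h1
  let e : Fin n → (Fin n → K) := fun j => (N ^ (n - 1 - j.val)) x
  have hzero : ∀ k, n ≤ k → (N ^ k) x = 0 := fun k hk => by
    rw [← Nat.sub_add_cancel hk, pow_add, Module.End.mul_apply, h0, LinearMap.zero_apply, map_zero]
  have hli : LinearIndependent K e := by
    rw [Fintype.linearIndependent_iff]
    intro c hc
    suffices ∀ k, ∀ j : Fin n, n - 1 - j.val = k → c j = 0 from fun j => this _ j rfl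
    intro k
    induction k using Nat.strong_induction_on with
    | _ k ih =>
      intro j hj
      have h := congrArg (N ^ j.val) hc
      rw [map_sum, map_zero, Finset.sum_eq_single j ?_ (by simp)] at h
      · rw [map_smul, ← Module.End.mul_apply, ← pow_add,
          show j.val + (n - 1 - j.val) = n - 1 by omega, smul_eq_zero] at h
        exact h.resolve_right hx
      · intro i _ hij
        rcases lt_or_gt_of_ne (Fin.val_ne_of_ne hij) with hlt | hgt
        · rw [map_smul, ← Module.End.mul_apply, ← pow_add, hzero _ (by omega), smul_zero]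
        · rw [ih (n - 1 - i.val) (by omega) i rfl, zero_smul, map_zero]
  let P : Matrix (Fin n) (Fin n) K := Matrix.of fun i j => e j i
  have hP : IsUnit P := Matrix.linearIndependent_cols_iff_isUnit.1 hli
  refine ⟨hP.unit, ?_⟩
  show X * P = P * J
  ext i j
  have h2 : (X * P) i j = (e j + N (e j)) i := by
    rw [hN, LinearMap.sub_apply, Module.End.one_apply, add_sub_cancel, Matrix.toLin'_apply]
    rfl
  rw [h2, Matrix.mul_apply, Pi.add_apply]
  simp only [P, Matrix.of_apply, hJ]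
  rcases Nat.eq_zero_or_pos j.val with hj | hj
  · rw [Finset.sum_eq_single j (fun k _ hk => by
      rw [if_neg hk, if_neg (by omega), mul_zero]) (by simp), if_pos rfl, mul_one,
      show N (e j) = 0 by
        rw [← Module.End.mul_apply, ← pow_succ']; exact hzero _ (by omega)]
    simp
  · obtain ⟨j', hj'⟩ : ∃ j' : Fin n, j'.val + 1 = j.val := ⟨⟨j.val - 1, by omega⟩, Nat.sub_add_cancel hj⟩
    have hne : j' ≠ j := fun e => by rw [e] at hj'; omega
    rw [Finset.sum_eq_add_of_mem j j' (Finset.mem_univ _) (Finset.mem_univ _) hne.symm (fun k _ hk => by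
      rw [if_neg hk.1, if_neg (fun e => hk.2 (Fin.ext (by omega))), mul_zero]), if_pos rfl, mul_one,
      if_neg hne, if_pos hj'.symm, mul_one,
      show e j' = N (e j) by
        show (N ^ (n - 1 - j'.val)) x = N ((N ^ (n - 1 - j.val)) x)
        rw [← Module.End.mul_apply, ← pow_succ', show n - 1 - j.val + 1 = n - 1 - j'.val by omega]]

end CfsgLib.KnownC.Lev
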