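import Cfsg.Agent.Lib.KnownC.LevBasic

/-!
Choosing the covector in the bordering step so that the Schur complement stays admissible.
-/

set_option autoImplicit false
set_option linter.unusedSectionVars false

namespace CfsgLib.KnownC.Lev

open Module

universe u v

variable {K : Type u} [Field K] {V : Type v} [AddCommGroup V] [Module K V] [FiniteDimensional K V]

/-- A scalar map plus a map of rank one, the scalar not being one. -/
def IsR (g : Module.End K V) : Prop :=
  ∃ (l : K) (x : V) (f : Dual K V), l ≠ 1 ∧ x ≠ 0 ∧ f ≠ 0 ∧ ∀ y, g y = l • y + f y • x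

/-- A scalar map. -/
def IsScal (g : Module.End K V) : Prop := ∃ a : K, ∀ y, g y = a • y

/-- Killed by a reciprocal quadratic polynomial. -/
def IsHScal (g : Module.End K V) : Prop := ∃ σ : K, ∀ y, g (g y) - σ • g y + y = 0

/-- Without fixed vectors. -/
def NoFix (g : Module.End K V) : Prop := ∀ y, g y = y → y = 0

/-- The maps for which the induction runs. -/
def Ok (g : Module.End K V) : Prop :=
  IsR g ∨ (NoFix g ∧ ¬ IsScal g ∧ (3 ≤ finrank K V → ¬ IsHScal g))

theorem exists_dual_notMem {p : Submodule K V} {z : V} (hz : z ∉ p) :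
    ∃ ψ : Dual K V, (∀ x ∈ p, ψ x = 0) ∧ ψ z = 1 := by
  obtain ⟨ψ, hψ, hp⟩ := Submodule.exists_dual_map_eq_bot_of_notMem hz inferInstance
  refine ⟨(ψ z)⁻¹ • ψ, fun x hx => ?_, by rw [LinearMap.smul_apply, smul_eq_mul, inv_mul_cancel₀ hψ]⟩
  have h : ψ x ∈ p.map ψ := Submodule.mem_map_of_mem hx
  rw [hp, Submodule.mem_bot] at h
  rw [LinearMap.smul_apply, h, smul_zero]

theorem isR_of_line {g : Module.End K V} {l : K} {x : V} (hl : l ≠ 1)
    (h : ∀ y, g y - l • y ∈ K ∙ x) (hns : ¬ IsScal g) : IsR g := by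
  have hx : x ≠ 0 := fun e => hns ⟨l, fun y => by
    have := h y
    rwa [e, Submodule.span_zero_singleton, Submodule.mem_bot, sub_eq_zero] at this⟩
  obtain ⟨ψ, hψ⟩ := Module.Projective.exists_dual_eq_one K hx
  have key : ∀ y, g y = l • y + (ψ.comp (g - l • 1)) y • x := fun y => by
    obtain ⟨t, ht⟩ := Submodule.mem_span_singleton.1 (h y)
    rw [LinearMap.comp_apply, LinearMap.sub_apply, LinearMap.smul_apply, Module.End.one_apply, ← ht,
      map_smul, hψ, smul_eq_mul, mul_one, ht]
    abel
  exact ⟨l, x, _, hl, hx, fun e => hns ⟨l, fun y => by rw [key y, e]; simp⟩, key⟩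

variable {g : Module.End K V} {v : V}

/-- The covectors taking value one at `v` and at `g v`. -/
def Cov (g : Module.End K V) (v : V) (u : Dual K V) : Prop := u v = 1 ∧ u (g v) = 1

theorem pair_indep (hv : v ≠ 0) (hgv : g v ∉ K ∙ v) {p q : K} (h : p • v + q • g v = 0) :
    p = 0 ∧ q = 0 := by
  by_cases hq : q = 0
  · subst hq
    rw [zero_smul, add_zero, smul_eq_zero] at h
    exact ⟨h.resolve_right hv, rfl⟩
  · exact absurd (Submodule.mem_span_singleton.2 ⟨-p / q, by
      rw [div_eq_inv_mul, mul_smul, inv_smul_eq_iff₀ hq, neg_smul]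
      exact neg_eq_of_add_eq_zero_right h⟩) hgv

theorem coeff_eq (hv : v ≠ 0) (hgv : g v ∉ K ∙ v) {p q p' q' : K}
    (h : p • v + q • g v = p' • v + q' • g v) : p = p' ∧ q = q' := by
  have := pair_indep hv hgv (p := p - p') (q := q - q') (by
    rw [sub_smul, sub_smul]; linear_combination (norm := module) h)
  exact ⟨sub_eq_zero.1 this.1, sub_eq_zero.1 this.2⟩

theorem exists_cov (hv : v ≠ 0) (hgv : g v ∉ K ∙ v) : ∃ u, Cov g v u := by
  have hvg : v ∉ K ∙ g v := fun h => by
    obtain ⟨a, ha⟩ := Submodule.mem_span_singleton.1 h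
    have := pair_indep hv hgv (p := 1) (q := -a) (by rw [one_smul, neg_smul, ha, add_neg_cancel])
    exact one_ne_zero this.1
  obtain ⟨ψ₁, h₁, e₁⟩ := exists_dual_notMem hvg
  obtain ⟨ψ₂, h₂, e₂⟩ := exists_dual_notMem hgv
  exact ⟨ψ₁ + ψ₂, by rw [LinearMap.add_apply, e₁, h₂ v (Submodule.mem_span_singleton_self v), add_zero],
    by rw [LinearMap.add_apply, e₂, h₁ (g v) (Submodule.mem_span_singleton_self _), zero_add]⟩

/-- A condition `u z ≠ a` that some covector satisfies. -/
def Adm (g : Module.End K V) (v z : V) (a : K) : Prop := ∀ p q : K, z = p • v + q • g v → p + q ≠ a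

theorem exists_cov_ne (hv : v ≠ 0) (hgv : g v ∉ K ∙ v) {z : V} {a : K} (h : Adm g v z a) :
    ∃ u, Cov g v u ∧ u z ≠ a := by
  obtain ⟨u₀, hu₀⟩ := exists_cov hv hgv
  by_cases hz : z ∈ Submodule.span K {v, g v}
  · obtain ⟨p, q, hpq⟩ := Submodule.mem_span_pair.1 hz
    refine ⟨u₀, hu₀, ?_⟩
    rw [← hpq, map_add, map_smul, map_smul, hu₀.1, hu₀.2, smul_eq_mul, smul_eq_mul, mul_one, mul_one]
    exact h p q hpq.symm
  · obtain ⟨ψ, hψ, hψz⟩ := exists_dual_notMem hz
    have e1 := hψ v (Submodule.subset_span (Set.mem_insert _ _))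
    have e2 := hψ (g v) (Submodule.subset_span (Set.mem_insert_of_mem _ rfl))
    refine ⟨u₀ + (a + 1 - u₀ z) • ψ, ⟨?_, ?_⟩, ?_⟩
    · rw [LinearMap.add_apply, LinearMap.smul_apply, e1, hu₀.1, smul_zero, add_zero]
    · rw [LinearMap.add_apply, LinearMap.smul_apply, e2, hu₀.2, smul_zero, add_zero]
    · rw [LinearMap.add_apply, LinearMap.smul_apply, hψz, smul_eq_mul, mul_one, add_sub_cancel]
      simp

theorem exists_cov₃ (hK : 4 ≤ Cardinal.mk K) (hv : v ≠ 0) (hgv : g v ∉ K ∙ v) {z₁ z₂ z₃ : V} {a₁ a₂ a₃ : K}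
    (h₁ : Adm g v z₁ a₁) (h₂ : Adm g v z₂ a₂) (h₃ : Adm g v z₃ a₃) :
    ∃ u, Cov g v u ∧ u z₁ ≠ a₁ ∧ u z₂ ≠ a₂ ∧ u z₃ ≠ a₃ := by
  obtain ⟨u₀, hu₀⟩ := exists_cov hv hgv
  let D : Submodule K (Dual K V) :=
    LinearMap.ker (Dual.eval K V v) ⊓ LinearMap.ker (Dual.eval K V (g v))
  have hD : ∀ d : Dual K V, d ∈ D ↔ d v = 0 ∧ d (g v) = 0 := fun d => Iff.rfl
  have conv : ∀ {z : V} {a : K}, Adm g v z a → ∃ d ∈ D, (Dual.eval K V z) (u₀ + d) ≠ a := fun {z a} h => by
    obtain ⟨u, hu, hne⟩ := exists_cov_ne hv hgv h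
    refine ⟨u - u₀, (hD _).2 ?_, by simpa using hne⟩
    simp [hu.1, hu.2, hu₀.1, hu₀.2]
  obtain ⟨d, hd, k⟩ := avoid₃ hK D u₀ _ _ _ a₁ a₂ a₃ (conv h₁) (conv h₂) (conv h₃)
  rw [hD] at hd
  exact ⟨u₀ + d, ⟨by simp [hu₀.1, hd.1], by simp [hu₀.2, hd.2]⟩, k⟩

theorem child_proj {u : Dual K V} (hu : Cov g v u) (x : V) :
    ((child g hu.2 (proj hu.1 x) : LinearMap.ker u) : V) = g x - u (g x) • g v := by
  rw [child_coe, proj_coe, map_sub, map_smul, map_sub, map_smul, hu.2, smul_eq_mul, mul_one, sub_smul]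
  abel

theorem child_moved {u : Dual K V} (hu : Cov g v u) :
    ((child g hu.2 (moved hu.1 hu.2) : LinearMap.ker u) : V) = g (g v) - u (g (g v)) • g v := by
  rw [child_coe]
  simp only [moved, map_sub, hu.2, sub_smul, one_smul]
  abel

theorem child_child_proj {u : Dual K V} (hu : Cov g v u) (x : V) : ∃ k : K,
    ((child g hu.2 (child g hu.2 (proj hu.1 x)) : LinearMap.ker u) : V) =
      g (g x) - u (g x) • g (g v) - k • g v :=
  ⟨_, by rw [child_coe, child_proj hu, map_sub, map_smul]⟩

/-- The Schur complement has no fixed vector. -/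
theorem noFix_child (hg : NoFix g) {z : V} (hz : g z - z = v) {u : Dual K V} (hu : Cov g v u)
    (hne : u z ≠ -1) : NoFix (child g hu.2) := by
  intro w hw
  have e := congrArg Subtype.val hw
  rw [child_coe] at e
  obtain ⟨k, hk⟩ : ∃ k, k = u (g (w : V)) := ⟨_, rfl⟩
  rw [← hk] at e
  have h1 : g ((w : V) - k • v - k • z) = (w : V) - k • v - k • z := by
    rw [map_sub, map_sub, map_smul, map_smul, show g z = v + z by rw [← hz]; abel]
    linear_combination (norm := module) e
  have h2 := hg _ h1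
  have h3 := congrArg u h2
  simp only [map_sub, map_smul, LinearMap.mem_ker.1 w.2, hu.1, map_zero, smul_eq_mul] at h3
  have hk0 : k = 0 := by
    by_contra h
    apply hne
    apply mul_left_cancel₀ h
    linear_combination -h3
  rw [hk0] at h2
  simp only [zero_smul, sub_zero] at h2
  exact Subtype.ext h2

/-- Vectors that are not killed by a reciprocal quadratic polynomial in `g`. -/
def Good (g : Module.End K V) (v : V) : Prop := ∀ σ : K, g (g v) - σ • g v + v ≠ 0

theorem gv_notMem (hinj : Function.Injective g) (hv : v ≠ 0) (hgood : Good g v) : g v ∉ K ∙ v := by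
  intro h
  obtain ⟨a, ha⟩ := Submodule.mem_span_singleton.1 h
  have ha0 : a ≠ 0 := fun e => hv (hinj (by rw [← ha, e, zero_smul, map_zero]))
  apply hgood ((a * a + 1) / a)
  rw [← ha, map_smul, ← ha, smul_smul, smul_smul, div_mul_cancel₀ _ ha0, add_smul, one_smul]
  abel

theorem adm_fix (hv : v ≠ 0) (hgv : g v ∉ K ∙ v) (hgood : Good g v) {z : V} (hz : g z - z = v) :
    Adm g v z (-1) := by
  intro p q e hpq
  have h1 : q • g (g v) + (p - q) • g v - (p + 1) • v = 0 := by
    have := hz
    rw [e, map_add, map_smul, map_smul] at this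
    linear_combination (norm := module) this
  by_cases hq : q = 0
  · subst hq
    rw [zero_smul, zero_add] at h1
    have := pair_indep hv hgv (p := -(p + 1)) (q := p - 0) (by linear_combination (norm := module) h1)
    rw [sub_zero] at this
    rw [this.2] at hpq
    simp at hpq
  · refine hgood (-(p - q) / q) ?_
    refine smul_right_injective V hq ?_
    have hp : p + 1 = -q := by linear_combination hpq
    rw [hp] at h1
    dsimp only
    rw [smul_zero, smul_add, smul_sub, smul_smul, mul_div_cancel₀ _ hq]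
    linear_combination (norm := module) h1

theorem adm_of_notMem {z : V} {a : K} (hz : z ∉ Submodule.span K {v, g v}) : Adm g v z a :=
  fun p q e => absurd (e ▸ Submodule.mem_span_pair.2 ⟨p, q, rfl⟩) hz

theorem exists_notMem_span {S : Set V} [Fintype S] (h : Fintype.card S < finrank K V) :
    ∃ x, x ∉ Submodule.span K S := by
  by_contra hall
  push_neg at hall
  have e : Submodule.span K S = ⊤ := top_le_iff.1 fun x _ => hall x
  have := finrank_span_le_card (R := K) S
  rw [e, finrank_top, Set.toFinset_card] at this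
  omega

theorem exists_notMem_pair (hn : 3 ≤ finrank K V) (a b : V) : ∃ x, x ∉ Submodule.span K {a, b} := by
  classical
  refine exists_notMem_span (lt_of_le_of_lt ?_ hn)
  rw [← Set.toFinset_card]
  exact (Finset.card_le_card (t := {a, b}) (by simp)).trans Finset.card_le_two

/-- One condition on the covector keeps the Schur complement non-scalar. -/
theorem scal_cond (hinj : Function.Injective g) (hv : v ≠ 0) (hgv : g v ∉ K ∙ v) (hn : 3 ≤ finrank K V) :
    ∃ z a, Adm g v z a ∧ ∀ u (hu : Cov g v u), u z ≠ a → ¬ IsScal (child g hu.2) := by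
  obtain ⟨x, hx⟩ := exists_notMem_pair hn v (g v)
  by_cases hex : ∃ u₀, ∃ hu₀ : Cov g v u₀, IsScal (child g hu₀.2)
  · obtain ⟨u₀, hu₀, hs₀⟩ := hex
    refine ⟨x, u₀ x, adm_of_notMem hx, fun u hu hne hs => hne ?_⟩
    have key : ∀ u₁ (hu₁ : Cov g v u₁) (a : K), (∀ w, child g hu₁.2 w = a • w) →
        g (g v) = (u₁ (g (g v)) + a) • g v + (-a) • v ∧ g x - a • x = (-(a * u₁ x)) • v + u₁ (g x) • g v := by
      intro u₁ hu₁ a ha
      have e1 := congrArg Subtype.val (ha (moved hu₁.1 hu₁.2))
      rw [child_moved hu₁] at e1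
      have e2 := congrArg Subtype.val (ha (proj hu₁.1 x))
      rw [child_proj hu₁] at e2
      simp only [Submodule.coe_smul, moved, proj_coe] at e1 e2
      constructor
      · linear_combination (norm := module) e1
      · linear_combination (norm := module) e2
    obtain ⟨a₀, ha₀⟩ := hs₀
    obtain ⟨a, ha⟩ := hs
    obtain ⟨k₀, l₀⟩ := key u₀ hu₀ a₀ ha₀
    obtain ⟨k, l⟩ := key u hu a ha
    have hk := coeff_eq hv hgv (p := -a) (q := u (g (g v)) + a) (p' := -a₀) (q' := u₀ (g (g v)) + a₀)
      (by rw [add_comm ((-a) • v), ← k, add_comm ((-a₀) • v), ← k₀])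
    have haa : a = a₀ := neg_inj.1 hk.1
    subst haa
    have hl := coeff_eq hv hgv (l.symm.trans l₀)
    have ha0 : a ≠ 0 := fun e => hgv (Submodule.mem_span_singleton.2 ⟨u (g (g v)), hinj (by
      rw [e, neg_zero, zero_smul, add_zero, add_zero] at k; rw [map_smul]; exact k.symm)⟩)
    exact mul_left_cancel₀ ha0 (neg_inj.1 hl.1)
  · exact ⟨x, 0, adm_of_notMem hx, fun u hu _ hs => hex ⟨u, hu, hs⟩⟩

/-- If `g` is scalar modulo the plane, so is the Schur complement modulo a line. -/
theorem isR_child {u : Dual K V} (hu : Cov g v u) {l : K} (hl : l ≠ 1)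
    (h : ∀ y, g y - l • y ∈ Submodule.span K {v, g v}) (hns : ¬ IsScal (child g hu.2)) :
    IsR (child g hu.2) := by
  refine isR_of_line hl (x := moved hu.1 hu.2) (fun w => ?_) hns
  obtain ⟨p, q, e⟩ := Submodule.mem_span_pair.1 (h (w : V))
  refine Submodule.mem_span_singleton.2 ⟨q - u (g (w : V)), Subtype.ext ?_⟩
  have e' := congrArg u e
  simp only [map_add, map_smul, map_sub, hu.1, hu.2, LinearMap.mem_ker.1 w.2, smul_eq_mul, mul_one,
    mul_zero, sub_zero] at e'
  simp only [Submodule.coe_smul, Submodule.coe_sub, moved, child_coe]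
  have hp : p = u (g (w : V)) - q := by linear_combination e'
  rw [hp] at e
  linear_combination (norm := module) e

theorem isHScal_of_isScal (hinj : Function.Injective g) (hv : v ≠ 0) (h : IsScal g) : IsHScal g := by
  obtain ⟨a, ha⟩ := h
  have ha0 : a ≠ 0 := fun e => hv (hinj (by rw [ha, e, zero_smul, map_zero]))
  refine ⟨(a * a + 1) / a, fun y => ?_⟩
  rw [ha y, map_smul, ha y, smul_smul, smul_smul, div_mul_cancel₀ _ ha0]
  module

/-- One condition on the covector keeps the Schur complement admissible. -/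
theorem hscal_cond (hinj : Function.Injective g) (hv : v ≠ 0) (hgood : Good g v) (hn : 4 ≤ finrank K V) :
    ∃ z a, Adm g v z a ∧ ∀ u (hu : Cov g v u), u z ≠ a → Function.Injective (child g hu.2) →
      IsR (child g hu.2) ∨ (¬ IsScal (child g hu.2) ∧ ¬ IsHScal (child g hu.2)) := by
  have hgv := gv_notMem hinj hv hgood
  have fin : ∀ u (hu : Cov g v u), Function.Injective (child g hu.2) → ¬ IsHScal (child g hu.2) →
      ¬ IsScal (child g hu.2) ∧ ¬ IsHScal (child g hu.2) := fun u hu hi hh => ⟨fun hs => hh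
    (isHScal_of_isScal hi (v := moved hu.1 hu.2) (fun e => hgv (by
      have : g v - v = 0 := congrArg Subtype.val e
      rw [sub_eq_zero.1 this]
      exact Submodule.mem_span_singleton_self v)) hs), hh⟩
  by_cases hD : g (g v) ∈ Submodule.span K {v, g v}
  swap
  · -- the moved vector generates a subspace of dimension three
    obtain ⟨x, hx⟩ : ∃ x, x ∉ Submodule.span K {v, g v, g (g v)} := by
      classical
      refine exists_notMem_span (lt_of_le_of_lt ?_ hn)
      rw [← Set.toFinset_card]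
      exact (Finset.card_le_card (t := {v, g v, g (g v)}) (by simp)).trans Finset.card_le_three
    obtain ⟨S, hS⟩ : ∃ S, S = Submodule.span K ({v, g v, g (g v)} : Set V) := ⟨_, rfl⟩
    have m1 : v ∈ S := hS ▸ Submodule.subset_span (by simp)
    have m2 : g v ∈ S := hS ▸ Submodule.subset_span (by simp)
    have m3 : g (g v) ∈ S := hS ▸ Submodule.subset_span (by simp)
    have key : ∀ u₁ (hu₁ : Cov g v u₁) (σ : K),
        (∀ w, child g hu₁.2 (child g hu₁.2 w) - σ • child g hu₁.2 w + w = 0) →
        (∃ s : K, g (g (g v)) = (u₁ (g (g v)) + σ) • g (g v) + s • g v + v) ∧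
          g (g x) - σ • g x + x ∈ S := by
      intro u₁ hu₁ σ hσ
      constructor
      · have e := congrArg Subtype.val (hσ (moved hu₁.1 hu₁.2))
        simp only [Submodule.coe_add, Submodule.coe_sub, Submodule.coe_smul, ZeroMemClass.coe_zero] at e
        rw [child_coe, child_moved hu₁] at e
        simp only [moved, map_sub, map_smul] at e
        refine ⟨u₁ (g (g (g v))) - u₁ (g (g v)) * u₁ (g (g v)) - σ * u₁ (g (g v)) - 1, ?_⟩
        simp only [smul_eq_mul] at e
        linear_combination (norm := module) e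
      · have e := congrArg Subtype.val (hσ (proj hu₁.1 x))
        simp only [Submodule.coe_add, Submodule.coe_sub, Submodule.coe_smul, ZeroMemClass.coe_zero] at e
        obtain ⟨k, hk⟩ := child_child_proj hu₁ x
        rw [hk, child_proj hu₁, proj_coe] at e
        have e' : g (g x) - σ • g x + x =
            u₁ (g x) • g (g v) + (k - σ * u₁ (g x)) • g v + u₁ x • v := by
          linear_combination (norm := module) e
        rw [e']
        exact S.add_mem (S.add_mem (S.smul_mem _ m3) (S.smul_mem _ m2)) (S.smul_mem _ m1)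
    have hadm : ∀ a, Adm g v (g (g v)) a := fun a => adm_of_notMem hD
    by_cases hex : ∃ u₀, ∃ hu₀ : Cov g v u₀, IsHScal (child g hu₀.2)
    · obtain ⟨u₀, hu₀, σ₀, hσ₀⟩ := hex
      refine ⟨_, u₀ (g (g v)), hadm _, fun u hu hne hi => Or.inr (fin u hu hi ?_)⟩
      rintro ⟨σ, hσ⟩
      apply hne
      obtain ⟨⟨s₀, e₀⟩, f₀⟩ := key u₀ hu₀ σ₀ hσ₀
      obtain ⟨⟨s, e⟩, f⟩ := key u hu σ hσ
      have hinv : ∀ y ∈ S, g y ∈ S := by
        intro y hy
        have hle : S ≤ S.comap g := by
          conv_lhs => rw [hS]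
          rw [Submodule.span_le]
          rintro z (rfl | rfl | rfl)
          · exact m2
          · exact m3
          · show g (g (g v)) ∈ S
            rw [e]
            exact S.add_mem (S.add_mem (S.smul_mem _ m3) (S.smul_mem _ m2)) m1
        exact hle hy
      have hσσ : σ = σ₀ := by
        by_contra hne'
        have hgx : g x ∈ S := by
          have h := S.smul_mem ((σ₀ - σ)⁻¹) (S.sub_mem f f₀)
          rwa [show g (g x) - σ • g x + x - (g (g x) - σ₀ • g x + x) = (σ₀ - σ) • g x by module,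
            inv_smul_smul₀ (sub_ne_zero.2 (Ne.symm hne'))] at h
        apply hx
        rw [← hS, show x = (g (g x) - σ • g x + x) - g (g x) + σ • g x by module]
        exact S.add_mem (S.sub_mem f (hinv _ hgx)) (S.smul_mem _ hgx)
      subst hσσ
      by_contra hne'
      apply hD
      refine Submodule.mem_span_pair.2 ⟨0, (u (g (g v)) - u₀ (g (g v)))⁻¹ * (s₀ - s), ?_⟩
      rw [zero_smul, zero_add, mul_smul, inv_smul_eq_iff₀ (sub_ne_zero.2 hne')]
      linear_combination (norm := module) e - e₀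
    · exact ⟨_, 0, hadm _, fun u hu _ hi => Or.inr (fin u hu hi fun h => hex ⟨u, hu, h⟩)⟩
  · -- the plane of `v` is invariant
    obtain ⟨β, α, hαβ⟩ := Submodule.mem_span_pair.1 hD
    have hβ1 : β ≠ -1 := fun e => hgood α (by rw [← hαβ, e]; module)
    have hβ0 : β ≠ 0 := fun e => by
      rw [e, zero_smul, zero_add] at hαβ
      exact hgv (Submodule.mem_span_singleton.2 ⟨α, hinj (by rw [map_smul, hαβ])⟩)
    by_cases hall : ∀ x, x + β • g x ∈ Submodule.span K {v, g v}
    · obtain ⟨z, a, hadm, hza⟩ := scal_cond hinj hv hgv (by omega)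
      refine ⟨z, a, hadm, fun u hu hne _ => Or.inl (isR_child hu (l := -β⁻¹) ?_ (fun y => ?_) (hza u hu hne))⟩
      · intro e
        apply hβ1
        have : β⁻¹ = -1 := by linear_combination -e
        rw [← inv_inv β, this, inv_neg, inv_one]
      · have h := Submodule.smul_mem _ β⁻¹ (hall y)
        rwa [smul_add, inv_smul_smul₀ hβ0, add_comm, show g y + β⁻¹ • y = g y - (-β⁻¹) • y by module] at h
    · push_neg at hall
      obtain ⟨x, hx⟩ := hall
      have key : ∀ u₁ (hu₁ : Cov g v u₁) (σ : K),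
          (∀ w, child g hu₁.2 (child g hu₁.2 w) - σ • child g hu₁.2 w + w = 0) →
          β * β + σ * β + 1 = 0 ∧
            ∃ k : K, g (g x) - σ • g x + x = u₁ (x + β • g x) • v + k • g v := by
        intro u₁ hu₁ σ hσ
        have hc : ((child g hu₁.2 (moved hu₁.1 hu₁.2) : LinearMap.ker u₁) : V) = (-β) • (g v - v) := by
          rw [child_moved hu₁, ← hαβ, map_add, map_smul, map_smul, hu₁.1, hu₁.2]
          simp only [smul_eq_mul, mul_one]
          module
        have hc' : child g hu₁.2 (moved hu₁.1 hu₁.2) = (-β) • moved hu₁.1 hu₁.2 := Subtype.ext hc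
        constructor
        · have e := hσ (moved hu₁.1 hu₁.2)
          rw [hc', map_smul, hc'] at e
          have e' : (β * β + σ * β + 1) • moved hu₁.1 hu₁.2 = 0 := by
            linear_combination (norm := module) e
          refine (smul_eq_zero.1 e').resolve_right fun e0 => hgv ?_
          have : g v - v = 0 := congrArg Subtype.val e0
          rw [sub_eq_zero.1 this]
          exact Submodule.mem_span_singleton_self v
        · have e := congrArg Subtype.val (hσ (proj hu₁.1 x))
          simp only [Submodule.coe_add, Submodule.coe_sub, Submodule.coe_smul, ZeroMemClass.coe_zero] at e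
          obtain ⟨k, hk⟩ := child_child_proj hu₁ x
          rw [hk, child_proj hu₁, proj_coe, ← hαβ] at e
          refine ⟨u₁ (g x) * α + k - σ * u₁ (g x), ?_⟩
          rw [map_add, map_smul, smul_eq_mul]
          linear_combination (norm := module) e
      by_cases hex : ∃ u₀, ∃ hu₀ : Cov g v u₀, IsHScal (child g hu₀.2)
      · obtain ⟨u₀, hu₀, σ₀, hσ₀⟩ := hex
        refine ⟨_, u₀ (x + β • g x), adm_of_notMem hx, fun u hu hne hi => Or.inr (fin u hu hi ?_)⟩
        rintro ⟨σ, hσ⟩
        apply hne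
        obtain ⟨e₀, k₀, f₀⟩ := key u₀ hu₀ σ₀ hσ₀
        obtain ⟨e, k, f⟩ := key u hu σ hσ
        have hσσ : σ = σ₀ := mul_right_cancel₀ hβ0 (by linear_combination e - e₀)
        subst hσσ
        exact (coeff_eq hv hgv (f.symm.trans f₀)).1
      · exact ⟨_, 0, adm_of_notMem hx, fun u hu _ hi => Or.inr (fin u hu hi fun h => hex ⟨u, hu, h⟩)⟩

end CfsgLib.KnownC.Lev
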