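import Cfsg.Agent.Lib.KnownC.LevChild

/-!
Products of two regular unipotent maps.
-/

set_option autoImplicit false
set_option linter.unusedSectionVars false

namespace CfsgLib.KnownC.Lev

open Module

universe u v

variable {K : Type u} [Field K] {V : Type v} [AddCommGroup V] [Module K V] [FiniteDimensional K V]

theorem injective_of_det {g : Module.End K V} (h : LinearMap.det g = 1) : Function.Injective g :=
  LinearMap.ker_eq_bot.1 (not_not.1 fun hne => one_ne_zero (α := K) (h.symm.trans (LinearMap.det_eq_zero_iff_ker_ne_bot.2 hne)))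

theorem eq_one_of_finrank_one {g : Module.End K V} (hn : finrank K V = 1) (h : LinearMap.det g = 1) :
    g = 1 := by
  obtain ⟨e, he, hspan⟩ := finrank_eq_one_iff'.1 hn
  obtain ⟨a, ha⟩ := hspan (g e)
  have hg : g = a • (1 : Module.End K V) := LinearMap.ext fun y => by
    obtain ⟨c, rfl⟩ := hspan y
    rw [map_smul, ← ha, LinearMap.smul_apply, Module.End.one_apply, smul_comm]
  rw [hg, LinearMap.det_smul, hn, pow_one, map_one, mul_one] at h
  rw [hg, h, one_smul]

/-- The dimension one case. -/
theorem fac_one (hn : finrank K V = 1) {g : Module.End K V} (h : LinearMap.det g = 1) {c : V} (hc : c ≠ 0)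
    {r : Dual K V} (hr : r ≠ 0) : Fac g c r := by
  haveI : Nontrivial V := Module.nontrivial_of_finrank_pos (R := K) (by omega)
  have h1 : RegUni (1 : Module.End K V) := by
    refine ⟨?_, ?_⟩ <;> rw [hn] <;> simp
  refine ⟨1, 1, h1, h1, by rw [one_mul, eq_one_of_finrank_one hn h], ?_, ?_⟩
  · rw [hn]; simpa using hc
  · rw [hn]; simpa [Module.End.one_eq_id] using hr

theorem adm_moved {g : Module.End K V} {v c : V} (hc : c ≠ 0) (h : g v - v ∉ K ∙ c) : Adm g v c 0 := by
  intro p q e hpq
  have hp : p = -q := by linear_combination hpq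
  have e' : c = q • (g v - v) := by rw [e, hp, smul_sub, neg_smul]; abel
  have hq : q ≠ 0 := fun e0 => hc (by rw [e', e0, zero_smul])
  exact h (Submodule.mem_span_singleton.2 ⟨q⁻¹, by rw [e', inv_smul_smul₀ hq]⟩)

theorem exists_noneigen {g : Module.End K V} (h : ¬ IsScal g) : ∃ v, v ≠ 0 ∧ g v ∉ K ∙ v := by
  by_contra hall
  push_neg at hall
  apply h
  by_cases htriv : ∀ y : V, y = 0
  · exact ⟨0, fun y => by rw [htriv (g y), zero_smul]⟩
  push_neg at htriv
  obtain ⟨v₀, hv₀⟩ := htriv
  obtain ⟨a, ha⟩ := Submodule.mem_span_singleton.1 (hall v₀ hv₀)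
  refine ⟨a, fun y => ?_⟩
  rcases eq_or_ne y 0 with rfl | hy
  · simp
  obtain ⟨b, hb⟩ := Submodule.mem_span_singleton.1 (hall y hy)
  by_cases hdep : y ∈ K ∙ v₀
  · obtain ⟨s, rfl⟩ := Submodule.mem_span_singleton.1 hdep
    rw [map_smul, ← ha, smul_comm]
  · have hs : v₀ + y ≠ 0 := fun e => hdep (by
      rw [eq_neg_of_add_eq_zero_right e]
      exact Submodule.neg_mem _ (Submodule.mem_span_singleton_self _))
    obtain ⟨c, hc⟩ := Submodule.mem_span_singleton.1 (hall _ hs)
    have e1 : (c - a) • v₀ + (c - b) • y = 0 := by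
      rw [map_add, ← ha, ← hb] at hc
      linear_combination (norm := module) hc
    have hcb : c = b := by
      by_contra hne
      exact hdep (Submodule.mem_span_singleton.2 ⟨-(c - a) / (c - b), by
        rw [div_eq_inv_mul, mul_smul, inv_smul_eq_iff₀ (sub_ne_zero.2 hne), neg_smul]
        exact neg_eq_of_add_eq_zero_right e1⟩)
    rw [hcb, sub_self, zero_smul, add_zero, smul_eq_zero, sub_eq_zero] at e1
    rw [← hb, e1.resolve_right hv₀]

theorem isR_of_eigen {g : Module.End K V} (hn : finrank K V = 2) (hns : ¬ IsScal g) {e : V} (he : e ≠ 0)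
    {a : K} (ha : g e = a • e) (ha1 : a ≠ 1) : IsR g := by
  have h1 := (g - a • 1).finrank_range_add_finrank_ker
  have h2 : 1 ≤ finrank K (LinearMap.ker (g - a • 1)) :=
    Submodule.one_le_finrank_iff.2 fun e0 => he (by
      have : e ∈ LinearMap.ker (g - a • 1) := by simp [ha]
      rwa [e0, Submodule.mem_bot] at this)
  obtain ⟨x, hx⟩ := ((LinearMap.range (g - a • 1)).finrank_le_one_iff_isPrincipal.1 (by omega)).1
  exact isR_of_line ha1 (fun y => by rw [← hx]; exact ⟨y, by simp⟩) hns

/-- A suitable vector when the map is not killed by a reciprocal quadratic polynomial. -/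
theorem exists_good (hK : 4 ≤ Cardinal.mk K) {g : Module.End K V} (hinj : Function.Injective g)
    (hn : 2 ≤ finrank K V) (hh : ¬ IsHScal g) {r : Dual K V} (hr : r ≠ 0) (z : V) :
    ∃ v, r v ≠ 0 ∧ v ∉ K ∙ z ∧ Good g v := by
  have hz : (K ∙ z) ≠ ⊤ := fun e => by
    have := finrank_span_le_card (R := K) ({z} : Set V)
    rw [e, finrank_top] at this
    simp at this
    omega
  haveI : Nontrivial V := Module.nontrivial_of_finrank_pos (R := K) (by omega)
  by_contra hall
  push_neg at hall
  have hsig : ∀ v, r v ≠ 0 → v ∉ K ∙ z → ∃ σ, g (g v) - σ • g v + v = 0 := fun v h1 h2 => by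
    simpa [Good] using hall v h1 h2
  obtain ⟨a, har, haz, -, -⟩ := avoid_sub hK hr (K ∙ z) ⊥ ⊥ hz bot_ne_top bot_ne_top
  obtain ⟨σ, hσ⟩ := hsig a har haz
  apply hh
  refine ⟨σ, fun y => ?_⟩
  obtain ⟨d, hd⟩ : ∃ d, d = y - (r y / r a) • a := ⟨_, rfl⟩
  have hrd : r d = 0 := by rw [hd, map_sub, map_smul, smul_eq_mul, div_mul_cancel₀ _ har, sub_self]
  have hyd : y = d + (r y / r a) • a := by rw [hd]; abel
  suffices g (g d) - σ • g d + d = 0 by
    rw [hyd]
    simp only [map_add, map_smul]
    linear_combination (norm := module) this + (r y / r a) • hσ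
  rcases eq_or_ne d 0 with rfl | hd0
  · simp
  -- at most one bad parameter
  obtain ⟨s₀, hs₀⟩ : ∃ s₀ : K, ∀ s, s ≠ s₀ → a + s • d ∉ K ∙ z := by
    by_cases hex : ∃ s₀ : K, a + s₀ • d ∈ K ∙ z
    · obtain ⟨s₀, hs₀⟩ := hex
      refine ⟨s₀, fun s hs hmem => haz ?_⟩
      have h := Submodule.smul_mem _ ((s - s₀)⁻¹) (Submodule.sub_mem _ hmem hs₀)
      rw [show a + s • d - (a + s₀ • d) = (s - s₀) • d by module, inv_smul_smul₀ (sub_ne_zero.2 hs)] at h
      simpa using Submodule.sub_mem _ hmem (Submodule.smul_mem _ s h)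
    · exact ⟨0, fun s _ h => hex ⟨s, h⟩⟩
  obtain ⟨s₁, n₁, m₁, -⟩ := exists_ne₃ hK 0 s₀ s₀
  obtain ⟨s₂, n₂, m₂, k₂⟩ := exists_ne₃ hK 0 s₀ s₁
  have hval : ∀ s, a + s • d ∉ K ∙ z → ∃ τ, g (g (a + s • d)) - τ • g (a + s • d) + (a + s • d) = 0 :=
    fun s h => hsig _ (by rw [map_add, map_smul, hrd, smul_zero, add_zero]; exact har) h
  obtain ⟨τ₁, h₁⟩ := hval s₁ (hs₀ s₁ m₁)
  obtain ⟨τ₂, h₂⟩ := hval s₂ (hs₀ s₂ m₂)
  simp only [map_add, map_smul] at h₁ h₂
  have hind : ∀ p q : K, p • g a + q • g d = 0 → p = 0 ∧ q = 0 := fun p q e => by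
    have e' : p • a + q • d = 0 := hinj (by rw [map_add, map_smul, map_smul, e, map_zero])
    have hp : p = 0 := by
      have := congrArg r e'
      rw [map_add, map_smul, map_smul, hrd, map_zero, smul_zero, add_zero, smul_eq_mul, mul_eq_zero] at this
      exact this.resolve_right har
    rw [hp, zero_smul, zero_add, smul_eq_zero] at e'
    exact ⟨hp, e'.resolve_right hd0⟩
  have e : (s₂ * (σ - τ₁) - s₁ * (σ - τ₂)) • g a + (s₁ * s₂ * (τ₂ - τ₁)) • g d = 0 := by
    linear_combination (norm := module) s₂ • h₁ - s₁ • h₂ + (s₁ - s₂) • hσ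
  obtain ⟨e1, e2⟩ := hind _ _ e
  have hτ : τ₂ = τ₁ := sub_eq_zero.1 ((mul_eq_zero.1 e2).resolve_left (mul_ne_zero n₁ n₂))
  rw [hτ, ← sub_mul] at e1
  have hσ₁ : σ = τ₁ := sub_eq_zero.1 ((mul_eq_zero.1 e1).resolve_left (sub_ne_zero.2 k₂))
  subst hσ₁
  refine smul_right_injective V n₁ ?_
  dsimp only
  rw [smul_zero]
  linear_combination (norm := module) h₁ - hσ

theorem not_line {g : Module.End K V} (hn : 2 ≤ finrank K V) (hdet : LinearMap.det g = 1) {l : K} {x : V}
    {f : Dual K V} (hl : l ≠ 1) (hf : f ≠ 0) (h : ∀ y, g y = l • y + f y • x) (c : V) :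
    ∃ y, g y - y ∉ K ∙ c := by
  by_contra hall
  push_neg at hall
  obtain ⟨w, hw⟩ := DFunLike.ne_iff.1 hf
  have hw' : f ((f w)⁻¹ • w) = 1 := by rw [map_smul, smul_eq_mul, inv_mul_cancel₀ hw]
  have hker := finrank_ker (u := f) hw'
  have hle : LinearMap.ker f ≤ K ∙ c := fun y hy => by
    have := hall y
    rw [h y, LinearMap.mem_ker.1 hy, zero_smul, add_zero] at this
    rw [show l • y - y = (l - 1) • y by module] at this
    simpa [inv_smul_smul₀ (sub_ne_zero.2 hl)] using Submodule.smul_mem _ (l - 1)⁻¹ this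
  have h2 : finrank K (LinearMap.ker f) ≤ 1 :=
    (Submodule.finrank_mono hle).trans (by
      refine (finrank_span_le_card (R := K) ({c} : Set V)).trans ?_
      simp)
  have hn2 : finrank K V = 2 := by omega
  have hc0 : c ≠ 0 := fun e => by
    rw [e, Submodule.span_zero_singleton] at hle
    rw [le_bot_iff.1 hle, finrank_bot] at hker
    omega
  have heq : LinearMap.ker f = K ∙ c := Submodule.eq_of_le_of_finrank_le hle (by
    rw [finrank_span_singleton hc0]; omega)
  have hfc : f c = 0 := by
    rw [← LinearMap.mem_ker, heq]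
    exact Submodule.mem_span_singleton_self c
  obtain ⟨t, ht⟩ := Submodule.mem_span_singleton.1 (hall ((f w)⁻¹ • w))
  have e := congrArg f ht
  rw [map_smul, hfc, smul_zero, h, hw', one_smul, map_sub, map_add, map_smul, hw', smul_eq_mul,
    mul_one] at e
  have hl0 : l ≠ 0 := by
    intro e0
    have hg : g c = 0 := by rw [h, hfc, e0, zero_smul, zero_smul, add_zero]
    exact hc0 (injective_of_det hdet (by rw [hg, map_zero]))
  have hg : g = l • LinearMap.transvection f (l⁻¹ • x) := LinearMap.ext fun y => by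
    rw [h, LinearMap.smul_apply, LinearMap.transvection.apply, smul_add, smul_smul, smul_smul,
      show l * f y * l⁻¹ = f y by field_simp]
  rw [hg, LinearMap.det_smul, hn2, LinearMap.transvection.det, map_smul, smul_eq_mul] at hdet
  apply hl
  have e2 : l * l + l * f x = 1 := by
    rw [← hdet]; field_simp
  linear_combination e2 + l * e

/-- Regular factorisations with side conditions. -/
theorem fac (hK : 4 ≤ Cardinal.mk K) : ∀ (n : ℕ) {V : Type v} [AddCommGroup V] [Module K V]
    [FiniteDimensional K V] (g : Module.End K V) (c : V) (r : Dual K V), finrank K V = n → LinearMap.det g = 1 →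
    c ≠ 0 → r ≠ 0 → (2 ≤ n → Ok g) → Fac g c r := by
  intro n
  induction n with
  | zero =>
    intro V _ _ _ g c r hn _ hc _ _
    exact absurd (finrank_zero_iff_forall_zero.1 hn c) hc
  | succ n ih =>
    intro V _ _ _ g c r hn hdet hc hr hok
    rcases Nat.eq_zero_or_pos n with rfl | hpos
    · exact fac_one hn hdet hc hr
    have hinj := injective_of_det hdet
    haveI : Nontrivial V := Module.nontrivial_of_finrank_pos (R := K) (by omega)
    suffices h : ∃ v u, ∃ hu : Cov g v u, u c ≠ 0 ∧ r v ≠ 0 ∧ g v ≠ v ∧ (∃ y, u (g y - y) ≠ 0) ∧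
        (2 ≤ n → Ok (child g hu.2)) by
      obtain ⟨v, u, hu, huc, hrv, hgv, ⟨y, hy⟩, hch⟩ := h
      have hfr : finrank K (LinearMap.ker u) = n := by have := finrank_ker hu.1; omega
      refine fac_step hu.1 hu.2 huc hrv (by omega) (ih _ _ _ hfr ?_ (fun e => hgv ?_) (fun e => hy ?_) hch)
      · rw [det_child hu.1 hu.2, hdet]
      · exact sub_eq_zero.1 (congrArg Subtype.val e)
      · have h1 := LinearMap.congr_fun e (proj hu.1 y)
        simp only [LinearMap.comp_apply, Submodule.subtype_apply, proj_coe, map_sub, map_smul, hu.2,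
          smul_eq_mul, mul_one, LinearMap.zero_apply] at h1
        rw [map_sub]; exact h1
    rcases hok (by omega) with hR | ⟨hfix, hns, hh⟩
    · obtain ⟨l, x, f, hl, hx, hf, h⟩ := hR
      obtain ⟨P, hP⟩ : ∃ P : Submodule K V, P = (K ∙ c).comap (g - 1) := ⟨_, rfl⟩
      have hPtop : P ≠ ⊤ := fun e => by
        obtain ⟨y, hy⟩ := not_line (by omega) hdet hl hf h c
        apply hy
        have : y ∈ P := e ▸ Submodule.mem_top
        simpa [hP] using this
      have hkf : LinearMap.ker f ≠ ⊤ := fun e => hf (LinearMap.ker_eq_top.1 e)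
      have hxt : (K ∙ x) ≠ ⊤ := fun e => by
        have := finrank_span_singleton (K := K) hx
        rw [e, finrank_top] at this
        omega
      obtain ⟨v, hrv, hvf, hvx, hvP⟩ := avoid_sub hK hr (LinearMap.ker f) (K ∙ x) P hkf hxt hPtop
      have hfv : f v ≠ 0 := hvf
      have hv : v ≠ 0 := fun e => hrv (by rw [e, map_zero])
      have hgv : g v ∉ K ∙ v := fun hm => by
        obtain ⟨a, ha⟩ := Submodule.mem_span_singleton.1 hm
        rw [h] at ha
        have e : (a - l) • v = f v • x := by linear_combination (norm := module) ha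
        by_cases hal : a = l
        · rw [hal, sub_self, zero_smul] at e
          exact smul_ne_zero hfv hx e.symm
        · exact hvx (Submodule.mem_span_singleton.2 ⟨(a - l)⁻¹ * f v, by
            rw [mul_smul, ← e, inv_smul_smul₀ (sub_ne_zero.2 hal)]⟩)
      have hgvv : g v ≠ v := fun e => hgv (by rw [e]; exact Submodule.mem_span_singleton_self v)
      have hPc : g v - v ∉ K ∙ c := fun e => hvP (by simpa [hP] using e)
      obtain ⟨y, hy⟩ := not_line (by omega) hdet hl hf h (g v - v)
      have hadm : Adm g v (g y - y) 0 := by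
        intro p q e hpq
        apply hy
        rw [e]
        refine Submodule.mem_span_singleton.2 ⟨q, ?_⟩
        have hp : p = -q := by linear_combination hpq
        rw [hp]; module
      rcases Nat.lt_or_ge n 2 with hn2 | hn2
      · obtain ⟨u, hu, h1, h2, -⟩ := exists_cov₃ hK hv hgv (adm_moved hc hPc) hadm hadm
        exact ⟨v, u, hu, h1, hrv, hgvv, ⟨y, h2⟩, fun h2' => absurd h2' (by omega)⟩
      · obtain ⟨z, a, hza, hz⟩ := scal_cond hinj hv hgv (by omega)
        obtain ⟨u, hu, h1, h2, h3⟩ := exists_cov₃ hK hv hgv (adm_moved hc hPc) hadm hza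
        refine ⟨v, u, hu, h1, hrv, hgvv, ⟨y, h2⟩, fun _ => Or.inl (isR_child hu hl (fun w => ?_) (hz u hu h3))⟩
        have hxK : x ∈ Submodule.span K {v, g v} := by
          have hm : f v • x ∈ Submodule.span K {v, g v} :=
            Submodule.mem_span_pair.2 ⟨-l, 1, by rw [h v]; module⟩
          simpa [inv_smul_smul₀ hfv] using Submodule.smul_mem _ (f v)⁻¹ hm
        rw [h w, add_sub_cancel_left]
        exact Submodule.smul_mem _ _ hxK
    · have hsurj : Function.Surjective ⇑(g - 1) := LinearMap.injective_iff_surjective.1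
        ((injective_iff_map_eq_zero _).2 fun y hy => hfix y (sub_eq_zero.1 hy))
      obtain ⟨z₀, hz₀⟩ := hsurj c
      have hline : ∀ v, v ∉ K ∙ z₀ → g v - v ∉ K ∙ c := fun v hv hm => by
        obtain ⟨t, ht⟩ := Submodule.mem_span_singleton.1 hm
        apply hv
        refine Submodule.mem_span_singleton.2 ⟨t, (sub_eq_zero.1 (hfix _ ?_)).symm⟩
        have : g z₀ - z₀ = c := hz₀
        rw [← this] at ht
        rw [map_sub, map_smul]
        linear_combination (norm := module) -ht
      have hyy : ∀ u v, Cov g v u → ∃ y, u (g y - y) ≠ 0 := fun u v hu => by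
        obtain ⟨y, hy⟩ := hsurj v
        exact ⟨y, by rw [show g y - y = v from hy, hu.1]; exact one_ne_zero⟩
      rcases Nat.lt_or_ge n 2 with hn2 | hn2
      · have hne : ∀ v, v ≠ 0 → g v ∉ K ∙ v → r v ≠ 0 → v ∉ K ∙ z₀ →
            ∃ v u, ∃ hu : Cov g v u, u c ≠ 0 ∧ r v ≠ 0 ∧ g v ≠ v ∧ (∃ y, u (g y - y) ≠ 0) ∧
              (2 ≤ n → Ok (child g hu.2)) := fun v hv hgv hrv hvz => by
          obtain ⟨u, hu, h1, -, -⟩ :=
            exists_cov₃ hK hv hgv (adm_moved hc (hline v hvz)) (adm_moved hc (hline v hvz))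
              (adm_moved hc (hline v hvz))
          exact (⟨v, u, hu, h1, hrv, fun e => hgv (by rw [e]; exact Submodule.mem_span_singleton_self v),
            hyy u v hu, fun h2 => absurd h2 (by omega)⟩ :
            ∃ v u, ∃ hu : Cov g v u, u c ≠ 0 ∧ r v ≠ 0 ∧ g v ≠ v ∧ (∃ y, u (g y - y) ≠ 0) ∧
              (2 ≤ n → Ok (child g hu.2)))
        have hsp : ∀ e : V, (K ∙ e) ≠ ⊤ := fun e he => by
          have := finrank_span_le_card (R := K) ({e} : Set V)
          rw [he, finrank_top] at this
          simp at this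
          omega
        by_cases heig : ∃ e : V, e ≠ 0 ∧ g e ∈ K ∙ e
        · obtain ⟨e, he, hm⟩ := heig
          obtain ⟨a, ha⟩ := Submodule.mem_span_singleton.1 hm
          have hR := isR_of_eigen (by omega) hns he ha.symm fun e1 => he (hfix e (by rw [← ha, e1, one_smul]))
          obtain ⟨l, x, f, hl, hx, hf, h⟩ := hR
          obtain ⟨v, hrv, hvz, hvf, hvx⟩ := avoid_sub hK hr (K ∙ z₀) (LinearMap.ker f) (K ∙ x) (hsp _)
            (fun e => hf (LinearMap.ker_eq_top.1 e)) (hsp _)
          have hfv : f v ≠ 0 := hvf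
          refine hne v (fun e => hrv (by rw [e, map_zero])) (fun hm => ?_) hrv hvz
          obtain ⟨a', ha'⟩ := Submodule.mem_span_singleton.1 hm
          rw [h] at ha'
          have e' : (a' - l) • v = f v • x := by linear_combination (norm := module) ha'
          by_cases hal : a' = l
          · rw [hal, sub_self, zero_smul] at e'
            exact smul_ne_zero hfv hx e'.symm
          · exact hvx (Submodule.mem_span_singleton.2 ⟨(a' - l)⁻¹ * f v, by
              rw [mul_smul, ← e', inv_smul_smul₀ (sub_ne_zero.2 hal)]⟩)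
        · obtain ⟨v, hrv, hvz, -, -⟩ := avoid_sub hK hr (K ∙ z₀) ⊥ ⊥ (hsp _) bot_ne_top bot_ne_top
          have hv : v ≠ 0 := fun e => hrv (by rw [e, map_zero])
          exact hne v hv (fun hm => heig ⟨v, hv, hm⟩) hrv hvz
      · obtain ⟨v, hrv, hvz, hgood⟩ := exists_good hK hinj (by omega) (hh (by omega)) hr z₀
        have hv : v ≠ 0 := fun e => hrv (by rw [e, map_zero])
        have hgv := gv_notMem hinj hv hgood
        have hgvv : g v ≠ v := fun e => hgv (by rw [e]; exact Submodule.mem_span_singleton_self v)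
        obtain ⟨z, hz⟩ := hsurj v
        have hz' : g z - z = v := hz
        have hadm := adm_fix hv hgv hgood hz'
        rcases Nat.lt_or_ge n 3 with hn3 | hn3
        · obtain ⟨z₃, a₃, h₃, hs₃⟩ := scal_cond hinj hv hgv (by omega)
          obtain ⟨u, hu, h1, h2, h3⟩ := exists_cov₃ hK hv hgv (adm_moved hc (hline v hvz)) hadm h₃
          refine ⟨v, u, hu, h1, hrv, hgvv, hyy u v hu, fun _ => Or.inr
            ⟨noFix_child hfix hz' hu h2, hs₃ u hu h3, fun h3' => absurd h3' ?_⟩⟩
          have := finrank_ker hu.1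
          omega
        · obtain ⟨z₃, a₃, h₃, hs₃⟩ := hscal_cond hinj hv hgood (by omega)
          obtain ⟨u, hu, h1, h2, h3⟩ := exists_cov₃ hK hv hgv (adm_moved hc (hline v hvz)) hadm h₃
          refine ⟨v, u, hu, h1, hrv, hgvv, hyy u v hu, fun _ => ?_⟩
          rcases hs₃ u hu h3 (injective_of_det (by rw [det_child hu.1 hu.2, hdet])) with hR | ⟨k1, k2⟩
          · exact Or.inl hR
          · exact Or.inr ⟨noFix_child hfix hz' hu h2, k1, fun _ => k2⟩

theorem of_ok (hK : 4 ≤ Cardinal.mk K) {g : Module.End K V} (hdet : LinearMap.det g = 1)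
    (hn : 1 ≤ finrank K V) (h : Ok g) : ∃ X Y : Module.End K V, RegUni X ∧ RegUni Y ∧ X * Y = g := by
  haveI : Nontrivial V := Module.nontrivial_of_finrank_pos (R := K) (by omega)
  obtain ⟨c, hc⟩ := exists_ne (0 : V)
  obtain ⟨r, hr⟩ := Module.Projective.exists_dual_eq_one K hc
  obtain ⟨X, Y, hX, hY, hXY, -, -⟩ := fac hK _ g c r rfl hdet hc
    (fun e => by simp [e] at hr) (fun _ => h)
  exact ⟨X, Y, hX, hY, hXY⟩

/-- Lev's theorem in coordinate-free form. -/
theorem two_regular (hK : 4 ≤ Cardinal.mk K) : ∀ (n : ℕ) {V : Type v} [AddCommGroup V] [Module K V]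
    [FiniteDimensional K V] (g : Module.End K V), finrank K V = n → 1 ≤ n → LinearMap.det g = 1 →
    (g = 1 ∨ ¬ IsScal g) → ∃ X Y : Module.End K V, RegUni X ∧ RegUni Y ∧ X * Y = g := by
  intro n
  induction n using Nat.strong_induction_on with
  | _ n ih =>
    intro V _ _ _ g hn h1 hdet hg
    haveI : Nontrivial V := Module.nontrivial_of_finrank_pos (R := K) (by omega)
    by_cases hn1 : n = 1
    · have hr : RegUni (1 : Module.End K V) := by
        refine ⟨?_, ?_⟩ <;> rw [hn, hn1] <;> simp
      exact ⟨1, 1, hr, hr, by rw [one_mul, eq_one_of_finrank_one (hn.trans hn1) hdet]⟩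
    -- an invariant subspace and its complement
    have split : ∀ (p : Submodule K V) (hp : p ≤ p.comap g), 1 ≤ finrank K p → finrank K p < n →
        LinearMap.det (g.restrict hp) = 1 →
        (∃ X Y : Module.End K p, RegUni X ∧ RegUni Y ∧ X * Y = g.restrict hp) →
        (∀ a : K, a ≠ 1 → (∀ y, g y - a • y ∈ p) → False) →
        ∃ X Y : Module.End K V, RegUni X ∧ RegUni Y ∧ X * Y = g := by
      intro p hp hp1 hpn hdp hA hbad
      obtain ⟨q, hpq⟩ := Submodule.exists_isCompl p
      have hfr := Submodule.finrank_add_eq_of_isCompl hpq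
      let πq := Submodule.projectionOnto q p hpq.symm
      let πp := Submodule.projectionOnto p q hpq
      let B : Module.End K q := πq.comp (g.comp q.subtype)
      let C : q →ₗ[K] p := πp.comp (g.comp q.subtype)
      have hgq : ∀ y : q, g y = (C y : V) + B y := fun y =>
        (Submodule.projection_add_projection_eq_self hpq (g y)).symm
      have hdB : LinearMap.det B = 1 := by
        let e := Submodule.quotientEquivOfIsCompl p q hpq
        have h2 := LinearMap.det_eq_det_mul_det p g hp
        rw [hdet, hdp, one_mul] at h2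
        rw [h2, ← LinearMap.det_conj (p.mapQ p g hp) e]
        refine congrArg LinearMap.det (LinearMap.ext fun y => ?_)
        show πq (g (y : V)) = e ((p.mapQ p g hp) (e.symm y))
        rw [Submodule.quotientEquivOfIsCompl_symm_apply, Submodule.mapQ_apply,
          show g (y : V) = (C y : V) + B y from hgq y, map_add, Submodule.projectionOnto_apply_left,
          Submodule.projectionOnto_apply_right, zero_add, Submodule.Quotient.mk_add, map_add,
          show (Submodule.Quotient.mk ((C y : p) : V) : V ⧸ p) = 0 from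
            (Submodule.Quotient.mk_eq_zero p).2 (C y).2, map_zero, zero_add]
        exact (Submodule.quotientEquivOfIsCompl_apply_mk_right hpq _).symm
      have hB : B = 1 ∨ ¬ IsScal B := by
        by_contra hcon
        push_neg at hcon
        obtain ⟨hB1, a, ha⟩ := hcon
        refine hbad a (fun e => hB1 (LinearMap.ext fun y => by rw [ha, e, one_smul]; rfl)) fun y => ?_
        rw [← Submodule.projection_add_projection_eq_self hpq y, map_add, smul_add]
        have h1 : g ((Submodule.projection p q hpq y) : V) ∈ p := hp (Submodule.coe_mem (πp y))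
        have h2 : g ((Submodule.projection q p hpq.symm y) : V) -
            a • ((Submodule.projection q p hpq.symm y) : V) ∈ p := by
          show g (πq y : V) - a • (πq y : V) ∈ p
          rw [hgq, ha, Submodule.coe_smul, add_sub_cancel_right]
          exact Submodule.coe_mem _
        have h3 : a • ((Submodule.projection p q hpq y) : V) ∈ p :=
          p.smul_mem a (Submodule.coe_mem (πp y))
        have := p.add_mem (p.sub_mem h1 h3) h2
        convert this using 1
        abel
      exact reg_block hK hpq hp1 (by omega) (g.restrict hp) B C hA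
        (ih _ (by omega) B rfl (by omega) hdB hB) (fun x => rfl) hgq
    by_cases hfix : ∃ e, e ≠ 0 ∧ g e = e
    · obtain ⟨e, he, hge⟩ := hfix
      have hp : (K ∙ e) ≤ (K ∙ e).comap g := by
        rw [Submodule.span_singleton_le_iff_mem, Submodule.mem_comap, hge]
        exact Submodule.mem_span_singleton_self e
      have hpf := finrank_span_singleton (K := K) he
      have hA1 : g.restrict hp = 1 := LinearMap.ext fun w => by
        obtain ⟨t, ht⟩ := Submodule.mem_span_singleton.1 w.2
        rw [Module.End.one_apply]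
        refine Subtype.ext ?_
        show g (w : V) = w
        rw [← ht, map_smul, hge]
      by_cases hbad : ∃ a : K, a ≠ 1 ∧ ∀ y, g y - a • y ∈ K ∙ e
      · obtain ⟨a, ha, hline⟩ := hbad
        refine of_ok hK hdet (by omega) (Or.inl (isR_of_line ha hline ?_))
        rintro ⟨b, hb⟩
        have hb1 : b = 1 := by
          have := hb e
          rw [hge] at this
          exact smul_left_injective K he (by simpa using this.symm)
        rcases hg with hg | hg
        · obtain ⟨q, hq⟩ := Submodule.exists_isCompl (K ∙ e)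
          have hfr := Submodule.finrank_add_eq_of_isCompl hq
          obtain ⟨y, hy, hy0⟩ : ∃ y ∈ q, y ≠ 0 := q.ne_bot_iff.1 fun e0 => by
            rw [e0, finrank_bot] at hfr
            omega
          have hm := hline y
          rw [hg, Module.End.one_apply, show y - a • y = (1 - a) • y by module,
            Submodule.smul_mem_iff _ (sub_ne_zero.2 (Ne.symm ha))] at hm
          exact hy0 (Submodule.disjoint_def.1 hq.disjoint y hm hy)
        · exact hg ⟨b, hb⟩
      · push_neg at hbad
        refine split _ hp (by omega) (by omega) (by rw [hA1, map_one]) ?_ fun a ha h => ?_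
        · exact ih 1 (by omega) _ hpf le_rfl (by rw [hA1, map_one]) (Or.inl hA1)
        · obtain ⟨y, hy⟩ := hbad a ha
          exact hy (h y)
    · push_neg at hfix
      have hnofix : NoFix g := fun y hy => by
        by_contra h0
        exact hfix y h0 hy
      have hns : ¬ IsScal g := hg.resolve_left fun e => by
        obtain ⟨y, hy⟩ := exists_ne (0 : V)
        exact hfix y hy (by rw [e]; rfl)
      by_cases hh : n = 2 ∨ ¬ IsHScal g
      · exact of_ok hK hdet (by omega) (Or.inr ⟨hnofix, hns, fun h3 => hh.resolve_left (by omega)⟩)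
      push_neg at hh
      obtain ⟨hn2, σ, hσ⟩ := hh
      by_cases hR : IsR g
      · exact of_ok hK hdet (by omega) (Or.inl hR)
      obtain ⟨v, hv, hgv⟩ := exists_noneigen hns
      obtain ⟨p, hpdef⟩ : ∃ p, p = Submodule.span K ({v, g v} : Set V) := ⟨_, rfl⟩
      have m1 : v ∈ p := hpdef ▸ Submodule.subset_span (by simp)
      have m2 : g v ∈ p := hpdef ▸ Submodule.subset_span (by simp)
      have hggv : g (g v) = σ • g v - v := by linear_combination (norm := module) hσ v
      have hp : p ≤ p.comap g := by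
        conv_lhs => rw [hpdef]
        rw [Submodule.span_le]
        rintro z (rfl | rfl)
        · exact m2
        · show g (g v) ∈ p
          rw [hggv]
          exact p.sub_mem (p.smul_mem σ m2) m1
      have hli : LinearIndependent K ![(⟨v, m1⟩ : p), ⟨g v, m2⟩] := by
        rw [LinearIndependent.pair_iff]
        intro s t e
        exact pair_indep hv hgv (congrArg Subtype.val e)
      have hpf : finrank K p = 2 := by
        refine le_antisymm ?_ (by simpa using hli.fintype_card_le_finrank)
        classical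
        rw [hpdef]
        refine (finrank_span_le_card (R := K) ({v, g v} : Set V)).trans ?_
        exact (Finset.card_le_card (t := {v, g v}) (by simp)).trans Finset.card_le_two
      have hdA : LinearMap.det (g.restrict hp) = 1 := by
        let b := basisOfLinearIndependentOfCardEqFinrank hli (by simp [hpf])
        have hb : (b : Fin 2 → p) = ![⟨v, m1⟩, ⟨g v, m2⟩] := coe_basisOfLinearIndependentOfCardEqFinrank _ _
        rw [← LinearMap.det_toMatrix b, Matrix.det_fin_two]
        have e0 : g.restrict hp (b 0) = b 1 := by rw [hb]; rfl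
        have e1 : g.restrict hp (b 1) = (-1 : K) • b 0 + σ • b 1 := by
          rw [hb]; apply Subtype.ext
          show g (g v) = (-1 : K) • v + σ • g v
          rw [hggv]; module
        simp [LinearMap.toMatrix_apply, e0, e1]
      have hAfix : NoFix (g.restrict hp) := fun w hw => Subtype.ext (hnofix _ (congrArg Subtype.val hw))
      have hAns : ¬ IsScal (g.restrict hp) := fun ⟨a, ha⟩ =>
        hgv (Submodule.mem_span_singleton.2 ⟨a, (congrArg Subtype.val (ha ⟨v, m1⟩)).symm⟩)
      refine split p hp (by omega) (by omega) hdA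
        (of_ok hK hdA (by omega) (Or.inr ⟨hAfix, hAns, fun h3 => absurd h3 (by omega)⟩)) fun a ha1 hline => ?_
      -- the range of `g - a` consists of eigenvectors
      obtain ⟨x, hxp⟩ : ∃ x, x ∉ p := by
        by_contra hall
        push_neg at hall
        rw [show p = ⊤ from top_le_iff.1 fun y _ => hall y, finrank_top] at hpf
        omega
      have hroot : a * a - σ * a + 1 = 0 := by
        have hx1 := hline x
        have hx2 : g (g x - a • x) ∈ p := hp hx1
        rw [map_sub, map_smul] at hx2
        have hm : (a * a - σ * a + 1) • x ∈ p := by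
          have := p.add_mem hx2 (p.smul_mem (a - σ) hx1)
          have e : g (g x) = σ • g x - x := by linear_combination (norm := module) hσ x
          rw [e] at this
          have h := p.neg_mem this
          convert h using 1
          module
        exact by_contra fun h => hxp ((Submodule.smul_mem_iff _ h).1 hm)
      apply hR
      obtain ⟨S, hS⟩ : ∃ S, S = LinearMap.range (g - a • 1) := ⟨_, rfl⟩
      have hSp : S ≤ p := by
        rw [hS]
        rintro _ ⟨y, rfl⟩
        simpa using hline y
      have hSne : S ≠ p := fun e => by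
        have hv' : v ∈ S := e ▸ m1
        rw [hS] at hv'
        obtain ⟨y, hy⟩ := hv'
        simp only [LinearMap.sub_apply, LinearMap.smul_apply, Module.End.one_apply] at hy
        refine hgv (Submodule.mem_span_singleton.2 ⟨σ - a, ?_⟩)
        rw [← hy, map_sub, map_smul, show g (g y) = σ • g y - y by linear_combination (norm := module) hσ y,
          smul_sub, smul_smul, show (σ - a) * a = 1 by linear_combination -hroot, one_smul]
        module
      have hS1 : finrank K S ≤ 1 := by
        have := Submodule.finrank_lt_finrank_of_lt (lt_of_le_of_ne hSp hSne)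
        omega
      obtain ⟨z, hz⟩ := (S.finrank_le_one_iff_isPrincipal.1 hS1).1
      exact isR_of_line ha1 (fun y => by rw [← hz, hS]; exact ⟨y, by simp⟩) hns

/-- Lev's theorem for matrices. -/
theorem matrix_two_conj (hK : 4 ≤ Cardinal.mk K) {n : ℕ} (hn : 1 ≤ n) (J g : GL (Fin n) K)
    (hJ : ∀ i j : Fin n, (J : Matrix (Fin n) (Fin n) K) i j =
      if i = j then 1 else if j.val = i.val + 1 then 1 else 0)
    (hg : ¬ ∃ c : K, (g : Matrix (Fin n) (Fin n) K) = c • (1 : Matrix (Fin n) (Fin n) K))
    (hdet : (g : Matrix (Fin n) (Fin n) K).det = 1) :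
    ∃ x y : GL (Fin n) K, g = (x * J * x⁻¹) * (y * J * y⁻¹) := by
  have hns : ¬ IsScal (Matrix.toLin' (g : Matrix (Fin n) (Fin n) K)) := fun ⟨a, ha⟩ => hg ⟨a, by
    apply Matrix.toLin'.injective
    refine LinearMap.ext fun y => ?_
    rw [ha, map_smul, Matrix.toLin'_one]
    rfl⟩
  obtain ⟨X, Y, hX, hY, hXY⟩ := two_regular hK n (Matrix.toLin' (g : Matrix (Fin n) (Fin n) K))
    (Module.finrank_fin_fun K) hn (by rw [LinearMap.det_toLin', hdet]) (Or.inr hns)
  obtain ⟨P, hP⟩ := conj_standard (X := LinearMap.toMatrix' X) hJ (by rwa [Matrix.toLin'_toMatrix'])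
  obtain ⟨Q, hQ⟩ := conj_standard (X := LinearMap.toMatrix' Y) hJ (by rwa [Matrix.toLin'_toMatrix'])
  refine ⟨P, Q, Units.ext ?_⟩
  simp only [Units.val_mul]
  rw [← hP, ← hQ, mul_assoc (LinearMap.toMatrix' X), Units.mul_inv, mul_one,
    mul_assoc (LinearMap.toMatrix' Y), Units.mul_inv, mul_one, ← LinearMap.toMatrix'_mul, hXY,
    LinearMap.toMatrix'_toLin']

end CfsgLib.KnownC.Lev
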