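import Mathlib
import Cfsg.Prelude.Def_Solvable
import Cfsg.Agent.Lib.Solvable.PCore
import Cfsg.Agent.Lib.Complement.FpfNilpotent

set_option autoImplicit false
set_option linter.unusedSectionVars false

/-!
When does `O_{p'}(A ∩ C(x))` vanish? Generic tools for the local balance statements.
-/

namespace CfsgLib.KnownC

open Subgroup

variable {G : Type*} [Group G]

/-- A witness `P` inside `N ∩ C(x)` that forces `O_{p'}(A ∩ C(x))` to be trivial whenever `N ≤ A`. -/
def HasCoreKiller (N : Subgroup G) (x : G) (p : ℕ) : Prop :=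
  ∃ P : Subgroup G, P ≤ N ∧ P ≤ centralizer {x} ∧
    (∀ a ∈ N ⊓ centralizer {x}, ∀ y ∈ P, a * y * a⁻¹ ∈ P) ∧
    (∀ Q : Subgroup G, Q ≤ P → (∀ a ∈ P, ∀ y ∈ Q, a * y * a⁻¹ ∈ Q) →
      (Nat.card Q).Coprime p → Q = ⊥) ∧
    centralizer (P : Set G) ⊓ centralizer {x} ≤ zpowers x

theorem HasCoreKiller.transport {N : Subgroup G} {p : ℕ} {s x : G} (e : G ≃* G) (hex : e x = s)
    (hN : ∀ y, e y ∈ N ↔ y ∈ N) (h : HasCoreKiller N s p) : HasCoreKiller N x p := by
  obtain ⟨P, hPN, hPx, hnorm, hP, hC⟩ := h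
  have hcent : ∀ y, y ∈ centralizer {x} ↔ e y ∈ centralizer {s} := fun y => by
    rw [mem_centralizer_singleton_iff, mem_centralizer_singleton_iff, ← hex, ← map_mul, ← map_mul,
      e.injective.eq_iff]
  refine ⟨P.comap e.toMonoidHom, fun y hy => (hN y).1 (hPN hy), fun y hy => (hcent y).2 (hPx hy),
    fun a ha y hy => ?_, fun Q hQ hQn hQc => ?_, fun y hy => ?_⟩
  · show e (a * y * a⁻¹) ∈ P
    rw [map_mul, map_mul, map_inv]
    exact hnorm (e a) ⟨(hN a).2 ha.1, (hcent a).1 ha.2⟩ _ hy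
  · have h1 : Q.map e.toMonoidHom = ⊥ := by
      refine hP _ (by rintro _ ⟨q, hq, rfl⟩; exact hQ hq) ?_ ?_
      · rintro a ha _ ⟨q, hq, rfl⟩
        refine ⟨e.symm a * q * (e.symm a)⁻¹,
          hQn (e.symm a) (show e (e.symm a) ∈ P by rwa [e.apply_symm_apply]) q hq, ?_⟩
        show e (e.symm a * q * (e.symm a)⁻¹) = a * e q * a⁻¹
        rw [map_mul, map_mul, map_inv, e.apply_symm_apply]
      · rw [← Nat.card_congr (Q.equivMapOfInjective e.toMonoidHom e.injective).toEquiv]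
        exact hQc
    exact (Subgroup.map_eq_bot_iff_of_injective _ e.injective).1 h1
  · have h1 : e y ∈ centralizer (P : Set G) := Subgroup.mem_centralizer_iff.2 fun z hz => by
      have h2 := Subgroup.mem_centralizer_iff.1 hy.1 (e.symm z)
        (show e (e.symm z) ∈ P by rwa [e.apply_symm_apply])
      have h3 := congrArg e h2
      rwa [map_mul, map_mul, e.apply_symm_apply] at h3
    obtain ⟨k, hk⟩ := hC ⟨h1, (hcent y).1 hy.2⟩
    exact ⟨k, e.injective (by
      show e (x ^ k) = e y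
      rw [map_zpow, hex]; exact hk)⟩

theorem eq_bot_of_le_zpowers [Finite G] {p : ℕ} (hp : p.Prime) {x : G} (hx : orderOf x = p)
    {Z : Subgroup G} (hZ : Z ≤ zpowers x) (hc : (Nat.card Z).Coprime p) : Z = ⊥ := by
  have h1 : Nat.card Z ∣ p := by
    rw [← hx, ← Nat.card_zpowers]
    exact Subgroup.card_dvd_of_le hZ
  rcases hp.eq_one_or_self_of_dvd _ h1 with h | h
  · exact Subgroup.eq_bot_of_card_eq _ h
  · rw [h] at hc
    exact absurd ((Nat.coprime_self p).1 hc) hp.one_lt.ne'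

/-- The killer kills. -/
theorem HasCoreKiller.pPrimeCore_eq_bot [Finite G] {N : Subgroup G} [N.Normal] {p : ℕ}
    (hp : p.Prime) {x : G} (hx : orderOf x = p) (h : HasCoreKiller N x p) (A : Subgroup G)
    (hNA : N ≤ A) : Cfsg.pPrimeCore p ↥(A ⊓ centralizer {x}) = ⊥ := by
  obtain ⟨P, hPN, hPx, hnorm, hP, hC⟩ := h
  haveI := CfsgLib.Solvable.pPrimeCore_normal p ↥(A ⊓ centralizer {x})
  set X : Subgroup G := (Cfsg.pPrimeCore p ↥(A ⊓ centralizer {x})).map (A ⊓ centralizer {x}).subtype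
    with hX
  have hXle : X ≤ A ⊓ centralizer {x} := Subgroup.map_subtype_le _
  have hXn : ∀ a ∈ A ⊓ centralizer {x}, ∀ y ∈ X, a * y * a⁻¹ ∈ X := by
    rintro a ha _ ⟨y, hy, rfl⟩
    exact ⟨⟨a, ha⟩ * y * ⟨a, ha⟩⁻¹,
      (CfsgLib.Solvable.pPrimeCore_normal p _).conj_mem y hy ⟨a, ha⟩, rfl⟩
  have hXc : (Nat.card X).Coprime p := by
    rw [hX, Subgroup.card_subtype]
    exact CfsgLib.Solvable.pPrimeCore_coprime p
  have hPC : P ≤ A ⊓ centralizer {x} := le_inf (hPN.trans hNA) hPx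
  have hPL : P ≤ N ⊓ centralizer {x} := le_inf hPN hPx
  set Z : Subgroup G := X ⊓ (N ⊓ centralizer {x})
  have hZc : (Nat.card Z).Coprime p := hXc.coprime_dvd_left (Subgroup.card_dvd_of_le inf_le_left)
  have hQ : Z ⊓ P = ⊥ := by
    refine hP _ inf_le_right (fun a ha y hy => ⟨⟨hXn a (hPC ha) y hy.1.1, ?_⟩, ?_⟩)
      (hZc.coprime_dvd_left (Subgroup.card_dvd_of_le inf_le_left))
    · exact (N ⊓ centralizer {x}).mul_mem ((N ⊓ centralizer {x}).mul_mem (hPL ha) hy.1.2)
        ((N ⊓ centralizer {x}).inv_mem (hPL ha))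
    · exact P.mul_mem (P.mul_mem ha hy.2) (P.inv_mem ha)
  have hZ : Z = ⊥ := by
    refine eq_bot_of_le_zpowers hp hx (fun z hz => hC ⟨?_, hz.2.2⟩) hZc
    refine Subgroup.mem_centralizer_iff.2 fun y hy => ?_
    have h1 : z * y * z⁻¹ * y⁻¹ ∈ Z ⊓ P := by
      refine ⟨?_, P.mul_mem (hnorm z hz.2 y hy) (P.inv_mem hy)⟩
      have h2 : y * z⁻¹ * y⁻¹ ∈ Z :=
        ⟨hXn y (hPC hy) _ (X.inv_mem hz.1), (N ⊓ centralizer {x}).mul_mem
          ((N ⊓ centralizer {x}).mul_mem (hPL hy) ((N ⊓ centralizer {x}).inv_mem hz.2))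
          ((N ⊓ centralizer {x}).inv_mem (hPL hy))⟩
      have := Z.mul_mem hz h2
      rwa [← mul_assoc, ← mul_assoc] at this
    rw [hQ, Subgroup.mem_bot, mul_inv_eq_one, mul_inv_eq_iff_eq_mul] at h1
    exact h1.symm
  have hXb : X = ⊥ := by
    refine eq_bot_of_le_zpowers hp hx (fun a ha => hC ⟨?_, (hXle ha).2⟩) hXc
    refine Subgroup.mem_centralizer_iff.2 fun y hy => ?_
    have h1 : a * y * a⁻¹ * y⁻¹ ∈ Z := by
      refine ⟨?_, ?_, ?_⟩
      · have := X.mul_mem ha (hXn y (hPC hy) _ (X.inv_mem ha))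
        rwa [← mul_assoc, ← mul_assoc] at this
      · exact N.mul_mem ((inferInstance : N.Normal).conj_mem y (hPN hy) a) (N.inv_mem (hPN hy))
      · have h2 := (hXle ha).2
        exact (centralizer {x}).mul_mem ((centralizer {x}).mul_mem ((centralizer {x}).mul_mem h2 (hPx hy))
          ((centralizer {x}).inv_mem h2)) ((centralizer {x}).inv_mem (hPx hy))
    rw [hZ, Subgroup.mem_bot, mul_inv_eq_one, mul_inv_eq_iff_eq_mul] at h1
    exact h1.symm
  rw [hX, Subgroup.map_eq_bot_iff_of_injective _ (Subgroup.subtype_injective _)] at hXb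
  exact hXb

variable {K : Type*} [Group K]

theorem inn_normal : (MulAut.conj : K →* MulAut K).range.Normal := by
  refine ⟨fun y hy a => ?_⟩
  obtain ⟨k, rfl⟩ := hy
  refine ⟨a k, MulEquiv.ext fun z => ?_⟩
  simp [MulAut.mul_apply]

/-- If the fixed points of an automorphism of prime order `p` on a nonabelian simple group have
order prime to `p`, they give a nontrivial normal `p'`-subgroup of its centraliser. -/
theorem pPrimeCore_inf_centralizer_ne_bot [Finite K] [IsSimpleGroup K]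
    (hinj : Function.Injective (MulAut.conj : K →* MulAut K)) (A : Subgroup (MulAut K))
    (hinn : ∀ k, MulAut.conj k ∈ A) {p : ℕ} (hp : p.Prime) (x : MulAut K) (hx : orderOf x = p)
    (hco : Nat.Coprime p (Nat.card ↥(MonoidHom.eqLocus x.toMonoidHom (MonoidHom.id K)))) :
    Cfsg.pPrimeCore p ↥(A ⊓ centralizer {x}) ≠ ⊥ := by
  obtain ⟨k, hk, hk1⟩ : ∃ k : K, x k = k ∧ k ≠ 1 := by
    by_contra hcon
    have hnil : Group.IsNilpotent K := CfsgLib.Complement.isNilpotent_of_fpf K x p hp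
      (by rw [← hx, pow_orderOf_eq_one]) fun z hz => by
        by_contra hz1; exact hcon ⟨z, hz, hz1⟩
    have hcomm : ∀ a b : K, a * b = b * a := IsSimpleGroup.comm_iff_isSolvable.2 inferInstance
    obtain ⟨a, ha⟩ := exists_ne (1 : K)
    exact ha (hinj (MulEquiv.ext fun z => by simp [hcomm a z]))
  have hcomm : ∀ z : ↥(MonoidHom.eqLocus x.toMonoidHom (MonoidHom.id K)),
      MulAut.conj (z : K) ∈ A ⊓ centralizer {x} := fun z =>
    ⟨hinn _, mem_centralizer_singleton_iff.2 (MulEquiv.ext fun w => by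
      have hz : x (z : K) = z := z.2
      simp [MulAut.mul_apply, hz])⟩
  let f : ↥(MonoidHom.eqLocus x.toMonoidHom (MonoidHom.id K)) →* ↥(A ⊓ centralizer {x}) :=
    ((MulAut.conj).comp (MonoidHom.eqLocus x.toMonoidHom (MonoidHom.id K)).subtype).codRestrict _ hcomm
  have hn : f.range.Normal := by
    refine ⟨fun y hy a => ?_⟩
    obtain ⟨z, rfl⟩ := hy
    have ha : a.1 * x = x * a.1 := mem_centralizer_singleton_iff.1 a.2.2
    have hmem : a.1 (z : K) ∈ MonoidHom.eqLocus x.toMonoidHom (MonoidHom.id K) := by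
      show x (a.1 (z : K)) = a.1 (z : K)
      have h1 : (x * a.1) (z : K) = (a.1 * x) (z : K) := by rw [ha]
      rw [MulAut.mul_apply, MulAut.mul_apply, show x (z : K) = z from z.2] at h1
      exact h1
    refine ⟨⟨_, hmem⟩, Subtype.ext ?_⟩
    show MulAut.conj (a.1 (z : K)) = a.1 * MulAut.conj (z : K) * a.1⁻¹
    refine MulEquiv.ext fun w => ?_
    simp [MulAut.mul_apply]
  intro h
  have hle := CfsgLib.Solvable.le_pPrimeCore hn
    ((hco.symm).coprime_dvd_left (Subgroup.card_range_dvd f))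
  rw [h, le_bot_iff, MonoidHom.range_eq_bot_iff] at hle
  have := congrArg Subtype.val (DFunLike.congr_fun hle ⟨k, hk⟩)
  exact hk1 (hinj (this.trans (map_one MulAut.conj).symm))

end CfsgLib.KnownC
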