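import Mathlib
import Cfsg.Agent.Lib.KnownC.LocalBalanceTools

set_option autoImplicit false
set_option linter.unusedSectionVars false

/-!
The local balance criterion from a killer for each fixed point of order `p`.
-/

namespace CfsgLib.KnownC

open Subgroup

variable {K : Type*} [Group K]

/-- `O_{p'}(C_A(x))` is nontrivial exactly when `p` is prime to the number of fixed points, once every
fixed element of order `p` gives a killer. -/
theorem pPrimeCore_ne_bot_iff [Finite K] [IsSimpleGroup K]
    (hinj : Function.Injective (MulAut.conj : K →* MulAut K)) (A : Subgroup (MulAut K))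
    (hinn : ∀ k, MulAut.conj k ∈ A) {p : ℕ} (hp : p.Prime) (x : MulAut K) (hx : orderOf x = p)
    (hkill : ∀ k : K, orderOf k = p → x k = k →
      HasCoreKiller (MulAut.conj : K →* MulAut K).range x p) :
    Cfsg.pPrimeCore p ↥(A ⊓ centralizer {x}) ≠ ⊥ ↔
      Nat.Coprime p (Nat.card ↥(MonoidHom.eqLocus x.toMonoidHom (MonoidHom.id K))) := by
  haveI : Fact p.Prime := ⟨hp⟩
  haveI : Finite (MulAut K) :=
    Finite.of_injective (fun e : MulAut K => (e : K → K)) DFunLike.coe_injective
  refine ⟨fun hne => ?_, pPrimeCore_inf_centralizer_ne_bot hinj A hinn hp x hx⟩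
  by_contra hco
  rw [hp.coprime_iff_not_dvd, not_not] at hco
  obtain ⟨⟨k, hkfix⟩, hk⟩ := exists_prime_orderOf_dvd_card' p hco
  haveI := inn_normal (K := K)
  exact hne ((hkill k ((Subgroup.orderOf_mk k hkfix).symm.trans hk) hkfix).pPrimeCore_eq_bot hp hx A
    (by rintro _ ⟨k, rfl⟩; exact hinn k))

/-- Killers are transported by conjugation. -/
theorem hasCoreKiller_conj {p : ℕ} (γ s : MulAut K)
    (h : HasCoreKiller (MulAut.conj : K →* MulAut K).range s p) :
    HasCoreKiller (MulAut.conj : K →* MulAut K).range (γ * s * γ⁻¹) p := by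
  refine h.transport (MulAut.conj γ⁻¹) (by rw [MulAut.conj_apply]; group) fun y => ?_
  constructor
  · intro h
    have h2 := (inn_normal (K := K)).conj_mem _ h γ
    rwa [MulAut.conj_apply, inv_inv, show γ * (γ⁻¹ * y * γ) * γ⁻¹ = y by group] at h2
  · intro h
    exact (inn_normal (K := K)).conj_mem _ h γ⁻¹

/-- A fixed point of a conjugate gives one of the original. -/
theorem fixed_of_conj (γ s : MulAut K) {k : K} (h : (γ * s * γ⁻¹) k = k) : s (γ⁻¹ k) = γ⁻¹ k := by
  rw [MulAut.mul_apply, MulAut.mul_apply] at h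
  have h2 := congrArg (γ⁻¹ : MulAut K) h
  rwa [MulAut.inv_apply_self] at h2

end CfsgLib.KnownC
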