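import Mathlib

set_option autoImplicit false
set_option linter.unusedSectionVars false

/-!
A semilinear map commuting with enough rational matrices is a scalar and fixes the subfield.
-/

namespace CfsgLib.KnownC

open Matrix

variable {F F₀ : Type*} [Field F] [Field F₀] {κ : Type*} [Fintype κ] [DecidableEq κ] [Nonempty κ]

/-- If the rational matrices commuting with `v ↦ g ρ(v)` generate all rational matrices as a ring,
`ρ` fixes the subfield and `g` is a scalar. -/
theorem semilinear_fix_of_ring (ι : F₀ →+* F) (ρ : F ≃+* F) (g : Matrix κ κ F) (hg : IsUnit g)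
    (S : Set (Matrix κ κ F₀)) (hS : Subring.closure S = ⊤)
    (h : ∀ M ∈ S, g * (M.map ι).map ρ = M.map ι * g) :
    (∀ t, ρ (ι t) = ι t) ∧ ∃ c : Fˣ, g = (c : F) • 1 := by
  let f₁ : Matrix κ κ F₀ →+* Matrix κ κ F := ((ρ : F →+* F).comp ι).mapMatrix
  let f₂ : Matrix κ κ F₀ →+* Matrix κ κ F := ι.mapMatrix
  have hall : ∀ M, g * f₁ M = f₂ M * g := by
    intro M
    have hM : M ∈ Subring.closure S := hS ▸ Subring.mem_top M
    induction hM using Subring.closure_induction with
    | mem x hx =>
      have := h x hx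
      rwa [Matrix.map_map] at this
    | zero => simp
    | one => simp
    | add x y _ _ hx hy => rw [map_add, map_add, mul_add, add_mul, hx, hy]
    | neg x _ hx => rw [map_neg, map_neg, mul_neg, neg_mul, hx]
    | mul x y _ _ hx hy => rw [map_mul, map_mul, ← mul_assoc, hx, mul_assoc, hy, mul_assoc]
  have hfix : ∀ t, ρ (ι t) = ι t := by
    intro t
    have h1 := hall (t • 1)
    have e1 : f₁ (t • 1) = ρ (ι t) • (1 : Matrix κ κ F) := by
      ext i j
      by_cases hij : i = j <;> simp [f₁, hij, Matrix.one_apply]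
    have e2 : f₂ (t • 1) = ι t • (1 : Matrix κ κ F) := by
      ext i j
      by_cases hij : i = j <;> simp [f₂, hij, Matrix.one_apply]
    rw [e1, e2, mul_smul_comm, mul_one, smul_mul, one_mul] at h1
    have h2 : (ρ (ι t) - ι t) • g = 0 := by rw [sub_smul, h1, sub_self]
    exact sub_eq_zero.1 ((smul_eq_zero.1 h2).resolve_right hg.ne_zero)
  refine ⟨hfix, ?_⟩
  have hcomm : Pairwise fun i j => Commute (Matrix.single i j (1 : F)) g := fun i j _ => by
    have h1 := hall (Matrix.single i j 1)
    have e1 : f₁ (Matrix.single i j 1) = Matrix.single i j (1 : F) := by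
      ext a b
      by_cases hab : i = a ∧ j = b <;> simp [f₁, Matrix.single_apply, hab]
    have e2 : f₂ (Matrix.single i j 1) = Matrix.single i j (1 : F) := by
      ext a b
      by_cases hab : i = a ∧ j = b <;> simp [f₂, Matrix.single_apply, hab]
    rw [e1, e2] at h1
    exact h1.symm
  obtain ⟨c, hc⟩ := Matrix.mem_range_scalar_of_commute_single hcomm
  have hc0 : c ≠ 0 := by
    rintro rfl
    exact hg.ne_zero (by rw [← hc, map_zero])
  exact ⟨Units.mk0 c hc0, by rw [← hc, scalar_apply, Units.val_mk0, smul_one_eq_diagonal]⟩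

/-- A semilinear conjugate of a unipotent is not a proper multiple of a unipotent. -/
theorem scalar_one_of_unipotent {g A B : Matrix κ κ F} {c : F} (hg : IsUnit g)
    (hA : IsNilpotent (A - 1)) (hB : IsNilpotent (B - 1)) (h : g * A = c • (B * g)) : c = 1 := by
  obtain ⟨u, rfl⟩ := hg
  have h2 : IsNilpotent (c • B - 1) := by
    have e : c • B - 1 = u.1 * (A - 1) * (u⁻¹).1 := by
      rw [mul_sub, mul_one, sub_mul, h, smul_mul, Matrix.mul_assoc, Units.mul_inv, Matrix.mul_one]
    obtain ⟨k, hk⟩ := hA
    refine ⟨k, ?_⟩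
    rw [e, Units.conj_pow, hk, mul_zero, zero_mul]
  have h3 : IsNilpotent ((c - 1) • (1 : Matrix κ κ F)) := by
    have e : (c - 1) • (1 : Matrix κ κ F) = (c • B - 1) - c • (B - 1) := by
      rw [sub_smul, one_smul, smul_sub]; abel
    rw [e]
    refine Commute.isNilpotent_sub ?_ h2 (hB.smul c)
    exact ((((Commute.refl B).sub_right (Commute.one_right B)).smul_left c).sub_left
      (Commute.one_left _)).smul_right c
  obtain ⟨k, hk⟩ := h3
  rw [smul_pow, one_pow] at hk
  have h4 := (smul_eq_zero.1 hk).resolve_right one_ne_zero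
  exact sub_eq_zero.1 (eq_zero_of_pow_eq_zero h4)

/-- The square-zero matrices of the elementary transvections generate all matrices. -/
theorem ring_top_offdiag [Nontrivial κ] :
    Subring.closure {M : Matrix κ κ F₀ | ∃ i j, i ≠ j ∧ ∃ t, M = Matrix.single i j t} = ⊤ := by
  refine eq_top_iff.2 fun M _ => ?_
  rw [Matrix.matrix_eq_sum_single M]
  refine sum_mem fun i _ => sum_mem fun j _ => ?_
  rcases eq_or_ne i j with rfl | hij
  · obtain ⟨l, hl⟩ := exists_ne i
    have e : Matrix.single i i (M i i) = Matrix.single i l (M i i) * Matrix.single l i 1 := by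
      rw [Matrix.single_mul_single_same, mul_one]
    rw [e]
    exact mul_mem (Subring.subset_closure ⟨i, l, hl.symm, _, rfl⟩)
      (Subring.subset_closure ⟨l, i, hl, _, rfl⟩)
  · exact Subring.subset_closure ⟨i, j, hij, _, rfl⟩

/-- A subring with the multiples of one rank-one matrix and a rank-one matrix through each vector
of two spanning families, all linked to the first, is everything. -/
theorem ring_top_rank_one {α : Type*} (R : Subring (Matrix κ κ F₀)) (e φ : κ → F₀)
    (he : ∀ t : F₀, t • vecMulVec e φ ∈ R) (x ξ : α → κ → F₀)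
    (hR : ∀ a, ∃ s : F₀, s ≠ 0 ∧ s • vecMulVec (x a) (ξ a) ∈ R)
    (hxe : ∀ a, ξ a ⬝ᵥ e ≠ 0) (hφx : ∀ a, φ ⬝ᵥ x a ≠ 0)
    (hx : Submodule.span F₀ (Set.range x) = ⊤) (hξ : Submodule.span F₀ (Set.range ξ) = ⊤) : R = ⊤ := by
  have hpair : ∀ a b (t : F₀), t • vecMulVec (x a) (ξ b) ∈ R := by
    intro a b t
    obtain ⟨s, hs, hsR⟩ := hR a
    obtain ⟨s', hs', hsR'⟩ := hR b
    have := mul_mem (mul_mem hsR (he (t / (s * s' * (ξ a ⬝ᵥ e) * (φ ⬝ᵥ x b))))) hsR'
    simp only [Matrix.smul_mul, Matrix.mul_smul, vecMulVec_mul_vecMulVec, vecMulVec_smul, smul_smul]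
      at this
    convert this using 2
    have := hxe a
    have := hφx b
    field_simp
  have hleft : ∀ (v : κ → F₀) b, vecMulVec v (ξ b) ∈ R := by
    intro v b
    have hv : v ∈ Submodule.span F₀ (Set.range x) := hx ▸ Submodule.mem_top
    suffices ∀ t : F₀, t • vecMulVec v (ξ b) ∈ R by simpa using this 1
    induction hv using Submodule.span_induction with
    | mem y hy => obtain ⟨a, rfl⟩ := hy; exact hpair a b
    | zero => intro t; simp
    | add y z _ _ hy hz => intro t; rw [add_vecMulVec, smul_add]; exact add_mem (hy t) (hz t)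
    | smul s y _ hy => intro t; rw [smul_vecMulVec, smul_smul]; exact hy _
  have hboth : ∀ (v w : κ → F₀), vecMulVec v w ∈ R := by
    intro v w
    have hw : w ∈ Submodule.span F₀ (Set.range ξ) := hξ ▸ Submodule.mem_top
    induction hw using Submodule.span_induction generalizing v with
    | mem y hy => obtain ⟨b, rfl⟩ := hy; exact hleft v b
    | zero => simp
    | add y z _ _ hy hz => rw [vecMulVec_add]; exact add_mem (hy v) (hz v)
    | smul s y _ hy =>
      rw [vecMulVec_smul, ← smul_vecMulVec]
      exact hy _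
  refine eq_top_iff.2 fun M _ => ?_
  rw [Matrix.matrix_eq_sum_single M]
  refine sum_mem fun i _ => sum_mem fun j _ => ?_
  rw [show Matrix.single i j (M i j) = vecMulVec (Pi.single i (M i j)) (Pi.single j 1) by
    ext a b; by_cases ha : a = i <;> by_cases hb : b = j <;> simp [vecMulVec, ha, hb, Ne.symm]]
  exact hboth _ _

end CfsgLib.KnownC
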