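import Mathlib
import Cfsg.Agent.Lib.KnownC.LocalBalanceIff
import Cfsg.Agent.Lib.KnownC.LocalBalanceRing

set_option autoImplicit false
set_option linter.unusedSectionVars false

/-!
Building core killers from homomorphisms, and the semilinear maps fixing enough unipotents.
-/

namespace CfsgLib.KnownC

open Subgroup

variable {K G : Type*} [Group K] [Group G]

/-- A killer from a homomorphism whose normal subgroups of order prime to `p` are central. -/
theorem hasCoreKiller_of_hom [Finite (MulAut K)] {N : Subgroup (MulAut K)} {x : MulAut K} {p : ℕ}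
    (hp : p.Prime) (hx : orderOf x = p) (f : G →* MulAut K) (hN : f.range ≤ N)
    (hc : f.range ≤ centralizer {x})
    (hnorm : ∀ a ∈ N ⊓ centralizer {x}, ∀ g : G, a * f g * a⁻¹ ∈ f.range)
    (hQ : ∀ R : Subgroup G, R.Normal → (Nat.card (R.map f)).Coprime p →
      ∀ r ∈ R, ∀ g, f r * f g = f g * f r)
    (hC : centralizer (f.range : Set (MulAut K)) ⊓ centralizer {x} ≤ zpowers x) :
    HasCoreKiller N x p := by
  refine ⟨f.range, hN, hc, ?_, fun Q hQP hQn hQc => ?_, hC⟩
  · rintro a ha _ ⟨g, rfl⟩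
    exact hnorm a ha g
  · have hn : (Q.comap f).Normal := ⟨fun z hz g => by
      show f (g * z * g⁻¹) ∈ Q
      rw [map_mul, map_mul, map_inv]
      exact hQn (f g) ⟨g, rfl⟩ _ hz⟩
    have hmap : (Q.comap f).map f = Q := Subgroup.map_comap_eq_self hQP
    refine eq_bot_of_le_zpowers hp hx (fun q hq => hC ⟨?_, hc (hQP hq)⟩) hQc
    obtain ⟨r, rfl⟩ := hQP hq
    refine Subgroup.mem_centralizer_iff.2 fun y hy => ?_
    obtain ⟨g, rfl⟩ := hy
    exact (hQ _ hn (by rw [hmap]; exact hQc) r hq g).symm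

/-- With a simple central quotient of order divisible by `p`, normal subgroups of order prime to `p`
are central. -/
theorem commute_of_simple_quotient [Finite G] [IsSimpleGroup (G ⧸ center G)] {p : ℕ} (hp : p.Prime)
    (f : G →* MulAut K) (hker : f.ker ≤ center G) (hdvd : p ∣ Nat.card (G ⧸ center G))
    (R : Subgroup G) (hR : R.Normal) (hc : (Nat.card (R.map f)).Coprime p) :
    ∀ r ∈ R, ∀ g, f r * f g = f g * f r := by
  intro r hr g
  haveI := hR
  obtain ⟨π, hπ⟩ : ∃ π : G →* G ⧸ center G, π = QuotientGroup.mk' (center G) := ⟨_, rfl⟩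
  have hsurj : Function.Surjective π := hπ ▸ QuotientGroup.mk'_surjective _
  have hn : (R.map π).Normal := hR.map π hsurj
  rcases hn.eq_bot_or_eq_top with h | h
  · have hz : r ∈ center G := by
      rw [Subgroup.map_eq_bot_iff, hπ, QuotientGroup.ker_mk'] at h
      exact h hr
    rw [← map_mul, ← map_mul, Subgroup.mem_center_iff.1 hz g]
  · exfalso
    have h1 : (f.comp R.subtype).range = R.map f := by
      rw [MonoidHom.range_comp, Subgroup.range_subtype]
    have h2 : (π.comp R.subtype).range = R.map π := by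
      rw [MonoidHom.range_comp, Subgroup.range_subtype]
    have h3 : Nat.card (R.map π) ∣ Nat.card (R.map f) := by
      rw [← h1, ← h2, ← Subgroup.index_ker, ← Subgroup.index_ker]
      refine Subgroup.index_dvd_of_le fun z hz => ?_
      show π z.1 = 1
      rw [hπ]
      exact (QuotientGroup.eq_one_iff _).2 (hker hz)
    rw [h, Subgroup.card_top] at h3
    exact hp.one_lt.ne' ((Nat.coprime_self p).1 (hc.coprime_dvd_left (hdvd.trans h3)))

/-- When the kernel is central of exponent two and there is no nontrivial odd normal subgroup, normal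
subgroups of odd image are central. -/
theorem commute_of_no_odd_normal [Finite G] (f : G →* MulAut K) (hker : f.ker ≤ center G)
    (hsq : ∀ z ∈ f.ker, z * z = 1)
    (hG : ∀ C : Subgroup G, C.Normal → Odd (Nat.card C) → C = ⊥)
    (R : Subgroup G) (hR : R.Normal) (hc : (Nat.card (R.map f)).Coprime 2) :
    ∀ r ∈ R, ∀ g, f r * f g = f g * f r := by
  haveI := hR
  obtain ⟨m, hm⟩ : ∃ m, m = Nat.card (R.map f) := ⟨_, rfl⟩
  have hmodd : Odd m := Nat.coprime_two_right.1 (hm ▸ hc)
  obtain ⟨R1, hR1⟩ : ∃ R1, R1 = (R.map f).comap f := ⟨_, rfl⟩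
  have hR1n : R1.Normal := by
    refine ⟨fun z hz g => ?_⟩
    rw [hR1] at hz ⊢
    obtain ⟨r, hr, hrz⟩ := hz
    refine ⟨g * r * g⁻¹, hR.conj_mem r hr g, ?_⟩
    rw [map_mul, map_mul, map_mul, map_mul, hrz]
  have hpow : ∀ z ∈ R1, z ^ m ∈ f.ker := by
    intro z hz
    rw [hR1] at hz
    rw [MonoidHom.mem_ker, map_pow]
    have h1 : orderOf (f z) ∣ m := by
      rw [hm, ← Subgroup.orderOf_mk _ (show f z ∈ R.map f from hz)]
      exact orderOf_dvd_natCard _
    exact orderOf_dvd_iff_pow_eq_one.1 h1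
  have hidx : (center ↥R1).index ∣ m := by
    have h2 : (f.comp R1.subtype).range = R.map f := by
      rw [MonoidHom.range_comp, Subgroup.range_subtype, hR1]
      exact Subgroup.map_comap_eq_self (Subgroup.map_le_range f R)
    rw [hm, ← h2, ← Subgroup.index_ker]
    refine Subgroup.index_dvd_of_le fun z hz => Subgroup.mem_center_iff.2 fun y => Subtype.ext ?_
    exact Subgroup.mem_center_iff.1 (hker hz) y.1
  obtain ⟨k, hk⟩ := hidx
  let φ : ↥R1 →* center ↥R1 := MonoidHom.mk' (fun z => MonoidHom.transferCenterPow ↥R1 z ^ k)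
    fun a b => by
      rw [map_mul]
      exact Commute.mul_pow (Subtype.ext (Subgroup.mem_center_iff.1 (MonoidHom.transferCenterPow ↥R1 b).2 _)) k
  have hφ : ∀ z : ↥R1, ((φ z : ↥R1) : G) = z.1 ^ m := fun z => by
    show (((MonoidHom.transferCenterPow ↥R1 z) ^ k : center ↥R1) : ↥R1).1 = _
    rw [SubgroupClass.coe_pow, SubgroupClass.coe_pow, MonoidHom.transferCenterPow_apply,
      SubgroupClass.coe_pow, ← pow_mul, ← hk]
  obtain ⟨C, hC⟩ : ∃ C, C = φ.ker.map R1.subtype := ⟨_, rfl⟩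
  have hmemC : ∀ z, z ∈ C ↔ z ∈ R1 ∧ z ^ m = 1 := fun z => by
    rw [hC]
    constructor
    · rintro ⟨w, hw, rfl⟩
      refine ⟨w.2, ?_⟩
      show w.1 ^ m = 1
      rw [← hφ, MonoidHom.mem_ker.1 hw]
      rfl
    · rintro ⟨h1, h2⟩
      refine ⟨⟨z, h1⟩, MonoidHom.mem_ker.2 ?_, rfl⟩
      refine Subtype.ext (Subtype.ext ?_)
      rw [hφ]
      exact h2
  have hCn : C.Normal := ⟨fun z hz g => by
    rw [hmemC] at hz ⊢
    exact ⟨hR1n.conj_mem z hz.1 g, by rw [conj_pow, hz.2, mul_one, mul_inv_cancel]⟩⟩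
  have hCodd : Odd (Nat.card C) := by
    rw [← Nat.not_even_iff_odd, even_iff_two_dvd]
    intro h
    obtain ⟨⟨a, ha⟩, ho⟩ := exists_prime_orderOf_dvd_card' (G := ↥C) 2 h
    rw [Subgroup.orderOf_mk] at ho
    have h1 : 2 ∣ m := ho ▸ orderOf_dvd_of_pow_eq_one ((hmemC a).1 ha).2
    exact (Nat.not_even_iff_odd.2 hmodd) (even_iff_two_dvd.2 h1)
  have hbot := hG C hCn hCodd
  intro r hr g
  have hr1 : r ∈ R1 := by rw [hR1]; exact ⟨r, hr, rfl⟩
  obtain ⟨z, hz⟩ : ∃ z, z = r ^ m := ⟨_, rfl⟩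
  have hzk : z ∈ f.ker := hz ▸ hpow r hr1
  have hzc := hker hzk
  have hmem : r * z ∈ C := by
    rw [hmemC]
    refine ⟨R1.mul_mem hr1 (hz ▸ R1.pow_mem hr1 m), ?_⟩
    rw [(show Commute r z from Subgroup.mem_center_iff.1 hzc r).mul_pow, ← hz]
    obtain ⟨j, hj⟩ := hmodd
    rw [hj, pow_succ, pow_mul, pow_two, hsq z hzk, one_pow, one_mul, hsq z hzk]
  rw [hbot, Subgroup.mem_bot] at hmem
  have hfr : f r = 1 := by
    have := congrArg f hmem
    rwa [map_mul, MonoidHom.mem_ker.1 hzk, mul_one, map_one] at this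
  rw [hfr, one_mul, mul_one]

open Matrix in
/-- A semilinear map commuting up to scalars with rational unipotents that generate all rational
matrices is a scalar and fixes the subfield. -/
theorem semilinear_fix_of_unipotents {F F₀ : Type*} [Field F] [Field F₀] {κ : Type*} [Fintype κ]
    [DecidableEq κ] [Nonempty κ] (ι : F₀ →+* F) (ρ : F ≃+* F) (g : Matrix κ κ F) (hg : IsUnit g)
    (S : Set (Matrix κ κ F₀)) (hS : Subring.closure S = ⊤) (hnil : ∀ N ∈ S, IsNilpotent N)
    (h : ∀ N ∈ S, ∃ c : F, g * ((1 + N).map ι).map ρ = c • ((1 + N).map ι * g)) :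
    (∀ t, ρ (ι t) = ι t) ∧ ∃ c : Fˣ, g = (c : F) • 1 := by
  refine semilinear_fix_of_ring ι ρ g hg S hS fun N hN => ?_
  obtain ⟨c, hc⟩ := h N hN
  have hι : (1 + N).map ι = 1 + N.map ι := by
    rw [Matrix.map_add _ (map_add ι), Matrix.map_one _ (map_zero ι) (map_one ι)]
  have hρ : ((1 + N).map ι).map ρ = 1 + (N.map ι).map ρ := by
    rw [hι, Matrix.map_add _ (map_add ρ), Matrix.map_one _ (map_zero ρ) (map_one ρ)]
  have hc1 : c = 1 := by
    refine scalar_one_of_unipotent hg ?_ ?_ hc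
    · rw [hρ, add_sub_cancel_left]
      exact ((hnil N hN).map ι.mapMatrix).map (ρ : F →+* F).mapMatrix
    · rw [hι, add_sub_cancel_left]
      exact (hnil N hN).map ι.mapMatrix
  rw [hc1, one_smul, hρ, hι, Matrix.mul_add, Matrix.add_mul, Matrix.mul_one, Matrix.one_mul] at hc
  exact add_left_cancel hc

end CfsgLib.KnownC
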