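import Mathlib
import Cfsg.Agent.Lib.KnownC.AutPOmegaFieldEven
import Cfsg.Agent.Lib.KnownC.LocalBalanceTools

set_option autoImplicit false
set_option linter.unusedSectionVars false
set_option linter.style.haveILetI false

/-!
Local balance for orthogonal groups: the centraliser of a standard field automorphism.
-/

namespace CfsgLib.KnownC

open CfsgLib.Geom CfsgLib.Classical
open QuadraticMap (polar)
open Matrix
open scoped commutatorElement

universe u v

section General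

variable {F : Type u} [Field F] [Finite F] {ι : Type} [Fintype ι] [DecidableEq ι]
variable {Q : QuadraticForm F (ι → F)}

/-- The square of every isometry lies in `Ω`. -/
theorem isometry_sq_mem_omega (K : OCtx Q) (g : Cfsg.isometryGroup F (⇑Q)) :
    g * g ∈ Cfsg.Omega F (⇑Q) := by
  rw [omega_eq_ker_spinorHom Q K.sep (exGen_of_seven K), MonoidHom.mem_ker, map_mul]
  generalize spinorHom Q K.sep (exGen_of_seven K) g = x
  refine Prod.ext ?_ (sqClass_mul_self x.2)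
  rcases multiplicative_zmod_two x.1 with h | h
  · rw [Prod.fst_mul, h, one_mul]; rfl
  · rw [Prod.fst_mul, h, multiplicative_zmod_two_mul]; rfl

/-- The matrix of a standard semisimilitude is trivial. -/
theorem mat_std (σ : F ≃+* F) (hσ : ∀ v : ι → F, Q (fun i => σ (v i)) = σ (Q v)) :
    (OSim.std σ hσ).mat = 1 := by
  refine Units.ext (Matrix.ext_iff_mulVec.2 fun v => ?_)
  rw [OSim.mat, glOfEquiv_mulVec, Units.val_one, one_mulVec]
  show (fun i => σ (σ.symm (v i))) = v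
  simp

/-- A standard semisimilitude induces a field automorphism in the sense of the statements. -/
theorem isFieldAutPOmegaOf_std (K : OCtx Q) (σ : F ≃+* F)
    (hσ : ∀ v : ι → F, Q (fun i => σ (v i)) = σ (Q v)) :
    Cfsg.IsFieldAutPOmegaOf (⇑Q) σ (osimPOmega K (OSim.std σ hσ)) := by
  intro s s' h
  refine isInduced_osimPOmega K (OSim.std σ hσ) s s' ?_
  rw [mat_std σ hσ, Units.val_one, one_mul, inv_one, Units.val_one, mul_one]
  exact h

theorem std_pow_T (σ : F ≃+* F) (hσ : ∀ v : ι → F, Q (fun i => σ (v i)) = σ (Q v)) (k : ℕ)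
    (v : ι → F) : ((OSim.std σ hσ).pow k).T v = fun j => (σ ^ k : F ≃+* F) (v j) := by
  induction k generalizing v with
  | zero => rfl
  | succ k ih =>
    rw [pow_succ']
    show (OSim.std σ hσ).T (((OSim.std σ hσ).pow k).T v) = _
    rw [ih]; rfl

end General

section Descent

variable {F : Type u} [Field F] [Finite F] {F₀ : Type v} [Field F₀] [Finite F₀] (ι₀ : F₀ →+* F)
variable {ι : Type} [Fintype ι] [DecidableEq ι]
variable {Q : QuadraticForm F (ι → F)} {Q₀ : QuadraticForm F₀ (ι → F₀)}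
variable (hQ₀ : ∀ v, ι₀ (Q₀ v) = Q fun i => ι₀ (v i)) (K : OCtx Q) (K₀ : OCtx Q₀)

/-- Base change of the isometries over a subfield, acting on `PΩ`. -/
noncomputable def baseIsoHom : Cfsg.isometryGroup F₀ (⇑Q₀) →* MulAut (Cfsg.POmega F (⇑Q)) :=
  (isoHom K).comp (isoMap ι₀ hQ₀)

/-- The image of `Ω` over a subfield. -/
noncomputable def basePOmega : Subgroup (MulAut (Cfsg.POmega F (⇑Q))) :=
  (Cfsg.Omega F₀ (⇑Q₀)).map (baseIsoHom ι₀ hQ₀ K)

theorem baseIsoHom_T (g : Cfsg.isometryGroup F₀ (⇑Q₀)) (v : ι → F) :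
    (OSim.ofIsometry (isoMap ι₀ hQ₀ g)).T v = g.1.1.map ι₀ *ᵥ v := by
  rw [OSim.ofIsometry_T, isoMap_coe]

theorem basePOmega_le_inn :
    basePOmega ι₀ hQ₀ K ≤ (MulAut.conj : Cfsg.POmega F (⇑Q) →* _).range := by
  rintro _ ⟨g, hg, rfl⟩
  refine isoHom_omega K _ ?_
  have h1 : isoMap ι₀ hQ₀ g ∈ (Cfsg.Omega F₀ (⇑Q₀)).map (isoMap ι₀ hQ₀) := ⟨g, hg, rfl⟩
  revert h1
  show _ ∈ (commutator _).map _ → _ ∈ commutator _
  rw [commutator_def, commutator_def, Subgroup.map_commutator]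
  exact fun h => Subgroup.commutator_mono le_top le_top h

theorem baseIsoHom_mem_centralizer (σ : F ≃+* F)
    (hσ : ∀ v : ι → F, Q (fun i => σ (v i)) = σ (Q v)) (hι : ∀ x, σ x = x ↔ ∃ a, ι₀ a = x)
    (g : Cfsg.isometryGroup F₀ (⇑Q₀)) :
    baseIsoHom ι₀ hQ₀ K g ∈ Subgroup.centralizer {osimPOmega K (OSim.std σ hσ)} := by
  refine Subgroup.mem_centralizer_singleton_iff.2 ?_
  rw [baseIsoHom, MonoidHom.comp_apply, isoHom_apply, ← osimPOmega_comp, ← osimPOmega_comp]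
  refine osimPOmega_congr K fun w => ?_
  show (OSim.ofIsometry (isoMap ι₀ hQ₀ g)).T (fun k => σ (w k)) =
    fun i => σ ((OSim.ofIsometry (isoMap ι₀ hQ₀ g)).T w i)
  rw [baseIsoHom_T, baseIsoHom_T]
  refine funext fun i => ?_
  refine Eq.trans ?_ (RingHom.map_mulVec (σ : F →+* F) _ _ i).symm
  rw [show (g.1.1.map ι₀).map (σ : F →+* F) = g.1.1.map ι₀ from
    Matrix.ext fun r s => (hι _).2 ⟨_, rfl⟩]
  rfl

include K₀ hQ₀ in
/-- An inner automorphism commuting with the standard field automorphism normalises the isometries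
over the subfield, and its square comes from them. -/
theorem inn_centralizer_std (σ : F ≃+* F) (hσ : ∀ v : ι → F, Q (fun i => σ (v i)) = σ (Q v))
    (hι : ∀ x, σ x = x ↔ ∃ a, ι₀ a = x) {a : MulAut (Cfsg.POmega F (⇑Q))}
    (ha : a ∈ (MulAut.conj : Cfsg.POmega F (⇑Q) →* _).range)
    (hc : a ∈ Subgroup.centralizer {osimPOmega K (OSim.std σ hσ)}) :
    a * a ∈ (baseIsoHom ι₀ hQ₀ K).range ∧
      ∀ y ∈ basePOmega ι₀ hQ₀ K, a * y * a⁻¹ ∈ basePOmega ι₀ hQ₀ K := by
  obtain ⟨x, rfl⟩ := ha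
  obtain ⟨x, rfl⟩ := (oqEquiv K).surjective x
  obtain ⟨k, rfl⟩ := toOQ_surjective K x
  rw [conj_oqEquiv] at hc ⊢
  obtain ⟨G, hG⟩ : ∃ G : Cfsg.isometryGroup F (⇑Q), G = orEquiv Q k.1 := ⟨_, rfl⟩
  have hT : ∀ v, (OSim.ofIsom k.1).T v = G.1.1 *ᵥ v := fun v => by
    rw [hG, orEquiv_coe, glOfEquiv_mulVec]; rfl
  have hcomm := Subgroup.mem_centralizer_singleton_iff.1 hc
  rw [← osimPOmega_comp, ← osimPOmega_comp] at hcomm
  obtain ⟨c, hc0, hcv⟩ := (osimPOmega_eq_iff K _ _).1 hcomm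
  have hag : ∀ i j, G.1.1 i j = c * σ (G.1.1 i j) := by
    intro i j
    have h1 : (OSim.ofIsom k.1).T (fun l => σ ((Pi.single j (1 : F) : ι → F) l)) =
        c • fun l => σ ((OSim.ofIsom k.1).T (Pi.single j (1 : F) : ι → F) l) := hcv (Pi.single j 1)
    have e : (fun l => σ ((Pi.single j (1 : F) : ι → F) l)) = Pi.single j (1 : F) :=
      funext fun l => by by_cases h : l = j <;> simp [h]
    rw [e, hT, mulVec_single_one] at h1
    have h2 := congrFun h1 i
    simp at h2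
    exact h2
  haveI : Nonempty ι := Fintype.card_pos_iff.1 (by
    have := K.seven; rw [Module.finrank_fintype_fun_eq_card] at this; omega)
  obtain ⟨i, j, hij⟩ : ∃ i j, G.1.1 i j ≠ 0 := by
    by_contra h
    push Not at h
    exact G.1.ne_zero (Matrix.ext h)
  obtain ⟨e, he⟩ : ∃ e, e = G.1.1 i j := ⟨_, rfl⟩
  have he0 : e ≠ 0 := he ▸ hij
  have hfix : ∀ k l, ∃ b, ι₀ b = e⁻¹ * G.1.1 k l := fun k l => (hι _).1 (by
    have h1 := hag k l
    have h2 := hag i j
    rw [← he] at h2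
    have hσe := (map_ne_zero σ).2 he0
    rw [map_mul, map_inv₀]
    field_simp
    linear_combination (σ (G.1.1 k l)) * h2 - (σ e) * h1)
  choose M hM using hfix
  have hMmap : (Matrix.of M).map ι₀ = e⁻¹ • G.1.1 := Matrix.ext fun k l => hM k l
  have hdet : (Matrix.of M).det ≠ 0 := fun h => by
    have h1 : ((Matrix.of M).map ι₀).det = ι₀ (Matrix.of M).det := (RingHom.map_det ι₀ _).symm
    rw [hMmap, det_smul, h, map_zero, mul_eq_zero] at h1
    exact h1.elim (pow_ne_zero _ (inv_ne_zero he0)) (Matrix.GeneralLinearGroup.det_ne_zero _)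
  obtain ⟨g₀, hg₀⟩ : ∃ g₀ : GL ι F₀, g₀.1 = Matrix.of M :=
    ⟨Matrix.GeneralLinearGroup.mkOfDetNeZero _ hdet, rfl⟩
  have hG₀ : g₀.1.map ι₀ = e⁻¹ • G.1.1 := by rw [hg₀, hMmap]
  obtain ⟨v₀, -, -, hv₀⟩ := exists_perp_anisotropic Q₀ K₀.sep (five_le K₀) 0 0
  have hq : ∀ v, ι₀ (Q₀ (g₀.1 *ᵥ v)) = e⁻¹ * e⁻¹ * ι₀ (Q₀ v) := fun v => by
    rw [hQ₀, show (fun k => ι₀ ((g₀.1 *ᵥ v) k)) = g₀.1.map ι₀ *ᵥ fun k => ι₀ (v k) from
      funext fun k => RingHom.map_mulVec ι₀ g₀.1 v k, hG₀, smul_mulVec, quad_smul,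
      (mem_isometryGroup_iff _ _).1 G.2, ← hQ₀]
  obtain ⟨μ, hμ⟩ : ∃ μ, μ = Q₀ (g₀.1 *ᵥ v₀) / Q₀ v₀ := ⟨_, rfl⟩
  have hιμ : ι₀ μ = e⁻¹ * e⁻¹ := by
    rw [hμ, map_div₀, hq, mul_div_assoc, div_self ((map_ne_zero ι₀).2 hv₀), mul_one]
  have hq₀ : ∀ v, Q₀ (g₀.1 *ᵥ v) = μ * Q₀ v := fun v => ι₀.injective (by rw [map_mul, hιμ, hq])
  have hμ0 : μ ≠ 0 := fun h => by
    rw [h, map_zero] at hιμ
    exact mul_ne_zero (inv_ne_zero he0) (inv_ne_zero he0) hιμ.symm
  constructor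
  · -- the square
    obtain ⟨h, hh⟩ : ∃ h : Cfsg.isometryGroup F₀ (⇑Q₀), h.1.1 = μ⁻¹ • (g₀.1 * g₀.1) := by
      have hdet2 : (μ⁻¹ • (g₀.1 * g₀.1)).det ≠ 0 := by
        rw [det_smul, det_mul]
        exact mul_ne_zero (pow_ne_zero _ (inv_ne_zero hμ0))
          (mul_ne_zero (Matrix.GeneralLinearGroup.det_ne_zero _) (Matrix.GeneralLinearGroup.det_ne_zero _))
      refine ⟨⟨Matrix.GeneralLinearGroup.mkOfDetNeZero _ hdet2, (mem_isometryGroup_iff _ _).2 fun v => ?_⟩, rfl⟩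
      show Q₀ ((μ⁻¹ • (g₀.1 * g₀.1)) *ᵥ v) = Q₀ v
      rw [smul_mulVec, quad_smul, ← mulVec_mulVec, hq₀, hq₀]
      field_simp
    refine ⟨h, ?_⟩
    rw [baseIsoHom, MonoidHom.comp_apply, isoHom_apply, ← osimPOmega_comp]
    refine osimPOmega_congr K fun v => ?_
    rw [baseIsoHom_T]
    show _ = (OSim.ofIsom k.1).T ((OSim.ofIsom k.1).T v)
    rw [hT, hT, mulVec_mulVec, hh, show (μ⁻¹ • (g₀.1 * g₀.1)).map ι₀ =
      (ι₀ μ)⁻¹ • (g₀.1.map ι₀ * g₀.1.map ι₀) by
        rw [← map_inv₀]; ext r s; simp [Matrix.mul_apply, map_sum], hG₀, hιμ, Matrix.smul_mul,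
      Matrix.mul_smul, smul_smul, smul_smul]
    congr 2
    field_simp
    simp
  · rintro _ ⟨h, hh, rfl⟩
    let θ : Cfsg.isometryGroup F₀ (⇑Q₀) →* Cfsg.isometryGroup F₀ (⇑Q₀) :=
      ((MulAut.conj g₀).toMonoidHom.comp (Cfsg.isometryGroup F₀ (⇑Q₀)).subtype).codRestrict _
        fun u => (mem_isometryGroup_iff _ _).2 fun v => by
          obtain ⟨w, rfl⟩ : ∃ w, v = g₀.1 *ᵥ w := ⟨(g₀⁻¹ : GL ι F₀).1 *ᵥ v, by
            rw [mulVec_mulVec, Units.mul_inv, one_mulVec]⟩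
          show Q₀ ((g₀ * u.1 * g₀⁻¹ : GL ι F₀).1 *ᵥ _) = _
          rw [Units.val_mul, Units.val_mul, mulVec_mulVec, mul_assoc, Units.inv_mul, mul_one,
            ← mulVec_mulVec, hq₀, hq₀, (mem_isometryGroup_iff _ _).1 u.2]
    have hθ : θ h ∈ Cfsg.Omega F₀ (⇑Q₀) := by
      have h1 : θ h ∈ (Cfsg.Omega F₀ (⇑Q₀)).map θ := ⟨h, hh, rfl⟩
      revert h1
      show _ ∈ (commutator _).map _ → _ ∈ commutator _
      rw [commutator_def, Subgroup.map_commutator]
      exact fun h => Subgroup.commutator_mono le_top le_top h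
    refine ⟨θ h, hθ, ?_⟩
    rw [eq_mul_inv_iff_mul_eq, baseIsoHom, MonoidHom.comp_apply, MonoidHom.comp_apply, isoHom_apply,
      isoHom_apply, ← osimPOmega_comp, ← osimPOmega_comp]
    refine osimPOmega_congr K fun v => ?_
    show (OSim.ofIsometry (isoMap ι₀ hQ₀ (θ h))).T ((OSim.ofIsom k.1).T v) =
      (OSim.ofIsom k.1).T ((OSim.ofIsometry (isoMap ι₀ hQ₀ h)).T v)
    rw [baseIsoHom_T, baseIsoHom_T, hT, hT, mulVec_mulVec, mulVec_mulVec,
      show G.1.1 = e • g₀.1.map ι₀ by rw [hG₀, smul_smul, mul_inv_cancel₀ he0, one_smul],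
      Matrix.mul_smul, Matrix.smul_mul, ← Matrix.map_mul, ← Matrix.map_mul]
    congr 3
    show (g₀ * h.1 * g₀⁻¹ : GL ι F₀).1 * g₀.1 = g₀.1 * h.1.1
    rw [Units.val_mul, Units.val_mul, mul_assoc, Units.inv_mul, mul_one]

include K₀ in
/-- The image of `Ω` over the subfield has even order in odd characteristic. -/
theorem two_dvd_card_basePOmega (h20 : (2 : F₀) ≠ 0) : 2 ∣ Nat.card (basePOmega ι₀ hQ₀ K) := by
  obtain ⟨e, he0, he⟩ := exists_singular Q₀ K₀.sep (five_le K₀)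
  obtain ⟨f, hef⟩ := exists_hyp K₀.sep he0 he
  obtain ⟨a, ha0, ha, -, -, haQ⟩ := exists_singular_perp4 K₀ hef 0 0
  obtain ⟨b, hab⟩ := exists_hyp (Q := operpForm Q₀ e f) (hef.sep_perp K₀.sep) (x := ⟨a, ha⟩)
    (fun h0 => ha0 (congrArg Subtype.val h0)) haQ
  obtain ⟨hea, hfa⟩ := (mem_operp Q₀).1 ha
  obtain ⟨heb, hfb⟩ := (mem_operp Q₀).1 b.2
  have habQ : Q₀ (b : ι → F₀) = 0 := hab.hf
  have habp : polar Q₀ a (b : ι → F₀) = 1 := hab.hef
  obtain ⟨u, hu⟩ : ∃ u, u = e + f := ⟨_, rfl⟩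
  obtain ⟨v, hv⟩ : ∃ v, v = a + (b : ι → F₀) := ⟨_, rfl⟩
  have huQ : Q₀ u = 1 := by
    rw [hu, QuadraticMap.map_add (⇑Q₀), hef.he, hef.hf, hef.hef, zero_add, zero_add]
  have hvQ : Q₀ v = 1 := by
    rw [hv, QuadraticMap.map_add (⇑Q₀), haQ, habQ, habp, zero_add, zero_add]
  have huv : polar Q₀ u v = 0 := by
    rw [hu, hv]
    simp [QuadraticMap.polar_add_left, QuadraticMap.polar_add_right, hea, hfa, heb, hfb]
  have hvu : polar Q₀ v u = 0 := by rw [QuadraticMap.polar_comm, huv]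
  have huu : polar Q₀ u u = 2 := by rw [QuadraticMap.polar_self, huQ, two_smul]; ring
  have hvv : polar Q₀ v v = 2 := by rw [QuadraticMap.polar_self, hvQ, two_smul]; ring
  obtain ⟨d, hd⟩ : ∃ d, d = u - v := ⟨_, rfl⟩
  have hdQ : Q₀ d = 2 := by
    rw [hd, sub_eq_add_neg, QuadraticMap.map_add (⇑Q₀), QuadraticMap.map_neg,
      QuadraticMap.polar_neg_right, huQ, hvQ, huv]
    ring
  have hu1 : Q₀ u ≠ 0 := by rw [huQ]; exact one_ne_zero
  have hd1 : Q₀ d ≠ 0 := by rw [hdQ]; exact h20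
  have hdu : polar Q₀ d u = 2 := by
    rw [hd, QuadraticMap.polar_sub_left, huu, hvu, sub_zero]
  have hdv : polar Q₀ d v = -2 := by
    rw [hd, QuadraticMap.polar_sub_left, huv, hvv, zero_sub]
  obtain ⟨R, hR⟩ : ∃ R, R = reflIsom Q₀ u hu1 := ⟨_, rfl⟩
  obtain ⟨S, hS⟩ : ∃ S, S = reflIsom Q₀ d hd1 := ⟨_, rfl⟩
  have hRu : R.1.1 *ᵥ u = -u := by
    rw [hR, reflIsom_mulVec, huQ, huu, inv_one, one_mul, two_smul]; abel
  have hRv : R.1.1 *ᵥ v = v := by
    rw [hR, reflIsom_mulVec, huv, mul_zero, zero_smul, sub_zero]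
  have hSu : S.1.1 *ᵥ u = v := by
    rw [hS, reflIsom_mulVec, hdQ, hdu, inv_mul_cancel₀ h20, one_smul, hd]; abel
  have hSv : S.1.1 *ᵥ v = u := by
    rw [hS, reflIsom_mulVec, hdQ, hdv, mul_neg, inv_mul_cancel₀ h20, neg_one_smul, hd]; abel
  obtain ⟨X, hX⟩ : ∃ X, X = R * S * R * S := ⟨_, rfl⟩
  have hXm : X ∈ Cfsg.Omega F₀ (⇑Q₀) := by
    have h1 : ⁅R, S⁆ ∈ commutator (Cfsg.isometryGroup F₀ (⇑Q₀)) :=
      Subgroup.commutator_mem_commutator (Subgroup.mem_top _) (Subgroup.mem_top _)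
    rw [commutatorElement_def, inv_eq_of_mul_eq_one_right
      (show R * R = 1 by rw [hR]; exact reflIsom_mul_self _ _), inv_eq_of_mul_eq_one_right
      (show S * S = 1 by rw [hS]; exact reflIsom_mul_self _ _), ← hX] at h1
    exact h1
  have hXu : X.1.1 *ᵥ u = -u := by
    rw [hX]
    simp only [Subgroup.coe_mul, Units.val_mul, ← mulVec_mulVec]
    rw [hSu, hRv, hSv, hRu]
  obtain ⟨w, hw0, hw⟩ := exists_perp_ne_zero_fin (Q := Q₀) ![u, v]
    (lt_of_lt_of_le (by norm_num) (five_le K₀))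
  have hwu : polar Q₀ u w = 0 := hw 0
  have hwv : polar Q₀ v w = 0 := hw 1
  have hRw : R.1.1 *ᵥ w = w := by
    rw [hR, reflIsom_mulVec, hwu, mul_zero, zero_smul, sub_zero]
  have hSw : S.1.1 *ᵥ w = w := by
    rw [hS, reflIsom_mulVec, hd, QuadraticMap.polar_sub_left, hwu, hwv, sub_zero, mul_zero, zero_smul,
      sub_zero]
  have hXw : X.1.1 *ᵥ w = w := by
    rw [hX]
    simp only [Subgroup.coe_mul, Units.val_mul, ← mulVec_mulVec]
    rw [hSw, hRw, hSw, hRw]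
  have hmem : baseIsoHom ι₀ hQ₀ K X ∈ basePOmega ι₀ hQ₀ K := ⟨X, hXm, rfl⟩
  obtain ⟨n, hn⟩ : ∃ n, n = orderOf (baseIsoHom ι₀ hQ₀ K X) := ⟨_, rfl⟩
  have hdvd : n ∣ Nat.card (basePOmega ι₀ hQ₀ K) := by
    rw [hn, ← Subgroup.orderOf_mk _ hmem]
    exact orderOf_dvd_natCard _
  rcases Nat.even_or_odd n with hev | hodd
  · exact hev.two_dvd.trans hdvd
  exfalso
  have h1 : baseIsoHom ι₀ hQ₀ K (X ^ n) = 1 := by rw [map_pow, hn, pow_orderOf_eq_one]
  rw [baseIsoHom, MonoidHom.comp_apply, isoHom_apply, osimPOmega_eq_one_iff] at h1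
  obtain ⟨c, -, hc⟩ := h1
  have hiter : ∀ j : ℕ, (X ^ j).1.1 *ᵥ u = (-1 : F₀) ^ j • u ∧ (X ^ j).1.1 *ᵥ w = w := by
    intro j
    induction j with
    | zero => simp
    | succ j ih =>
      rw [pow_succ, Subgroup.coe_mul, Units.val_mul, ← mulVec_mulVec, ← mulVec_mulVec, hXu, hXw,
        mulVec_neg, ih.1, ih.2, pow_succ, mul_neg_one, neg_smul]
      exact ⟨rfl, rfl⟩
  obtain ⟨hnu, hnw⟩ := hiter n
  rw [hodd.neg_one_pow, neg_one_smul] at hnu
  have key : ∀ z : ι → F₀, (fun i => ι₀ (((X ^ n).1.1 *ᵥ z) i)) = c • fun i => ι₀ (z i) := fun z => by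
    rw [← hc, baseIsoHom_T]
    exact funext fun i => RingHom.map_mulVec ι₀ _ z i
  have hc1 : c = 1 := by
    obtain ⟨i, hi⟩ : ∃ i, w i ≠ 0 := by
      by_contra h; push Not at h; exact hw0 (funext h)
    have := congrFun (key w) i
    rw [hnw, Pi.smul_apply, smul_eq_mul] at this
    exact mul_right_cancel₀ ((map_ne_zero ι₀).2 hi) (this.symm.trans (one_mul _).symm)
  have := key u
  rw [hnu, hc1, one_smul] at this
  have h2 : u = -u := funext fun i => ι₀.injective (congrFun this i).symm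
  have h3 : (2 : F₀) • u = 0 := by rw [two_smul]; nth_rw 2 [h2]; rw [add_neg_cancel]
  rcases smul_eq_zero.1 h3 with h | h
  · exact h20 h
  · exact hu1 (by rw [h, QuadraticMap.map_zero])

include K₀ in
/-- A singular point rational over the subfield is fixed by whatever fixes the rational root
elements, and the rest follows by connectivity. -/
theorem eq_smul_of_commute_basePOmega (Φ : OSim Q)
    (hΦ : osimPOmega K Φ ∈ Subgroup.centralizer (basePOmega ι₀ hQ₀ K : Set _)) :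
    (∀ t : F₀, Φ.σ (ι₀ t) = ι₀ t) ∧
      ∃ a : F, a ≠ 0 ∧ ∀ v, Φ.T v = a • fun i => Φ.σ (v i) := by
  have hι : ∀ z : ι → F₀, ∀ t : F₀, (fun i => ι₀ ((t • z) i)) = ι₀ t • fun i => ι₀ (z i) :=
    fun z t => funext fun i => map_mul ι₀ t (z i)
  have hιa : ∀ z z' : ι → F₀, (fun i => ι₀ ((z + z') i)) = (fun i => ι₀ (z i)) + fun i => ι₀ (z' i) :=
    fun z z' => funext fun i => map_add ι₀ _ _
  have hιl : ∀ {z z' : ι → F₀}, LinearIndependent F₀ ![z, z'] →
      LinearIndependent F ![fun i => ι₀ (z i), fun i => ι₀ (z' i)] := by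
    intro z z' h
    rw [LinearIndependent.pair_iff]
    by_contra hcon
    push Not at hcon
    obtain ⟨s, t, hst, hne⟩ := hcon
    -- a `2 × 2` minor survives base change
    obtain ⟨i, j, hij⟩ : ∃ i j, z i * z' j - z j * z' i ≠ 0 := by
      by_contra hall
      push Not at hall
      obtain ⟨i, hi⟩ : ∃ i, z i ≠ 0 := by
        by_contra hz; push Not at hz
        have := LinearIndependent.ne_zero 0 h
        exact this (funext hz)
      have := (LinearIndependent.pair_iff.1 h (-z' i) (z i) (funext fun j => by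
        have := hall i j
        simp only [Pi.add_apply, Pi.smul_apply, smul_eq_mul, Pi.zero_apply]
        linear_combination this)).2
      exact hi this
    have h1 := congrFun hst i
    have h2 := congrFun hst j
    simp only [Pi.add_apply, Pi.smul_apply, smul_eq_mul, Pi.zero_apply] at h1 h2
    have hd : ι₀ (z i * z' j - z j * z' i) ≠ 0 := (map_ne_zero ι₀).2 hij
    rw [map_sub, map_mul, map_mul] at hd
    have hs : s = 0 := (mul_eq_zero.1 (show s * (ι₀ (z i) * ι₀ (z' j) - ι₀ (z j) * ι₀ (z' i)) = 0 by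
      linear_combination (ι₀ (z' j)) * h1 - (ι₀ (z' i)) * h2)).resolve_right hd
    have ht : t = 0 := (mul_eq_zero.1 (show t * (ι₀ (z i) * ι₀ (z' j) - ι₀ (z j) * ι₀ (z' i)) = 0 by
      linear_combination (ι₀ (z i)) * h2 - (ι₀ (z j)) * h1)).resolve_right hd
    exact hne hs ht
  have hts : ∀ {x c : ι → F₀}, TSL Q₀ x c → TSL Q (fun i => ι₀ (x i)) (fun i => ι₀ (c i)) :=
    fun {x c} h => ⟨by rw [← hQ₀, h.ha, map_zero], by rw [← hQ₀, h.hb, map_zero],
      by rw [← map_polar ι₀ hQ₀, h.hab, map_zero], hιl h.hi⟩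
  have hroot : ∀ {x c : ι → F₀}, TSL Q₀ x c →
      Φ.T (fun i => ι₀ (x i)) ∈ Submodule.span F {(fun i => ι₀ (x i)), fun i => ι₀ (c i)} := by
    intro x c h
    have hF := hts h
    have hmem : MulAut.conj (oqEquiv K (rootO K (fun i => ι₀ (x i)) (fun i => ι₀ (c i)) 1)) ∈
        basePOmega ι₀ hQ₀ K := by
      refine ⟨orEquiv Q₀ (siegelO K₀ x c).1, ?_, ?_⟩
      · rw [← omegaEquiv_coe]; exact (omegaEquiv Q₀ _).2
      rw [rootO, conj_oqEquiv, baseIsoHom, MonoidHom.comp_apply, isoHom_apply]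
      refine osimPOmega_congr K fun v => ?_
      rw [baseIsoHom_T]
      show _ = (siegelO K (fun i => ι₀ (x i)) ((1 : F) • fun i => ι₀ (c i))).1.1 v
      rw [one_smul]
      have key : (orEquiv Q₀ (siegelO K₀ x c).1).1.1.map ι₀ =
          LinearMap.toMatrix' ((siegelO K (fun i => ι₀ (x i)) (fun i => ι₀ (c i))).1.1 :
            (ι → F) →ₗ[F] (ι → F)) := by
        ext r s
        have e : (Pi.single s (1 : F) : ι → F) = fun l => ι₀ ((Pi.single s (1 : F₀) : ι → F₀) l) :=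
          funext fun l => by by_cases hl : l = s <;> simp [hl]
        rw [Matrix.map_apply, LinearMap.toMatrix'_apply, LinearEquiv.coe_coe, e,
          siegelO_apply K hF.ha hF.hab,
          show (orEquiv Q₀ (siegelO K₀ x c).1).1.1 r s =
            ((orEquiv Q₀ (siegelO K₀ x c).1).1.1 *ᵥ (Pi.single s 1 : ι → F₀)) r by
              rw [mulVec_single_one]; rfl,
          orEquiv_mulVec, siegelO_apply K₀ h.ha h.hab]
        simp only [Pi.sub_apply, Pi.add_apply, Pi.smul_apply, smul_eq_mul, map_sub, map_add, map_mul,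
          map_polar ι₀ hQ₀, hQ₀]
      rw [key, LinearMap.toMatrix'_mulVec]
      rfl
    have h1 := Subgroup.mem_centralizer_iff.1 hΦ _ hmem
    have h2 : osimPOmega K Φ (oqEquiv K (rootO K (fun i => ι₀ (x i)) (fun i => ι₀ (c i)) 1)) =
        oqEquiv K (rootO K (fun i => ι₀ (x i)) (fun i => ι₀ (c i)) 1) := by
      refine conjHom_pOmega_injective K (MulEquiv.ext fun z => ?_)
      obtain ⟨z, rfl⟩ := (osimPOmega K Φ).surjective z
      have h3 := DFunLike.congr_fun h1 z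
      simp only [MulAut.mul_apply, MulAut.conj_apply, map_mul, map_inv] at h3
      simp only [MulAut.conj_apply]
      exact h3.symm
    have h4 : rootO K (fun i => ι₀ (x i)) (fun i => ι₀ (c i)) 1 =
        rootO K (Φ.T fun i => ι₀ (x i)) (Φ.T fun i => ι₀ (c i)) (Φ.c⁻¹) := by
      have h5 : osimAut K Φ (rootO K (fun i => ι₀ (x i)) (fun i => ι₀ (c i)) 1) =
          rootO K (fun i => ι₀ (x i)) (fun i => ι₀ (c i)) 1 := (oqEquiv K).injective (by
        rw [← h2]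
        simp [osimPOmega])
      conv_lhs => rw [← h5]
      rw [rootO, osimAut_mk, osimAut_siegel K Φ hF.ha (hF.smul_ok 1), one_smul, rootO]
    exact (hF.mem_span_of_eq K (Φ.map_tsl K hF) (inv_ne_zero Φ.c_ne) h4).1
  have hsing : ∀ x : ι → F₀, Q₀ x = 0 → ∃ a : F, Φ.T (fun i => ι₀ (x i)) = a • fun i => ι₀ (x i) := by
    intro x hx
    by_cases hx0 : x = 0
    · refine ⟨1, ?_⟩
      rw [one_smul, show (fun i => ι₀ (x i)) = (0 : ι → F) from funext fun i => by simp [hx0], map_zero]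
    obtain ⟨u, v, hS⟩ := exists_symp K₀ hx0 hx
    obtain ⟨i, j, hij⟩ := Submodule.mem_span_pair.1 (hroot hS.hpa)
    obtain ⟨i', j', hij'⟩ := Submodule.mem_span_pair.1 (hroot hS.hpb)
    have hu := hts hS.hpa
    have hv := hts hS.hpb
    have h1 := congrArg (polar Q fun k => ι₀ (u k)) (hij.trans hij'.symm)
    simp only [QuadraticMap.polar_add_right, QuadraticMap.polar_smul_right, hu.ba,
      polar_self_of_singular Q hu.hb, smul_eq_mul, mul_zero, zero_add] at h1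
    have hne : polar Q (fun k => ι₀ (u k)) (fun k => ι₀ (v k)) ≠ 0 := by
      rw [← map_polar ι₀ hQ₀]; exact (map_ne_zero ι₀).2 hS.hne
    have hj' : j' = 0 := (mul_eq_zero.1 h1.symm).resolve_right hne
    refine ⟨i', ?_⟩
    rw [← hij', hj', zero_smul, add_zero]
  have step : ∀ {x y : ι → F₀}, Q₀ x = 0 → Q₀ y = 0 → polar Q₀ x y = 0 →
      LinearIndependent F₀ ![x, y] → ∀ a b : F, Φ.T (fun i => ι₀ (x i)) = a • (fun i => ι₀ (x i)) →
        Φ.T (fun i => ι₀ (y i)) = b • (fun i => ι₀ (y i)) → ∀ t, Φ.σ (ι₀ t) * b = ι₀ t * a := by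
    intro x y hx hy hxy hi a b ha hb t
    obtain ⟨c, hc⟩ := hsing (x + t • y) (by rw [quad_map_add_smul, hx, hy, hxy]; simp)
    rw [hιa, hι, map_add, Φ.smul, ha, hb, smul_add, smul_smul, smul_smul] at hc
    have := LinearIndependent.pair_iff.1 (hιl hi) (a - c) (Φ.σ (ι₀ t) * b - c * ι₀ t)
      (by linear_combination (norm := module) hc)
    rw [sub_eq_zero, sub_eq_zero] at this
    rw [this.2, ← this.1, mul_comm]
  have h5 := five_le K₀
  obtain ⟨e, he0, he⟩ := exists_singular Q₀ K₀.sep h5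
  obtain ⟨f, hH⟩ := exists_hyp K₀.sep he0 he
  obtain ⟨u, hu0, hu, -, -, huQ⟩ := exists_singular_perp4 K₀ hH 0 0
  obtain ⟨a, ha⟩ := hsing e he
  obtain ⟨b, hb⟩ := hsing u huQ
  have hst := step he huQ ((mem_operp Q₀).1 hu).1 (exists_singular_of_tsl K₀ hH hu hu0 huQ).hi a b ha hb
  have hba : b = a := by
    have := hst 1
    simpa using this
  have ha0 : a ≠ 0 := by
    intro h0
    rw [h0, zero_smul] at ha
    refine he0 (funext fun i => ι₀.injective ?_)
    have := congrFun (Φ.T.injective (ha.trans (map_zero Φ.T).symm)) i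
    rw [this, Pi.zero_apply, Pi.zero_apply, map_zero]
  have hσ : ∀ t, Φ.σ (ι₀ t) = ι₀ t := fun t => mul_right_cancel₀ ha0 (by rw [← hst t, hba])
  have hall : ∀ x, Q₀ x = 0 → Φ.T (fun i => ι₀ (x i)) = a • fun i => ι₀ (x i) := by
    intro x hx
    by_cases hx0 : x = 0
    · rw [show (fun i => ι₀ (x i)) = (0 : ι → F) from funext fun i => by simp [hx0], map_zero, smul_zero]
    obtain ⟨c, hc⟩ := hsing x hx
    by_cases hp : polar Q₀ e x = 0
    · by_cases hi : LinearIndependent F₀ ![e, x]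
      · have h1 : c = a := by simpa using step he hx hp hi a c ha hc 1
        rw [hc, h1]
      · rw [LinearIndependent.pair_iff' he0] at hi
        push Not at hi
        obtain ⟨s, rfl⟩ := hi
        rw [hι, Φ.smul, hσ, ha, smul_comm]
    · obtain ⟨w, hw, hw0, hew, hxw, hind⟩ := exists_singular_perp_indep Q₀ K₀.sep h5 he0 x
      obtain ⟨d, hd⟩ := hsing w hw
      obtain ⟨i1, i2⟩ := hind hp
      have h1 : a = d := by
        simpa using step hw he (by rw [QuadraticMap.polar_comm]; exact hew) i1 d a hd ha 1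
      have h2 : c = d := by
        simpa using step hw hx (by rw [QuadraticMap.polar_comm]; exact hxw) i2 d c hd hc 1
      rw [hc, h2, h1]
  have hrat : ∀ z : ι → F₀, Φ.T (fun i => ι₀ (z i)) = a • fun i => ι₀ (z i) := fun z =>
    hH.singular_induction (P := fun z => Φ.T (fun i => ι₀ (z i)) = a • fun i => ι₀ (z i))
      (fun z z' h h' => by rw [hιa, map_add, h, h', smul_add]) hall z
  refine ⟨hσ, a, ha0, fun v => ?_⟩
  have hv : v = ∑ i, v i • fun l => ι₀ ((Pi.single i (1 : F₀) : ι → F₀) l) := by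
    funext l
    simp [Pi.single_apply]
  conv_lhs => rw [hv, map_sum]
  simp only [Φ.smul, hrat]
  funext l
  simp [Pi.single_apply, mul_comm]

end Descent

/-- The killer for a standard field automorphism of an orthogonal group. -/
theorem hasCoreKiller_field_pOmega {F : Type u} [Field F] [Finite F] {ι : Type} [Fintype ι]
    [DecidableEq ι] {Q : QuadraticForm F (ι → F)} (K : OCtx Q) {F₀ : Type v} [Field F₀] [Finite F₀]
    (ι₀ : F₀ →+* F) {Q₀ : QuadraticForm F₀ (ι → F₀)} (hQ₀ : ∀ v, ι₀ (Q₀ v) = Q fun i => ι₀ (v i))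
    (K₀ : OCtx Q₀) (σ : F ≃+* F) (hσ : ∀ v : ι → F, Q (fun i => σ (v i)) = σ (Q v))
    (hι : ∀ x, σ x = x ↔ ∃ a, ι₀ a = x)
    (hsemi : ∀ y ∈ Subgroup.centralizer (basePOmega ι₀ hQ₀ K : Set _), ∃ Φ : OSim Q, y = osimPOmega K Φ)
    {p : ℕ} (hp : p.Prime) (hp2 : p = 2 → (2 : F) ≠ 0)
    (k₀ : Cfsg.POmega F (⇑Q)) (hk₀ : orderOf k₀ = p)
    (hfix : osimPOmega K (OSim.std σ hσ) k₀ = k₀) :
    HasCoreKiller (MulAut.conj : Cfsg.POmega F (⇑Q) →* _).range (osimPOmega K (OSim.std σ hσ)) p := by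
  have hPs : basePOmega ι₀ hQ₀ K ≤ Subgroup.centralizer {osimPOmega K (OSim.std σ hσ)} := by
    rintro _ ⟨g, -, rfl⟩
    exact baseIsoHom_mem_centralizer ι₀ hQ₀ K σ hσ hι g
  -- `p` divides the order of the subgroup
  have hdvd : p ∣ Nat.card (basePOmega ι₀ hQ₀ K) := by
    rcases hp.eq_two_or_odd' with rfl | hodd
    · exact two_dvd_card_basePOmega ι₀ hQ₀ K K₀ fun h => hp2 rfl (by rw [← map_ofNat ι₀ 2, h, map_zero])
    · obtain ⟨a, ha⟩ : ∃ a, a = MulAut.conj k₀ := ⟨_, rfl⟩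
      have hac : a ∈ Subgroup.centralizer {osimPOmega K (OSim.std σ hσ)} :=
        Subgroup.mem_centralizer_singleton_iff.2 (MulEquiv.ext fun z => by
          simp [ha, MulAut.mul_apply, hfix])
      obtain ⟨⟨g, hg⟩, -⟩ := inn_centralizer_std ι₀ hQ₀ K K₀ σ hσ hι ⟨k₀, ha.symm⟩ hac
      have h4 : a ^ 4 ∈ basePOmega ι₀ hQ₀ K := ⟨g * g, isometry_sq_mem_omega K₀ g, by
        rw [map_mul, hg, pow_succ, pow_succ, pow_two]; group⟩
      have hoa : orderOf a = p := by rw [ha, orderOf_injective _ (conjHom_pOmega_injective K), hk₀]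
      have hoa4 : orderOf (a ^ 4) = p := by
        rw [Nat.Coprime.orderOf_pow] <;> rw [hoa]
        exact (Nat.coprime_primes hp Nat.prime_two).2 (fun h => by
          rw [h] at hodd; exact absurd hodd (by decide)) |>.pow_right 2
      rw [← hoa4, ← Subgroup.orderOf_mk _ h4]
      exact orderOf_dvd_natCard _
  refine ⟨basePOmega ι₀ hQ₀ K, basePOmega_le_inn ι₀ hQ₀ K, hPs,
    fun a ha => (inn_centralizer_std ι₀ hQ₀ K K₀ σ hσ hι ha.1 ha.2).2, fun R hR hRn hRc => ?_,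
    fun y hy => ?_⟩
  · -- normal `p'`-subgroups
    haveI : IsSimpleGroup (Cfsg.POmega F₀ (⇑Q₀)) := isSimpleGroup_pOmega Q₀ K₀.sep
      (by have := K₀.seven; rw [Module.finrank_fintype_fun_eq_card] at this; omega)
    obtain ⟨f, hf⟩ : ∃ f : Cfsg.Omega F₀ (⇑Q₀) →* MulAut (Cfsg.POmega F (⇑Q)),
        f = (baseIsoHom ι₀ hQ₀ K).comp (Cfsg.Omega F₀ (⇑Q₀)).subtype := ⟨_, rfl⟩
    have hfr : f.range = basePOmega ι₀ hQ₀ K := by
      rw [hf, MonoidHom.range_comp, Subgroup.range_subtype]; rfl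
    have hcen : ∀ z ∈ Subgroup.center ↥(Cfsg.Omega F₀ (⇑Q₀)), f z = 1 := by
      intro z hz
      rw [hf, MonoidHom.comp_apply, baseIsoHom, MonoidHom.comp_apply, isoHom_apply,
        osimPOmega_eq_one_iff]
      rcases (mem_center_omega_iff Q₀ K₀.sep
        (by have := K₀.seven; rw [Module.finrank_fintype_fun_eq_card] at this; omega) z).1 hz with h | h
      · exact ⟨1, one_ne_zero, fun v => by
          rw [baseIsoHom_T, Subgroup.coe_subtype, h, Matrix.map_one _ (map_zero ι₀) (map_one ι₀),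
            one_mulVec, one_smul]⟩
      · exact ⟨-1, neg_ne_zero.2 one_ne_zero, fun v => by
          rw [baseIsoHom_T, Subgroup.coe_subtype, h, show (-1 : Matrix ι ι F₀).map ι₀ = -1 from
            Matrix.ext fun i j => by by_cases hij : i = j <;> simp [hij], neg_mulVec, one_mulVec,
            neg_one_smul]⟩
    have hRf : (R.comap f).map f = R := Subgroup.map_comap_eq_self (by rw [hfr]; exact hR)
    haveI : (R.comap f).Normal := ⟨fun z hz g => by
      show f (g * z * g⁻¹) ∈ R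
      rw [map_mul, map_mul, map_inv]
      exact hRn (f g) (hfr ▸ ⟨g, rfl⟩) _ hz⟩
    let π := QuotientGroup.mk' (Subgroup.center ↥(Cfsg.Omega F₀ (⇑Q₀)))
    haveI : ((R.comap f).map π).Normal :=
      Subgroup.Normal.map inferInstance π (QuotientGroup.mk'_surjective _)
    rcases (inferInstance : ((R.comap f).map π).Normal).eq_bot_or_eq_top with h | h
    · rw [Subgroup.map_eq_bot_iff, QuotientGroup.ker_mk'] at h
      rw [← hRf, eq_bot_iff]
      rintro _ ⟨z, hz, rfl⟩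
      exact hcen z (h hz)
    · exfalso
      have hRP : R = basePOmega ι₀ hQ₀ K := by
        refine le_antisymm hR ?_
        rw [← hfr]
        rintro _ ⟨z, rfl⟩
        obtain ⟨z', hz', he⟩ : π z ∈ (R.comap f).map π := h ▸ Subgroup.mem_top _
        have hzc : z'⁻¹ * z ∈ Subgroup.center ↥(Cfsg.Omega F₀ (⇑Q₀)) := QuotientGroup.eq.1 he
        have := hcen _ hzc
        rw [map_mul, map_inv, inv_mul_eq_one] at this
        rw [← this]
        exact hz'
      rw [hRP] at hRc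
      exact hp.one_lt.ne' ((Nat.coprime_self p).1 (hRc.coprime_dvd_left hdvd))
  · obtain ⟨Φ, rfl⟩ := hsemi y hy.1
    obtain ⟨hfix', a, ha0, ha⟩ := eq_smul_of_commute_basePOmega ι₀ hQ₀ K K₀ Φ hy.1
    haveI : Finite (F ≃+* F) :=
      Finite.of_injective (fun s : F ≃+* F => (s : F → F)) DFunLike.coe_injective
    have hmem : Φ.σ ∈ Subgroup.zpowers σ := by
      let g : F →ₐ[FixedPoints.subfield (Subgroup.zpowers σ) F] F :=
        { (Φ.σ : F →+* F) with
          commutes' := fun c => by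
            obtain ⟨t, ht⟩ := (hι c.1).1 (c.2 ⟨σ, Subgroup.mem_zpowers σ⟩)
            show Φ.σ c.1 = c.1
            rw [← ht]; exact hfix' t }
      obtain ⟨τ, hτ⟩ := (FixedPoints.toAlgHom_bijective (Subgroup.zpowers σ) F).2 g
      have : Φ.σ = τ.1 := RingEquiv.ext fun x => (DFunLike.congr_fun hτ x).symm
      rw [this]
      exact τ.2
    obtain ⟨j, hj⟩ := mem_powers_iff_mem_zpowers.2 hmem
    refine ⟨(j : ℤ), ?_⟩
    show osimPOmega K (OSim.std σ hσ) ^ (j : ℤ) = osimPOmega K Φ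
    rw [zpow_natCast, ← osimPOmega_pow, osimPOmega_eq_iff]
    refine ⟨a⁻¹, inv_ne_zero ha0, fun v => ?_⟩
    rw [std_pow_T, ha, inv_smul_smul₀ ha0, ← hj]

end CfsgLib.KnownC
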