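import Mathlib
import Cfsg.Agent.Lib.Classical.OrthSiegel
import Cfsg.Agent.Lib.Geom.QuadRefl

set_option autoImplicit false
set_option linter.unusedSectionVars false

/-!
An orthogonal group of dimension at least three in odd characteristic has no nontrivial normal
subgroup of odd order.
-/

namespace CfsgLib.KnownC

open CfsgLib.Geom CfsgLib.Classical
open QuadraticMap (polar)

variable {F V : Type*} [Field F] [AddCommGroup V] [Module F V]
variable {Q : QuadraticForm F V}

/-- Pairwise orthogonal anisotropic vectors are completed by a further one. -/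
theorem exists_orth_aniso [FiniteDimensional F V] (h2 : (2 : F) ≠ 0)
    (hQ : ∀ x, (∀ y, polar Q x y = 0) → x = 0) {k : ℕ} (b : Fin k → V) (hb : ∀ i, Q (b i) ≠ 0)
    (horth : ∀ i j, i ≠ j → polar Q (b i) (b j) = 0) (hk : k < Module.finrank F V) :
    ∃ v, Q v ≠ 0 ∧ ∀ i, polar Q (b i) v = 0 := by
  by_contra hcon
  push Not at hcon
  let pr : V → V := fun z => z - ∑ i, (polar Q (b i) z / polar Q (b i) (b i)) • b i
  have hbb : ∀ i, polar Q (b i) (b i) ≠ 0 := fun i => by
    rw [polar_self_two]; exact mul_ne_zero h2 (hb i)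
  have hperp : ∀ z i, polar Q (b i) (pr z) = 0 := fun z i => by
    show QuadraticMap.polarBilin Q (b i) (z - ∑ j, _) = 0
    rw [map_sub, map_sum, Finset.sum_eq_single i]
    · rw [map_smul, QuadraticMap.polarBilin_apply_apply, QuadraticMap.polarBilin_apply_apply,
        smul_eq_mul, div_mul_cancel₀ _ (hbb i), sub_self]
    · intro j _ hj
      rw [map_smul, QuadraticMap.polarBilin_apply_apply, horth i j (Ne.symm hj), smul_zero]
    · intro h; exact absurd (Finset.mem_univ i) h
  have h0 : ∀ z, (∀ i, polar Q (b i) z = 0) → Q z = 0 := fun z hz => by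
    by_contra hne
    obtain ⟨i, hi⟩ := hcon z hne
    exact hi (hz i)
  have hzero : ∀ z, pr z = 0 := fun z => hQ _ fun y => by
    have h1 : polar Q (pr z) (pr y) = 0 := by
      rw [QuadraticMap.polar, h0 _ (hperp z), h0 _ (hperp y), h0 _ (fun i => by
        rw [QuadraticMap.polar_add_right, hperp, hperp, add_zero]), sub_zero, sub_zero]
    have hy : y = pr y + ∑ i, (polar Q (b i) y / polar Q (b i) (b i)) • b i :=
      (sub_add_cancel _ _).symm
    rw [hy, QuadraticMap.polar_add_right, h1, zero_add]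
    show QuadraticMap.polarBilin Q (pr z) (∑ i, _) = 0
    rw [map_sum, Finset.sum_eq_zero]
    intro i _
    rw [map_smul, QuadraticMap.polarBilin_apply_apply, QuadraticMap.polar_comm _ (pr z), hperp, smul_zero]
  have hspan : (⊤ : Submodule F V) ≤ Submodule.span F (Set.range b) := fun z _ => by
    rw [show z = ∑ i, (polar Q (b i) z / polar Q (b i) (b i)) • b i from sub_eq_zero.1 (hzero z)]
    exact sum_mem fun i _ => Submodule.smul_mem _ _ (Submodule.subset_span ⟨i, rfl⟩)
  have := (Submodule.finrank_mono hspan).trans (finrank_range_le_card b)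
  rw [finrank_top, Fintype.card_fin] at this
  omega

/-- An element of odd order fixes an anisotropic vector whose line it preserves. -/
theorem fix_of_line (h2 : (2 : F) ≠ 0) {g : quadIsoms Q} (hodd : Odd (orderOf g)) {v : V}
    (hv : Q v ≠ 0) {a : F} (h : g.1 v = a • v) : g.1 v = v := by
  have haa : a * a = 1 := by
    have h1 := mem_quadIsoms.1 g.2 v
    rw [h, quad_smul] at h1
    exact mul_right_cancel₀ hv (h1.trans (one_mul _).symm)
  rcases mul_self_eq_one_iff.1 haa with rfl | rfl
  · rw [h, one_smul]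
  exfalso
  rw [neg_one_smul] at h
  have hp : ∀ k : ℕ, (g ^ k).1 v = (-1 : F) ^ k • v := by
    intro k
    induction k with
    | zero => simp
    | succ k ih =>
      rw [pow_succ, Subgroup.coe_mul, LinearEquiv.mul_apply, h, map_neg, ih, pow_succ, mul_smul,
        neg_one_smul, smul_neg]
  have h1 := hp (orderOf g)
  rw [pow_orderOf_eq_one, hodd.neg_one_pow, neg_one_smul, OneMemClass.coe_one, LinearEquiv.coe_one,
    id_eq] at h1
  have h3 : (2 : F) • v = 0 := by
    rw [two_smul]
    nth_rw 2 [h1]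
    exact add_neg_cancel v
  exact hv (by rw [(smul_eq_zero.1 h3).resolve_left h2, QuadraticMap.map_zero])

theorem odd_orderOf_of_mem {G : Type*} [Group G] [Finite G] {R : Subgroup G} (h : Odd (Nat.card R))
    {g : G} (hg : g ∈ R) : Odd (orderOf g) := by
  refine h.of_dvd_nat ?_
  rw [← Subgroup.orderOf_mk g hg]
  exact orderOf_dvd_natCard _

/-- A reflection whose axis is moved by every nontrivial element of a normal subgroup inverts it. -/
theorem refl_inverts [Finite (quadIsoms Q)] (h2 : (2 : F) ≠ 0) (R : Subgroup (quadIsoms Q))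
    [R.Normal] (hodd : Odd (Nat.card R)) {v : V} (hv : Q v ≠ 0)
    (hfix : ∀ g ∈ R, g.1 v = v → g = 1) {g : quadIsoms Q} (hg : g ∈ R) :
    (⟨reflEquiv Q v hv, reflEquiv_mem Q v hv⟩ : quadIsoms Q) * g *
      ⟨reflEquiv Q v hv, reflEquiv_mem Q v hv⟩ = g⁻¹ := by
  obtain ⟨r, hr⟩ : ∃ r : quadIsoms Q, r = ⟨reflEquiv Q v hv, reflEquiv_mem Q v hv⟩ := ⟨_, rfl⟩
  rw [← hr]
  have hrr : r * r = 1 := Subtype.ext (by rw [hr]; exact reflEquiv_mul_self Q v hv)
  have hrinv : r⁻¹ = r := inv_eq_of_mul_eq_one_right hrr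
  have hrv : r.1 v = -v := by rw [hr]; exact reflEquiv_self Q v hv
  let φ : ↥R →* ↥R := ((MulAut.conjNormal r : MulAut ↥R)).toMonoidHom
  have hφ : ∀ x : ↥R, (φ x).1 = r * x.1 * r := fun x => by
    show (MulAut.conjNormal r x : quadIsoms Q) = _
    rw [MulAut.conjNormal_apply, hrinv]
  have hff : MonoidHom.FixedPointFree φ := fun x hx => by
    have h1 : r * x.1 * r = x.1 := by rw [← hφ, hx]
    have h3 : r * x.1 = x.1 * r := by
      calc r * x.1 = r * x.1 * (r * r) := by rw [hrr, mul_one]
        _ = r * x.1 * r * r := by rw [mul_assoc _ r r]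
        _ = x.1 * r := by rw [h1]
    have h4 : r.1 (x.1.1 v) = -(x.1.1 v) := by
      have := congrArg (fun f : quadIsoms Q => f.1 v) h3
      simpa [LinearEquiv.mul_apply, hrv] using this
    have h5 : r.1 (x.1.1 v) = x.1.1 v - ((Q v)⁻¹ * polar Q v (x.1.1 v)) • v := by
      rw [hr]; exact reflEquiv_apply Q v hv _
    rw [h5] at h4
    obtain ⟨a, ha⟩ : ∃ a, a = (Q v)⁻¹ * polar Q v (x.1.1 v) := ⟨_, rfl⟩
    rw [← ha] at h4
    have h6 : x.1.1 v = ((2 : F)⁻¹ * a) • v := by
      refine smul_right_injective V h2 ?_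
      dsimp only
      rw [smul_smul, ← mul_assoc, mul_inv_cancel₀ h2, one_mul]
      linear_combination (norm := module) h4
    exact Subtype.ext (hfix x.1 x.2 (fix_of_line h2 (odd_orderOf_of_mem hodd x.2) hv h6))
  have hinv := hff.coe_eq_inv_of_involutive (fun x => Subtype.ext (by
    rw [hφ, hφ, show r * (r * x.1 * r) * r = (r * r) * x.1 * (r * r) by simp only [mul_assoc], hrr,
      one_mul, mul_one]))
  have := congrArg Subtype.val (congrFun hinv ⟨g, hg⟩)
  rw [hφ] at this
  exact this

/-- The three dimensional step: no nontrivial element of odd order in a normal subgroup fixes an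
anisotropic vector orthogonal to a singular one. -/
theorem fix_singular_perp [Finite (quadIsoms Q)] [FiniteDimensional F V] (h2 : (2 : F) ≠ 0)
    (hQ : ∀ x, (∀ y, polar Q x y = 0) → x = 0) (h3 : Module.finrank F V = 3)
    (R : Subgroup (quadIsoms Q)) [hR : R.Normal] (hodd : Odd (Nat.card R)) {v : V} (hv : Q v ≠ 0)
    {e : V} (he0 : e ≠ 0) (he : Q e = 0) (hve : polar Q v e = 0) {g : quadIsoms Q} (hg : g ∈ R)
    (hgv : g.1 v = v) : g = 1 := by
  -- the partner
  obtain ⟨y, hy⟩ := exists_partner Q hQ he0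
  have hvv : polar Q v v ≠ 0 := by rw [polar_self_two]; exact mul_ne_zero h2 hv
  have hev : polar Q e v = 0 := by rw [QuadraticMap.polar_comm, hve]
  obtain ⟨y', hy'⟩ : ∃ y', y' = y - (polar Q v y / polar Q v v) • v := ⟨_, rfl⟩
  have hey : polar Q e y' = 1 := by
    rw [hy', QuadraticMap.polar_sub_right, QuadraticMap.polar_smul_right, hy, hev, smul_zero, sub_zero]
  have hvy : polar Q v y' = 0 := by
    rw [hy', QuadraticMap.polar_sub_right, QuadraticMap.polar_smul_right, smul_eq_mul,
      div_mul_cancel₀ _ hvv, sub_self]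
  obtain ⟨f, hf⟩ : ∃ f, f = y' + (-Q y') • e := ⟨_, rfl⟩
  have hQf : Q f = 0 := by
    rw [hf, quad_map_add_smul, he, QuadraticMap.polar_comm _ y' e, hey]; ring
  have hee : polar Q e e = 0 := polar_self_of_singular Q he
  have hff : polar Q f f = 0 := polar_self_of_singular Q hQf
  have hef : polar Q e f = 1 := by
    rw [hf, QuadraticMap.polar_add_right, QuadraticMap.polar_smul_right, hey, hee, smul_zero, add_zero]
  have hfe : polar Q f e = 1 := by rw [QuadraticMap.polar_comm, hef]
  have hvf : polar Q v f = 0 := by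
    rw [hf, QuadraticMap.polar_add_right, QuadraticMap.polar_smul_right, hvy, hve, smul_zero, add_zero]
  have hfv : polar Q f v = 0 := by rw [QuadraticMap.polar_comm, hvf]
  -- they span
  have hli : LinearIndependent F ![e, f, v] := by
    refine Fintype.linearIndependent_iff.2 fun c hc => ?_
    rw [Fin.sum_univ_three] at hc
    simp only [Matrix.cons_val_zero, Matrix.cons_val_one, Matrix.cons_val_two, Matrix.head_cons,
      Matrix.tail_cons] at hc
    have k := fun w => congrArg (polar Q w) hc
    have k0 := k f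
    have k1 := k e
    have k2 := k v
    simp only [QuadraticMap.polar_add_right, QuadraticMap.polar_smul_right, QuadraticMap.polar_zero_right,
      hee, hff, hef, hfe, hvf, hfv, hve, hev, smul_eq_mul, mul_zero, mul_one, add_zero, zero_add] at k0 k1 k2
    intro i
    fin_cases i
    · exact k0
    · exact k1
    · exact (mul_eq_zero.1 k2).resolve_right hvv
  have hspan := hli.span_eq_top_of_card_eq_finrank (by rw [Fintype.card_fin, h3])
  have hdec : ∀ z, ∃ a b c : F, z = a • e + b • f + c • v := fun z => by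
    obtain ⟨c, hc⟩ := (Submodule.mem_span_range_iff_exists_fun F).1 (hspan ▸ Submodule.mem_top (x := z))
    rw [Fin.sum_univ_three] at hc
    exact ⟨c 0, c 1, c 2, hc.symm⟩
  have hext : ∀ h : quadIsoms Q, h.1 e = e → h.1 f = f → h.1 v = v → h = 1 := fun h h0 h1 h2' =>
    quadIsoms_ext Q fun z => by
      obtain ⟨a, b, c, rfl⟩ := hdec z
      simp [h0, h1, h2']
  have hpol := fun x y => polar_quadIsom g.2 x y
  have hodd' := odd_orderOf_of_mem hodd hg
  -- the singular lines of `v⊥`
  have hsing : ∀ x, Q x = 0 → polar Q v x = 0 → ∃ a b : F, x = a • e + b • f ∧ a * b = 0 := by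
    intro x hx hvx
    obtain ⟨a, b, c, rfl⟩ := hdec x
    simp only [QuadraticMap.polar_add_right, QuadraticMap.polar_smul_right, hvf, hve, smul_eq_mul,
      mul_zero, add_zero, zero_add] at hvx
    rw [(mul_eq_zero.1 hvx).resolve_right hvv, zero_smul, add_zero] at hx ⊢
    refine ⟨a, b, rfl, ?_⟩
    rw [QuadraticMap.map_add (⇑Q), quad_smul, quad_smul, QuadraticMap.polar_smul_left,
      QuadraticMap.polar_smul_right, he, hQf, hef] at hx
    simpa using hx
  have hvg : ∀ z, polar Q v (g.1 z) = polar Q v z := fun z => by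
    conv_lhs => rw [← hgv]
    exact hpol v z
  obtain ⟨a, b, hge, hab⟩ := hsing (g.1 e) ((mem_quadIsoms.1 g.2 e).trans he) (by rw [hvg, hve])
  obtain ⟨a', b', hgf, hab'⟩ := hsing (g.1 f) ((mem_quadIsoms.1 g.2 f).trans hQf) (by rw [hvg, hvf])
  have h1 : a * b' + b * a' = 1 := by
    have := hpol e f
    rw [hge, hgf, hef] at this
    simp only [QuadraticMap.polar_add_left, QuadraticMap.polar_add_right, QuadraticMap.polar_smul_left,
      QuadraticMap.polar_smul_right, hee, hff, hef, hfe, smul_eq_mul] at this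
    linear_combination this
  rcases mul_eq_zero.1 hab with rfl | rfl
  · -- the lines are exchanged
    simp only [zero_mul, zero_add] at h1
    have hb'0 : b' = 0 := (mul_eq_zero.1 hab').resolve_left fun h => by simp [h] at h1
    rw [zero_smul, zero_add] at hge
    rw [hb'0, zero_smul, add_zero] at hgf
    have hsq : g * g = 1 := hext _
      (by rw [Subgroup.coe_mul, LinearEquiv.mul_apply, hge, map_smul, hgf, smul_smul, h1, one_smul])
      (by rw [Subgroup.coe_mul, LinearEquiv.mul_apply, hgf, map_smul, hge, smul_smul, mul_comm a' b, h1,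
        one_smul])
      (by rw [Subgroup.coe_mul, LinearEquiv.mul_apply, hgv, hgv])
    have hdvd : orderOf g ∣ 2 := orderOf_dvd_of_pow_eq_one (by rw [sq, hsq])
    rcases (Nat.dvd_prime Nat.prime_two).1 hdvd with h | h
    · exact orderOf_eq_one_iff.1 h
    · rw [h] at hodd'; exact absurd hodd' (by decide)
  · simp only [zero_mul, add_zero] at h1
    have ha'0 : a' = 0 := (mul_eq_zero.1 hab').resolve_right fun h => by simp [h] at h1
    rw [zero_smul, add_zero] at hge
    rw [ha'0, zero_smul, zero_add] at hgf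
    by_cases ha1 : a = 1
    · subst ha1
      rw [one_mul] at h1
      exact hext g (by rw [hge, one_smul]) (by rw [hgf, h1, one_smul]) hgv
    exfalso
    -- a nontrivial Siegel transformation
    have hS : siegel Q e ((a - 1) • v) ∈ R := by
      have h1 : g * siegel Q e v * g⁻¹ * (siegel Q e v)⁻¹ ∈ R := by
        rw [mul_assoc g, mul_assoc g]
        exact R.mul_mem hg (hR.conj_mem _ (R.inv_mem hg) _)
      rwa [siegel_conj, hge, hgv, siegel_smul Q he hev, siegel_neg Q he hev,
        ← siegel_add Q he (by rw [QuadraticMap.polar_smul_right, hev, smul_zero])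
          (by rw [QuadraticMap.polar_neg_right, hev, neg_zero]), ← neg_one_smul F v, ← add_smul,
        ← sub_eq_add_neg] at h1
    -- scaling it
    have hu1 : Q (e - f) = -1 := by
      rw [sub_eq_add_neg, QuadraticMap.map_add (⇑Q), QuadraticMap.map_neg, QuadraticMap.polar_neg_right,
        he, hQf, hef]; ring
    have hu10 : Q (e - f) ≠ 0 := by rw [hu1]; exact neg_ne_zero.2 one_ne_zero
    obtain ⟨r1, hr1⟩ : ∃ r1 : quadIsoms Q, r1.1 = reflEquiv Q (e - f) hu10 :=
      ⟨⟨_, reflEquiv_mem Q _ hu10⟩, rfl⟩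
    have hr1e : r1.1 e = f := by
      rw [hr1, reflEquiv_apply, hu1, QuadraticMap.polar_sub_left, hee, hfe]
      module
    have hr1f : r1.1 f = e := by
      rw [hr1, reflEquiv_apply, hu1, QuadraticMap.polar_sub_left, hef, hff]
      module
    have hr1v : r1.1 v = v := by
      rw [hr1]
      exact reflEquiv_fix Q _ hu10 (by rw [QuadraticMap.polar_sub_left, hev, hfv, sub_zero])
    have hall : ∀ x : F, x ≠ 0 → siegel Q e (x • v) ∈ R := by
      intro x hx
      obtain ⟨t, ht⟩ : ∃ t, t = x / (a - 1) := ⟨_, rfl⟩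
      have ht0 : t ≠ 0 := by rw [ht]; exact div_ne_zero hx (sub_ne_zero.2 ha1)
      have hu2 : Q (e - t • f) = -t := by
        rw [sub_eq_add_neg, ← neg_smul, quad_map_add_smul, he, hQf, hef]; ring
      have hu20 : Q (e - t • f) ≠ 0 := by rw [hu2]; exact neg_ne_zero.2 ht0
      obtain ⟨r2, hr2⟩ : ∃ r2 : quadIsoms Q, r2.1 = reflEquiv Q (e - t • f) hu20 :=
        ⟨⟨_, reflEquiv_mem Q _ hu20⟩, rfl⟩
      have hr2e : r2.1 e = t • f := by
        rw [hr2, reflEquiv_apply, hu2, QuadraticMap.polar_sub_left, QuadraticMap.polar_smul_left, hee,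
          hfe, smul_eq_mul, mul_one, zero_sub, inv_neg, neg_mul_neg, inv_mul_cancel₀ ht0, one_smul,
          sub_sub_cancel]
      have hr2v : r2.1 v = v := by
        rw [hr2]
        exact reflEquiv_fix Q _ hu20 (by
          rw [QuadraticMap.polar_sub_left, QuadraticMap.polar_smul_left, hev, hfv, smul_zero, sub_zero])
      have h1 := hR.conj_mem _ hS (r1 * r2)
      rw [siegel_conj, Subgroup.coe_mul] at h1
      simp only [LinearEquiv.mul_apply, map_smul, hr2e, hr2v, hr1v, hr1f] at h1
      rw [siegel_smul Q he (by rw [QuadraticMap.polar_smul_right, hev, smul_zero]), smul_smul, ht,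
        div_mul_cancel₀ _ (sub_ne_zero.2 ha1)] at h1
      exact h1
    have he1 : siegel Q e v ∈ R := by simpa using hall 1 one_ne_zero
    have hf1 : siegel Q f ((Q v)⁻¹ • v) ∈ R := by
      have h1 := hR.conj_mem _ (hall (Q v)⁻¹ (inv_ne_zero hv)) r1
      rwa [siegel_conj, hr1e, map_smul, hr1v] at h1
    have hfd : polar Q f ((Q v)⁻¹ • v) = 0 := by rw [QuadraticMap.polar_smul_right, hfv, smul_zero]
    obtain ⟨T, hT⟩ : ∃ T, T = siegel Q e v * siegel Q f ((Q v)⁻¹ • v) * siegel Q e v := ⟨_, rfl⟩
    have hTR : T ∈ R := by rw [hT]; exact R.mul_mem (R.mul_mem he1 hf1) he1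
    have hTv : T.1 v = (-1 : F) • v := by
      rw [hT, Subgroup.coe_mul, Subgroup.coe_mul, LinearEquiv.mul_apply, LinearEquiv.mul_apply,
        siegel_apply Q he hev v, hev, polar_self_two]
      simp only [map_add, map_sub, map_smul, zero_smul, add_zero, mul_zero]
      rw [siegel_apply Q hQf hfd, siegel_apply Q hQf hfd]
      simp only [QuadraticMap.polar_smul_left, hfv, hfe, hve, polar_self_two, quad_smul, smul_eq_mul]
      simp only [map_add, map_sub, map_smul, zero_smul, add_zero]
      rw [siegel_apply Q he hev, siegel_apply Q he hev, siegel_apply Q he hev]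
      simp only [hev, hee, hef, hve, hvf, polar_self_two]
      match_scalars <;> field_simp <;> ring
    have := fix_of_line h2 (odd_orderOf_of_mem hodd hTR) hv hTv
    rw [hTv] at this
    have h4 : (2 : F) • v = 0 := by linear_combination (norm := module) -this
    exact hv (by rw [(smul_eq_zero.1 h4).resolve_left h2, QuadraticMap.map_zero])

/-- A three dimensional orthogonal group has no nontrivial normal subgroup of odd order. -/
theorem odd_normal_three [Finite F] [Finite (quadIsoms Q)] [FiniteDimensional F V] (h2 : (2 : F) ≠ 0)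
    (hQ : ∀ x, (∀ y, polar Q x y = 0) → x = 0) (h3 : Module.finrank F V = 3)
    (R : Subgroup (quadIsoms Q)) [hR : R.Normal] (hodd : Odd (Nat.card R)) : R = ⊥ := by
  classical
  letI := Fintype.ofFinite F
  -- a singular vector
  obtain ⟨p₁, hp₁, -⟩ := exists_orth_aniso h2 hQ ![] (fun i => i.elim0) (fun i => i.elim0)
    (show 0 < Module.finrank F V by omega)
  obtain ⟨p₂, hp₂, h12⟩ := exists_orth_aniso h2 hQ ![p₁] (fun i => by fin_cases i; simpa using hp₁)
    (fun i j h => absurd (Subsingleton.elim i j) h) (show 1 < Module.finrank F V by omega)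
  have h12' : polar Q p₁ p₂ = 0 := by simpa using h12 0
  obtain ⟨p₃, hp₃, h3'⟩ := exists_orth_aniso h2 hQ ![p₁, p₂]
    (fun i => by fin_cases i <;> simpa)
    (fun i j h => by
      fin_cases i <;> fin_cases j <;>
        first | exact absurd rfl h | simpa using h12' | simpa [QuadraticMap.polar_comm] using h12')
    (show 2 < Module.finrank F V by omega)
  have h13 : polar Q p₁ p₃ = 0 := by simpa using h3' 0
  have h23 : polar Q p₂ p₃ = 0 := by simpa using h3' 1
  have hodd' : Fintype.card F % 2 = 1 := FiniteField.odd_card_of_char_ne_two (fun h => h2 (by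
    haveI : CharP F 2 := ringChar.of_eq h
    exact CharTwo.two_eq_zero))
  obtain ⟨x, y, hxy⟩ := FiniteField.exists_root_sum_quadratic (R := F)
    (f := Polynomial.C (Q p₁) * Polynomial.X ^ 2) (g := Polynomial.C (Q p₂) * Polynomial.X ^ 2 +
      Polynomial.C (Q p₃)) (Polynomial.degree_C_mul_X_pow 2 hp₁)
    (by rw [Polynomial.degree_add_C (by rw [Polynomial.degree_C_mul_X_pow 2 hp₂]; norm_num),
      Polynomial.degree_C_mul_X_pow 2 hp₂]; norm_num) hodd'
  simp only [Polynomial.eval_add, Polynomial.eval_mul, Polynomial.eval_pow, Polynomial.eval_C,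
    Polynomial.eval_X] at hxy
  obtain ⟨e, he⟩ : ∃ e, e = x • p₁ + y • p₂ + p₃ := ⟨_, rfl⟩
  have hQe : Q e = 0 := by
    rw [he, QuadraticMap.map_add (⇑Q), QuadraticMap.map_add (⇑Q), quad_smul, quad_smul,
      QuadraticMap.polar_add_left, QuadraticMap.polar_smul_left, QuadraticMap.polar_smul_left,
      QuadraticMap.polar_smul_left, QuadraticMap.polar_smul_right, h12', h13, h23]
    simp only [smul_zero, add_zero]
    linear_combination hxy
  have he0 : e ≠ 0 := fun h => by
    have h1 : polar Q p₃ e = 0 := by rw [h, QuadraticMap.polar_zero_right]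
    rw [he, QuadraticMap.polar_add_right, QuadraticMap.polar_add_right, QuadraticMap.polar_smul_right,
      QuadraticMap.polar_smul_right, QuadraticMap.polar_comm _ p₃ p₁, QuadraticMap.polar_comm _ p₃ p₂,
      h13, h23, polar_self_two] at h1
    simp only [smul_zero, add_zero, zero_add] at h1
    exact mul_ne_zero h2 hp₃ h1
  -- a hyperbolic pair and its perpendicular
  obtain ⟨f₀, hf₀⟩ := exists_partner Q hQ he0
  obtain ⟨f, hf⟩ : ∃ f, f = f₀ + (-Q f₀) • e := ⟨_, rfl⟩
  have hee := polar_self_of_singular Q hQe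
  have hQf : Q f = 0 := by
    rw [hf, quad_map_add_smul, hQe, QuadraticMap.polar_comm _ f₀ e, hf₀]; ring
  have hef : polar Q e f = 1 := by
    rw [hf, QuadraticMap.polar_add_right, QuadraticMap.polar_smul_right, hf₀, hee, smul_zero, add_zero]
  have hfe : polar Q f e = 1 := by rw [QuadraticMap.polar_comm, hef]
  have hff := polar_self_of_singular Q hQf
  have hQef : ∀ t : F, Q (e + t • f) = t := fun t => by
    rw [quad_map_add_smul, hQe, hQf, hef]; ring
  obtain ⟨z, hz, hzp⟩ := exists_orth_aniso h2 hQ ![e + (1 : F) • f, e + (-1 : F) • f]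
    (fun i => by
      fin_cases i
      · simpa using (hQef 1).trans_ne one_ne_zero
      · simpa using (hQef (-1)).trans_ne (neg_ne_zero.2 one_ne_zero))
    (fun i j h => by
      fin_cases i <;> fin_cases j <;>
        first
        | exact absurd rfl h
        | (simp only [Matrix.cons_val_zero, Matrix.cons_val_one, Fin.zero_eta, Fin.mk_one,
            QuadraticMap.polar_add_left, QuadraticMap.polar_add_right, QuadraticMap.polar_smul_left,
            QuadraticMap.polar_smul_right, hee, hff, hef, hfe, smul_eq_mul]; ring))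
    (show 2 < Module.finrank F V by omega)
  have hzp0 := hzp 0
  have hzp1 := hzp 1
  simp only [Matrix.cons_val_zero, Matrix.cons_val_one, Matrix.head_cons,
    QuadraticMap.polar_add_left, QuadraticMap.polar_smul_left, smul_eq_mul] at hzp0 hzp1
  have hez : polar Q e z = 0 :=
    (mul_eq_zero.1 (show (2 : F) * polar Q e z = 0 by linear_combination hzp0 + hzp1)).resolve_left h2
  have hfz : polar Q f z = 0 := by linear_combination hzp0 - hez
  have hze : polar Q z e = 0 := by rw [QuadraticMap.polar_comm, hez]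
  have hzf : polar Q z f = 0 := by rw [QuadraticMap.polar_comm, hfz]
  obtain ⟨c, hc⟩ : ∃ c, c = Q z := ⟨_, rfl⟩
  have hc0 : c ≠ 0 := hc ▸ hz
  obtain ⟨v, hv⟩ : ∃ v, v = e + c • f := ⟨_, rfl⟩
  obtain ⟨w, hw⟩ : ∃ w, w = e + (-c) • f := ⟨_, rfl⟩
  have hQv : Q v ≠ 0 := by rw [hv, hQef]; exact hc0
  have hQw : Q w ≠ 0 := by rw [hw, hQef]; exact neg_ne_zero.2 hc0
  have hzv : polar Q z v = 0 := by
    rw [hv, QuadraticMap.polar_add_right, QuadraticMap.polar_smul_right, hze, hzf, smul_zero, add_zero]
  have hzw : polar Q z w = 0 := by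
    rw [hw, QuadraticMap.polar_add_right, QuadraticMap.polar_smul_right, hze, hzf, smul_zero, add_zero]
  have hvw : polar Q v w = 0 := by
    rw [hv, hw]
    simp only [QuadraticMap.polar_add_left, QuadraticMap.polar_add_right, QuadraticMap.polar_smul_left,
      QuadraticMap.polar_smul_right, hee, hff, hef, hfe, smul_eq_mul]
    ring
  have hzz : polar Q z z = 2 * c := by rw [polar_self_two, hc]
  -- both are orthogonal to singular vectors
  have hAz : ∀ g ∈ R, g.1 z = z → g = 1 := fun g hg h =>
    fix_singular_perp h2 hQ h3 R hodd hz he0 hQe hze hg h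
  have hAv : ∀ g ∈ R, g.1 v = v → g = 1 := by
    intro g hg h
    refine fix_singular_perp h2 hQ h3 R hodd hQv (e := z + w) (fun h0 => ?_) ?_ ?_ hg h
    · have := congrArg (polar Q z) h0
      rw [QuadraticMap.polar_add_right, hzw, hzz, QuadraticMap.polar_zero_right, add_zero] at this
      exact mul_ne_zero h2 hc0 this
    · rw [QuadraticMap.map_add (⇑Q), hzw, hw, hQef, ← hc]; ring
    · rw [QuadraticMap.polar_add_right, QuadraticMap.polar_comm _ v z, hzv, hvw, add_zero]
  refine (Subgroup.eq_bot_iff_forall R).2 fun g hg => ?_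
  have hw_fix : ∀ g ∈ R, g.1 w = w := by
    intro g hg
    obtain ⟨rz, hrz⟩ : ∃ r : quadIsoms Q, r = ⟨reflEquiv Q z hz, reflEquiv_mem Q z hz⟩ := ⟨_, rfl⟩
    obtain ⟨rv, hrv⟩ : ∃ r : quadIsoms Q, r = ⟨reflEquiv Q v hQv, reflEquiv_mem Q v hQv⟩ := ⟨_, rfl⟩
    have hrr : rv * rv = 1 := Subtype.ext (by rw [hrv]; exact reflEquiv_mul_self Q v hQv)
    have h1 : rv * g * rv = g⁻¹ := by rw [hrv]; exact refl_inverts h2 R hodd hQv hAv hg
    have h1' : rz * g⁻¹ * rz = g := by
      rw [hrz, refl_inverts h2 R hodd hz hAz (R.inv_mem hg), inv_inv]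
    have hzz1 : rz * rz = 1 := Subtype.ext (by rw [hrz]; exact reflEquiv_mul_self Q z hz)
    have hcomm : rz * rv * g = g * (rz * rv) := by
      calc rz * rv * g = rz * (rv * g * rv) * rv := by
            simp only [mul_assoc]; rw [hrr, mul_one]
        _ = rz * g⁻¹ * (rz * rz) * rv := by rw [h1, hzz1, mul_one]
        _ = rz * g⁻¹ * rz * (rz * rv) := by simp only [mul_assoc]
        _ = g * (rz * rv) := by rw [h1']
    have hfixw : rv.1 w = w ∧ rz.1 w = w := by
      rw [hrv, hrz]
      exact ⟨reflEquiv_fix Q v hQv hvw, reflEquiv_fix Q z hz hzw⟩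
    have h4 := congrArg (fun k : quadIsoms Q => k.1 w) hcomm
    simp only [Subgroup.coe_mul, LinearEquiv.mul_apply, hfixw.1, hfixw.2] at h4
    obtain ⟨t, ht⟩ : ∃ t, t = g.1 w := ⟨_, rfl⟩
    rw [← ht, hrz, hrv] at h4
    simp only [reflEquiv_apply, QuadraticMap.polar_sub_right, QuadraticMap.polar_smul_right, hzv,
      smul_zero, sub_zero] at h4
    have h5 : ((Q v)⁻¹ * polar Q v t) • v + ((Q z)⁻¹ * polar Q z t) • z = 0 := by
      linear_combination (norm := module) -h4
    have hvv : polar Q v v ≠ 0 := by rw [polar_self_two]; exact mul_ne_zero h2 hQv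
    have hzz' : polar Q z z ≠ 0 := by rw [polar_self_two]; exact mul_ne_zero h2 hz
    have hvz : polar Q v z = 0 := by rw [QuadraticMap.polar_comm, hzv]
    have e1 := congrArg (polar Q v) h5
    have e2 := congrArg (polar Q z) h5
    simp [QuadraticMap.polar_add_right, QuadraticMap.polar_smul_right, hvz, hzv, hvv, hzz', hQv, hz]
      at e1 e2
    have hwz : polar Q w z = 0 := by rw [QuadraticMap.polar_comm, hzw]
    have hwv : polar Q w v = 0 := by rw [QuadraticMap.polar_comm, hvw]
    have hww : polar Q w w ≠ 0 := by rw [polar_self_two]; exact mul_ne_zero h2 hQw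
    obtain ⟨k, hk⟩ : ∃ k, k = polar Q w t / polar Q w w := ⟨_, rfl⟩
    have hli : LinearIndependent F ![z, v, w] := by
      refine Fintype.linearIndependent_iff.2 fun d hd => ?_
      rw [Fin.sum_univ_three] at hd
      simp only [Matrix.cons_val_zero, Matrix.cons_val_one, Matrix.cons_val_two, Matrix.head_cons,
        Matrix.tail_cons] at hd
      have d0 := congrArg (polar Q z) hd
      have d1 := congrArg (polar Q v) hd
      have d2 := congrArg (polar Q w) hd
      simp [QuadraticMap.polar_add_right, QuadraticMap.polar_smul_right, hzv, hzw, hvz, hvw, hwz, hwv,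
        hvv, hzz', hww] at d0 d1 d2
      intro i
      fin_cases i
      · exact d0.resolve_right (by simp [h2, hz])
      · exact d1.resolve_right (by simp [h2, hQv])
      · exact d2.resolve_right (by simp [h2, hQw])
    obtain ⟨d, hd⟩ := (Submodule.mem_span_range_iff_exists_fun F).1
      (hli.span_eq_top_of_card_eq_finrank (by rw [Fintype.card_fin, h3]) ▸ Submodule.mem_top (x := t))
    rw [Fin.sum_univ_three] at hd
    simp only [Matrix.cons_val_zero, Matrix.cons_val_one, Matrix.cons_val_two, Matrix.head_cons,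
      Matrix.tail_cons] at hd
    rw [← hd] at e1 e2
    simp [QuadraticMap.polar_add_right, QuadraticMap.polar_smul_right, hzv, hzw, hvz, hvw, hvv, hzz',
      h2, hz, hQv] at e1 e2
    refine fix_of_line h2 (odd_orderOf_of_mem hodd hg) hQw (a := d 2) ?_
    rw [← ht, ← hd, e1, e2, zero_smul, zero_smul, zero_add, zero_add]
  -- so everything fixed
  have hconj : ∀ x : F, g.1 ((siegel Q e (x • z)).1 w) = (siegel Q e (x • z)).1 w := by
    intro x
    obtain ⟨h, hh⟩ : ∃ h, h = siegel Q e (x • z) := ⟨_, rfl⟩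
    rw [← hh]
    have h1 := hw_fix _ (by simpa using hR.conj_mem g hg h⁻¹)
    have h2 := congrArg h.1 h1
    simpa [LinearEquiv.mul_apply] using h2
  have hSw : ∀ x : F, (siegel Q e (x • z)).1 w = w + (-c * x) • z + (c * c * (x * x)) • e := by
    intro x
    rw [siegel_apply Q hQe (by rw [QuadraticMap.polar_smul_right, hez, smul_zero]),
      QuadraticMap.polar_smul_left, quad_smul, hzw, ← hc, show polar Q e w = -c by
        rw [hw, QuadraticMap.polar_add_right, QuadraticMap.polar_smul_right, hee, hef, smul_eq_mul,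
          mul_one, zero_add]]
    simp only [smul_eq_mul, mul_zero, zero_add]
    module
  have hgw := hw_fix g hg
  have k1 := hconj 1
  have k2 := hconj (-1)
  rw [hSw, map_add, map_add, map_smul, map_smul, hgw] at k1 k2
  have hge : g.1 e = e := smul_right_injective V (mul_ne_zero h2 (mul_ne_zero hc0 hc0))
    (show (2 * (c * c)) • g.1 e = (2 * (c * c)) • e by linear_combination (norm := module) k1 + k2)
  have hgz : g.1 z = z := smul_right_injective V (mul_ne_zero h2 hc0)
    (show (2 * c) • g.1 z = (2 * c) • z by linear_combination (norm := module) k2 - k1)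
  exact hAz g hg hgz

/-- Isometries of the space orthogonal to an anisotropic vector extend. -/
theorem exists_extend_perp (h2 : (2 : F) ≠ 0) {v : V} (hv : Q v ≠ 0)
    (h : quadIsoms (Q.comp (LinearMap.ker (QuadraticMap.polarBilin Q v)).subtype)) :
    ∃ g : quadIsoms Q, g.1 v = v ∧ ∀ z, g.1 z.1 = (h.1 z).1 := by
  have hvv : polar Q v v ≠ 0 := by rw [polar_self_two]; exact mul_ne_zero h2 hv
  let W := LinearMap.ker (QuadraticMap.polarBilin Q v)
  let pr : V →ₗ[F] ↥W := LinearMap.codRestrict W
    (LinearMap.id - ((polar Q v v)⁻¹ • (QuadraticMap.polarBilin Q v)).smulRight v) fun z => by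
      show QuadraticMap.polarBilin Q v _ = 0
      simp only [LinearMap.sub_apply, LinearMap.id_apply, LinearMap.smulRight_apply, LinearMap.smul_apply,
        map_sub, map_smul, QuadraticMap.polarBilin_apply_apply, smul_eq_mul]
      field_simp
      ring
  let ext : quadIsoms (Q.comp W.subtype) → V →ₗ[F] V := fun k =>
    W.subtype.comp (k.1.toLinearMap.comp pr) +
      ((polar Q v v)⁻¹ • (QuadraticMap.polarBilin Q v)).smulRight v
  have hpr : ∀ z, (pr z).1 = z - ((polar Q v v)⁻¹ * polar Q v z) • v := fun z => rfl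
  have hext : ∀ k z, ext k z = (k.1 (pr z)).1 + ((polar Q v v)⁻¹ * polar Q v z) • v := fun k z => rfl
  have hmem : ∀ z : ↥W, polar Q v z.1 = 0 := fun z => z.2
  have hprW : ∀ z : ↥W, pr z.1 = z := fun z => Subtype.ext (by
    rw [hpr, hmem, mul_zero, zero_smul, sub_zero])
  have hcomp : ∀ k k' z, ext k (ext k' z) = ext (k * k') z := by
    intro k k' z
    obtain ⟨a, ha⟩ : ∃ a, a = (polar Q v v)⁻¹ * polar Q v z := ⟨_, rfl⟩
    have h1 : polar Q v (ext k' z) = polar Q v z := by
      rw [hext, ← ha, QuadraticMap.polar_add_right, hmem, QuadraticMap.polar_smul_right, smul_eq_mul,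
        zero_add, ha]
      field_simp
    have h3 : pr (ext k' z) = k'.1 (pr z) := Subtype.ext (by
      rw [hpr, h1, hext]; abel)
    rw [hext k, h3, h1, hext]
    rfl
  have hone : ∀ z, ext 1 z = z := fun z => by
    rw [hext, OneMemClass.coe_one, LinearEquiv.coe_one, id_eq, hpr, sub_add_cancel]
  let E : V ≃ₗ[F] V := LinearEquiv.ofLinearMap (ext h) (ext h⁻¹)
    (LinearMap.ext fun z => by rw [LinearMap.comp_apply, hcomp, mul_inv_cancel, hone]; rfl)
    (LinearMap.ext fun z => by rw [LinearMap.comp_apply, hcomp, inv_mul_cancel, hone]; rfl)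
  have hquad : ∀ z, Q (ext h z) = Q z := fun z => by
    have key : ∀ (u : ↥W) (t : F), Q (u.1 + t • v) = Q u.1 + t * t * Q v := fun u t => by
      rw [quad_map_add_smul, QuadraticMap.polar_comm, hmem]; ring
    have hz : z = (pr z).1 + ((polar Q v v)⁻¹ * polar Q v z) • v := by rw [hpr, sub_add_cancel]
    conv_rhs => rw [hz, key]
    rw [hext, key]
    congr 1
    exact mem_quadIsoms.1 h.2 (pr z)
  refine ⟨⟨E, mem_quadIsoms.2 hquad⟩, ?_, fun z => ?_⟩
  · show ext h v = v
    rw [hext, show pr v = 0 from Subtype.ext (by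
      rw [hpr, inv_mul_cancel₀ hvv, one_smul, sub_self, Submodule.coe_zero]), map_zero,
      inv_mul_cancel₀ hvv, one_smul, Submodule.coe_zero, zero_add]
  · show ext h z.1 = _
    rw [hext, hprW, hmem, mul_zero, zero_smul, add_zero]

/-- An orthogonal group of dimension at least three over a field of odd order has no nontrivial normal
subgroup of odd order. -/
theorem odd_normal_quadIsoms_eq_bot {F : Type*} [Field F] [Finite F] (h2 : (2 : F) ≠ 0) (n : ℕ) :
    ∀ {V : Type*} [AddCommGroup V] [Module F V] [FiniteDimensional F V] (Q : QuadraticForm F V),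
      (∀ x, (∀ y, polar Q x y = 0) → x = 0) → Module.finrank F V = n → 3 ≤ n →
      ∀ R : Subgroup (quadIsoms Q), R.Normal → Odd (Nat.card R) → R = ⊥ := by
  induction n using Nat.strong_induction_on with
  | _ n ih =>
  intro V _ _ _ Q hQ hn hn3 R hR hodd
  haveI := hR
  haveI : Finite V := Module.finite_of_finite F
  haveI : Finite (V ≃ₗ[F] V) := Finite.of_injective (fun e => (e : V → V)) DFunLike.coe_injective
  haveI : Finite (quadIsoms Q) := Subtype.finite
  rcases Nat.eq_or_lt_of_le hn3 with rfl | hn4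
  · exact odd_normal_three h2 hQ hn R hodd
  -- fixing an anisotropic vector
  have hA : ∀ v, Q v ≠ 0 → ∀ g ∈ R, g.1 v = v → g = 1 := by
    intro v hv g hg hgv
    obtain ⟨W, hW⟩ : ∃ W, W = LinearMap.ker (QuadraticMap.polarBilin Q v) := ⟨_, rfl⟩
    have hvv : polar Q v v ≠ 0 := by rw [polar_self_two]; exact mul_ne_zero h2 hv
    have hmem : ∀ z, z ∈ W ↔ polar Q v z = 0 := fun z => by rw [hW]; exact Iff.rfl
    have hdec : ∀ y, ∃ (c : F) (z : ↥W), y = c • v + z.1 := fun y =>
      ⟨polar Q v y / polar Q v v, ⟨y - (polar Q v y / polar Q v v) • v, (hmem _).2 (by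
        rw [QuadraticMap.polar_sub_right, QuadraticMap.polar_smul_right, smul_eq_mul,
          div_mul_cancel₀ _ hvv, sub_self])⟩, (add_sub_cancel _ _).symm⟩
    have hdet : ∀ a b : quadIsoms Q, a.1 v = b.1 v → (∀ z : ↥W, a.1 z.1 = b.1 z.1) → a = b :=
      fun a b h1 h2 => quadIsoms_ext Q fun y => by
        obtain ⟨c, z, rfl⟩ := hdec y
        rw [map_add, map_add, map_smul, map_smul, h1, h2]
    -- dimension
    have hlt : Module.finrank F W < n := by
      rw [← hn]
      refine Submodule.finrank_lt fun h => hvv ?_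
      exact (hmem v).1 (h ▸ Submodule.mem_top)
    have hge : 3 ≤ Module.finrank F W := by
      have h1 := LinearMap.finrank_range_add_finrank_ker (QuadraticMap.polarBilin Q v)
      rw [← hW, hn] at h1
      have h3 : Module.finrank F (LinearMap.range (QuadraticMap.polarBilin Q v)) ≤ 1 :=
        (Submodule.finrank_le _).trans (le_of_eq (Module.finrank_self F))
      omega
    let QW : QuadraticForm F ↥W := Q.comp W.subtype
    have hQW : ∀ x, (∀ y, polar QW x y = 0) → x = 0 := fun x hx => Subtype.ext (hQ x.1 fun y => by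
      obtain ⟨c, z, rfl⟩ := hdec y
      rw [QuadraticMap.polar_add_right, QuadraticMap.polar_smul_right, QuadraticMap.polar_comm _ x.1 v,
        (hmem _).1 x.2, smul_zero, zero_add]
      exact hx z)
    obtain ⟨R', hR'⟩ : ∃ R' : Subgroup (quadIsoms QW),
        ∀ h, h ∈ R' ↔ ∃ g ∈ R, g.1 v = v ∧ ∀ z : ↥W, g.1 z.1 = (h.1 z).1 :=
      ⟨{ carrier := {h | ∃ g ∈ R, g.1 v = v ∧ ∀ z : ↥W, g.1 z.1 = (h.1 z).1}
         one_mem' := ⟨1, R.one_mem, by simp, fun z => by simp⟩
         mul_mem' := by
           rintro a b ⟨g, hg, hgv, hga⟩ ⟨g', hg', hgv', hgb⟩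
           exact ⟨g * g', R.mul_mem hg hg', by rw [Subgroup.coe_mul, LinearEquiv.mul_apply, hgv', hgv],
             fun z => by rw [Subgroup.coe_mul, LinearEquiv.mul_apply, hgb, hga]; rfl⟩
         inv_mem' := by
           rintro a ⟨g, hg, hgv, hga⟩
           refine ⟨g⁻¹, R.inv_mem hg, ?_, fun z => ?_⟩
           · rw [Subgroup.coe_inv, LinearEquiv.coe_inv]
             exact (LinearEquiv.symm_apply_eq _).2 hgv.symm
           · rw [Subgroup.coe_inv, LinearEquiv.coe_inv, LinearEquiv.symm_apply_eq, hga]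
             show z.1 = ((a.1 * a.1⁻¹) z).1
             rw [mul_inv_cancel]; rfl }, fun h => Iff.rfl⟩
    haveI : Finite (↥W ≃ₗ[F] ↥W) := Finite.of_injective (fun e => (e : ↥W → ↥W)) DFunLike.coe_injective
    haveI : Finite (quadIsoms QW) := Subtype.finite
    have hn' : R'.Normal := ⟨fun a ha k => by
      obtain ⟨g, hg, hgv, hga⟩ := (hR' a).1 ha
      subst hW
      obtain ⟨K, hKv, hKz⟩ := exists_extend_perp h2 hv k
      have hKi : K.1.symm v = v := (LinearEquiv.symm_apply_eq _).2 hKv.symm
      have hKiz : ∀ z, K.1.symm z.1 = (k.1.symm z).1 := fun z =>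
        (LinearEquiv.symm_apply_eq _).2 (by rw [hKz, LinearEquiv.apply_symm_apply])
      refine (hR' _).2 ⟨K * g * K⁻¹, hR.conj_mem g hg K, ?_, fun z => ?_⟩
      · simp only [Subgroup.coe_mul, Subgroup.coe_inv, LinearEquiv.mul_apply, LinearEquiv.coe_inv]
        rw [hKi, hgv, hKv]
      · simp only [Subgroup.coe_mul, Subgroup.coe_inv, LinearEquiv.mul_apply, LinearEquiv.coe_inv]
        rw [hKiz, hga, hKz]⟩
    have hodd' : Odd (Nat.card R') := by
      rw [← Nat.not_even_iff_odd, even_iff_two_dvd]
      intro h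
      obtain ⟨⟨a, ha⟩, ho⟩ := exists_prime_orderOf_dvd_card' (G := ↥R') 2 h
      rw [Subgroup.orderOf_mk] at ho
      obtain ⟨g, hg, hgv, hga⟩ := (hR' a).1 ha
      have haa : a * a = 1 := by rw [← sq, ← ho, pow_orderOf_eq_one]
      have hgg : g * g = 1 := hdet _ _ (by simp [hgv]) fun z => by
        simp only [Subgroup.coe_mul, LinearEquiv.mul_apply, hga]
        show (((a * a).1 : ↥W ≃ₗ[F] ↥W) z).1 = _
        rw [haa]; rfl
      have hdvd : orderOf g ∣ 2 := orderOf_dvd_of_pow_eq_one (by rw [sq, hgg])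
      rcases (Nat.dvd_prime Nat.prime_two).1 hdvd with h | h
      · rw [orderOf_eq_one_iff] at h
        subst h
        have : a = 1 := quadIsoms_ext QW fun z => Subtype.ext (hga z).symm
        rw [this, orderOf_one] at ho
        exact absurd ho (by decide)
      · have := odd_orderOf_of_mem hodd hg
        rw [h] at this
        exact absurd this (by decide)
    have hbot := ih _ hlt QW hQW rfl hge R' hn' hodd'
    obtain ⟨h, hh⟩ : ∃ h : quadIsoms QW, ∀ z : ↥W, g.1 z.1 = (h.1 z).1 := by
      have hgW : ∀ z : ↥W, g.1 z.1 ∈ W := fun z => (hmem _).2 (by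
        conv_lhs => rw [← hgv]
        rw [polar_quadIsom g.2]
        exact (hmem _).1 z.2)
      have hgWi : ∀ z : ↥W, g.1.symm z.1 ∈ W := fun z => (hmem _).2 (by
        rw [← polar_quadIsom g.2 v, hgv, LinearEquiv.apply_symm_apply]
        exact (hmem _).1 z.2)
      refine ⟨⟨LinearEquiv.ofLinearMap
        (LinearMap.codRestrict W (g.1.toLinearMap.comp W.subtype) hgW)
        (LinearMap.codRestrict W (g.1.symm.toLinearMap.comp W.subtype) hgWi)
        (LinearMap.ext fun z => Subtype.ext (g.1.apply_symm_apply _))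
        (LinearMap.ext fun z => Subtype.ext (g.1.symm_apply_apply _)),
        mem_quadIsoms.2 fun z => mem_quadIsoms.1 g.2 z.1⟩, fun z => rfl⟩
    have h1 : h = 1 := Subgroup.mem_bot.1 (hbot ▸ (hR' h).2 ⟨g, hg, hgv, hh⟩)
    exact hdet g 1 (by simp [hgv]) fun z => by rw [hh, h1]; rfl
  -- an element commuting with enough pairs of reflections
  refine (Subgroup.eq_bot_iff_forall R).2 fun g hg => ?_
  obtain ⟨u, hu, -⟩ := exists_orth_aniso h2 hQ ![] (fun i => i.elim0) (fun i => i.elim0)
    (show 0 < Module.finrank F V by omega)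
  obtain ⟨v, hv, huv'⟩ := exists_orth_aniso h2 hQ ![u] (fun i => by fin_cases i; simpa using hu)
    (fun i j h => absurd (Subsingleton.elim i j) h) (show 1 < Module.finrank F V by omega)
  have huv : polar Q u v = 0 := by simpa using huv' 0
  obtain ⟨w, hw, hw'⟩ := exists_orth_aniso h2 hQ ![u, v] (fun i => by fin_cases i <;> simpa)
    (fun i j h => by
      fin_cases i <;> fin_cases j <;>
        first | exact absurd rfl h | simpa using huv | simpa [QuadraticMap.polar_comm] using huv)
    (show 2 < Module.finrank F V by omega)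
  have huw : polar Q u w = 0 := by simpa using hw' 0
  have hvw : polar Q v w = 0 := by simpa using hw' 1
  have hpair : ∀ x, Q x ≠ 0 → polar Q u x = 0 →
      ∃ a b : F, g.1 u = a • u + b • x := by
    intro x hx hux
    obtain ⟨ru, hru⟩ : ∃ r : quadIsoms Q, r = ⟨reflEquiv Q u hu, reflEquiv_mem Q u hu⟩ := ⟨_, rfl⟩
    obtain ⟨rx, hrx⟩ : ∃ r : quadIsoms Q, r = ⟨reflEquiv Q x hx, reflEquiv_mem Q x hx⟩ := ⟨_, rfl⟩
    have hrr : rx * rx = 1 := Subtype.ext (by rw [hrx]; exact reflEquiv_mul_self Q x hx)
    have huu : ru * ru = 1 := Subtype.ext (by rw [hru]; exact reflEquiv_mul_self Q u hu)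
    have h1 : rx * g * rx = g⁻¹ := by rw [hrx]; exact refl_inverts h2 R hodd hx (hA x hx) hg
    have h1' : ru * g⁻¹ * ru = g := by
      rw [hru, refl_inverts h2 R hodd hu (hA u hu) (R.inv_mem hg), inv_inv]
    have hcomm : ru * rx * g = g * (ru * rx) := by
      calc ru * rx * g = ru * (rx * g * rx) * rx := by simp only [mul_assoc]; rw [hrr, mul_one]
        _ = ru * g⁻¹ * (ru * ru) * rx := by rw [h1, huu, mul_one]
        _ = ru * g⁻¹ * ru * (ru * rx) := by simp only [mul_assoc]
        _ = g * (ru * rx) := by rw [h1']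
    have h3 : rx.1 u = u ∧ ru.1 u = -u := by
      rw [hrx, hru]
      exact ⟨reflEquiv_fix Q x hx (by rw [QuadraticMap.polar_comm, hux]), reflEquiv_self Q u hu⟩
    have h4 := congrArg (fun k : quadIsoms Q => k.1 u) hcomm
    simp only [Subgroup.coe_mul, LinearEquiv.mul_apply, h3.1, h3.2, map_neg] at h4
    obtain ⟨t, ht⟩ : ∃ t, t = g.1 u := ⟨_, rfl⟩
    rw [← ht, hru, hrx] at h4
    simp only [reflEquiv_apply, QuadraticMap.polar_sub_right, QuadraticMap.polar_smul_right, hux,
      smul_zero, sub_zero] at h4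
    refine ⟨(2 : F)⁻¹ * ((Q u)⁻¹ * polar Q u t), (2 : F)⁻¹ * ((Q x)⁻¹ * polar Q x t), ?_⟩
    rw [← ht]
    refine smul_right_injective V h2 ?_
    dsimp only
    rw [smul_add, smul_smul, smul_smul, ← mul_assoc (2 : F), ← mul_assoc (2 : F), mul_inv_cancel₀ h2,
      one_mul, one_mul]
    linear_combination (norm := module) h4
  obtain ⟨a, b, hab⟩ := hpair v hv huv
  obtain ⟨a', b', hab'⟩ := hpair w hw huw
  have e := congrArg (polar Q v) (hab.symm.trans hab')
  simp only [QuadraticMap.polar_add_right, QuadraticMap.polar_smul_right, hvw,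
    QuadraticMap.polar_comm _ v u, huv, smul_eq_mul, polar_self_two, mul_zero, zero_add, add_zero] at e
  have hb : b = 0 := (mul_eq_zero.1 e).resolve_right (mul_ne_zero h2 hv)
  rw [hb, zero_smul, add_zero] at hab
  exact hA u hu g hg (fix_of_line h2 (odd_orderOf_of_mem hodd hg) hu hab)

end CfsgLib.KnownC
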