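import Mathlib
import Cfsg.Agent.Lib.KnownC.LocalBalanceOddCore
import Cfsg.Agent.Lib.Classical.OrthSiegel
import Cfsg.Agent.Lib.KnownC.AutPOmegaBase
import Cfsg.Agent.Lib.KnownC.AutPOmegaEvenClass

set_option autoImplicit false
set_option linter.unusedSectionVars false
set_option linter.style.haveILetI false

/-!
The centraliser of an involutive isometry, and of a self-adjoint square root of a non-square, in an
orthogonal group: no odd normal subgroups and only scalar commutants.
-/

namespace CfsgLib.KnownC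

open CfsgLib.Geom CfsgLib.Classical
open QuadraticMap (polar)

variable {F : Type*} [Field F] {V : Type*} [AddCommGroup V] [Module F V] {Q : QuadraticForm F V}

/-- A semilinear map commuting with the Siegel transformations of a space of dimension at least three
is scalar, and the field map is trivial. -/
theorem scalar_of_commute_siegel [Finite F] [FiniteDimensional F V] (h2 : (2 : F) ≠ 0)
    (hQ : ∀ x, (∀ y, polar Q x y = 0) → x = 0) (hn : 3 ≤ Module.finrank F V) (T : V →+ V)
    (hT : Function.Injective T) (σ : F → F) (hσ : ∀ t v, T (t • v) = σ t • T v)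
    (hS : ∀ x c : V, Q x = 0 → polar Q x c = 0 → ∀ z, T ((siegel Q x c).1 z) = (siegel Q x c).1 (T z)) :
    (∀ t, σ t = t) ∧ ∃ α : F, ∀ v, T v = α • v := by
  -- singular lines
  have hline : ∀ x : V, x ≠ 0 → Q x = 0 → ∃ α : F, T x = α • x := by
    intro x hx0 hx
    obtain ⟨f, hH⟩ := exists_hyp (Q := Q) hQ hx0 hx
    have key : ∀ c, polar Q x c = 0 → polar Q x (T x) • c - (polar Q c (T x) + Q c * polar Q x (T x)) • x = 0 := by
      intro c hc
      have h1 := hS x c hx hc x
      rw [siegel_apply Q hx hc x, siegel_apply Q hx hc (T x), polar_self_two, hx, mul_zero, zero_smul,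
        add_zero, QuadraticMap.polar_comm _ c x, hc, mul_zero, add_zero, zero_smul, sub_zero] at h1
      rw [add_sub_assoc] at h1
      exact add_eq_left.1 h1.symm
    obtain ⟨b, hb0, hb⟩ := exists_perp_ne_zero_fin (Q := Q) ![x, f] (by omega)
    have hxb : polar Q x b = 0 := hb 0
    have hli : ∀ s t : F, s • b = t • x → s = 0 := by
      intro s t h
      have h1 : polar Q f (s • b) = polar Q f (t • x) := by rw [h]
      have hfb : polar Q f b = 0 := hb 1
      rw [QuadraticMap.polar_smul_right, QuadraticMap.polar_smul_right, hfb, hH.fe, smul_zero, smul_eq_mul,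
        mul_one] at h1
      rw [← h1, zero_smul] at h
      exact (smul_eq_zero.1 h).resolve_right hb0
    have h0 : polar Q x (T x) = 0 := hli _ _ (sub_eq_zero.1 (key b hxb))
    have h1 : ∀ c, polar Q x c = 0 → polar Q c (T x) = 0 := fun c hc => by
      have := key c hc
      rw [h0, zero_smul, zero_sub, mul_zero, add_zero, neg_eq_zero, smul_eq_zero] at this
      exact this.resolve_right hx0
    refine ⟨polar Q f (T x), sub_eq_zero.1 (hQ _ fun y => ?_)⟩
    have hy := h1 (y - polar Q x y • f) (by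
      rw [QuadraticMap.polar_sub_right, QuadraticMap.polar_smul_right, hH.hef, smul_eq_mul, mul_one,
        sub_self])
    rw [QuadraticMap.polar_sub_left, QuadraticMap.polar_smul_left, smul_eq_mul, sub_eq_zero] at hy
    rw [QuadraticMap.polar_sub_left, QuadraticMap.polar_smul_left, smul_eq_mul,
      QuadraticMap.polar_comm _ (T x) y, hy]
    ring
  obtain ⟨x, hx0, hx⟩ := exists_singular_ge_three Q hQ hn
  obtain ⟨y, hH⟩ := exists_hyp (Q := Q) hQ hx0 hx
  have hy0 : y ≠ 0 := hH.ne_zero.2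
  obtain ⟨α, hα⟩ := hline x hx0 hx
  obtain ⟨β, hβ⟩ := hline y hy0 hH.hf
  have hα0 : α ≠ 0 := fun h => hx0 (hT (by rw [hα, h, zero_smul, map_zero]))
  have hmul : ∀ s t, σ (s * t) = σ s * σ t := fun s t => by
    have h1 := hσ (s * t) x
    rw [mul_smul, hσ, hσ, ← mul_smul, hα, ← mul_smul, ← mul_smul] at h1
    exact (mul_right_cancel₀ hα0 (smul_left_injective F hx0 h1)).symm
  have hadd : ∀ s t, σ (s + t) = σ s + σ t := fun s t => by
    have h1 := hσ (s + t) x
    rw [add_smul, map_add, hσ, hσ, ← add_smul, hα, ← mul_smul, ← mul_smul] at h1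
    exact (mul_right_cancel₀ hα0 (smul_left_injective F hx0 h1)).symm
  have hone : σ 1 = 1 := by
    have h1 := hσ 1 x
    rw [one_smul, hα, ← mul_smul] at h1
    refine mul_right_cancel₀ hα0 ((smul_left_injective F hx0 h1).symm.trans (one_mul α).symm)
  -- the orthogonal complement of the pair
  have main : ∀ c, polar Q x c = 0 → polar Q y c = 0 → c ≠ 0 →
      T c = α • c ∧ β = α ∧ σ (Q c) = Q c := by
    intro c hxc hyc hc0
    have hyx : polar Q y x = 1 := hH.fe
    have key : ∀ (x' y' : V) (a' b' : F), Q x' = 0 → polar Q x' y' = 1 → polar Q x' c = 0 →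
        polar Q c y' = 0 → T x' = a' • x' → T y' = b' • y' →
        b' • c - (Q c * b') • x' = T c - (σ (Q c) * a') • x' := by
      intro x' y' a' b' hx' hxy hxc' hcy hTx hTy
      have h1 := hS x' c hx' hxc' y'
      rw [siegel_apply Q hx' hxc' y', hxy, hcy, one_smul, zero_add, mul_one, map_sub, map_add, hσ, hTx,
        hTy, siegel_apply Q hx' hxc', QuadraticMap.polar_smul_right, QuadraticMap.polar_smul_right, hxy,
        hcy, smul_zero, zero_add, smul_eq_mul, mul_one, ← mul_smul, add_sub_assoc, add_sub_assoc] at h1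
      exact (add_left_cancel h1).symm
    have e1 := key x y α β hx hH.hef hxc (by rw [QuadraticMap.polar_comm]; exact hyc) hα hβ
    have e2 := key y x β α hH.hf hyx hyc (by rw [QuadraticMap.polar_comm]; exact hxc) hβ hα
    have e3 : (β - α) • c = (Q c * β - σ (Q c) * α) • x + (σ (Q c) * β - Q c * α) • y := by
      linear_combination (norm := module) e1 - e2
    have hxy0 : polar Q x x = 0 := by rw [polar_self_two, hx, mul_zero]
    have hyy0 : polar Q y y = 0 := by rw [polar_self_two, hH.hf, mul_zero]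
    have f1 := congrArg (polar Q x) e3
    have f2 := congrArg (polar Q y) e3
    simp only [QuadraticMap.polar_smul_right, QuadraticMap.polar_add_right, smul_eq_mul, hxc, hyc, hxy0,
      hyy0, hH.hef, hyx, mul_zero, mul_one, zero_add, add_zero] at f1 f2
    rw [← f1, ← f2, zero_smul, zero_smul, add_zero, smul_eq_zero, sub_eq_zero] at e3
    have hab : β = α := e3.resolve_right hc0
    subst hab
    have hsig : σ (Q c) = Q c := (mul_right_cancel₀ hα0 (sub_eq_zero.1 f2.symm)).symm
    refine ⟨?_, rfl, hsig⟩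
    rw [hsig] at e1
    exact (sub_left_inj.1 e1).symm
  obtain ⟨c, hc, hcQ⟩ : ∃ c, (polar Q x c = 0 ∧ polar Q y c = 0) ∧ Q c ≠ 0 := by
    by_contra hcon
    push Not at hcon
    obtain ⟨b, hb0, hb⟩ := exists_perp_ne_zero_fin (Q := Q) ![x, y] (by omega)
    have hbx : polar Q x b = 0 := hb 0
    have hby : polar Q y b = 0 := hb 1
    refine hb0 (hQ b fun z => ?_)
    obtain ⟨w, hw, hz⟩ : ∃ w, (polar Q x w = 0 ∧ polar Q y w = 0) ∧
        polar Q b z = polar Q b w := by
      refine ⟨z - polar Q y z • x - polar Q x z • y, ?_, ?_⟩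
      · simp [QuadraticMap.polar_sub_right, QuadraticMap.polar_smul_right, polar_self_two, hx, hH.hf,
          hH.hef, hH.fe]
      · simp [QuadraticMap.polar_sub_right, QuadraticMap.polar_smul_right, QuadraticMap.polar_comm _ b x,
          QuadraticMap.polar_comm _ b y, hbx, hby]
    rw [hz, QuadraticMap.polar, hcon b ⟨hbx, hby⟩, hcon w hw, hcon (b + w) ⟨by
      rw [QuadraticMap.polar_add_right, hbx, hw.1, add_zero], by
      rw [QuadraticMap.polar_add_right, hby, hw.2, add_zero]⟩, sub_zero, sub_zero]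
  have hc0 : c ≠ 0 := fun h => hcQ (by rw [h, QuadraticMap.map_zero])
  obtain ⟨-, hβα, -⟩ := main c hc.1 hc.2 hc0
  have hsq : ∀ t, σ t * σ t = t * t := by
    intro t
    by_cases ht : t = 0
    · subst ht
      have : σ 0 = 0 := by
        have h1 := hσ 0 x
        rw [zero_smul, map_zero, hα, ← mul_smul, eq_comm, smul_eq_zero] at h1
        exact (mul_eq_zero.1 (h1.resolve_right hx0)).resolve_right hα0
      rw [this]
    have h1 := (main (t • c) (by rw [QuadraticMap.polar_smul_right, hc.1, smul_zero])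
      (by rw [QuadraticMap.polar_smul_right, hc.2, smul_zero]) (smul_ne_zero ht hc0)).2.2
    have h3 := (main c hc.1 hc.2 hc0).2.2
    rw [quad_smul, hmul, hmul, h3] at h1
    exact mul_right_cancel₀ hcQ h1
  have hid : ∀ t, σ t = t := by
    intro t
    rcases mul_self_eq_mul_self_iff.1 (hsq t) with h | h
    · exact h
    rcases mul_self_eq_mul_self_iff.1 (hsq (1 + t)) with h' | h'
    · rw [hadd, hone] at h'
      exact add_left_cancel h'
    · rw [hadd, hone, h] at h'
      exact absurd (show (2 : F) = 0 by linear_combination h') h2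
  refine ⟨hid, α, fun v => ?_⟩
  obtain ⟨w, hw, hv⟩ : ∃ w, (polar Q x w = 0 ∧ polar Q y w = 0) ∧
      v = polar Q y v • x + polar Q x v • y + w :=
    ⟨v - polar Q y v • x - polar Q x v • y, by
      simp [QuadraticMap.polar_sub_right, QuadraticMap.polar_smul_right, polar_self_two, hx, hH.hf,
        hH.hef, hH.fe], by abel⟩
  rw [hv, map_add, map_add, hσ, hσ, hid, hid, hα, hβ, hβα, smul_add, smul_add, smul_comm α,
    smul_comm α (polar Q x v) y]
  congr 1
  by_cases hw0 : w = 0
  · rw [hw0, map_zero, smul_zero]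
  · exact (main w hw.1 hw.2 hw0).1

/-- The isometries commuting with a linear map. -/
def commIsoms (Q : QuadraticForm F V) (g : V →ₗ[F] V) : Subgroup (quadIsoms Q) where
  carrier := {h | ∀ v, h.1 (g v) = g (h.1 v)}
  one_mem' v := rfl
  mul_mem' {a b} ha hb v := by
    show a.1 (b.1 (g v)) = g (a.1 (b.1 v))
    rw [hb, ha]
  inv_mem' {a} ha v := by
    show a.1.symm (g v) = g (a.1.symm v)
    rw [LinearEquiv.symm_apply_eq, ha, LinearEquiv.apply_symm_apply]

theorem commIsoms_neg (g : V →ₗ[F] V) : commIsoms Q (-g) = commIsoms Q g := by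
  ext h
  show (∀ v, h.1 ((-g) v) = (-g) (h.1 v)) ↔ ∀ v, h.1 (g v) = g (h.1 v)
  simp

section Involution

variable (h2 : (2 : F) ≠ 0) (hQ : ∀ x, (∀ y, polar Q x y = 0) → x = 0)
variable (g : V →ₗ[F] V) (hg : ∀ v, g (g v) = v) (hgQ : ∀ v, Q (g v) = Q v)

include h2 hg in
theorem fix_decomp (v : V) : ∃ a ∈ LinearMap.ker (g - 1), ∃ b ∈ LinearMap.ker (g + 1), v = a + b := by
  refine ⟨(2 : F)⁻¹ • (v + g v), ?_, (2 : F)⁻¹ • (v - g v), ?_, ?_⟩
  · simp [LinearMap.mem_ker, hg, add_comm]
  · simp [LinearMap.mem_ker, hg, ← smul_add]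
  · rw [← smul_add, add_add_sub_cancel, ← two_smul F v, inv_smul_smul₀ h2]

theorem fix_of_mem_ker {z : V} (hz : z ∈ LinearMap.ker (g - 1)) : g z = z :=
  sub_eq_zero.1 (LinearMap.mem_ker.1 hz)

include hgQ in
theorem polar_g (u v : V) : polar Q (g u) (g v) = polar Q u v := by
  simp only [QuadraticMap.polar, ← map_add, hgQ]

include h2 hgQ in
theorem polar_fix_anti {a b : V} (ha : g a = a) (hb : g b = -b) : polar Q a b = 0 := by
  have h1 := polar_g g hgQ a b
  rw [ha, hb, QuadraticMap.polar_neg_right] at h1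
  exact (mul_eq_zero.1 (show (2 : F) * polar Q a b = 0 by linear_combination -h1)).resolve_left h2

include h2 hQ hg hgQ in
theorem sep_fix (x : LinearMap.ker (g - 1))
    (hx : ∀ y, polar (Q.comp (LinearMap.ker (g - 1)).subtype) x y = 0) : x = 0 := by
  refine Subtype.ext (hQ x.1 fun y => ?_)
  obtain ⟨a, ha, b, hb, rfl⟩ := fix_decomp h2 g hg y
  rw [QuadraticMap.polar_add_right, polar_fix_anti h2 g hgQ (sub_eq_zero.1 (LinearMap.mem_ker.1 x.2))
    (eq_neg_of_add_eq_zero_left (LinearMap.mem_ker.1 hb)), add_zero]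
  exact hx ⟨a, ha⟩

include h2 hQ hg hgQ in
/-- An isometry of the fixed space extends to one commuting with `g`. -/
theorem exists_extend_fix [FiniteDimensional F V] (k : quadIsoms (Q.comp (LinearMap.ker (g - 1)).subtype)) :
    ∃ h ∈ commIsoms Q g, (∀ z : LinearMap.ker (g - 1), h.1 z.1 = (k.1 z).1) ∧
      ∀ z ∈ LinearMap.ker (g + 1), h.1 z = z := by
  obtain ⟨W, hW⟩ : ∃ W, W = LinearMap.ker (g - 1) := ⟨_, rfl⟩
  subst hW
  let P : V →ₗ[F] LinearMap.ker (g - 1) := LinearMap.codRestrict _ ((2 : F)⁻¹ • (1 + g)) fun v => by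
    simp [LinearMap.mem_ker, hg, add_comm]
  obtain ⟨T, hT⟩ : ∃ T : V →ₗ[F] V, ∀ v, T v = (k.1 (P v)).1 + (2 : F)⁻¹ • (v - g v) :=
    ⟨(LinearMap.ker (g - 1)).subtype.comp (k.1.toLinearMap.comp P) + (2 : F)⁻¹ • (1 - g), fun v => rfl⟩
  have hPfix : ∀ z : LinearMap.ker (g - 1), P z.1 = z := fun z => Subtype.ext (by
    show (2 : F)⁻¹ • (z.1 + g z.1) = z.1
    rw [fix_of_mem_ker g z.2, ← two_smul F, inv_smul_smul₀ h2])
  have hTa : ∀ z : LinearMap.ker (g - 1), T z.1 = (k.1 z).1 := fun z => by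
    rw [hT, hPfix, fix_of_mem_ker g z.2, sub_self, smul_zero, add_zero]
  have hTb : ∀ z ∈ LinearMap.ker (g + 1), T z = z := fun z hz => by
    have hgz : g z = -z := eq_neg_of_add_eq_zero_left (LinearMap.mem_ker.1 hz)
    have hP0 : P z = 0 := Subtype.ext (by
      show (2 : F)⁻¹ • (z + g z) = 0
      rw [hgz, add_neg_cancel, smul_zero])
    rw [hT, hP0, map_zero, hgz, sub_neg_eq_add, ← two_smul F, inv_smul_smul₀ h2]
    simp
  have hTQ : ∀ v, Q (T v) = Q v := fun v => by
    obtain ⟨a, ha, b, hb, rfl⟩ := fix_decomp h2 g hg v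
    have hgb : g b = -b := eq_neg_of_add_eq_zero_left (LinearMap.mem_ker.1 hb)
    rw [map_add, hTa ⟨a, ha⟩, hTb b hb, QuadraticMap.map_add (Q : QuadraticMap F V F),
      QuadraticMap.map_add (Q : QuadraticMap F V F),
      polar_fix_anti h2 g hgQ (sub_eq_zero.1 (LinearMap.mem_ker.1 (k.1 ⟨a, ha⟩).2)) hgb,
      polar_fix_anti h2 g hgQ (sub_eq_zero.1 (LinearMap.mem_ker.1 ha)) hgb]
    have := k.2 ⟨a, ha⟩
    simp only [QuadraticMap.comp_apply, Submodule.subtype_apply] at this
    rw [this]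
  obtain ⟨h, hh, hhT⟩ := exists_mem_quadIsoms Q hQ T hTQ
  refine ⟨⟨h, hh⟩, fun v => ?_, fun z => by show h z.1 = _; rw [hhT, hTa],
    fun z hz => by show h z = z; rw [hhT, hTb z hz]⟩
  show h (g v) = g (h v)
  rw [hhT, hhT]
  obtain ⟨a, ha, b, hb, rfl⟩ := fix_decomp h2 g hg v
  have hgb : g b = -b := eq_neg_of_add_eq_zero_left (LinearMap.mem_ker.1 hb)
  rw [map_add g, fix_of_mem_ker g ha, hgb, map_add, map_add, map_neg,
    hTa ⟨a, ha⟩, hTb b hb, map_add, hgb,
    fix_of_mem_ker g (k.1 ⟨a, ha⟩).2]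

include h2 hQ hg hgQ in
/-- A normal subgroup of odd order of the centraliser of an involution fixes each eigenspace of
dimension one or at least three. -/
theorem fix_eigen_of_odd_normal [Finite F] [FiniteDimensional F V]
    (hd : Module.finrank F (LinearMap.ker (g - 1)) ≠ 2) (R : Subgroup (commIsoms Q g)) (hR : R.Normal)
    (hodd : Odd (Nat.card R)) :
    ∀ r ∈ R, ∀ z : LinearMap.ker (g - 1), r.1.1 z.1 = z.1 := by
  haveI : Finite V := Module.finite_of_finite F
  obtain ⟨W, hW⟩ : ∃ W, W = LinearMap.ker (g - 1) := ⟨_, rfl⟩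
  have hmemW : ∀ z, z ∈ W ↔ g z = z := fun z => by
    rw [hW, LinearMap.mem_ker]; exact sub_eq_zero
  let QW : QuadraticForm F W := Q.comp W.subtype
  obtain ⟨ρ, hρ⟩ : ∃ ρ : commIsoms Q g →* quadIsoms QW, ∀ h z, ((ρ h).1 z).1 = h.1.1 z.1 := by
    have hm : ∀ (h : commIsoms Q g), ∀ z ∈ W, h.1.1 z ∈ W := fun h z hz => (hmemW _).2 (by
      rw [← h.2, (hmemW z).1 hz])
    have hms : ∀ (h : commIsoms Q g), ∀ z ∈ W, h.1.1.symm z ∈ W := fun h z hz => hm h⁻¹ z hz
    refine ⟨{ toFun := fun h => ⟨LinearEquiv.ofLinearMap (h.1.1.toLinearMap.restrict (hm h))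
          (h.1.1.symm.toLinearMap.restrict (hms h))
          (LinearMap.ext fun z => Subtype.ext (h.1.1.apply_symm_apply z.1))
          (LinearMap.ext fun z => Subtype.ext (h.1.1.symm_apply_apply z.1)), fun z => h.1.2 z.1⟩
              map_one' := Subtype.ext (LinearEquiv.ext fun z => Subtype.ext rfl)
              map_mul' := fun a b => Subtype.ext (LinearEquiv.ext fun z => Subtype.ext rfl) },
      fun h z => rfl⟩
  intro r hr z
  subst hW
  have hz : ∀ z, ((ρ r).1 z).1 = r.1.1 z.1 := hρ r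
  suffices h1 : ρ r = 1 by
    rw [← hρ, h1]; rfl
  haveI := hR
  haveI : Finite (V ≃ₗ[F] V) := Finite.of_injective (fun e => (e : V → V)) DFunLike.coe_injective
  rcases Nat.lt_or_ge (Module.finrank F (LinearMap.ker (g - 1))) 2 with hlt | hge
  · -- dimension at most one
    rcases Nat.lt_or_ge (Module.finrank F (LinearMap.ker (g - 1))) 1 with h0 | h0
    · haveI : Subsingleton (LinearMap.ker (g - 1)) := Module.finrank_zero_iff.1 (show
          Module.finrank F (LinearMap.ker (g - 1)) = 0 by omega)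
      exact Subtype.ext (LinearEquiv.ext fun z => Subsingleton.elim _ _)
    obtain ⟨e, he0, he⟩ := finrank_eq_one_iff'.1 (show
      Module.finrank F (LinearMap.ker (g - 1)) = 1 by omega)
    obtain ⟨c, hc⟩ := he ((ρ r).1 e)
    have hQe : QW e ≠ 0 := by
      intro h
      refine he0 (sep_fix h2 hQ g hg hgQ e fun y => ?_)
      obtain ⟨t, rfl⟩ := he y
      rw [QuadraticMap.polar_smul_right, polar_self_two, h, mul_zero, smul_zero]
    have hcc : c * c = 1 := by
      have := (ρ r).2 e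
      rw [← hc, quad_smul] at this
      exact mul_right_cancel₀ hQe (this.trans (one_mul _).symm)
    have hsq : ρ r * ρ r = 1 := Subtype.ext (LinearEquiv.ext fun y => by
      obtain ⟨t, rfl⟩ := he y
      show (ρ r).1 ((ρ r).1 (t • e)) = t • e
      rw [map_smul, ← hc, map_smul, map_smul, ← hc, smul_smul, smul_smul, mul_assoc, hcc, mul_one])
    have h4 : Odd (orderOf (ρ r)) := by
      refine Odd.of_dvd_nat (odd_orderOf_of_mem hodd hr) ?_
      exact orderOf_map_dvd ρ r
    have h5 : orderOf (ρ r) ∣ 2 := orderOf_dvd_of_pow_eq_one (by rw [pow_two, hsq])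
    rcases (Nat.dvd_prime Nat.prime_two).1 h5 with h | h
    · exact orderOf_eq_one_iff.1 h
    · rw [h] at h4; exact absurd h4 (by decide)
  · have hsurj : Function.Surjective ρ := fun k => by
      obtain ⟨h, hh, hhk, -⟩ := exists_extend_fix h2 hQ g hg hgQ k
      exact ⟨⟨h, hh⟩, Subtype.ext (LinearEquiv.ext fun z => Subtype.ext ((hρ _ z).trans (hhk z)))⟩
    have hbot := odd_normal_quadIsoms_eq_bot h2 _ QW (sep_fix h2 hQ g hg hgQ) rfl (by omega) (R.map ρ)
      (hR.map ρ hsurj) (Odd.of_dvd_nat hodd (Subgroup.card_map_dvd R ρ))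
    exact Subgroup.mem_bot.1 (hbot ▸ ⟨r, hr, rfl⟩)

include h2 hQ hg hgQ in
/-- The centraliser of an involution whose eigenspaces avoid dimension two has no odd normal subgroup. -/
theorem odd_normal_commIsoms_involution [Finite F] [FiniteDimensional F V]
    (hd : Module.finrank F (LinearMap.ker (g - 1)) ≠ 2)
    (hd' : Module.finrank F (LinearMap.ker (g + 1)) ≠ 2) (R : Subgroup (commIsoms Q g)) (hR : R.Normal)
    (hodd : Odd (Nat.card R)) : R = ⊥ := by
  rw [eq_bot_iff]
  intro r hr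
  have hneg : LinearMap.ker (-g - 1) = LinearMap.ker (g + 1) := by
    rw [show -g - 1 = -(g + 1) from (neg_add' g 1).symm, LinearMap.ker_neg]
  have h1 := fix_eigen_of_odd_normal h2 hQ g hg hgQ hd R hR hodd r hr
  have h3 : ∀ z ∈ LinearMap.ker (g + 1), r.1.1 z = z := by
    intro z hz
    let e := MulEquiv.subgroupCongr (commIsoms_neg (Q := Q) g).symm
    exact fix_eigen_of_odd_normal h2 hQ (-g) (fun v => by simp [hg])
      (fun v => by rw [LinearMap.neg_apply, QuadraticMap.map_neg, hgQ]) (by rw [hneg]; exact hd')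
      (R.map e.toMonoidHom) (hR.map _ e.surjective)
      (Odd.of_dvd_nat hodd (Subgroup.card_map_dvd R _)) (e r) ⟨r, hr, rfl⟩ ⟨z, hneg ▸ hz⟩
  rw [Subgroup.mem_bot]
  refine Subtype.ext (Subtype.ext (LinearEquiv.ext fun v => ?_))
  obtain ⟨a, ha, b, hb, rfl⟩ := fix_decomp h2 g hg v
  rw [map_add, h1 ⟨a, ha⟩, h3 b hb]
  rfl

include h2 hQ hg hgQ in
/-- A Siegel transformation of vectors fixed by `g` commutes with `g`. -/
theorem siegel_fix_mem {x c : V} (hx : g x = x) (hc : g c = c) (hQx : Q x = 0)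
    (hxc : polar Q x c = 0) : siegel Q x c ∈ commIsoms Q g := fun v => by
  rw [siegel_apply Q hQx hxc, siegel_apply Q hQx hxc, map_sub, map_add, map_smul, map_smul, hx, hc]
  have e1 : polar Q x (g v) = polar Q x v := by
    conv_lhs => rw [← hx]
    exact polar_g g hgQ x v
  have e2 : polar Q c (g v) = polar Q c v := by
    conv_lhs => rw [← hc]
    exact polar_g g hgQ c v
  rw [e1, e2]

include h2 hQ hg hgQ in
/-- On an eigenspace of dimension at least three the commutant is scalar. -/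
theorem scalar_on_fix [Finite F] [FiniteDimensional F V]
    (hd : 3 ≤ Module.finrank F (LinearMap.ker (g - 1))) (T : V →+ V) (hT : Function.Injective T)
    (σ : F → F) (hσ : ∀ t v, T (t • v) = σ t • T v) (hTg : ∀ v, T (g v) = g (T v))
    (hcomm : ∀ h ∈ commIsoms Q g, ∀ v, T (((h ^ 4 : quadIsoms Q)).1 v) = ((h ^ 4 : quadIsoms Q)).1 (T v)) :
    (∀ t, σ t = t) ∧ ∃ α : F, ∀ v, g v = v → T v = α • v := by
  obtain ⟨W, hW⟩ : ∃ W, W = LinearMap.ker (g - 1) := ⟨_, rfl⟩
  have hmemW : ∀ z, z ∈ W ↔ g z = z := fun z => by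
    rw [hW, LinearMap.mem_ker]; exact sub_eq_zero
  rw [← hW] at hd
  have hTW : ∀ z ∈ W, T z ∈ W := fun z hz => (hmemW _).2 (by rw [← hTg, (hmemW z).1 hz])
  obtain ⟨TW, hTW'⟩ : ∃ TW : W →+ W, ∀ z, (TW z).1 = T z.1 :=
    ⟨{ toFun := fun z => ⟨T z.1, hTW z.1 z.2⟩, map_zero' := Subtype.ext (map_zero T),
       map_add' := fun a b => Subtype.ext (map_add T a.1 b.1) }, fun z => rfl⟩
  obtain ⟨hid, α, hα⟩ := scalar_of_commute_siegel h2 (Q := Q.comp W.subtype)
    (by subst hW; exact sep_fix h2 hQ g hg hgQ) hd TW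
    (fun a b h => Subtype.ext (hT (by rw [← hTW', ← hTW', h]))) σ
    (fun t z => Subtype.ext (by rw [hTW', W.coe_smul, hσ, W.coe_smul, hTW'])) (fun x c hx hxc z => by
      have hx' : Q x.1 = 0 := hx
      have hxc' : polar Q x.1 c.1 = 0 := hxc
      obtain ⟨d, hd4⟩ : ∃ d : V, d = (4 : F)⁻¹ • c.1 := ⟨_, rfl⟩
      have h4 : (4 : F) ≠ 0 := by
        rw [show (4 : F) = 2 * 2 by norm_num]; exact mul_ne_zero h2 h2
      have hgd : g d = d := by rw [hd4, map_smul, (hmemW _).1 c.2]
      have hxd : polar Q x.1 d = 0 := by rw [hd4, QuadraticMap.polar_smul_right, hxc', smul_zero]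
      have hpow : siegel Q x.1 d ^ 4 = siegel Q x.1 c.1 := by
        rw [show (4 : ℕ) = 2 + 2 from rfl, pow_add, pow_two, ← siegel_add Q hx' hxd hxd, ← siegel_add Q hx'
          (by rw [QuadraticMap.polar_add_right, hxd, add_zero])
          (by rw [QuadraticMap.polar_add_right, hxd, add_zero]), hd4, ← add_smul, ← add_smul]
        congr 1
        rw [show (4 : F)⁻¹ + 4⁻¹ + (4⁻¹ + 4⁻¹) = 1 by field_simp; norm_num, one_smul]
      have h1 := hcomm _ (siegel_fix_mem h2 hQ g hg hgQ ((hmemW _).1 x.2) hgd hx' hxd) z.1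
      rw [hpow, siegel_apply Q hx' hxc', siegel_apply Q hx' hxc'] at h1
      refine Subtype.ext ?_
      rw [hTW', siegel_apply _ hx hxc, siegel_apply _ hx hxc]
      show T (z.1 + polar Q x.1 z.1 • c.1 - (polar Q c.1 z.1 + Q c.1 * polar Q x.1 z.1) • x.1) =
        (TW z).1 + polar Q x.1 (TW z).1 • c.1 -
          (polar Q c.1 (TW z).1 + Q c.1 * polar Q x.1 (TW z).1) • x.1
      rw [hTW']
      exact h1)
  refine ⟨hid, α, fun v hv => ?_⟩
  have := congrArg Subtype.val (hα ⟨v, (hmemW v).2 hv⟩)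
  rwa [hTW'] at this

end Involution

end CfsgLib.KnownC
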