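import Mathlib
import Cfsg.Agent.Lib.KnownC.LocalBalanceEigen

set_option autoImplicit false
set_option linter.unusedSectionVars false
set_option linter.style.haveILetI false

/-!
The centraliser of a self-adjoint square root of a non-square in an orthogonal group is an orthogonal
group over the quadratic extension: no odd normal subgroup and only scalar commutants.
-/

namespace CfsgLib.KnownC

open CfsgLib.Geom CfsgLib.Classical
open QuadraticMap (polar)

universe u v

variable {F : Type u} [Field F] {V : Type v} [AddCommGroup V] [Module F V]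

/-- The space seen over the quadratic algebra of a square root `g`. -/
@[reducible] def extModule (g : V →ₗ[F] V) {lam : F} (hg : ∀ v, g (g v) = lam • v) :
    Module (QuadraticAlgebra F lam 0) V where
  smul z v := z.re • v + z.im • g v
  one_smul v := by
    show (1 : QuadraticAlgebra F lam 0).re • v + (1 : QuadraticAlgebra F lam 0).im • g v = v
    simp [QuadraticAlgebra.re_one, QuadraticAlgebra.im_one]
  mul_smul z w v := by
    show (z * w).re • v + (z * w).im • g v =
      z.re • (w.re • v + w.im • g v) + z.im • g (w.re • v + w.im • g v)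
    simp only [QuadraticAlgebra.re_mul, QuadraticAlgebra.im_mul, map_add, map_smul, hg]
    module
  smul_zero z := by
    show z.re • (0 : V) + z.im • g 0 = 0
    simp
  smul_add z a b := by
    show z.re • (a + b) + z.im • g (a + b) = z.re • a + z.im • g a + (z.re • b + z.im • g b)
    rw [map_add]; module
  add_smul z w v := by
    show (z + w).re • v + (z + w).im • g v = z.re • v + z.im • g v + (w.re • v + w.im • g v)
    simp only [QuadraticAlgebra.re_add, QuadraticAlgebra.im_add]
    module
  zero_smul v := by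
    show (0 : QuadraticAlgebra F lam 0).re • v + (0 : QuadraticAlgebra F lam 0).im • g v = 0
    simp

/-- The scalar extension data of a self-adjoint `g` with `g² = lam`. -/
theorem exists_ext_form [FiniteDimensional F V] (h2 : (2 : F) ≠ 0) (Q : QuadraticForm F V) (g : V →ₗ[F] V)
    {lam : F} (hl : lam ≠ 0) (hg : ∀ v, g (g v) = lam • v) (hgQ : ∀ v, Q (g v) = lam * Q v)
    [Fact (∀ r : F, r ^ 2 ≠ lam + 0 * r)] :
    letI := extModule g hg
    ∃ B : LinearMap.BilinMap (QuadraticAlgebra F lam 0) V (QuadraticAlgebra F lam 0),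
      ∀ v w, (B v w).re = polar Q v w * 2⁻¹ ∧ (B v w).im = polar Q (g v) w * (2 * lam)⁻¹ := by
  letI := extModule g hg
  have hsm : ∀ (z : QuadraticAlgebra F lam 0) (v : V), z • v = z.re • v + z.im • g v := fun _ _ => rfl
  have hpol : ∀ u w, polar Q (g u) (g w) = lam * polar Q u w := fun u w => by
    simp only [QuadraticMap.polar, ← map_add, hgQ]; ring
  have hadj : ∀ u w, polar Q u (g w) = polar Q (g u) w := fun u w => by
    have h1 := hpol u (g w)
    rw [hg, QuadraticMap.polar_smul_right, smul_eq_mul] at h1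
    exact (mul_left_cancel₀ hl h1).symm
  have h2l : (2 : F) * lam ≠ 0 := mul_ne_zero h2 hl
  refine ⟨LinearMap.mk₂ _ (fun v w => ⟨polar Q v w * 2⁻¹, polar Q (g v) w * (2 * lam)⁻¹⟩)
    (fun a b w => ?_) (fun z a w => ?_) (fun a b w => ?_) (fun z a w => ?_), fun v w => ⟨rfl, rfl⟩⟩
  · ext <;> simp [QuadraticMap.polar_add_left, map_add, add_mul]
  · ext <;> simp only [hsm, smul_eq_mul, QuadraticAlgebra.re_mul, QuadraticAlgebra.im_mul, map_add,
      map_smul, QuadraticMap.polar_add_left, QuadraticMap.polar_smul_left, hg] <;> field_simp <;> ring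
  · ext <;> simp [QuadraticMap.polar_add_right, add_mul]
  · ext <;> simp only [hsm, smul_eq_mul, QuadraticAlgebra.re_mul, QuadraticAlgebra.im_mul,
      QuadraticMap.polar_add_right, QuadraticMap.polar_smul_right, hpol, hadj] <;> field_simp <;> ring

section

variable [Finite F] [FiniteDimensional F V] (h2 : (2 : F) ≠ 0) {Q : QuadraticForm F V}
variable (hQ : ∀ x, (∀ y, polar Q x y = 0) → x = 0) (g : V →ₗ[F] V) {lam : F}
variable (hlam : ¬ IsSquare lam) (hg : ∀ v, g (g v) = lam • v) (hgQ : ∀ v, Q (g v) = lam * Q v)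
variable (hn : 5 ≤ Module.finrank F V)

include h2 hQ hlam hg hgQ hn in
theorem ext_main :
    (∀ R : Subgroup (commIsoms Q g), R.Normal → Odd (Nat.card R) → R = ⊥) ∧
    ∀ (T : V →+ V), Function.Injective T → ∀ (σ : F → F) (a : F), a ≠ 0 →
      (∀ t v, T (t • v) = σ t • T v) → (∀ v, T (g v) = a • g (T v)) →
      (∀ h ∈ commIsoms Q g, ∀ v, T (((h ^ 4 : quadIsoms Q)).1 v) = ((h ^ 4 : quadIsoms Q)).1 (T v)) →
      (∀ t, σ t = t) ∧ ∃ u w : F, ∀ v, T v = u • v + w • g v := by
  have hl : lam ≠ 0 := fun h => hlam (h ▸ IsSquare.zero)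
  haveI : Fact (∀ r : F, r ^ 2 ≠ lam + 0 * r) := ⟨fun r h => hlam ⟨r, by linear_combination -h⟩⟩
  letI := extModule g hg
  have hsm : ∀ (z : QuadraticAlgebra F lam 0) (v : V), z • v = z.re • v + z.im • g v := fun _ _ => rfl
  haveI : IsScalarTower F (QuadraticAlgebra F lam 0) V := ⟨fun t z v => by
    rw [hsm, hsm, QuadraticAlgebra.re_smul, QuadraticAlgebra.im_smul]
    simp only [smul_eq_mul]
    module⟩
  haveI : Finite V := Module.finite_of_finite F
  haveI : Finite (QuadraticAlgebra F lam 0) := Module.finite_of_finite F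
  haveI : FiniteDimensional (QuadraticAlgebra F lam 0) V := Module.Finite.of_finite
  have hdim : 3 ≤ Module.finrank (QuadraticAlgebra F lam 0) V := by
    have := Module.finrank_mul_finrank F (QuadraticAlgebra F lam 0) V
    rw [QuadraticAlgebra.finrank_eq_two] at this
    omega
  obtain ⟨B, hB⟩ := exists_ext_form h2 Q g hl hg hgQ
  obtain ⟨QE, hQE⟩ : ∃ QE, QE = B.toQuadraticMap := ⟨_, rfl⟩
  have hQEv : ∀ v, QE v = B v v := fun v => by rw [hQE]; rfl
  have hQre : ∀ v, (QE v).re = Q v := fun v => by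
    rw [hQEv, (hB v v).1, polar_self_two]
    field_simp
  have hpolre : ∀ u w, (polar QE u w).re = polar Q u w := fun u w => by
    simp only [QuadraticMap.polar, QuadraticAlgebra.re_sub, hQre]
  have hsep : ∀ x, (∀ y, polar QE x y = 0) → x = 0 := fun x hx => hQ x fun y => by
    rw [← hpolre, hx, QuadraticAlgebra.re_zero]
  have hE2 : (2 : QuadraticAlgebra F lam 0) ≠ 0 := fun h => h2 (by
    have h' := congrArg QuadraticAlgebra.re (show (1 : QuadraticAlgebra F lam 0) + 1 = 0 by
      rw [one_add_one_eq_two]; exact h)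
    rw [QuadraticAlgebra.re_add, QuadraticAlgebra.re_one, QuadraticAlgebra.re_zero] at h'
    linear_combination h')
  -- the isometries over the extension are the ones commuting with `g`
  have hω : ∀ v, (⟨0, 1⟩ : QuadraticAlgebra F lam 0) • v = g v := fun v => by
    rw [hsm]; simp
  have hF : ∀ (t : F) (v : V), (⟨t, 0⟩ : QuadraticAlgebra F lam 0) • v = t • v := fun t v => by
    rw [hsm]; simp
  obtain ⟨φ, hφ⟩ : ∃ φ : quadIsoms QE ≃* commIsoms Q g, ∀ h v, (φ h).1.1 v = h.1 v := by
    obtain ⟨toF, htoF⟩ : ∃ toF : quadIsoms QE → commIsoms Q g, ∀ h v, (toF h).1.1 v = h.1 v := by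
      refine ⟨fun h => ⟨⟨LinearEquiv.mk
        ⟨⟨h.1, h.1.map_add⟩, fun t v => by
          show h.1 (t • v) = t • h.1 v
          rw [← hF, map_smul, hF]⟩ h.1.symm h.1.symm_apply_apply h.1.apply_symm_apply, fun v => ?_⟩,
        fun v => ?_⟩, fun h v => rfl⟩
      · show Q (h.1 v) = Q v
        rw [← hQre, h.2, hQre]
      · show h.1 (g v) = g (h.1 v)
        rw [← hω, map_smul, hω]
    obtain ⟨fromF, hfromF⟩ : ∃ fromF : commIsoms Q g → quadIsoms QE, ∀ h v, (fromF h).1 v = h.1.1 v := by
      refine ⟨fun h => ⟨LinearEquiv.mk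
        ⟨⟨h.1.1, h.1.1.map_add⟩, fun z v => by
          show h.1.1 (z • v) = z • h.1.1 v
          rw [hsm, hsm, map_add, map_smul, map_smul, h.2]⟩ h.1.1.symm h.1.1.symm_apply_apply
            h.1.1.apply_symm_apply, fun v => ?_⟩, fun h v => rfl⟩
      show QE (h.1.1 v) = QE v
      refine QuadraticAlgebra.ext (by rw [hQre, hQre]; exact h.1.2 v) ?_
      rw [hQEv, hQEv, (hB _ _).2, (hB _ _).2, ← h.2, polar_quadIsom h.1.2]
    refine ⟨MulEquiv.mk ⟨toF, fromF,
      fun h => Subtype.ext (LinearEquiv.ext fun v => by rw [hfromF, htoF]),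
      fun h => Subtype.ext (Subtype.ext (LinearEquiv.ext fun v => by rw [htoF, hfromF]))⟩
      fun a b => Subtype.ext (Subtype.ext (LinearEquiv.ext fun v => ?_)), fun h v => htoF h v⟩
    show (toF (a * b)).1.1 v = (toF a).1.1 ((toF b).1.1 v)
    rw [htoF, htoF, htoF]
    rfl
  refine ⟨fun R hR hodd => ?_, fun T hT σ a ha hσ hTg hcomm => ?_⟩
  · have h1 := odd_normal_quadIsoms_eq_bot hE2 _ QE hsep rfl hdim (R.map φ.symm.toMonoidHom)
      (hR.map _ φ.symm.surjective) (Odd.of_dvd_nat hodd (Subgroup.card_map_dvd R _))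
    exact (Subgroup.map_eq_bot_iff_of_injective _ φ.symm.injective).1 h1
  · obtain ⟨hid, α, hα⟩ := scalar_of_commute_siegel hE2 hsep hdim T hT
      (fun z => ⟨σ z.re, σ z.im * a⟩) (fun z v => by
        rw [hsm, hsm, map_add, hσ, hσ, hTg, smul_smul]) (fun x c hx hxc z => by
        obtain ⟨d, hd⟩ : ∃ d : V, d = (4 : QuadraticAlgebra F lam 0)⁻¹ • c := ⟨_, rfl⟩
        have h4 : (4 : QuadraticAlgebra F lam 0) ≠ 0 := by
          rw [show (4 : QuadraticAlgebra F lam 0) = 2 * 2 by norm_num]; exact mul_ne_zero hE2 hE2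
        have hxd : polar QE x d = 0 := by rw [hd, QuadraticMap.polar_smul_right, hxc, smul_zero]
        have hpow : siegel QE x d ^ 4 = siegel QE x c := by
          rw [show (4 : ℕ) = 2 + 2 from rfl, pow_add, pow_two, ← siegel_add QE hx hxd hxd, ← siegel_add QE hx
            (by rw [QuadraticMap.polar_add_right, hxd, add_zero])
            (by rw [QuadraticMap.polar_add_right, hxd, add_zero]), hd, ← add_smul, ← add_smul]
          congr 1
          rw [show (4 : QuadraticAlgebra F lam 0)⁻¹ + 4⁻¹ + (4⁻¹ + 4⁻¹) = 1 by field_simp; norm_num, one_smul]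
        have h1 := hcomm _ (φ (siegel QE x d)).2 z
        rw [← SubgroupClass.coe_pow, ← map_pow, hpow, hφ, hφ] at h1
        exact h1)
    refine ⟨fun t => congrArg QuadraticAlgebra.re (hid ⟨t, 0⟩), α.re, α.im, fun v => ?_⟩
    rw [hα, hsm]

end

end CfsgLib.KnownC
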