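import Mathlib
import Cfsg.Agent.Lib.KnownC.LocalBalanceKiller
import Cfsg.Agent.Lib.KnownC.LocalBalanceQuadExt
import Cfsg.Agent.Lib.KnownC.LocalBalancePOmega

set_option autoImplicit false
set_option linter.unusedSectionVars false
set_option linter.style.haveILetI false

/-!
Local balance for orthogonal groups: killers for involutions induced by similitudes.
-/

namespace CfsgLib.KnownC

open CfsgLib.Geom CfsgLib.Classical
open QuadraticMap (polar)
open Matrix

universe u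

variable {F : Type u} [Field F] [Finite F] {ι : Type} [Fintype ι] [DecidableEq ι]
variable {Q : QuadraticForm F (ι → F)}

/-- A killer from the centraliser of a similitude of order two modulo scalars. -/
theorem hasCoreKiller_commutant (K : OCtx Q) (hn : 9 ≤ Fintype.card ι ∨ NoFour Q) (Φ : OSim Q)
    (g : (ι → F) →ₗ[F] (ι → F)) {s : F} (hs : s ≠ 0) (hΦ : ∀ v, Φ.T v = s • g v)
    (hord : orderOf (osimPOmega K Φ) = 2)
    (hodd : ∀ R : Subgroup (commIsoms Q g), R.Normal → Odd (Nat.card R) → R = ⊥)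
    (hscal : ∀ (Ψ : OSim Q) (a : F), a ≠ 0 → (∀ v, Ψ.T (g v) = a • g (Ψ.T v)) →
      (∀ h ∈ commIsoms Q g, ∀ v, Ψ.T (((h ^ 4 : quadIsoms Q)).1 v) = ((h ^ 4 : quadIsoms Q)).1 (Ψ.T v)) →
      ∃ c : F, c ≠ 0 ∧ ((∀ v, Ψ.T v = c • v) ∨ ∀ v, Ψ.T v = c • g v)) :
    HasCoreKiller (MulAut.conj : Cfsg.POmega F (⇑Q) →* _).range (osimPOmega K Φ) 2 := by
  haveI : Finite (MulAut (Cfsg.POmega F (⇑Q))) :=
    Finite.of_injective (fun e : MulAut _ => (e : _ → _)) DFunLike.coe_injective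
  haveI : Finite ((ι → F) ≃ₗ[F] (ι → F)) := Finite.of_injective (fun e => (e : (ι → F) → _)) DFunLike.coe_injective
  obtain ⟨v₀, -, -, hv₀⟩ := exists_perp_anisotropic Q K.sep (five_le K) 0 0
  obtain ⟨C, hC⟩ : ∃ C : Subgroup (commIsoms Q g), C = (commutator (quadIsoms Q)).subgroupOf (commIsoms Q g) :=
    ⟨_, rfl⟩
  have hCn : C.Normal := by
    rw [hC]
    exact Subgroup.Normal.subgroupOf inferInstance _
  have hmemC : ∀ h : commIsoms Q g, h ∈ C ↔ h.1 ∈ commutator (quadIsoms Q) := fun h => by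
    rw [hC]; exact Subgroup.mem_subgroupOf
  obtain ⟨f, hf⟩ : ∃ f : C →* MulAut (Cfsg.POmega F (⇑Q)), ∀ h : C, f h = osimPOmega K (OSim.ofIsom h.1.1) :=
    ⟨(((isoHom K).comp (orEquiv Q).toMonoidHom).comp (commIsoms Q g).subtype).comp C.subtype, fun h => by
      show isoHom K (orEquiv Q h.1.1) = _
      rw [isoHom_apply, OSim.ofIsometry, MulEquiv.symm_apply_apply]⟩
  have hofT : ∀ (h : quadIsoms Q) (v : ι → F), (OSim.ofIsom h).T v = h.1 v := fun h v => rfl
  have hsq : ∀ h : quadIsoms Q, h * h ∈ commutator (quadIsoms Q) := fun h => by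
    obtain ⟨k, hk⟩ := (omegaEquiv Q).surjective ⟨_, isometry_sq_mem_omega K (orEquiv Q h)⟩
    have h1 := congrArg Subtype.val hk
    rw [omegaEquiv_coe] at h1
    have h3 : orEquiv Q k.1 = orEquiv Q (h * h) := h1.trans (map_mul (orEquiv Q) h h).symm
    exact (orEquiv Q).injective h3 ▸ k.2
  refine hasCoreKiller_of_hom Nat.prime_two hord f ?_ ?_ ?_ ?_ ?_
  · rintro _ ⟨h, rfl⟩
    exact ⟨oqEquiv K (toOQ K ⟨h.1.1, (hmemC h.1).1 h.2⟩), by rw [conj_oqEquiv, hf]⟩
  · rintro _ ⟨h, rfl⟩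
    refine Subgroup.mem_centralizer_singleton_iff.2 ?_
    rw [hf, ← osimPOmega_comp, ← osimPOmega_comp]
    refine osimPOmega_congr K fun v => ?_
    show (OSim.ofIsom h.1.1).T (Φ.T v) = Φ.T ((OSim.ofIsom h.1.1).T v)
    rw [hofT, hofT, hΦ, hΦ, map_smul, h.1.2]
  · rintro a ⟨⟨k, rfl⟩, hac⟩ h
    obtain ⟨k, rfl⟩ := (oqEquiv K).surjective k
    obtain ⟨k, rfl⟩ := toOQ_surjective K k
    rw [conj_oqEquiv] at hac ⊢
    have hc := Subgroup.mem_centralizer_singleton_iff.1 hac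
    rw [← osimPOmega_comp, ← osimPOmega_comp] at hc
    obtain ⟨c, hc0, hcv⟩ := (osimPOmega_eq_iff K _ _).1 hc
    have hkg : ∀ w, k.1.1 (g w) = c • g (k.1.1 w) := fun w => by
      have h1 : (OSim.ofIsom k.1).T (Φ.T w) = c • Φ.T ((OSim.ofIsom k.1).T w) := hcv w
      rw [hofT, hofT, hΦ, hΦ, map_smul, smul_comm c] at h1
      exact smul_right_injective _ hs h1
    have hmem : k.1 * h.1.1 * k.1⁻¹ ∈ commIsoms Q g := fun v => by
      obtain ⟨w, rfl⟩ := k.1.1.surjective v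
      simp only [Subgroup.coe_mul, Subgroup.coe_inv, LinearEquiv.mul_apply, LinearEquiv.coe_inv,
        LinearEquiv.symm_apply_apply]
      have h1 : g (k.1.1 w) = k.1.1 (c⁻¹ • g w) := by rw [map_smul, hkg, inv_smul_smul₀ hc0]
      rw [h1, LinearEquiv.symm_apply_apply, map_smul, h.1.2, map_smul, hkg, inv_smul_smul₀ hc0]
    have hmemC' : (⟨_, hmem⟩ : commIsoms Q g) ∈ C := (hmemC _).2
      ((Subgroup.Normal.conj_mem (inferInstance : (commutator (quadIsoms Q)).Normal)) _ ((hmemC h.1).1 h.2) k.1)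
    refine ⟨⟨_, hmemC'⟩, ?_⟩
    rw [hf, hf, ← osimPOmega_inv, ← osimPOmega_comp, ← osimPOmega_comp]
    exact osimPOmega_congr K fun v => rfl
  · intro R hR hRc
    refine commute_of_no_odd_normal f (fun z hz => Subgroup.mem_center_iff.2 fun y => ?_) (fun z hz => ?_)
      (fun D hD hDodd => ?_) R hR hRc
    · obtain ⟨a, -, ha⟩ := (osimPOmega_eq_one_iff K _).1 ((hf z).symm.trans hz)
      refine Subtype.ext (Subtype.ext (Subtype.ext (LinearEquiv.ext fun v => ?_)))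
      have e : ∀ w, z.1.1.1 w = a • w := ha
      simp only [Subgroup.coe_mul, LinearEquiv.mul_apply, e, map_smul]
    · obtain ⟨a, -, ha⟩ := (osimPOmega_eq_one_iff K _).1 ((hf z).symm.trans hz)
      have e : ∀ w, z.1.1.1 w = a • w := ha
      have ha2 : a * a = 1 := by
        have h1 := z.1.1.2 v₀
        rw [e, quad_smul] at h1
        exact mul_right_cancel₀ hv₀ (h1.trans (one_mul _).symm)
      refine Subtype.ext (Subtype.ext (Subtype.ext (LinearEquiv.ext fun v => ?_)))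
      simp only [Subgroup.coe_mul, LinearEquiv.mul_apply, e, smul_smul, ha2, one_smul]
      rfl
    · haveI := hD
      haveI := hCn
      haveI := CfsgLib.Solvable.pPrimeCore_normal 2 ↥C
      haveI : (Cfsg.pPrimeCore 2 ↥C).Characteristic := CfsgLib.Solvable.pPrimeCore_characteristic 2 _
      have hle := CfsgLib.Solvable.le_pPrimeCore hD (Nat.coprime_two_right.2 hDodd)
      have h1 := hodd ((Cfsg.pPrimeCore 2 ↥C).map C.subtype) inferInstance (by
        rw [Subgroup.card_subtype]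
        exact Nat.coprime_two_right.1 (CfsgLib.Solvable.pPrimeCore_coprime 2))
      rw [Subgroup.map_eq_bot_iff_of_injective _ C.subtype_injective] at h1
      exact le_bot_iff.1 (h1 ▸ hle)
  · intro y hy
    obtain ⟨Ψ, rfl⟩ := exists_osimPOmega K hn y
    have hx := Subgroup.mem_centralizer_singleton_iff.1 hy.2
    rw [← osimPOmega_comp, ← osimPOmega_comp] at hx
    obtain ⟨c, hc0, hcv⟩ := (osimPOmega_eq_iff K _ _).1 hx
    have hg : ∀ v, Ψ.T (g v) = (c * s / Ψ.σ s) • g (Ψ.T v) := fun v => by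
      have h1 : Ψ.T (Φ.T v) = c • Φ.T (Ψ.T v) := hcv v
      rw [hΦ, hΦ, Ψ.smul, smul_smul] at h1
      rw [div_eq_inv_mul, mul_smul, ← h1, inv_smul_smul₀ ((map_ne_zero Ψ.σ).2 hs)]
    obtain ⟨d, hd, hcase⟩ := hscal Ψ _ (div_ne_zero (mul_ne_zero hc0 hs) ((map_ne_zero Ψ.σ).2 hs)) hg
      (fun h hh v => by
        obtain ⟨u, hu⟩ : ∃ u : C, u.1.1 = h * h :=
          ⟨⟨⟨h * h, (commIsoms Q g).mul_mem hh hh⟩, (hmemC _).2 (hsq h)⟩, rfl⟩
        have h1 := Subgroup.mem_centralizer_iff.1 hy.1 (f u) ⟨u, rfl⟩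
        rw [hf, ← osimPOmega_comp, ← osimPOmega_comp] at h1
        obtain ⟨e, -, he⟩ := (osimPOmega_eq_iff K _ _).1 h1
        have he' : ∀ w, u.1.1.1 (Ψ.T w) = e • Ψ.T (u.1.1.1 w) := he
        have he2 : e * e = 1 := by
          have h2 := congrArg (⇑Q) (he' v₀)
          rw [u.1.1.2, quad_smul, Ψ.quad, Ψ.quad, u.1.1.2] at h2
          exact mul_right_cancel₀ (mul_ne_zero Ψ.c_ne ((map_ne_zero Ψ.σ).2 hv₀))
            (h2.symm.trans (one_mul _).symm)
        rw [show h ^ 4 = u.1.1 * u.1.1 by rw [hu, ← pow_two, ← pow_two, ← pow_mul]]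
        show Ψ.T (u.1.1.1 (u.1.1.1 v)) = u.1.1.1 (u.1.1.1 (Ψ.T v))
        rw [he' v, map_smul, he', smul_smul, he2, one_smul])
    rcases hcase with h | h
    · rw [show osimPOmega K Ψ = 1 from (osimPOmega_eq_one_iff K Ψ).2 ⟨d, hd, h⟩]
      exact Subgroup.one_mem _
    · rw [show osimPOmega K Ψ = osimPOmega K Φ from (osimPOmega_eq_iff K Ψ Φ).2
        ⟨d / s, div_ne_zero hd hs, fun v => by rw [h, hΦ, smul_smul, div_mul_cancel₀ _ hs]⟩]
      exact Subgroup.mem_zpowers _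

/-- The killer when a multiple of the similitude is an involutive isometry whose eigenspaces have
dimensions one or at least three, not both one. -/
theorem hasCoreKiller_involution (K : OCtx Q) (hn : 9 ≤ Fintype.card ι ∨ NoFour Q) (h2 : (2 : F) ≠ 0)
    (Φ : OSim Q) (g : (ι → F) →ₗ[F] (ι → F)) (hg : ∀ v, g (g v) = v) (hgQ : ∀ v, Q (g v) = Q v)
    {s : F} (hs : s ≠ 0) (hΦ : ∀ v, Φ.T v = s • g v) (hord : orderOf (osimPOmega K Φ) = 2)
    (hd : Odd (Module.finrank F (LinearMap.ker (g - 1))))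
    (hd' : Odd (Module.finrank F (LinearMap.ker (g + 1))))
    (hsum : 3 ≤ Module.finrank F (LinearMap.ker (g - 1)) ∨ 3 ≤ Module.finrank F (LinearMap.ker (g + 1))) :
    HasCoreKiller (MulAut.conj : Cfsg.POmega F (⇑Q) →* _).range (osimPOmega K Φ) 2 := by
  have hne : ∀ {n : ℕ}, Odd n → n ≠ 2 := fun h h' => by subst h'; exact absurd h (by decide)
  refine hasCoreKiller_commutant K hn Φ g hs hΦ hord
    (odd_normal_commIsoms_involution h2 K.sep g hg hgQ (hne hd) (hne hd')) fun Ψ a ha hΨg hcomm => ?_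
  have hneg : LinearMap.ker (-g - 1) = LinearMap.ker (g + 1) := by
    rw [show -g - 1 = -(g + 1) from (neg_add' g 1).symm, LinearMap.ker_neg]
  have hga : ∀ w, (-g) ((-g) w) = w := fun w => by simp [hg]
  have hgQa : ∀ w, Q ((-g) w) = Q w := fun w => by rw [LinearMap.neg_apply, QuadraticMap.map_neg, hgQ]
  have hinj : Function.Injective Ψ.T.toAddMonoidHom := Ψ.T.injective
  have hne0 : ∃ v : ι → F, v ≠ 0 := by
    obtain ⟨v₀, -, -, hv₀⟩ := exists_perp_anisotropic Q K.sep (five_le K) 0 0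
    exact ⟨v₀, fun h => hv₀ (by rw [h, QuadraticMap.map_zero])⟩
  have ha2 : a * a = 1 := by
    obtain ⟨v, hv⟩ := hne0
    have h1 : Ψ.T (g (g v)) = (a * a) • g (g (Ψ.T v)) := by rw [hΨg, hΨg, map_smul, smul_smul]
    rw [hg, hg] at h1
    exact smul_left_injective F (fun h => hv (Ψ.T.injective (by rw [h, map_zero])))
      ((one_smul F (Ψ.T v)).trans h1).symm
  -- `Ψ` commutes with the involution
  have hno : ∀ g' : (ι → F) →ₗ[F] (ι → F), (∀ v, g' (g' v) = v) → (∀ v, Q (g' v) = Q v) →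
      commIsoms Q g' = commIsoms Q g → 3 ≤ Module.finrank F (LinearMap.ker (g' - 1)) →
      ¬ ∀ v, Ψ.T (g' v) = -g' (Ψ.T v) := by
    intro g' hg' hg'Q hCeq h3 hanti
    obtain ⟨x, hx0, hx⟩ := exists_singular_ge_three (Q.comp (LinearMap.ker (g' - 1)).subtype)
      (sep_fix h2 K.sep g' hg' hg'Q) h3
    obtain ⟨y, hH⟩ := exists_hyp (Q := Q.comp (LinearMap.ker (g' - 1)).subtype)
      (sep_fix h2 K.sep g' hg' hg'Q) hx0 hx
    obtain ⟨c, hc0, hc⟩ := exists_perp_ne_zero_fin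
      (Q := Q.comp (LinearMap.ker (g' - 1)).subtype) ![x, y] (by omega)
    have hxc : polar Q x.1 c.1 = 0 := hc 0
    have hyc : polar Q y.1 c.1 = 0 := hc 1
    have hxy : polar Q x.1 y.1 = 1 := hH.hef
    have hQx : Q x.1 = 0 := hx
    obtain ⟨d, hd4⟩ : ∃ d : ι → F, d = (4 : F)⁻¹ • c.1 := ⟨_, rfl⟩
    have hxd : polar Q x.1 d = 0 := by rw [hd4, QuadraticMap.polar_smul_right, hxc, smul_zero]
    have hgd : g' d = d := by rw [hd4, map_smul, fix_of_mem_ker g' c.2]
    have hpow : siegel Q x.1 d ^ 4 = siegel Q x.1 c.1 := by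
      have h4 : (4 : F) ≠ 0 := by
        rw [show (4 : F) = 2 * 2 by norm_num]; exact mul_ne_zero h2 h2
      rw [show (4 : ℕ) = 2 + 2 from rfl, pow_add, pow_two, ← siegel_add Q hQx hxd hxd, ← siegel_add Q hQx
        (by rw [QuadraticMap.polar_add_right, hxd, add_zero])
        (by rw [QuadraticMap.polar_add_right, hxd, add_zero]), hd4, ← add_smul, ← add_smul]
      congr 1
      rw [show (4 : F)⁻¹ + 4⁻¹ + (4⁻¹ + 4⁻¹) = 1 by field_simp; norm_num, one_smul]
    have h1 := hcomm _ (hCeq ▸ siegel_fix_mem h2 K.sep g' hg' hg'Q (fix_of_mem_ker g' x.2) hgd hQx hxd)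
      (Ψ.T.symm y.1)
    rw [hpow, AddEquiv.apply_symm_apply] at h1
    have hz : g' (Ψ.T.symm y.1) = -(Ψ.T.symm y.1) := Ψ.T.injective (by
      rw [hanti, map_neg, AddEquiv.apply_symm_apply, fix_of_mem_ker g' y.2])
    rw [siegel_apply Q hQx hxc, polar_fix_anti h2 g' hg'Q (fix_of_mem_ker g' x.2) hz,
      polar_fix_anti h2 g' hg'Q (fix_of_mem_ker g' c.2) hz, mul_zero, add_zero, zero_smul, zero_smul,
      add_zero, sub_zero, AddEquiv.apply_symm_apply, siegel_apply Q hQx hxc, hxy, one_smul, mul_one,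
      QuadraticMap.polar_comm _ c.1 y.1, hyc, zero_add, add_sub_assoc, eq_comm, add_eq_left,
      sub_eq_zero] at h1
    have h5 := congrArg (polar Q y.1) h1
    rw [hyc, QuadraticMap.polar_smul_right, show polar Q y.1 x.1 = 1 from hH.fe, smul_eq_mul, mul_one] at h5
    rw [← h5, zero_smul] at h1
    exact hc0 (Subtype.ext h1)
  have ha1 : a = 1 := by
    rcases mul_self_eq_one_iff.1 ha2 with h | h
    · exact h
    exfalso
    rcases hsum with h3 | h3
    · exact hno g hg hgQ rfl h3 fun v => by rw [hΨg, h, neg_one_smul]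
    · exact hno (-g) hga hgQa (commIsoms_neg g) (by rw [hneg]; exact h3) fun v => by
        simp [hΨg, h]
  have hTg : ∀ v, Ψ.T (g v) = g (Ψ.T v) := fun v => by rw [hΨg, ha1, one_smul]
  have hTga : ∀ v, Ψ.T ((-g) v) = (-g) (Ψ.T v) := fun v => by simp [hTg]
  have hcommA : ∀ h ∈ commIsoms Q (-g), ∀ v,
      Ψ.T (((h ^ 4 : quadIsoms Q)).1 v) = ((h ^ 4 : quadIsoms Q)).1 (Ψ.T v) :=
    fun h hh => hcomm h ((commIsoms_neg g) ▸ hh)
  have hid : ∀ t, Ψ.σ t = t := by
    rcases hsum with h3 | h3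
    · exact (scalar_on_fix h2 K.sep g hg hgQ h3 Ψ.T.toAddMonoidHom hinj Ψ.σ Ψ.smul hTg hcomm).1
    · exact (scalar_on_fix h2 K.sep (-g) hga hgQa (by rw [hneg]; exact h3) Ψ.T.toAddMonoidHom hinj Ψ.σ
        Ψ.smul hTga hcommA).1
  have hsc : ∀ g' : (ι → F) →ₗ[F] (ι → F), (∀ v, g' (g' v) = v) → (∀ v, Q (g' v) = Q v) →
      (∀ v, Ψ.T (g' v) = g' (Ψ.T v)) → commIsoms Q g' = commIsoms Q g →
      Odd (Module.finrank F (LinearMap.ker (g' - 1))) →
      ∃ α : F, α * α = Ψ.c ∧ ∀ v, g' v = v → Ψ.T v = α • v := by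
    intro g' hg' hg'Q hT' hCeq ho
    obtain ⟨α, hα⟩ : ∃ α : F, ∀ v, g' v = v → Ψ.T v = α • v := by
      rcases Nat.lt_or_ge (Module.finrank F (LinearMap.ker (g' - 1))) 3 with h3 | h3
      · obtain ⟨e, he0, he⟩ := finrank_eq_one_iff'.1 (show
          Module.finrank F (LinearMap.ker (g' - 1)) = 1 by obtain ⟨k, hk⟩ := ho; omega)
        obtain ⟨α, hα⟩ := he ⟨Ψ.T e.1, by
          rw [LinearMap.mem_ker]
          exact sub_eq_zero.2 (by rw [← hT', fix_of_mem_ker g' e.2]; rfl)⟩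
        refine ⟨α, fun v hv => ?_⟩
        obtain ⟨t, ht⟩ := he ⟨v, LinearMap.mem_ker.2 (sub_eq_zero.2 hv)⟩
        have hv' : t • e.1 = v := congrArg Subtype.val ht
        have hα' : α • e.1 = Ψ.T e.1 := congrArg Subtype.val hα
        rw [← hv', Ψ.smul, hid, ← hα', smul_comm]
      · exact (scalar_on_fix h2 K.sep g' hg' hg'Q h3 Ψ.T.toAddMonoidHom hinj Ψ.σ Ψ.smul hT'
          (hCeq ▸ hcomm)).2
    obtain ⟨v, hv, hQv⟩ : ∃ v, g' v = v ∧ Q v ≠ 0 := by
      by_contra hcon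
      push Not at hcon
      have hsub : Subsingleton (LinearMap.ker (g' - 1)) := ⟨fun z w => by
        have : ∀ z : LinearMap.ker (g' - 1), z = 0 := fun z => sep_fix h2 K.sep g' hg' hg'Q z fun y => by
          show Q (z.1 + y.1) - Q z.1 - Q y.1 = 0
          rw [hcon _ (by rw [map_add, fix_of_mem_ker g' z.2, fix_of_mem_ker g' y.2]),
            hcon _ (fix_of_mem_ker g' z.2), hcon _ (fix_of_mem_ker g' y.2)]
          ring
        rw [this z, this w]⟩
      rw [Module.finrank_zero_of_subsingleton] at ho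
      exact absurd ho (by decide)
    refine ⟨α, ?_, hα⟩
    have h1 := Ψ.quad v
    rw [hα v hv, quad_smul, hid] at h1
    exact mul_right_cancel₀ hQv h1
  obtain ⟨α, hαc, hα⟩ := hsc g hg hgQ hTg rfl hd
  obtain ⟨β, hβc, hβ⟩ := hsc (-g) hga hgQa hTga (commIsoms_neg g) (by rw [hneg]; exact hd')
  have hα0 : α ≠ 0 := fun h => Ψ.c_ne (by rw [← hαc, h, mul_zero])
  refine ⟨α, hα0, (mul_self_eq_mul_self_iff.1 (hβc.trans hαc.symm)).imp (fun h v => ?_) (fun h v => ?_)⟩ <;>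
  · obtain ⟨x, hx, y, hy, rfl⟩ := fix_decomp h2 g hg v
    have hgx := fix_of_mem_ker g hx
    have hgy : g y = -y := eq_neg_of_add_eq_zero_left (LinearMap.mem_ker.1 hy)
    rw [map_add, hα x hgx, hβ y (by rw [LinearMap.neg_apply, hgy, neg_neg]), h]
    simp [hgx, hgy, smul_add]

/-- The killer for a self-adjoint square root of a non-square. -/
theorem hasCoreKiller_nonsquare (K : OCtx Q) (hn : 9 ≤ Fintype.card ι ∨ NoFour Q) (h2 : (2 : F) ≠ 0)
    (Φ : OSim Q) (g : (ι → F) →ₗ[F] (ι → F)) {lam : F} (hlam : ¬ IsSquare lam)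
    (hg : ∀ v, g (g v) = lam • v) (hgQ : ∀ v, Q (g v) = lam * Q v) (hΦ : ∀ v, Φ.T v = g v)
    (hord : orderOf (osimPOmega K Φ) = 2) :
    HasCoreKiller (MulAut.conj : Cfsg.POmega F (⇑Q) →* _).range (osimPOmega K Φ) 2 := by
  have h5 := five_le K
  obtain ⟨hodd, hscal⟩ := ext_main h2 K.sep g hlam hg hgQ h5
  refine hasCoreKiller_commutant K hn Φ g one_ne_zero (fun v => by rw [hΦ, one_smul]) hord hodd
    fun Ψ a ha hΨg hcomm => ?_
  obtain ⟨hid, u, w, huw⟩ := hscal Ψ.T.toAddMonoidHom Ψ.T.injective Ψ.σ a ha Ψ.smul hΨg hcomm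
  have huw' : ∀ v, Ψ.T v = u • v + w • g v := huw
  obtain ⟨v₀, -, -, hv₀⟩ := exists_perp_anisotropic Q K.sep h5 0 0
  by_cases hw : w = 0
  · refine ⟨u, fun h => hv₀ ?_, Or.inl fun v => by rw [huw', hw, zero_smul, add_zero]⟩
    rw [Ψ.T.injective (a₁ := v₀) (a₂ := 0) (by rw [huw', hw, h, map_zero]; simp), QuadraticMap.map_zero]
  by_cases hu : u = 0
  · exact ⟨w, hw, Or.inr fun v => by rw [huw', hu, zero_smul, zero_add]⟩
  exfalso
  obtain ⟨κ, hκ⟩ : ∃ κ, κ = (Ψ.c - u * u - lam * (w * w)) / (u * w) := ⟨_, rfl⟩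
  have hval : ∀ v, polar Q v (g v) = κ * Q v := fun v => by
    have h1 := Ψ.quad v
    rw [huw', hid, QuadraticMap.map_add (Q : QuadraticMap F (ι → F) F), quad_smul, quad_smul, hgQ,
      QuadraticMap.polar_smul_left, QuadraticMap.polar_smul_right, smul_eq_mul, smul_eq_mul] at h1
    rw [hκ]
    field_simp
    linear_combination h1
  have hsymm : ∀ x y, polar Q x (g y) = polar Q (g x) y := fun x y => by
    have hl : lam ≠ 0 := fun h => hlam (h ▸ IsSquare.zero)
    have h1 : polar Q (g x) (g (g y)) = lam * polar Q x (g y) := by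
      simp only [QuadraticMap.polar, ← map_add, hgQ]; ring
    rw [hg, QuadraticMap.polar_smul_right, smul_eq_mul] at h1
    exact (mul_left_cancel₀ hl h1).symm
  have hlin : ∀ x, g x = (κ / 2) • x := fun x => by
    refine sub_eq_zero.1 (K.sep _ fun y => ?_)
    have h1 := hval (x + y)
    rw [map_add, QuadraticMap.polar_add_left, QuadraticMap.polar_add_right, QuadraticMap.polar_add_right,
      hval, hval, QuadraticMap.map_add (Q : QuadraticMap F (ι → F) F), hsymm x y,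
      QuadraticMap.polar_comm _ y (g x)] at h1
    rw [QuadraticMap.polar_sub_left, QuadraticMap.polar_smul_left, smul_eq_mul]
    field_simp
    linear_combination h1
  refine hlam ⟨κ / 2, ?_⟩
  have h6 := hg v₀
  rw [hlin, hlin, smul_smul] at h6
  exact (smul_left_injective F (fun h => hv₀ (by rw [h, QuadraticMap.map_zero])) h6).symm

end CfsgLib.KnownC
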