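import Mathlib
import Cfsg.Agent.Lib.KnownC.LocalBalanceRing

set_option autoImplicit false
set_option linter.unusedSectionVars false

/-!
The unipotent isometries of a Hermitian, symmetric or alternating form generate all matrices as a
ring.
-/

namespace CfsgLib.KnownC

open Matrix

variable {F : Type*} [Field F] {κ : Type*} [Fintype κ] [DecidableEq κ]

/-- One plus a nilpotent matrix has determinant one. -/
theorem det_one_add_of_isNilpotent {N : Matrix κ κ F} (hN : IsNilpotent N) : (1 + N).det = 1 := by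
  have h1 : N.charpoly = Polynomial.X ^ Fintype.card κ :=
    sub_eq_zero.1 (Matrix.isNilpotent_charpoly_sub_pow_of_isNilpotent hN).eq_zero
  have h2 := congrArg (Polynomial.eval (-1 : F)) h1
  rw [Matrix.eval_charpoly, Polynomial.eval_pow, Polynomial.eval_X,
    show Matrix.scalar κ (-1 : F) - N = -(1 + N) by rw [map_neg, map_one, neg_add, sub_eq_add_neg],
    det_neg] at h2
  exact mul_left_cancel₀ (pow_ne_zero _ (neg_ne_zero.2 one_ne_zero)) (h2.trans (mul_one _).symm)

/-- The unipotent isometries of determinant one, minus one. -/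
def nilIsom (σ : F ≃+* F) (B : Matrix κ κ F) : Set (Matrix κ κ F) :=
  {M | IsNilpotent M ∧ ((1 + M).map σ)ᵀ * B * (1 + M) = B ∧ (1 + M).det = 1}

theorem mem_nilIsom {σ : F ≃+* F} {B N : Matrix κ κ F} (hN : IsNilpotent N) (N' : Matrix κ κ F)
    (h1 : (N.map σ)ᵀ * B = B * N') (h2 : N' + N + N' * N = 0) : N ∈ nilIsom σ B := by
  refine ⟨hN, ?_, det_one_add_of_isNilpotent hN⟩
  have e1 : ((1 + N).map σ)ᵀ * B = B * (1 + N') := by
    rw [Matrix.map_add _ (map_add σ), Matrix.map_one _ (map_zero σ) (map_one σ), transpose_add,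
      transpose_one, Matrix.add_mul, Matrix.one_mul, h1, Matrix.mul_add, Matrix.mul_one]
  rw [e1, Matrix.mul_assoc, show (1 + N') * (1 + N) = 1 + (N' + N + N' * N) by noncomm_ring, h2, add_zero,
    Matrix.mul_one]

/-- The row of the linear functional attached to a vector. -/
def formRow (σ : F ≃+* F) (B : Matrix κ κ F) (u : κ → F) : κ → F := (fun i => σ (u i)) ᵥ* B

section Hermitian

variable {σ : F ≃+* F} {B : Matrix κ κ F}

theorem formRow_add (u v : κ → F) : formRow σ B (u + v) = formRow σ B u + formRow σ B v := by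
  rw [formRow, formRow, formRow, ← add_vecMul]
  congr 1
  funext i
  exact map_add σ _ _

theorem formRow_smul (a : F) (u : κ → F) : formRow σ B (a • u) = σ a • formRow σ B u := by
  rw [formRow, formRow, ← smul_vecMul]
  congr 1
  funext i
  exact map_mul σ _ _

theorem formRow_neg (u : κ → F) : formRow σ B (-u) = -formRow σ B u := by
  rw [← neg_one_smul F u, formRow_smul, map_neg, map_one, neg_one_smul]

theorem formRow_sub (u v : κ → F) : formRow σ B (u - v) = formRow σ B u - formRow σ B v := by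
  rw [sub_eq_add_neg, formRow_add, formRow_neg, sub_eq_add_neg]

theorem formRow_zero : formRow σ B (0 : κ → F) = 0 := by
  have h := formRow_smul (σ := σ) (B := B) 0 (0 : κ → F)
  rwa [zero_smul, map_zero, zero_smul] at h

theorem formRow_symm (hσ : ∀ x, σ (σ x) = x) (hB : (B.map σ)ᵀ = B) (u v : κ → F) :
    σ (formRow σ B u ⬝ᵥ v) = formRow σ B v ⬝ᵥ u := by
  have e : ∀ i, σ (formRow σ B u i) = (B *ᵥ u) i := fun i => by
    show σ (∑ j, σ (u j) * B j i) = ∑ j, B i j * u j
    rw [map_sum]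
    refine Finset.sum_congr rfl fun j _ => ?_
    rw [map_mul, hσ, mul_comm, show σ (B j i) = B i j from congrFun (congrFun hB i) j]
  rw [show formRow σ B v ⬝ᵥ u = ∑ i, σ (v i) * (B *ᵥ u) i from (dotProduct_mulVec _ _ _).symm]
  show σ (∑ i, formRow σ B u i * v i) = _
  rw [map_sum]
  exact Finset.sum_congr rfl fun i _ => by rw [map_mul, e, mul_comm]

theorem adjoint_vecMulVec (hσ : ∀ x, σ (σ x) = x) (hB : (B.map σ)ᵀ = B) (a u : κ → F) :
    ((vecMulVec a (formRow σ B u)).map σ)ᵀ * B = B * vecMulVec u (formRow σ B a) := by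
  have e : ((vecMulVec a (formRow σ B u)).map σ)ᵀ =
      vecMulVec (B *ᵥ u) (fun i => σ (a i)) := by
    ext i j
    show σ (a j * formRow σ B u i) = (B *ᵥ u) i * σ (a j)
    rw [map_mul, mul_comm]
    congr 1
    show σ (∑ k, σ (u k) * B k i) = ∑ k, B i k * u k
    rw [map_sum]
    refine Finset.sum_congr rfl fun k _ => ?_
    rw [map_mul, hσ, mul_comm, show σ (B k i) = B i k from congrFun (congrFun hB i) k]
  rw [e, vecMulVec_mul, mul_vecMulVec]
  rfl

/-- The long root element attached to an isotropic `e` and a `w` orthogonal to it. -/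
theorem siegelNil_mem (hσ : ∀ x, σ (σ x) = x) (hB : (B.map σ)ᵀ = B) {e w : κ → F} {c : F}
    (hee : formRow σ B e ⬝ᵥ e = 0) (hew : formRow σ B e ⬝ᵥ w = 0)
    (hc : c + σ c = -(formRow σ B w ⬝ᵥ w)) :
    vecMulVec w (formRow σ B e) - vecMulVec e (formRow σ B w) + c • vecMulVec e (formRow σ B e) ∈
      nilIsom σ B := by
  have hwe : formRow σ B w ⬝ᵥ e = 0 := by rw [← formRow_symm hσ hB, hew, map_zero]
  refine mem_nilIsom ?_ (vecMulVec e (formRow σ B w) - vecMulVec w (formRow σ B e) +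
    σ c • vecMulVec e (formRow σ B e)) ?_ ?_
  · refine ⟨3, ?_⟩
    simp only [pow_succ, pow_zero, Matrix.one_mul, Matrix.add_mul, Matrix.sub_mul, Matrix.mul_add,
      Matrix.mul_sub, Matrix.smul_mul, Matrix.mul_smul, vecMulVec_mul_vecMulVec, hee, hew, hwe,
      smul_smul, vecMulVec_smul, zero_smul, smul_zero, vecMulVec_zero, add_zero, zero_add, sub_zero,
      zero_sub, mul_zero, zero_mul, Matrix.neg_mul, Matrix.mul_neg, neg_zero]
  · rw [Matrix.map_add _ (map_add σ), Matrix.map_sub _ (map_sub σ), Matrix.map_smul' _ _ _ (map_mul σ),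
      transpose_add, transpose_sub, transpose_smul, Matrix.add_mul, Matrix.sub_mul, Matrix.smul_mul,
      adjoint_vecMulVec hσ hB, adjoint_vecMulVec hσ hB, adjoint_vecMulVec hσ hB, Matrix.mul_add,
      Matrix.mul_sub, Matrix.mul_smul]
  · simp only [Matrix.add_mul, Matrix.sub_mul, Matrix.mul_add, Matrix.mul_sub, Matrix.smul_mul,
      Matrix.mul_smul, vecMulVec_mul_vecMulVec, hee, hew, hwe, smul_smul, vecMulVec_smul, zero_smul,
      smul_zero, vecMulVec_zero, add_zero, zero_add, sub_zero, zero_sub, mul_zero, zero_mul]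
    rw [show formRow σ B w ⬝ᵥ w = -(c + σ c) by rw [hc, neg_neg]]
    module

variable {θ : F} (hθ : θ + σ θ = 1)
include hθ

/-- Every multiple of the transvection matrix, in any characteristic. -/
theorem smul_vecMulVec_mem_ring_trace (hσ : ∀ x, σ (σ x) = x) (hB : (B.map σ)ᵀ = B) {e w : κ → F}
    (hee : formRow σ B e ⬝ᵥ e = 0) (hew : formRow σ B e ⬝ᵥ w = 0)
    (hww : formRow σ B w ⬝ᵥ w ≠ 0) (t : F) :
    t • vecMulVec e (formRow σ B e) ∈ Subring.closure (nilIsom σ B) := by
  have hc : ∀ u : κ → F, -(θ * (formRow σ B u ⬝ᵥ u)) + σ (-(θ * (formRow σ B u ⬝ᵥ u))) =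
      -(formRow σ B u ⬝ᵥ u) := fun u => by
    rw [map_neg, map_mul, formRow_symm hσ hB]
    linear_combination -(formRow σ B u ⬝ᵥ u) * hθ
  obtain ⟨a, ha⟩ : ∃ a, a = -t / (formRow σ B w ⬝ᵥ w) := ⟨_, rfl⟩
  have hau : formRow σ B e ⬝ᵥ (a • w) = 0 := by rw [dotProduct_smul, hew, smul_zero]
  have m1 := Subring.subset_closure (siegelNil_mem hσ hB hee hew (hc w))
  have m2 := Subring.subset_closure (siegelNil_mem hσ hB hee hau (hc (a • w)))
  have h := mul_mem m1 m2
  have hwe : formRow σ B w ⬝ᵥ e = 0 := by rw [← formRow_symm hσ hB, hew, map_zero]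
  convert h using 1
  simp only [Matrix.add_mul, Matrix.sub_mul, Matrix.mul_add, Matrix.mul_sub, Matrix.smul_mul,
    Matrix.mul_smul, vecMulVec_mul_vecMulVec, hee, hau, hwe, smul_smul, vecMulVec_smul, zero_smul,
    smul_zero, vecMulVec_zero, add_zero, zero_add, sub_zero, zero_sub, mul_zero]
  rw [dotProduct_smul, ha, smul_eq_mul, div_mul_cancel₀ _ hww, neg_smul, neg_neg]

/-- An isotropic vector has a partner and an anisotropic vector orthogonal to both. -/
theorem exists_partner_aniso_trace (hσ : ∀ x, σ (σ x) = x) (hB : (B.map σ)ᵀ = B) (hu : IsUnit B)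
    (hn : 3 ≤ Fintype.card κ) {e : κ → F} (he0 : e ≠ 0) (hee : formRow σ B e ⬝ᵥ e = 0) :
    ∃ f w, formRow σ B e ⬝ᵥ f = 1 ∧ formRow σ B f ⬝ᵥ f = 0 ∧ formRow σ B e ⬝ᵥ w = 0 ∧
      formRow σ B f ⬝ᵥ w = 0 ∧ formRow σ B w ⬝ᵥ w ≠ 0 := by
  have hrow0 : formRow σ B e ≠ 0 := fun h => he0 (funext fun i => by
    have h1 : (fun i => σ (e i)) = 0 := by
      have := congrArg (fun r => r ᵥ* B⁻¹) h
      simpa [formRow, vecMul_vecMul, Matrix.mul_nonsing_inv _ ((Matrix.isUnit_iff_isUnit_det _).1 hu)]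
        using this
    simpa using congrFun h1 i)
  obtain ⟨i, hi⟩ : ∃ i, formRow σ B e i ≠ 0 := by
    by_contra h
    push Not at h
    exact hrow0 (funext h)
  obtain ⟨y, hy⟩ : ∃ y, formRow σ B e ⬝ᵥ y = 1 :=
    ⟨(formRow σ B e i)⁻¹ • Pi.single i 1, by
      rw [dotProduct_smul, dotProduct_single, mul_one, smul_eq_mul, inv_mul_cancel₀ hi]⟩
  have hye : formRow σ B y ⬝ᵥ e = 1 := by rw [← formRow_symm hσ hB, hy, map_one]
  obtain ⟨m, hm⟩ : ∃ m, m = -(θ * (formRow σ B y ⬝ᵥ y)) := ⟨_, rfl⟩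
  have hyy : σ (formRow σ B y ⬝ᵥ y) = formRow σ B y ⬝ᵥ y := formRow_symm hσ hB y y
  obtain ⟨f, hf⟩ : ∃ f, f = y + m • e := ⟨_, rfl⟩
  have hef : formRow σ B e ⬝ᵥ f = 1 := by
    rw [hf, dotProduct_add, dotProduct_smul, hy, hee, smul_zero, add_zero]
  have hff : formRow σ B f ⬝ᵥ f = 0 := by
    rw [hf, formRow_add, formRow_smul]
    simp only [add_dotProduct, dotProduct_add, smul_dotProduct, dotProduct_smul, hy, hye, hee,
      smul_eq_mul]
    rw [hm, map_neg, map_mul, hyy]
    linear_combination -(formRow σ B y ⬝ᵥ y) * hθ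
  have hfe : formRow σ B f ⬝ᵥ e = 1 := by rw [← formRow_symm hσ hB, hef, map_one]
  refine ⟨f, ?_⟩
  by_contra hcon
  push Not at hcon
  let pr : (κ → F) → κ → F := fun z => z - (formRow σ B f ⬝ᵥ z) • e - (formRow σ B e ⬝ᵥ z) • f
  have hp : ∀ z, formRow σ B e ⬝ᵥ pr z = 0 ∧ formRow σ B f ⬝ᵥ pr z = 0 := fun z => by
    constructor <;>
      simp [pr, dotProduct_sub, dotProduct_smul, hee, hef, hff, hfe]
  have hz : ∀ x, formRow σ B e ⬝ᵥ x = 0 → formRow σ B f ⬝ᵥ x = 0 → formRow σ B x ⬝ᵥ x = 0 :=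
    fun x h1 h3 => hcon x hef hff h1 h3
  have hzero : ∀ z, pr z = 0 := by
    intro z
    obtain ⟨h1, h3⟩ := hp z
    -- orthogonal to everything
    have hW : ∀ x, formRow σ B e ⬝ᵥ x = 0 → formRow σ B f ⬝ᵥ x = 0 → formRow σ B (pr z) ⬝ᵥ x = 0 := by
      intro x k1 k3
      obtain ⟨X, hX⟩ : ∃ X, X = formRow σ B (pr z) ⬝ᵥ x := ⟨_, rfl⟩
      have hlin : ∀ a : F, σ a * X + a * σ X = 0 := by
        intro a
        have := hz (a • pr z + x) (by rw [dotProduct_add, dotProduct_smul, h1, k1, smul_zero, add_zero])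
          (by rw [dotProduct_add, dotProduct_smul, h3, k3, smul_zero, add_zero])
        rw [formRow_add, formRow_smul] at this
        simp only [add_dotProduct, dotProduct_add, smul_dotProduct, dotProduct_smul, hz _ h1 h3,
          hz _ k1 k3, ← formRow_symm hσ hB (pr z) x, ← hX, smul_eq_mul] at this
        linear_combination this
      rw [← hX]
      have e1 := hlin 1
      rw [map_one, one_mul, one_mul] at e1
      by_contra hX0
      have hid : ∀ a, σ a = a := fun a => by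
        have := hlin a
        rw [show σ X = -X by linear_combination e1] at this
        exact sub_eq_zero.1 ((mul_eq_zero.1 (show (σ a - a) * X = 0 by linear_combination this)).resolve_right hX0)
      rw [hid X] at e1
      have h2 : (2 : F) * θ = 1 := by rw [hid θ] at hθ; linear_combination hθ
      exact hX0 (by linear_combination θ * e1 - X * h2)
    have hall : ∀ x, formRow σ B (pr z) ⬝ᵥ x = 0 := fun x => by
      have hx : x = pr x + (formRow σ B f ⬝ᵥ x) • e + (formRow σ B e ⬝ᵥ x) • f := by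
        show x = x - _ - _ + _ + _
        abel
      rw [hx, dotProduct_add, dotProduct_add, dotProduct_smul, dotProduct_smul, hW _ (hp x).1 (hp x).2,
        show formRow σ B (pr z) ⬝ᵥ e = 0 by rw [← formRow_symm hσ hB, h1, map_zero],
        show formRow σ B (pr z) ⬝ᵥ f = 0 by rw [← formRow_symm hσ hB, h3, map_zero]]
      simp
    have hrow : formRow σ B (pr z) = 0 := funext fun j => by simpa using hall (Pi.single j 1)
    funext j
    have h4 := congrArg (fun r => r ᵥ* B⁻¹) hrow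
    simp [formRow, vecMul_vecMul, Matrix.mul_nonsing_inv _ ((Matrix.isUnit_iff_isUnit_det _).1 hu)] at h4
    simpa using congrFun h4 j
  have hspan : (⊤ : Submodule F (κ → F)) ≤ Submodule.span F (Set.range ![e, f]) := fun z _ => by
    rw [show z = (formRow σ B f ⬝ᵥ z) • e + (formRow σ B e ⬝ᵥ z) • f by
      have h := hzero z
      simp only [pr, sub_sub, sub_eq_zero] at h
      exact h]
    exact add_mem (Submodule.smul_mem _ _ (Submodule.subset_span ⟨0, rfl⟩))
      (Submodule.smul_mem _ _ (Submodule.subset_span ⟨1, rfl⟩))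
  have := (Submodule.finrank_mono hspan).trans (finrank_range_le_card ![e, f])
  rw [finrank_top, Module.finrank_fintype_fun_eq_card, Fintype.card_fin] at this
  omega

/-- The unipotent isometries of a Hermitian or symmetric form with an isotropic vector generate. -/
theorem herm_ring_top_trace (hσ : ∀ x, σ (σ x) = x) (hB : (B.map σ)ᵀ = B) (hu : IsUnit B)
    (hn : 3 ≤ Fintype.card κ) {e : κ → F} (he0 : e ≠ 0) (hee : formRow σ B e ⬝ᵥ e = 0) :
    Subring.closure (nilIsom σ B) = ⊤ := by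
  haveI : Nonempty κ := Fintype.card_pos_iff.1 (by omega)
  obtain ⟨f, w₀, hef, hff, hew, hfw, hww⟩ := exists_partner_aniso_trace hθ hσ hB hu hn he0 hee
  have hfe : formRow σ B f ⬝ᵥ e = 1 := by rw [← formRow_symm hσ hB, hef, map_one]
  let α := {x : κ → F // formRow σ B x ⬝ᵥ x = 0 ∧ formRow σ B e ⬝ᵥ x ≠ 0}
  refine ring_top_rank_one _ e (formRow σ B e)
    (fun t => smul_vecMulVec_mem_ring_trace hθ hσ hB hee hew hww t) (fun a : α => a.1)
    (fun a => formRow σ B a.1) (fun a => ?_) (fun a => ?_) (fun a => a.2.2) ?_ ?_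
  · refine ⟨1, one_ne_zero, ?_⟩
    have ha0 : a.1 ≠ 0 := fun h => a.2.2 (by rw [h, dotProduct_zero])
    obtain ⟨-, w, -, -, h1, -, h3⟩ := exists_partner_aniso_trace hθ hσ hB hu hn ha0 a.2.1
    exact smul_vecMulVec_mem_ring_trace hθ hσ hB a.2.1 h1 h3 1
  · rw [← formRow_symm hσ hB]
    exact fun h => a.2.2 ((map_eq_zero σ).1 h)
  all_goals
    have hspanx : Submodule.span F (Set.range fun a : α => a.1) = ⊤ := by
      set S := Submodule.span F (Set.range fun a : α => a.1) with hS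
      have hfS : f ∈ S := Submodule.subset_span ⟨⟨f, hff, by rw [hef]; exact one_ne_zero⟩, rfl⟩
      have hxw : ∀ w, formRow σ B e ⬝ᵥ w = 0 → formRow σ B f ⬝ᵥ w = 0 →
          (-(θ * (formRow σ B w ⬝ᵥ w))) • e + f + w ∈ S := by
        intro w h1 h3
        obtain ⟨m, hm⟩ : ∃ m, m = -(θ * (formRow σ B w ⬝ᵥ w)) := ⟨_, rfl⟩
        rw [← hm]
        refine Submodule.subset_span ⟨⟨m • e + f + w, ?_, ?_⟩, rfl⟩
        · rw [formRow_add, formRow_add, formRow_smul]
          simp only [add_dotProduct, dotProduct_add, smul_dotProduct, dotProduct_smul, hee, hef, hfe, hff,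
            h1, h3, ← formRow_symm hσ hB e w, ← formRow_symm hσ hB f w, map_zero, smul_eq_mul]
          rw [hm, map_neg, map_mul, formRow_symm hσ hB]
          linear_combination -(formRow σ B w ⬝ᵥ w) * hθ
        · rw [dotProduct_add, dotProduct_add, dotProduct_smul, hee, hef, h1]
          simp
      have heS : e ∈ S := by
        have hθ0 : θ ≠ 0 := fun h => by rw [h, map_zero, add_zero] at hθ; exact zero_ne_one hθ
        have h5 := S.sub_mem (S.sub_mem (hxw (θ • w₀) (by rw [dotProduct_smul, hew, smul_zero])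
          (by rw [dotProduct_smul, hfw, smul_zero])) (S.smul_mem θ (hxw w₀ hew hfw))) (S.smul_mem (1 - θ) hfS)
        have h7 : (θ * θ * θ * (formRow σ B w₀ ⬝ᵥ w₀)) • e ∈ S := by
          convert h5 using 1
          rw [formRow_smul, smul_dotProduct, dotProduct_smul]
          simp only [smul_eq_mul]
          match_scalars <;> first | ring1 | linear_combination (θ * θ * (formRow σ B w₀ ⬝ᵥ w₀)) * hθ
        exact (S.smul_mem_iff (mul_ne_zero (mul_ne_zero (mul_ne_zero hθ0 hθ0) hθ0) hww)).1 h7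
      have hW : ∀ w, formRow σ B e ⬝ᵥ w = 0 → formRow σ B f ⬝ᵥ w = 0 → w ∈ S := by
        intro w h1 h3
        have h5 := S.sub_mem (S.sub_mem (hxw w h1 h3)
          (S.smul_mem (-(θ * (formRow σ B w ⬝ᵥ w))) heS)) hfS
        convert h5 using 1
        abel
      refine eq_top_iff.2 fun z _ => ?_
      have h5 := hW (z - (formRow σ B f ⬝ᵥ z) • e - (formRow σ B e ⬝ᵥ z) • f)
        (by simp [dotProduct_sub, dotProduct_smul, hee, hef])
        (by simp [dotProduct_sub, dotProduct_smul, hff, hfe])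
      have h6 := S.add_mem (S.add_mem h5 (S.smul_mem (formRow σ B f ⬝ᵥ z) heS))
        (S.smul_mem (formRow σ B e ⬝ᵥ z) hfS)
      convert h6 using 1
      abel
  · exact hspanx
  · refine eq_top_iff.2 fun y _ => ?_
    have hy : y = formRow σ B (fun i => σ ((y ᵥ* B⁻¹) i)) := by
      rw [formRow]
      simp only [hσ]
      rw [vecMul_vecMul, Matrix.nonsing_inv_mul _ ((Matrix.isUnit_iff_isUnit_det _).1 hu), vecMul_one]
    rw [hy]
    suffices ∀ u ∈ Submodule.span F (Set.range fun a : α => a.1),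
        formRow σ B u ∈ Submodule.span F (Set.range fun a : α => formRow σ B a.1) from
      this _ (hspanx ▸ Submodule.mem_top)
    intro u hu'
    induction hu' using Submodule.span_induction with
    | mem x hx => obtain ⟨a, rfl⟩ := hx; exact Submodule.subset_span ⟨a, rfl⟩
    | zero => rw [formRow_zero]; exact zero_mem _
    | add x z _ _ hx hz => rw [formRow_add]; exact add_mem hx hz
    | smul s x _ hx => rw [formRow_smul]; exact Submodule.smul_mem _ _ hx

omit hθ

theorem smul_vecMulVec_mem_ring (h2 : (2 : F) ≠ 0) (hσ : ∀ x, σ (σ x) = x) (hB : (B.map σ)ᵀ = B)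
    {e w : κ → F} (hee : formRow σ B e ⬝ᵥ e = 0) (hew : formRow σ B e ⬝ᵥ w = 0)
    (hww : formRow σ B w ⬝ᵥ w ≠ 0) (t : F) :
    t • vecMulVec e (formRow σ B e) ∈ Subring.closure (nilIsom σ B) :=
  smul_vecMulVec_mem_ring_trace (θ := (2 : F)⁻¹) (by
    rw [map_inv₀, map_ofNat, ← two_mul, mul_inv_cancel₀ h2]) hσ hB hee hew hww t

theorem exists_partner_aniso (h2 : (2 : F) ≠ 0) (hσ : ∀ x, σ (σ x) = x) (hB : (B.map σ)ᵀ = B)
    (hu : IsUnit B) (hn : 3 ≤ Fintype.card κ) {e : κ → F} (he0 : e ≠ 0)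
    (hee : formRow σ B e ⬝ᵥ e = 0) :
    ∃ f w, formRow σ B e ⬝ᵥ f = 1 ∧ formRow σ B f ⬝ᵥ f = 0 ∧ formRow σ B e ⬝ᵥ w = 0 ∧
      formRow σ B f ⬝ᵥ w = 0 ∧ formRow σ B w ⬝ᵥ w ≠ 0 :=
  exists_partner_aniso_trace (θ := (2 : F)⁻¹) (by
    rw [map_inv₀, map_ofNat, ← two_mul, mul_inv_cancel₀ h2]) hσ hB hu hn he0 hee

theorem herm_ring_top (h2 : (2 : F) ≠ 0) (hσ : ∀ x, σ (σ x) = x) (hB : (B.map σ)ᵀ = B) (hu : IsUnit B)
    (hn : 3 ≤ Fintype.card κ) {e : κ → F} (he0 : e ≠ 0) (hee : formRow σ B e ⬝ᵥ e = 0) :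
    Subring.closure (nilIsom σ B) = ⊤ :=
  herm_ring_top_trace (θ := (2 : F)⁻¹) (by
    rw [map_inv₀, map_ofNat, ← two_mul, mul_inv_cancel₀ h2]) hσ hB hu hn he0 hee

end Hermitian

/-- The symplectic transvections generate. -/
theorem alt_ring_top {B : Matrix κ κ F} (hB : Bᵀ = -B) (h2 : (2 : F) ≠ 0) (hu : IsUnit B)
    [Nonempty κ] : Subring.closure (nilIsom (RingEquiv.refl F) B) = ⊤ := by
  have hrow : ∀ u, formRow (RingEquiv.refl F) B u = u ᵥ* B := fun u => rfl
  have hanti : ∀ u v, (u ᵥ* B) ⬝ᵥ v = -((v ᵥ* B) ⬝ᵥ u) := fun u v => by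
    rw [← dotProduct_mulVec v, dotProduct_comm v, ← vecMul_transpose, hB, vecMul_neg, neg_dotProduct]
    simp
  have hself : ∀ u, (u ᵥ* B) ⬝ᵥ u = 0 := fun u =>
    (mul_eq_zero.1 (show (2 : F) * ((u ᵥ* B) ⬝ᵥ u) = 0 by linear_combination hanti u u)).resolve_left h2
  have hN : ∀ (t : F) u, t • vecMulVec u (u ᵥ* B) ∈ nilIsom (RingEquiv.refl F) B := by
    intro t u
    refine mem_nilIsom ⟨2, ?_⟩ (-(t • vecMulVec u (u ᵥ* B))) ?_ ?_
    · rw [sq, Matrix.smul_mul, Matrix.mul_smul, vecMulVec_mul_vecMulVec, hself, zero_smul, vecMulVec_zero,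
        smul_zero, smul_zero]
    · rw [show (t • vecMulVec u (u ᵥ* B)).map (RingEquiv.refl F) = t • vecMulVec u (u ᵥ* B) from
        Matrix.ext fun i j => rfl, transpose_smul, transpose_vecMulVec, Matrix.smul_mul, vecMulVec_mul,
        Matrix.mul_neg, Matrix.mul_smul, mul_vecMulVec, ← smul_neg]
      congr 1
      rw [← vecMul_transpose, hB, vecMul_neg, neg_vecMulVec, neg_neg]
    · rw [Matrix.neg_mul, Matrix.smul_mul, Matrix.mul_smul, vecMulVec_mul_vecMulVec, hself, zero_smul,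
        vecMulVec_zero, smul_zero, smul_zero, neg_zero, add_zero, neg_add_cancel]
  have hinj : ∀ u : κ → F, u ᵥ* B = 0 → u = 0 := fun u h => by
    have := congrArg (fun r => r ᵥ* B⁻¹) h
    simpa [vecMul_vecMul, Matrix.mul_nonsing_inv _ ((Matrix.isUnit_iff_isUnit_det _).1 hu)] using this
  obtain ⟨e, he⟩ : ∃ e : κ → F, e = Pi.single (Classical.arbitrary κ) 1 := ⟨_, rfl⟩
  obtain ⟨i, hi⟩ : ∃ i, (e ᵥ* B) i ≠ 0 := by
    by_contra h
    push Not at h
    have := congrFun (hinj e (funext h)) (Classical.arbitrary κ)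
    simp [he] at this
  let α := {x : κ → F // (e ᵥ* B) ⬝ᵥ x ≠ 0}
  have hspanx : Submodule.span F (Set.range fun a : α => a.1) = ⊤ := by
    refine eq_top_iff.2 fun z _ => ?_
    have h1 : (Pi.single i 1 : κ → F) ∈ Submodule.span F (Set.range fun a : α => a.1) :=
      Submodule.subset_span ⟨⟨Pi.single i 1, by rw [dotProduct_single, mul_one]; exact hi⟩, rfl⟩
    by_cases hz : (e ᵥ* B) ⬝ᵥ z = 0
    · have h3 : z + Pi.single i 1 ∈ Submodule.span F (Set.range fun a : α => a.1) :=
        Submodule.subset_span ⟨⟨z + Pi.single i 1, by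
          rw [dotProduct_add, hz, zero_add, dotProduct_single, mul_one]; exact hi⟩, rfl⟩
      simpa using Submodule.sub_mem _ h3 h1
    · exact Submodule.subset_span ⟨⟨z, hz⟩, rfl⟩
  refine ring_top_rank_one _ e (e ᵥ* B) (fun t => Subring.subset_closure (hN t e)) (fun a : α => a.1)
    (fun a => a.1 ᵥ* B) (fun a => ⟨1, one_ne_zero, Subring.subset_closure (hN 1 a.1)⟩)
    (fun a => by rw [hanti]; exact neg_ne_zero.2 a.2) (fun a => a.2) hspanx ?_
  refine eq_top_iff.2 fun y _ => ?_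
  have hy : y = (y ᵥ* B⁻¹) ᵥ* B := by
    rw [vecMul_vecMul, Matrix.nonsing_inv_mul _ ((Matrix.isUnit_iff_isUnit_det _).1 hu), vecMul_one]
  rw [hy]
  suffices ∀ u ∈ Submodule.span F (Set.range fun a : α => a.1),
      u ᵥ* B ∈ Submodule.span F (Set.range fun a : α => a.1 ᵥ* B) from
    this _ (hspanx ▸ Submodule.mem_top)
  intro u hu'
  induction hu' using Submodule.span_induction with
  | mem x hx => obtain ⟨a, rfl⟩ := hx; exact Submodule.subset_span ⟨a, rfl⟩
  | zero => rw [zero_vecMul]; exact zero_mem _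
  | add x z _ _ hx hz => rw [add_vecMul]; exact add_mem hx hz
  | smul s x _ hx => rw [smul_vecMul]; exact Submodule.smul_mem _ _ hx

end CfsgLib.KnownC
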