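import Mathlib
import Cfsg.Prelude.Def_Solvable
import Cfsg.Agent.Lib.Solvable.PCore
import Cfsg.Agent.Lib.KnownC.LocalBalanceOddCore
import Cfsg.Agent.Lib.KnownC.LocalBalanceHermRing
import Cfsg.Agent.Lib.Classical.GraphFormClass
import Cfsg.Agent.Lib.Classical.SpSimple
import Cfsg.Agent.Lib.Classical.OrthOmega

set_option autoImplicit false
set_option linter.unusedSectionVars false

/-!
The isometry groups of determinant one of a symmetric or alternating matrix.
-/

namespace CfsgLib.KnownC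

open Matrix CfsgLib.Geom CfsgLib.Classical.GraphForm
open QuadraticMap (polar)

variable {F : Type*} [Field F] {κ : Type} [Fintype κ] [DecidableEq κ]

/-- The isometries of determinant one. -/
def formIsom1 (B : Matrix κ κ F) : Subgroup (GL κ F) where
  carrier := {x | x.1ᵀ * B * x.1 = B ∧ x.1.det = 1}
  one_mem' := ⟨by simp, by simp⟩
  mul_mem' := by
    rintro x y ⟨hx, hx'⟩ ⟨hy, hy'⟩
    refine ⟨?_, by rw [Units.val_mul, det_mul, hx', hy', one_mul]⟩
    calc (x * y).1ᵀ * B * (x * y).1 = y.1ᵀ * (x.1ᵀ * B * x.1) * y.1 := by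
          rw [Units.val_mul, transpose_mul]; simp only [Matrix.mul_assoc]
      _ = B := by rw [hx, hy]
  inv_mem' := by
    rintro x ⟨hx, hx'⟩
    refine ⟨?_, ?_⟩
    · calc (x⁻¹).1ᵀ * B * (x⁻¹).1 = (x⁻¹).1ᵀ * (x.1ᵀ * B * x.1) * (x⁻¹).1 := by rw [hx]
        _ = ((x⁻¹).1ᵀ * x.1ᵀ) * B * (x.1 * (x⁻¹).1) := by simp only [Matrix.mul_assoc]
        _ = B := by rw [← transpose_mul, Units.mul_inv, transpose_one, Matrix.one_mul, Matrix.mul_one]
    · have := congrArg Matrix.det (Units.inv_mul x)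
      rwa [det_mul, hx', mul_one, det_one] at this

theorem mem_formIsom1 {B : Matrix κ κ F} {x : GL κ F} :
    x ∈ formIsom1 B ↔ x.1ᵀ * B * x.1 = B ∧ x.1.det = 1 := Iff.rfl

theorem formIsom1_le_formSim (B : Matrix κ κ F) : formIsom1 B ≤ formSim B :=
  fun x hx => ⟨1, by rw [hx.1, Units.val_one, one_smul]⟩

theorem conj_mem_formIsom1 {B : Matrix κ κ F} {x y : GL κ F} (hx : x ∈ formSim B)
    (hy : y ∈ formIsom1 B) : x * y * x⁻¹ ∈ formIsom1 B := by
  refine ⟨?_, ?_⟩
  · obtain ⟨c, hc⟩ := hx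
    have hi : (x⁻¹).1ᵀ * B * (x⁻¹).1 = ((c⁻¹ : Fˣ) : F) • B := by
      conv_lhs => arg 1; arg 2; rw [show B = ((c⁻¹ : Fˣ) : F) • (x.1ᵀ * B * x.1) by
        rw [hc, smul_smul, Units.inv_mul, one_smul]]
      rw [Matrix.mul_smul, Matrix.smul_mul, ← Matrix.mul_assoc, ← Matrix.mul_assoc, ← transpose_mul,
        Units.mul_inv, transpose_one, Matrix.one_mul, Matrix.mul_assoc, Units.mul_inv, Matrix.mul_one]
    calc (x * y * x⁻¹).1ᵀ * B * (x * y * x⁻¹).1
          = (x⁻¹).1ᵀ * (y.1ᵀ * (x.1ᵀ * B * x.1) * y.1) * (x⁻¹).1 := by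
          simp only [Units.val_mul, transpose_mul, Matrix.mul_assoc]
      _ = (c : F) • (((c⁻¹ : Fˣ) : F) • B) := by
          rw [hc]
          simp only [Matrix.mul_smul, Matrix.smul_mul]
          rw [hy.1, hi]
      _ = B := by rw [smul_smul, Units.mul_inv, one_smul]
  · rw [Units.val_mul, Units.val_mul, det_mul, det_mul, hy.2, mul_one, ← det_mul, Units.mul_inv, det_one]

/-- The special orthogonal group of dimension at least three over a field of odd order has no
nontrivial normal subgroup of odd order. -/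
theorem odd_normal_formIsom1 [Finite F] (h2 : (2 : F) ≠ 0) {B : Matrix κ κ F} (hB : Bᵀ = B)
    (hu : IsUnit B) (hn : 3 ≤ Fintype.card κ) (C : Subgroup ↥(formIsom1 B)) (hC : C.Normal)
    (hodd : Odd (Nat.card C)) : C = ⊥ := by
  obtain ⟨Q, hQ⟩ : ∃ Q : QuadraticForm F (κ → F), ∀ v, Q v = v ⬝ᵥ B *ᵥ v :=
    ⟨(Matrix.toBilin' B).toQuadraticMap, fun v => Matrix.toBilin'_apply' B v v⟩
  have hpol : ∀ u v, polar Q u v = 2 * (u ⬝ᵥ B *ᵥ v) := fun u v => by
    have hsymm : v ⬝ᵥ B *ᵥ u = u ⬝ᵥ B *ᵥ v := by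
      rw [dotProduct_mulVec, ← mulVec_transpose, hB, dotProduct_comm]
    rw [polar, hQ, hQ, hQ]
    simp only [mulVec_add, dotProduct_add, add_dotProduct, hsymm]
    ring
  have hsep : ∀ x, (∀ y, polar Q x y = 0) → x = 0 := fun x hx => toBilin'_sep hu x fun y => by
    rw [Matrix.toBilin'_apply']
    have := hx y
    rw [hpol] at this
    exact (mul_eq_zero.1 this).resolve_left h2
  obtain ⟨O, hO⟩ : ∃ O, O = Cfsg.isometryGroup F (⇑Q) := ⟨_, rfl⟩
  have hmemO : ∀ g : GL κ F, g ∈ O ↔ g.1ᵀ * B * g.1 = B := fun g => by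
    rw [hO, mem_isometryGroup_iff]
    constructor
    · intro h
      refine ext_dot fun u v => mul_left_cancel₀ h2 ?_
      rw [← dot_conj, ← hpol, ← hpol]
      simp only [polar, ← mulVec_add, h]
    · intro h v
      rw [hQ, hQ, dot_conj, h]
  have hle : formIsom1 B ≤ O := fun g hg => (hmemO g).2 hg.1
  haveI : Finite (GL κ F) := inferInstance
  obtain ⟨H, hH⟩ : ∃ H : Subgroup ↥O, H = (formIsom1 B).subgroupOf O := ⟨_, rfl⟩
  haveI : H.Normal := by
    refine ⟨fun y hy g => ?_⟩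
    rw [hH, Subgroup.mem_subgroupOf] at hy ⊢
    exact conj_mem_formIsom1 ⟨1, by rw [(hmemO _).1 g.2, Units.val_one, one_smul]⟩ hy
  obtain ⟨e, he⟩ : ∃ e : ↥(formIsom1 B) ≃* ↥H, ∀ x, (e x).1.1 = x.1 := by
    subst hH
    exact ⟨(Subgroup.subgroupOfEquivOfLe hle).symm, fun x => rfl⟩
  haveI : (C.map e.toMonoidHom).Normal := hC.map _ e.surjective
  haveI := CfsgLib.Solvable.pPrimeCore_normal 2 ↥H
  haveI : (Cfsg.pPrimeCore 2 ↥H).Characteristic := CfsgLib.Solvable.pPrimeCore_characteristic 2 _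
  have hle2 : C.map e.toMonoidHom ≤ Cfsg.pPrimeCore 2 ↥H := by
    refine CfsgLib.Solvable.le_pPrimeCore inferInstance ?_
    rw [← Nat.card_congr (C.equivMapOfInjective e.toMonoidHom e.injective).toEquiv]
    exact Nat.coprime_two_right.2 hodd
  obtain ⟨R, hR⟩ : ∃ R, R = ((Cfsg.pPrimeCore 2 ↥H).map H.subtype).map
      ((MulEquiv.subgroupCongr hO).trans (orEquiv Q).symm).toMonoidHom := ⟨_, rfl⟩
  have hRn : R.Normal := by
    rw [hR]
    exact Subgroup.Normal.map inferInstance _ (MulEquiv.surjective _)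
  have hRodd : Odd (Nat.card R) := by
    rw [hR, ← Nat.card_congr (Subgroup.equivMapOfInjective _ _ (MulEquiv.injective _)).toEquiv,
      ← Nat.card_congr (Subgroup.equivMapOfInjective _ _ H.subtype_injective).toEquiv]
    exact Nat.coprime_two_right.1 (CfsgLib.Solvable.pPrimeCore_coprime 2)
  have hbot := odd_normal_quadIsoms_eq_bot h2 (Fintype.card κ) Q hsep
    (Module.finrank_fintype_fun_eq_card F) hn R hRn hRodd
  rw [hR, Subgroup.map_eq_bot_iff_of_injective _ (MulEquiv.injective _),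
    Subgroup.map_eq_bot_iff_of_injective _ H.subtype_injective] at hbot
  rw [hbot, le_bot_iff, Subgroup.map_eq_bot_iff_of_injective _ e.injective] at hle2
  exact hle2

/-- The isometry group of an alternating matrix is the symplectic group. -/
theorem isSimpleGroup_formIsom1_alt [Fintype F] (h2 : (2 : F) ≠ 0) {m : ℕ} (hm : 2 ≤ m)
    {B : Matrix κ κ F} (hB : IsAlt B) (hu : IsUnit B) (hk : Fintype.card κ = 2 * m) :
    IsSimpleGroup (↥(formIsom1 B) ⧸ Subgroup.center ↥(formIsom1 B)) ∧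
      Nat.card (↥(formIsom1 B) ⧸ Subgroup.center ↥(formIsom1 B)) = Nat.card (Cfsg.PSp m F) := by
  obtain ⟨ε⟩ : Nonempty (Fin m ⊕ Fin m ≃ κ) := ⟨Fintype.equivOfCardEq (by simp [hk, two_mul])⟩
  obtain ⟨P, hP⟩ := alt_congr (B := B) (B' := Matrix.reindex ε ε (Matrix.J (Fin m) F)) hB hu
    ⟨by rw [transpose_reindex, J_transpose]; ext i j; simp, fun i => by
      show Matrix.J (Fin m) F (ε.symm i) (ε.symm i) = 0
      rcases ε.symm i with a | a <;> simp [Matrix.J]⟩
    (by
      rw [isUnit_iff_isUnit_det, det_reindex_self]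
      exact Matrix.isUnit_det_J (Fin m) F)
  let θ : GL (Fin m ⊕ Fin m) F ≃* GL κ F := (glReindex ε).trans (MulAut.conj P⁻¹)
  have hθ : ∀ x : GL (Fin m ⊕ Fin m) F, (θ x).1ᵀ * B * (θ x).1 = B ↔
      x.1ᵀ * Matrix.J (Fin m) F * x.1 = Matrix.J (Fin m) F := fun x => by
    have e1 : (θ x).1 = (P⁻¹).1 * (glReindex ε x).1 * P.1 := by
      show (P⁻¹ * glReindex ε x * (P⁻¹)⁻¹).1 = _
      rw [inv_inv]; rfl
    have e2 : (θ x).1ᵀ * B * (θ x).1 =
        P.1ᵀ * Matrix.reindex ε ε (x.1ᵀ * Matrix.J (Fin m) F * x.1) * P.1 := by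
      rw [e1, transpose_mul, transpose_mul]
      conv_lhs => arg 1; arg 2; rw [← hP]
      simp only [Matrix.mul_assoc]
      rw [← Matrix.mul_assoc P.1 (P⁻¹).1, Units.mul_inv, Matrix.one_mul,
        ← Matrix.mul_assoc ((P⁻¹).1ᵀ) P.1ᵀ, ← transpose_mul, Units.mul_inv, transpose_one, Matrix.one_mul,
        glReindex_val]
      congr 1
      simp only [← Matrix.mul_assoc]
      congr 1
      rw [transpose_reindex]
      exact ((map_mul (Matrix.reindexAlgEquiv F F ε) _ _).trans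
        (congrArg (· * _) (map_mul (Matrix.reindexAlgEquiv F F ε) _ _))).symm
    rw [e2]
    conv_lhs => rhs; rw [← hP]
    constructor
    · intro h
      have h' := congrArg (fun M => (P⁻¹).1ᵀ * M * (P⁻¹).1) h
      simp only [← Matrix.mul_assoc, ← transpose_mul, Units.mul_inv, transpose_one, Matrix.one_mul] at h'
      simp only [Matrix.mul_assoc, Units.mul_inv, Matrix.mul_one] at h'
      simpa [Matrix.mul_assoc] using (Matrix.reindex ε ε).injective h'
    · intro h; rw [h]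
  obtain ⟨φ, hφ⟩ : ∃ φ : Matrix.symplecticGroup (Fin m) F →* GL (Fin m ⊕ Fin m) F,
      ∀ x, (φ x).1 = x.1 :=
    ⟨(Units.map (Matrix.symplecticGroup (Fin m) F).subtype).comp toUnits.toMonoidHom, fun x => rfl⟩
  have hmem : ∀ x : Matrix.symplecticGroup (Fin m) F, θ (φ x) ∈ formIsom1 B := fun x => by
    have h1 : (θ (φ x)).1ᵀ * B * (θ (φ x)).1 = B :=
      (hθ _).2 (by rw [hφ]; exact SymplecticGroup.mem_iff'.1 x.2)
    refine ⟨h1, ?_⟩
    rw [det_sim_of_alt_or_two hu (Or.inl hB) hk one_ne_zero (by rw [h1, one_smul]), one_pow]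
  let Φ : Matrix.symplecticGroup (Fin m) F →* ↥(formIsom1 B) :=
    (θ.toMonoidHom.comp φ).codRestrict _ hmem
  have hbij : Function.Bijective Φ := by
    refine ⟨fun a b h => ?_, fun y => ?_⟩
    · have h1 := congrArg Units.val (θ.injective (congrArg Subtype.val h))
      rw [hφ, hφ] at h1
      exact Subtype.ext h1
    · obtain ⟨x, hx⟩ := θ.surjective y.1
      refine ⟨⟨x.1, SymplecticGroup.mem_iff'.2 ((hθ x).1 (by rw [hx]; exact y.2.1))⟩, Subtype.ext ?_⟩
      show θ _ = y.1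
      exact (congrArg θ (Units.ext (hφ _))).trans hx
  let e := CfsgLib.Classical.centerQuotCongr (MulEquiv.ofBijective Φ hbij)
  haveI := CfsgLib.Classical.isSimpleGroup_psp (F := F) m hm (fun _ => by
    by_contra h
    have h1 := Fintype.one_lt_card (α := F)
    have h3 : Fintype.card F = 2 := by omega
    have h4 := FiniteField.cast_card_eq_zero F
    rw [h3, Nat.cast_two] at h4
    exact h2 h4)
  exact ⟨e.symm.isSimpleGroup, (Nat.card_congr e.toEquiv).symm⟩

/-- A symmetric form of dimension at least three over a field of odd order has an isotropic vector. -/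
theorem exists_isotropic_form [Finite F] (h2 : (2 : F) ≠ 0) {B : Matrix κ κ F} (hB : Bᵀ = B)
    (hu : IsUnit B) (hn : 3 ≤ Fintype.card κ) : ∃ e : κ → F, e ≠ 0 ∧ e ⬝ᵥ B *ᵥ e = 0 := by
  classical
  letI := Fintype.ofFinite F
  obtain ⟨Q, hQ⟩ : ∃ Q : QuadraticForm F (κ → F), ∀ v, Q v = v ⬝ᵥ B *ᵥ v :=
    ⟨(Matrix.toBilin' B).toQuadraticMap, fun v => Matrix.toBilin'_apply' B v v⟩
  have hsep : ∀ x, (∀ y, polar Q x y = 0) → x = 0 := fun x hx => toBilin'_sep hu x fun y => by
    rw [Matrix.toBilin'_apply']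
    have hsymm : y ⬝ᵥ B *ᵥ x = x ⬝ᵥ B *ᵥ y := by
      rw [dotProduct_mulVec, ← mulVec_transpose, hB, dotProduct_comm]
    have := hx y
    rw [polar, hQ, hQ, hQ] at this
    simp only [mulVec_add, dotProduct_add, add_dotProduct, hsymm] at this
    exact (mul_eq_zero.1 (show (2 : F) * (x ⬝ᵥ B *ᵥ y) = 0 by linear_combination this)).resolve_left h2
  have hdim : Module.finrank F (κ → F) = Fintype.card κ := Module.finrank_fintype_fun_eq_card F
  obtain ⟨p₁, hp₁, -⟩ := exists_orth_aniso h2 hsep ![] (fun i => i.elim0) (fun i => i.elim0) (by omega)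
  obtain ⟨p₂, hp₂, h12⟩ := exists_orth_aniso h2 hsep ![p₁] (fun i => by fin_cases i; simpa using hp₁)
    (fun i j h => absurd (Subsingleton.elim i j) h) (show 1 < _ by omega)
  have h12' : polar Q p₁ p₂ = 0 := by simpa using h12 0
  obtain ⟨p₃, hp₃, h3'⟩ := exists_orth_aniso h2 hsep ![p₁, p₂]
    (fun i => by fin_cases i <;> simpa)
    (fun i j h => by
      fin_cases i <;> fin_cases j <;>
        first | exact absurd rfl h | simpa using h12' | simpa [QuadraticMap.polar_comm] using h12')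
    (show 2 < _ by omega)
  have h13 : polar Q p₁ p₃ = 0 := by simpa using h3' 0
  have h23 : polar Q p₂ p₃ = 0 := by simpa using h3' 1
  have hodd : Fintype.card F % 2 = 1 := FiniteField.odd_card_of_char_ne_two (fun h => h2 (by
    haveI : CharP F 2 := ringChar.of_eq h
    exact CharTwo.two_eq_zero))
  obtain ⟨x, y, hxy⟩ := FiniteField.exists_root_sum_quadratic (R := F)
    (f := Polynomial.C (Q p₁) * Polynomial.X ^ 2) (g := Polynomial.C (Q p₂) * Polynomial.X ^ 2 +
      Polynomial.C (Q p₃)) (Polynomial.degree_C_mul_X_pow 2 hp₁)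
    (by rw [Polynomial.degree_add_C (by rw [Polynomial.degree_C_mul_X_pow 2 hp₂]; norm_num),
      Polynomial.degree_C_mul_X_pow 2 hp₂]; norm_num) hodd
  simp only [Polynomial.eval_add, Polynomial.eval_mul, Polynomial.eval_pow, Polynomial.eval_C,
    Polynomial.eval_X] at hxy
  refine ⟨x • p₁ + y • p₂ + p₃, fun h => ?_, ?_⟩
  · have h1 : polar Q p₃ (x • p₁ + y • p₂ + p₃) = 0 := by rw [h, QuadraticMap.polar_zero_right]
    rw [QuadraticMap.polar_add_right, QuadraticMap.polar_add_right, QuadraticMap.polar_smul_right,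
      QuadraticMap.polar_smul_right, QuadraticMap.polar_comm _ p₃ p₁, QuadraticMap.polar_comm _ p₃ p₂,
      h13, h23, polar_self_two] at h1
    simp only [smul_zero, add_zero, zero_add] at h1
    exact mul_ne_zero h2 hp₃ h1
  · rw [← hQ, QuadraticMap.map_add (⇑Q), QuadraticMap.map_add (⇑Q), quad_smul, quad_smul,
      QuadraticMap.polar_add_left, QuadraticMap.polar_smul_left, QuadraticMap.polar_smul_left,
      QuadraticMap.polar_smul_left, QuadraticMap.polar_smul_right, h12', h13, h23]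
    simp only [smul_zero, add_zero]
    linear_combination hxy

end CfsgLib.KnownC
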