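import Mathlib
import Cfsg.Agent.Lib.KnownC.LocalBalanceCommutant
import Cfsg.Agent.Lib.KnownC.AutPOmegaFieldMinus
import Cfsg.Agent.Lib.Classical.GraphFormBasic

set_option autoImplicit false
set_option linter.unusedSectionVars false
set_option linter.style.haveILetI false

/-!
Local balance for the minus orthogonal groups.
-/

namespace CfsgLib.KnownC

open CfsgLib.Geom CfsgLib.Classical
open QuadraticMap (polar)
open Matrix

universe u v

/-- Killers are transported between isomorphic groups. -/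
theorem HasCoreKiller.transport_equiv {G H : Type*} [Group G] [Group H] (E : G ≃* H) {N : Subgroup G}
    {M : Subgroup H} {x : G} {p : ℕ} (hN : ∀ y, E y ∈ M ↔ y ∈ N) (h : HasCoreKiller M (E x) p) :
    HasCoreKiller N x p := by
  obtain ⟨P, hPM, hPx, hnorm, hP, hC⟩ := h
  have hcent : ∀ y, y ∈ Subgroup.centralizer {x} ↔ E y ∈ Subgroup.centralizer {E x} := fun y => by
    rw [Subgroup.mem_centralizer_singleton_iff, Subgroup.mem_centralizer_singleton_iff, ← map_mul,
      ← map_mul, E.injective.eq_iff]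
  refine ⟨P.comap E.toMonoidHom, fun y hy => (hN y).1 (hPM hy), fun y hy => (hcent y).2 (hPx hy),
    fun a ha y hy => ?_, fun R hR hRn hRc => ?_, fun y hy => ?_⟩
  · show E (a * y * a⁻¹) ∈ P
    rw [map_mul, map_mul, map_inv]
    exact hnorm (E a) ⟨(hN a).2 ha.1, (hcent a).1 ha.2⟩ _ hy
  · have h1 : R.map E.toMonoidHom = ⊥ := by
      refine hP _ (by rintro _ ⟨q, hq, rfl⟩; exact hR hq) ?_ ?_
      · rintro a ha _ ⟨q, hq, rfl⟩
        refine ⟨E.symm a * q * (E.symm a)⁻¹,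
          hRn (E.symm a) (show E (E.symm a) ∈ P by rwa [E.apply_symm_apply]) q hq, ?_⟩
        show E (E.symm a * q * (E.symm a)⁻¹) = a * E q * a⁻¹
        rw [map_mul, map_mul, map_inv, E.apply_symm_apply]
      · rw [← Nat.card_congr (R.equivMapOfInjective E.toMonoidHom E.injective).toEquiv]
        exact hRc
    exact (Subgroup.map_eq_bot_iff_of_injective _ E.injective).1 h1
  · have h1 : E y ∈ Subgroup.centralizer (P : Set H) := Subgroup.mem_centralizer_iff.2 fun z hz => by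
      have h2 := Subgroup.mem_centralizer_iff.1 hy.1 (E.symm z)
        (show E (E.symm z) ∈ P by rwa [E.apply_symm_apply])
      have h3 := congrArg E h2
      rwa [map_mul, map_mul, E.apply_symm_apply] at h3
    obtain ⟨k, hk⟩ := hC ⟨h1, (hcent y).1 hy.2⟩
    exact ⟨k, E.injective (by
      show E (x ^ k) = E y
      rw [map_zpow]; exact hk)⟩

/-- The determinant of an involution. -/
theorem det_involution {F V : Type*} [Field F] [AddCommGroup V] [Module F V] [FiniteDimensional F V]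
    (h2 : (2 : F) ≠ 0) (g : V →ₗ[F] V) (hg : ∀ v, g (g v) = v) :
    LinearMap.det g = (-1) ^ Module.finrank F (LinearMap.ker (g + 1)) ∧
      Module.finrank F (LinearMap.ker (g - 1)) + Module.finrank F (LinearMap.ker (g + 1)) =
        Module.finrank F V := by
  have hc : IsCompl (LinearMap.ker (g - 1)) (LinearMap.ker (g + 1)) := by
    refine ⟨Submodule.disjoint_def.2 fun v hv hv' => ?_, codisjoint_iff.2 (eq_top_iff.2 fun v _ => ?_)⟩
    · have h1 := fix_of_mem_ker g hv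
      have h3 : g v = -v := eq_neg_of_add_eq_zero_left (LinearMap.mem_ker.1 hv')
      have h4 : (2 : F) • v = 0 := by
        rw [two_smul]; nth_rw 2 [← h1]; rw [h3, add_neg_cancel]
      exact (smul_eq_zero.1 h4).resolve_left h2
    · obtain ⟨a, ha, b, hb, rfl⟩ := fix_decomp h2 g hg v
      exact Submodule.add_mem_sup ha hb
  refine ⟨?_, Submodule.finrank_add_eq_of_isCompl hc⟩
  obtain ⟨e, he⟩ : ∃ e, e = Submodule.prodEquivOfIsCompl _ _ hc := ⟨_, rfl⟩
  have h1 : g = (e : _ →ₗ[F] V) ∘ₗ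
      (LinearMap.prodMap (LinearMap.id : LinearMap.ker (g - 1) →ₗ[F] _)
        ((-1 : F) • (LinearMap.id : LinearMap.ker (g + 1) →ₗ[F] _))) ∘ₗ (e.symm : V →ₗ[F] _) := by
    refine LinearMap.ext fun v => ?_
    obtain ⟨⟨a, b⟩, rfl⟩ := e.surjective v
    simp only [LinearMap.comp_apply, LinearEquiv.coe_coe, LinearEquiv.symm_apply_apply,
      LinearMap.prodMap_apply]
    subst he
    rw [Submodule.coe_prodEquivOfIsCompl' , Submodule.coe_prodEquivOfIsCompl']
    simp only [LinearMap.id_apply, LinearMap.smul_apply, Submodule.coe_smul, map_add]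
    rw [fix_of_mem_ker g a.2, show g b.1 = -b.1 from eq_neg_of_add_eq_zero_left (LinearMap.mem_ker.1 b.2),
      neg_one_smul]
  calc LinearMap.det g = LinearMap.det ((e : _ →ₗ[F] V) ∘ₗ
      (LinearMap.prodMap (LinearMap.id : LinearMap.ker (g - 1) →ₗ[F] _)
        ((-1 : F) • (LinearMap.id : LinearMap.ker (g + 1) →ₗ[F] _))) ∘ₗ (e.symm : V →ₗ[F] _)) :=
        congrArg _ h1
    _ = _ := by
      rw [LinearMap.det_conj, LinearMap.det_prodMap, LinearMap.det_id, LinearMap.det_smul,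
        LinearMap.det_id, one_mul, mul_one]

variable {F : Type u} [Field F] [Fintype F]

/-- A skew-adjoint square root of a scalar has the determinant of a proper similitude. -/
theorem det_skew_sqrt {ι : Type} [Fintype ι] [DecidableEq ι] {Q : QuadraticForm F (ι → F)}
    (hQ : ∀ x, (∀ y, polar Q x y = 0) → x = 0) (M : Matrix ι ι F) {lam : F}
    (hM : M * M = lam • (1 : Matrix ι ι F)) (hskew : ∀ u w, polar Q (M *ᵥ u) w = -polar Q u (M *ᵥ w))
    {n : ℕ} (hn : Fintype.card ι = 2 * n) : M.det = (-lam) ^ n := by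
  obtain ⟨B, hB⟩ : ∃ B : Matrix ι ι F, ∀ u w, u ⬝ᵥ B *ᵥ w = polar Q u w :=
    ⟨LinearMap.toMatrix₂' F (QuadraticMap.polarBilin Q), fun u w => by
      rw [← Matrix.toLinearMap₂'_apply', Matrix.toLinearMap₂'_toMatrix']; rfl⟩
  have hBu : IsUnit B := by
    rw [Matrix.isUnit_iff_isUnit_det, isUnit_iff_ne_zero]
    intro h0
    obtain ⟨v, hv0, hv⟩ := Matrix.exists_mulVec_eq_zero_iff.2 h0
    refine hv0 (hQ v fun y => ?_)
    rw [QuadraticMap.polar_comm, ← hB, hv, dotProduct_zero]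
  have hBM : Mᵀ * B = -(B * M) := by
    refine CfsgLib.Classical.GraphForm.ext_dot fun u w => ?_
    rw [Matrix.neg_mulVec, dotProduct_neg, ← Matrix.mulVec_mulVec, ← Matrix.mulVec_mulVec, hB,
      dotProduct_mulVec, Matrix.vecMul_transpose, hB]
    exact hskew u w
  have hneg : (-M).charpoly = M.charpoly := by
    obtain ⟨U, rfl⟩ := hBu
    rw [show -M = (↑U⁻¹ : Matrix ι ι F) * Mᵀ * U by
      rw [Matrix.mul_assoc, hBM, Matrix.mul_neg, ← Matrix.mul_assoc, Units.inv_mul, Matrix.one_mul],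
      Matrix.charpoly_mul_comm, ← Matrix.mul_assoc, Units.mul_inv, Matrix.one_mul, Matrix.charpoly_transpose]
  obtain ⟨P, hP⟩ : ∃ P : Polynomial F, P = (Polynomial.X ^ 2 - Polynomial.C lam) ^ n := ⟨_, rfl⟩
  have hprod : M.charpoly * M.charpoly = P * P := by
    nth_rw 1 [← hneg]
    rw [Matrix.charpoly, Matrix.charpoly, ← Matrix.det_mul, hP, ← pow_add, ← two_mul, ← hn]
    have h1 : (-M).charmatrix * M.charmatrix =
        Matrix.diagonal fun _ : ι => Polynomial.X ^ 2 - Polynomial.C lam := by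
      have hc : Commute (Matrix.scalar ι (Polynomial.X : Polynomial F)) (M.map Polynomial.C) :=
        Matrix.scalar_commute _ (fun r' => Commute.all _ _) _
      have hneg' : (-M).map Polynomial.C = -(M.map Polynomial.C) :=
        Matrix.ext fun i j => map_neg Polynomial.C _
      simp only [Matrix.charmatrix, RingHom.mapMatrix_apply, hneg', sub_neg_eq_add]
      rw [← hc.mul_self_sub_mul_self_eq, ← Matrix.map_mul, hM, ← map_mul, Matrix.scalar_apply,
        show (lam • (1 : Matrix ι ι F)).map Polynomial.C = Matrix.diagonal fun _ : ι => Polynomial.C lam from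
          Matrix.ext fun i j => by by_cases h : i = j <;> simp [h, Matrix.diagonal],
        Matrix.diagonal_sub, pow_two]
    rw [h1, Matrix.det_diagonal, Finset.prod_const, Finset.card_univ]
  have hPm : P.Monic := hP ▸ (Polynomial.monic_X_pow_sub_C lam (by norm_num)).pow n
  have hMP : M.charpoly = P := by
    rcases mul_self_eq_mul_self_iff.1 hprod with h | h
    · exact h
    have h1 : (1 : F) = -1 := by
      have h0 := congrArg Polynomial.leadingCoeff h
      rwa [(Matrix.charpoly_monic M).leadingCoeff, Polynomial.leadingCoeff_neg, hPm.leadingCoeff] at h0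
    rw [h, neg_eq_iff_add_eq_zero, ← two_mul]
    exact mul_eq_zero_of_left (by
      rw [show (2 : Polynomial F) = Polynomial.C 2 from (Polynomial.C_ofNat 2).symm,
        show (2 : F) = 0 by linear_combination h1, Polynomial.C_0]) _
  rw [Matrix.det_eq_sign_charpoly_coeff, hMP, hP, Polynomial.coeff_zero_eq_eval_zero, hn, pow_mul]
  simp

variable {m : ℕ}

/-- An isotropic binary part gives the plus form. -/
theorem exists_plus_of_root (m : ℕ) {a b w : F} (hw : w ^ 2 + a * w + b = 0) (hd : 2 * w + a ≠ 0) :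
    ∃ e : (Fin (m + 1) ⊕ Fin (m + 1) → F) ≃ₗ[F] ((Fin m ⊕ Fin m) ⊕ Fin 2 → F),
      ∀ v, qfMinus m F a b (e v) = qfPlus (m + 1) F v := by
  obtain ⟨f, hfl, hfr⟩ : ∃ f : ((Fin m ⊕ Fin m) ⊕ Fin 2 → F) →ₗ[F] (Fin (m + 1) ⊕ Fin (m + 1) → F),
      (∀ v i, f v (.inl i) = Fin.lastCases (v (.inr 0) - w * v (.inr 1)) (fun j => v (.inl (.inl j))) i) ∧
        ∀ v i, f v (.inr i) =
          Fin.lastCases (v (.inr 0) - (-a - w) * v (.inr 1)) (fun j => v (.inl (.inr j))) i := by
    refine ⟨LinearMap.pi (Sum.elim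
        (fun i => Fin.lastCases
          (LinearMap.proj (.inr 0) - w • LinearMap.proj (.inr 1))
          (fun j => LinearMap.proj (.inl (.inl j))) i)
        (fun i => Fin.lastCases
          (LinearMap.proj (.inr 0) - (-a - w) • LinearMap.proj (.inr 1))
          (fun j => LinearMap.proj (.inl (.inr j))) i)), fun v i => ?_, fun v i => ?_⟩ <;>
      refine Fin.lastCases ?_ (fun j => ?_) i <;> simp
  have hinj : Function.Injective f := (injective_iff_map_eq_zero f).2 fun v hv => by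
    have e1 := congrFun hv (.inl (Fin.last m))
    have e2 := congrFun hv (.inr (Fin.last m))
    rw [hfl] at e1
    rw [hfr] at e2
    simp only [Fin.lastCases_last, Pi.zero_apply] at e1 e2
    have z1 : v (.inr 1) = 0 := (mul_eq_zero.1 (show (2 * w + a) * v (.inr 1) = 0 by
      linear_combination e2 - e1)).resolve_left hd
    have z0 : v (.inr 0) = 0 := by linear_combination e1 + w * z1
    funext k
    rcases k with (i | i) | i
    · have := congrFun hv (.inl i.castSucc)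
      rwa [hfl, Fin.lastCases_castSucc] at this
    · have := congrFun hv (.inr i.castSucc)
      rwa [hfr, Fin.lastCases_castSucc] at this
    · fin_cases i
      · exact z0
      · exact z1
  obtain ⟨E, hE⟩ : ∃ E : ((Fin m ⊕ Fin m) ⊕ Fin 2 → F) ≃ₗ[F] (Fin (m + 1) ⊕ Fin (m + 1) → F),
      ∀ z, E z = f z :=
    ⟨LinearEquiv.ofBijective f ⟨hinj, (LinearMap.injective_iff_surjective_of_finrank_eq_finrank
      (by simp; omega)).1 hinj⟩, fun z => rfl⟩
  refine ⟨E.symm, fun v => ?_⟩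
  obtain ⟨z, rfl⟩ := E.surjective v
  rw [E.symm_apply_apply, hE, qfMinus_apply, qfPlus_apply, Cfsg.quadFormMinus,
    Cfsg.quadFormPlus, Fin.sum_univ_castSucc]
  simp only [hfl, hfr, Fin.lastCases_castSucc, Fin.lastCases_last]
  linear_combination (z (.inr 1)) ^ 2 * hw

variable {a b : F}

/-- There is no semisimilitude with field part of order two inducing an involution of a minus group. -/
theorem minus_no_semilinear_involution (hm : 3 ≤ m)
    (hab : ∀ z₁ z₂ : F, z₁ ^ 2 + a * z₁ * z₂ + b * z₂ ^ 2 = 0 → z₁ = 0 ∧ z₂ = 0)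
    (K : OCtx (qfMinus m F a b)) (Φ : OSim (qfMinus m F a b)) (hσ : orderOf Φ.σ = 2)
    (h : osimPOmega K Φ ^ 2 = 1) : False := by
  obtain ⟨F₀, _, _, ι₀, hι, hcard⟩ := exists_fixed_field Φ.σ
  obtain ⟨R₀, hR, hsep⟩ := exists_isFrame ι₀ K Φ hι (by rw [hσ]; exact h)
  rw [hσ] at hcard
  rcases even_form_std (m + 1) _ R₀ hsep (by rw [Module.finrank_fintype_fun_eq_card, card_minus_index]) with
    ⟨e, he⟩ | ⟨k, a₀, b₀, c, hk, hc, hab₀, e, he⟩
  · obtain ⟨L, d, -, hL⟩ := exists_similarity_of_frame ι₀ hR (qfPlus_baseChange ι₀ (m + 1)) e one_ne_zero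
      (fun w => by rw [he, one_mul])
    exact not_similar_plus_minus hab L hL
  obtain rfl : k = m := by omega
  obtain ⟨L, d, -, hL⟩ := exists_similarity_of_frame ι₀ hR (qfMinus_baseChange ι₀ k a₀ b₀) e hc he
  obtain ⟨z₁, z₂, hz, hz2⟩ := (anisotropic_map_iff ι₀ hcard hab₀).2 even_two
  obtain ⟨w, hwdef⟩ : ∃ w, w = z₁ / z₂ := ⟨_, rfl⟩
  have hw : w ^ 2 + ι₀ a₀ * w + ι₀ b₀ = 0 := by
    rw [hwdef]; field_simp; linear_combination hz
  have hd : 2 * w + ι₀ a₀ ≠ 0 := fun h0 => by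
    have h4 : ι₀ (4 * b₀ - a₀ ^ 2) = 0 := by
      rw [map_sub, map_mul, map_pow, map_ofNat]
      linear_combination 4 * hw - (2 * w + ι₀ a₀) * h0
    exact anisotropic_disc hab₀ (ι₀.injective (h4.trans (map_zero ι₀).symm))
  obtain ⟨e', he'⟩ := exists_plus_of_root k hw hd
  exact not_similar_plus_minus hab (e'.trans L) (c := d) fun v => by
    rw [LinearEquiv.trans_apply, hL, he']

/-- A non-inner-diagonal involution induced by a similitude has a killer. -/
theorem minus_similitude_killer (hm : 3 ≤ m)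
    (hab : ∀ z₁ z₂ : F, z₁ ^ 2 + a * z₁ * z₂ + b * z₂ ^ 2 = 0 → z₁ = 0 ∧ z₂ = 0) (h2 : (2 : F) ≠ 0)
    (K : OCtx (qfMinus m F a b)) (Φ : OSim (qfMinus m F a b)) (hσ : Φ.σ = RingEquiv.refl F)
    (hord : orderOf (osimPOmega K Φ) = 2) (hdet : Φ.mat.1.det ≠ Φ.c ^ (m + 1)) :
    HasCoreKiller (MulAut.conj : Cfsg.POmega F (⇑(qfMinus m F a b)) →* _).range (osimPOmega K Φ) 2 := by
  obtain ⟨g, hg⟩ : ∃ g : ((Fin m ⊕ Fin m) ⊕ Fin 2 → F) →ₗ[F] ((Fin m ⊕ Fin m) ⊕ Fin 2 → F),
      ∀ v, Φ.T v = g v :=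
    ⟨{ toFun := Φ.T, map_add' := map_add Φ.T, map_smul' := fun t v => by rw [Φ.smul, hσ]; rfl }, fun v => rfl⟩
  have hmat : ∀ v, Φ.mat.1 *ᵥ v = g v := fun v => by
    rw [← hg, ← Φ.mat_mulVec K v, hσ]; rfl
  have hmatg : Φ.mat.1.det = LinearMap.det g := by
    rw [← LinearMap.det_toMatrix' g]
    exact congrArg _ (Matrix.ext_iff_mulVec.2 fun v => (hmat v).trans (LinearMap.toMatrix'_mulVec g v).symm)
  have hQ : ∀ v, qfMinus m F a b (g v) = Φ.c * qfMinus m F a b v := fun v => by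
    rw [← hg, Φ.quad, hσ]; rfl
  have h1 := pow_orderOf_eq_one (osimPOmega K Φ)
  rw [hord, ← osimPOmega_pow] at h1
  obtain ⟨lam, hl, hlam⟩ := (osimPOmega_eq_one_iff K _).1 h1
  have hgg : ∀ v, g (g v) = lam • v := fun v => by
    rw [← hlam v, OSim.pow_T]
    simp [Function.iterate_succ, hg]
  obtain ⟨v₀, -, -, hv₀⟩ := exists_perp_anisotropic (qfMinus m F a b) K.sep (five_le K) 0 0
  have hμ : Φ.c * Φ.c = lam * lam := by
    have h3 := congrArg (⇑(qfMinus m F a b)) (hgg v₀)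
    rw [hQ, hQ, quad_smul, ← mul_assoc] at h3
    exact mul_right_cancel₀ hv₀ h3
  have hpolg : ∀ u w, polar (qfMinus m F a b) (g u) (g w) = Φ.c * polar (qfMinus m F a b) u w := fun u w => by
    simp only [QuadraticMap.polar, ← map_add, hQ]; ring
  have hn : 9 ≤ Fintype.card ((Fin m ⊕ Fin m) ⊕ Fin 2) ∨ NoFour (qfMinus m F a b) := noFour_minus hm hab
  rcases mul_self_eq_mul_self_iff.1 hμ with hc | hc
  swap
  · exfalso
    refine hdet ?_
    rw [hc, det_skew_sqrt K.sep Φ.mat.1 (lam := lam) (Matrix.ext_iff_mulVec.2 fun v => by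
      rw [← Matrix.mulVec_mulVec, hmat, hmat, hgg, Matrix.smul_mulVec, Matrix.one_mulVec]) (fun u w => ?_)
      card_minus_index]
    rw [hmat, hmat]
    have h3 := hpolg u (g w)
    rw [hgg, QuadraticMap.polar_smul_right, smul_eq_mul, hc] at h3
    exact mul_left_cancel₀ hl (by linear_combination h3)
  have hQl : ∀ v, qfMinus m F a b (g v) = lam * qfMinus m F a b v := fun v => by rw [hQ, hc]
  by_cases hsq : IsSquare lam
  · obtain ⟨s, rfl⟩ := hsq
    have hs : s ≠ 0 := fun h => hl (by rw [h, mul_zero])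
    obtain ⟨g', hg'⟩ : ∃ g', g' = s⁻¹ • g := ⟨_, rfl⟩
    have hinv : ∀ v, g' (g' v) = v := fun v => by
      rw [hg', LinearMap.smul_apply, LinearMap.smul_apply, map_smul, hgg, smul_smul, smul_smul,
        show s⁻¹ * s⁻¹ * (s * s) = 1 by field_simp, one_smul]
    have hinvQ : ∀ v, qfMinus m F a b (g' v) = qfMinus m F a b v := fun v => by
      rw [hg', LinearMap.smul_apply, quad_smul, hQl]; field_simp
    obtain ⟨hdet', hsum⟩ := det_involution h2 g' hinv
    rw [Module.finrank_fintype_fun_eq_card, card_minus_index] at hsum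
    have hodd : Odd (Module.finrank F (LinearMap.ker (g' + 1))) := by
      by_contra hev
      rw [Nat.not_odd_iff_even] at hev
      refine hdet ?_
      rw [hmatg, hc, show g = s • g' by rw [hg', smul_inv_smul₀ hs], LinearMap.det_smul, hdet',
        hev.neg_one_pow, mul_one, Module.finrank_fintype_fun_eq_card, card_minus_index, pow_mul, pow_two]
    have hodd' : Odd (Module.finrank F (LinearMap.ker (g' - 1))) := by
      obtain ⟨j, hj⟩ := hodd
      exact ⟨m - j, by omega⟩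
    refine hasCoreKiller_involution K hn h2 Φ g' hinv hinvQ hs
      (fun v => by rw [hg, hg', LinearMap.smul_apply, smul_inv_smul₀ hs]) hord hodd' hodd ?_
    omega
  · exact hasCoreKiller_nonsquare K hn h2 Φ g hsq hgg hQl hg hord

/-- An automorphism of odd prime order with a non-trivial field part is in the field class and has a
killer once it fixes an element of that order. -/
theorem minus_field_class (hm : 3 ≤ m)
    (hab : ∀ z₁ z₂ : F, z₁ ^ 2 + a * z₁ * z₂ + b * z₂ ^ 2 = 0 → z₁ = 0 ∧ z₂ = 0)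
    (K : OCtx (qfMinus m F a b)) (Φ : OSim (qfMinus m F a b)) {p : ℕ} (hp : p.Prime) (hodd : Odd p)
    (hσ : orderOf Φ.σ = p) (h : osimPOmega K Φ ^ p = 1) :
    (∃ (a' b' : F) (ψ : Cfsg.POmega F (⇑(qfMinus m F a b)) ≃* Cfsg.POmega F (Cfsg.quadFormMinus m F a' b'))
      (σ : F ≃+* F), (∀ z₁ z₂ : F, z₁ ^ 2 + a' * z₁ * z₂ + b' * z₂ ^ 2 = 0 → z₁ = 0 ∧ z₂ = 0) ∧
      σ ≠ RingEquiv.refl F ∧ σ a' = a' ∧ σ b' = b' ∧
      Cfsg.IsFieldAutPOmegaOf (Cfsg.quadFormMinus m F a' b') σ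
        ((ψ.symm.trans (osimPOmega K Φ)).trans ψ)) ∧
    ∀ k, orderOf k = p → osimPOmega K Φ k = k →
      HasCoreKiller (MulAut.conj : Cfsg.POmega F (⇑(qfMinus m F a b)) →* _).range (osimPOmega K Φ) p := by
  obtain ⟨F₀, _, _, ι₀, hι, hcard⟩ := exists_fixed_field Φ.σ
  obtain ⟨R₀, hR, hsep⟩ := exists_isFrame ι₀ K Φ hι (by rw [hσ]; exact h)
  rw [hσ] at hcard
  rcases even_form_std (m + 1) _ R₀ hsep (by rw [Module.finrank_fintype_fun_eq_card, card_minus_index]) with
    ⟨e, he⟩ | ⟨k, a₀, b₀, c, hk, hc, hab₀, e, he⟩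
  · obtain ⟨L, d, -, hL⟩ := exists_similarity_of_frame ι₀ hR (qfPlus_baseChange ι₀ (m + 1)) e one_ne_zero
      (fun w => by rw [he, one_mul])
    exact (not_similar_plus_minus hab L hL).elim
  obtain rfl : k = m := by omega
  have hab' := (anisotropic_map_iff ι₀ hcard hab₀).1 hodd
  obtain ⟨L, d, hd, hL⟩ := exists_similarity_of_frame ι₀ hR (qfMinus_baseChange ι₀ k a₀ b₀) e hc he
  have hL' : ∀ v, qfMinus k F (ι₀ a₀) (ι₀ b₀) (L.symm v) = d⁻¹ * qfMinus k F a b v := fun v => by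
    obtain ⟨z, rfl⟩ := L.surjective v
    rw [L.symm_apply_apply, hL, inv_mul_cancel_left₀ hd]
  have K' := octx_minus (F := F) hm hab'
  have hσQ := qfMinus_equivariant (m := k) (a := ι₀ a₀) (b := ι₀ b₀) Φ.σ ((hι _).2 ⟨a₀, rfl⟩)
    ((hι _).2 ⟨b₀, rfl⟩)
  obtain ⟨P, hP⟩ := exists_transfer K K' L.symm (inv_ne_zero hd) hL'
  obtain ⟨γ, -, hγ⟩ := minus_class ι₀ hm hab' K' hσQ hι (Φ.push L.symm (inv_ne_zero hd) hL') rfl (by
    rw [hσ, ← hP, ← map_pow, h, map_one])
  obtain ⟨ψ, hψdef⟩ : ∃ ψ : Cfsg.POmega F (⇑(qfMinus k F a b)) ≃*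
      Cfsg.POmega F (⇑(qfMinus k F (ι₀ a₀) (ι₀ b₀))), ψ = P.trans γ.symm := ⟨_, rfl⟩
  have hstd : autCongr ψ (osimPOmega K Φ) = osimPOmega K' (OSim.std Φ.σ hσQ) := by
    refine MulEquiv.ext fun y => ?_
    obtain ⟨z, rfl⟩ := ψ.surjective y
    rw [autCongr_apply, hψdef, MulEquiv.trans_apply, MulEquiv.trans_apply, ← autCongr_apply P, hP, hγ,
      MulAut.mul_apply, MulAut.mul_apply]
    exact γ.symm_apply_apply _
  refine ⟨?_, fun x hx hxfix => ?_⟩
  · have key : ∀ Q', Q' = ⇑(qfMinus k F (ι₀ a₀) (ι₀ b₀)) →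
        ∃ ψ' : Cfsg.POmega F (⇑(qfMinus k F a b)) ≃* Cfsg.POmega F Q',
          Cfsg.IsFieldAutPOmegaOf Q' Φ.σ ((ψ'.symm.trans (osimPOmega K Φ)).trans ψ') := by
      rintro Q' rfl
      refine ⟨ψ, ?_⟩
      have h1 := isFieldAutPOmegaOf_std K' Φ.σ hσQ
      rw [← hstd] at h1
      exact h1
    obtain ⟨ψ', hψ'⟩ := key _ (qfMinus_coe k (ι₀ a₀) (ι₀ b₀)).symm
    exact ⟨ι₀ a₀, ι₀ b₀, ψ', Φ.σ, hab', fun h0 => hp.ne_one (by
      rw [← hσ, h0]; exact orderOf_one), (hι _).2 ⟨a₀, rfl⟩, (hι _).2 ⟨b₀, rfl⟩, hψ'⟩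
  refine HasCoreKiller.transport_equiv (autCongr ψ) (M := (MulAut.conj :
    Cfsg.POmega F (⇑(qfMinus k F (ι₀ a₀) (ι₀ b₀))) →* _).range) (fun y => ?_) ?_
  · have h1 := autCongr_map_inn ψ
    constructor
    · intro hy
      obtain ⟨z, hz, hzy⟩ : autCongr ψ y ∈ (Cfsg.Inn _).map (autCongr ψ).toMonoidHom := h1.symm ▸ hy
      exact (autCongr ψ).injective hzy ▸ hz
    · intro hy
      show autCongr ψ y ∈ Cfsg.Inn _
      rw [← h1]
      exact ⟨y, hy, rfl⟩
  rw [hstd]
  exact hasCoreKiller_field_pOmega K' ι₀ (qfMinus_baseChange ι₀ k a₀ b₀) (octx_minus (F := F₀) hm hab₀)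
    Φ.σ hσQ hι (fun y _ => exists_osimPOmega K' (noFour_minus hm hab') y) hp
    (fun h2 => absurd (h2 ▸ hodd) (by decide)) (ψ x) ((MulEquiv.orderOf_eq ψ x).trans hx)
    (by rw [← hstd, autCongr_apply, hxfix])

/-- The local balance criterion for the minus orthogonal groups. -/
theorem localBalance_minus (hm : 3 ≤ m)
    (hab : ∀ z₁ z₂ : F, z₁ ^ 2 + a * z₁ * z₂ + b * z₂ ^ 2 = 0 → z₁ = 0 ∧ z₂ = 0)
    (Q : ((Fin m ⊕ Fin m) ⊕ Fin 2 → F) → F) (hQ : Q = ⇑(qfMinus m F a b))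
    (hK : IsSimpleGroup (Cfsg.POmega F Q)) (A : Subgroup (MulAut (Cfsg.POmega F Q)))
    (hinn : ∀ k : Cfsg.POmega F Q, MulAut.conj k ∈ A) {p : ℕ} (hp : p.Prime)
    (hp2 : p = 2 → (2 : F) ≠ 0) (x : MulAut (Cfsg.POmega F Q)) (hord : orderOf x = p)
    (hnot : ¬ ∃ g : GL ((Fin m ⊕ Fin m) ⊕ Fin 2) F, g ∈ Cfsg.Geo.quadSimilarityGroup (F := F) Q ∧
      Cfsg.PreservesSingularClassesMinus m a b g.1 ∧
      Cfsg.IsInducedBySemilinearPOmega Q g (RingEquiv.refl F) x) :
    Cfsg.pPrimeCore p ↥(A ⊓ Subgroup.centralizer {x}) ≠ ⊥ ↔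
      ((∃ (a' b' : F) (ψ : Cfsg.POmega F Q ≃* Cfsg.POmega F (Cfsg.quadFormMinus m F a' b')) (σ : F ≃+* F),
        (∀ z₁ z₂ : F, z₁ ^ 2 + a' * z₁ * z₂ + b' * z₂ ^ 2 = 0 → z₁ = 0 ∧ z₂ = 0) ∧
        σ ≠ RingEquiv.refl F ∧ σ a' = a' ∧ σ b' = b' ∧
        Cfsg.IsFieldAutPOmegaOf (Cfsg.quadFormMinus m F a' b') σ ((ψ.symm.trans x).trans ψ)) ∧
      Nat.Coprime p (Nat.card ↥(MonoidHom.eqLocus x.toMonoidHom (MonoidHom.id (Cfsg.POmega F Q))))) := by
  subst hQ
  haveI := hK
  haveI : Fact p.Prime := ⟨hp⟩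
  have K := octx_minus (F := F) hm hab
  obtain ⟨Φ, rfl⟩ := exists_osimPOmega K (noFour_minus hm hab) x
  have hpow : osimPOmega K Φ ^ p = 1 := by rw [← hord, pow_orderOf_eq_one]
  have hσp : Φ.σ ^ p = 1 := by
    have h := hpow
    rw [← osimPOmega_pow] at h
    have h3 := osimPOmega_σ_eq K (Ψ := OSim.ofIsometry (1 : Cfsg.isometryGroup F (⇑(qfMinus m F a b)))) (by
      rw [h, ← isoHom_apply, map_one])
    rw [OSim.pow_σ] at h3
    exact h3
  have hsim : Φ.σ = RingEquiv.refl F →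
      ∀ v, qfMinus m F a b (Φ.mat.1 *ᵥ v) = Φ.c * qfMinus m F a b v := fun h v => by
    have h1 := Φ.quad v
    rw [← Φ.mat_mulVec K v, h] at h1
    exact h1
  have himp : Φ.σ = RingEquiv.refl F → ¬ IsProperSim (qfMinus m F a b) (m + 1) Φ.mat := fun h hpr =>
    hnot ⟨Φ.mat, ⟨Units.mk0 Φ.c Φ.c_ne, hsim h⟩, (preservesMinus_iff hm hab Φ.c_ne (hsim h)).2 hpr,
      h ▸ isInduced_osimPOmega K Φ⟩
  rcases hp.eq_two_or_odd' with rfl | hodd
  · have h2 := hp2 rfl
    have hnofield : ¬ ∃ (a' b' : F) (ψ : Cfsg.POmega F (⇑(qfMinus m F a b)) ≃*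
        Cfsg.POmega F (Cfsg.quadFormMinus m F a' b')) (σ : F ≃+* F),
        (∀ z₁ z₂ : F, z₁ ^ 2 + a' * z₁ * z₂ + b' * z₂ ^ 2 = 0 → z₁ = 0 ∧ z₂ = 0) ∧
        σ ≠ RingEquiv.refl F ∧ σ a' = a' ∧ σ b' = b' ∧
        Cfsg.IsFieldAutPOmegaOf (Cfsg.quadFormMinus m F a' b') σ
          ((ψ.symm.trans (osimPOmega K Φ)).trans ψ) := by
      rintro ⟨a', b', ψ, σ, hab', hσ, ha, hb, hxf⟩
      obtain ⟨-, -, -, ho, -⟩ := minus_std_of_class hm hab K _ hab' (qfMinus_coe m a' b').symm ψ hσ ha hb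
        hxf hp hord
      exact absurd ho (by decide)
    have hσ1 : Φ.σ = RingEquiv.refl F := by
      by_contra hne
      exact minus_no_semilinear_involution hm hab K Φ (orderOf_eq_prime hσp hne) hpow
    have hdet : Φ.mat.1.det ≠ Φ.c ^ (m + 1) := fun h => himp hσ1
      ⟨Φ.c, Φ.c_ne, hsim hσ1, fun _ => h, fun h0 => absurd h0 h2⟩
    haveI : Finite (MulAut (Cfsg.POmega F (⇑(qfMinus m F a b)))) :=
      Finite.of_injective (fun e : MulAut _ => (e : _ → _)) DFunLike.coe_injective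
    haveI := inn_normal (K := Cfsg.POmega F (⇑(qfMinus m F a b)))
    have hbot := (minus_similitude_killer hm hab h2 K Φ hσ1 hord hdet).pPrimeCore_eq_bot hp hord A
      (by rintro _ ⟨k, rfl⟩; exact hinn k)
    exact ⟨fun hne => absurd hbot hne, fun hr => absurd hr.1 hnofield⟩
  · have hσ1 : Φ.σ ≠ RingEquiv.refl F := fun h1 => by
      obtain ⟨j, hj⟩ := hodd
      obtain ⟨v, -, -, hv⟩ := exists_perp_anisotropic (qfMinus m F a b) K.sep (five_le K) 0 0
      haveI := properAut_normal K (noFour_minus hm hab) (m + 1)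
      have hmem : osimPOmega K Φ ∈ properAut K (m + 1) := by
        rcases sim_split K (card_minus_index (m := m)) h1 v hv with h | h
        · exact h
        -- an element of odd order is a square modulo the proper similitudes
        have h2x : osimPOmega K Φ ^ 2 ∈ properAut K (m + 1) := by
          have h3 := (properAut K (m + 1)).mul_mem h ((inferInstance : (properAut K (m + 1)).Normal).conj_mem
            _ h (isoHom K (reflIsom (qfMinus m F a b) v hv)))
          rw [show osimPOmega K Φ ^ 2 =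
            osimPOmega K Φ * isoHom K (reflIsom (qfMinus m F a b) v hv) *
              (isoHom K (reflIsom (qfMinus m F a b) v hv) * (osimPOmega K Φ * isoHom K (reflIsom (qfMinus m F a b) v hv)) *
                (isoHom K (reflIsom (qfMinus m F a b) v hv))⁻¹) by
              rw [pow_two]
              simp only [mul_assoc, mul_inv_cancel, mul_one]
              rw [← mul_assoc (isoHom K _) (isoHom K _), isoHom_refl_mul_self, one_mul]]
          exact h3
        have h4 := (properAut K (m + 1)).pow_mem h2x (j + 1)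
        rwa [← pow_mul, show 2 * (j + 1) = p + 1 by omega, pow_succ, hpow, one_mul] at h4
      obtain ⟨g, hg, hgx⟩ := (mem_properAut K).1 hmem
      obtain ⟨μ, hμ, hgv, -⟩ := id hg
      refine hnot ⟨g.1, g.2, (preservesMinus_iff hm hab hμ hgv).2 hg, ?_⟩
      have h5 := isInduced_osimPOmega K (OSim.ofPair g.1 (RingEquiv.refl F) (isSemisimilarityPair_of_sim g.2))
      rw [OSim.ofPair_mat K, ← simHom_apply, hgx] at h5
      exact h5
    obtain ⟨hfield, hkill⟩ := minus_field_class hm hab K Φ hp hodd (orderOf_eq_prime hσp hσ1) hpow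
    rw [and_iff_right hfield]
    exact pPrimeCore_ne_bot_iff (conjHom_pOmega_injective K) A hinn hp _ hord hkill

end CfsgLib.KnownC
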