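import Mathlib
import Cfsg.Agent.Lib.KnownC.LocalBalanceIff
import Cfsg.Agent.Lib.KnownC.LocalBalancePOmega
import Cfsg.Agent.Lib.KnownC.AutPOmegaOddConj

set_option autoImplicit false
set_option linter.unusedSectionVars false
set_option linter.style.haveILetI false

/-!
Local balance for the odd-dimensional orthogonal groups.
-/

namespace CfsgLib.KnownC

open CfsgLib.Geom CfsgLib.Classical

universe u

theorem localBalance_odd {F : Type u} [Field F] [Fintype F] (hodd : Odd (Fintype.card F)) {m : ℕ}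
    (hm : 3 ≤ m) (Q' : (Unit ⊕ (Fin m ⊕ Fin m) → F) → F) (hQ' : Q' = ⇑(qfOdd m F))
    (hK : IsSimpleGroup (Cfsg.POmega F Q')) (A : Subgroup (MulAut (Cfsg.POmega F Q')))
    (hinn : ∀ k : Cfsg.POmega F Q', MulAut.conj k ∈ A) {p : ℕ} (hp : p.Prime)
    (x : MulAut (Cfsg.POmega F Q')) (hord : orderOf x = p)
    (hnot : ¬ Cfsg.IsSimilarityInducedAutPOmega Q' x) :
    Cfsg.pPrimeCore p ↥(A ⊓ Subgroup.centralizer {x}) ≠ ⊥ ↔ (Cfsg.IsFieldAutClassPOmega Q' x ∧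
      Nat.Coprime p (Nat.card ↥(MonoidHom.eqLocus x.toMonoidHom (MonoidHom.id (Cfsg.POmega F Q'))))) := by
  subst hQ'
  haveI : Fact p.Prime := ⟨hp⟩
  haveI := hK
  have h2 : (2 : F) ≠ 0 := two_ne_zero_of_odd (F := F) hodd
  have K := octx_odd (F := F) h2 hm
  obtain ⟨Φ, rfl⟩ := exists_osimPOmega K (noFour_odd K) x
  have hσ1 : Φ.σ ≠ RingEquiv.refl F := fun h => hnot
    ⟨Φ.mat, ⟨Units.mk0 Φ.c Φ.c_ne, fun v => by
      have h1 := Φ.quad v
      rw [← Φ.mat_mulVec K v, h] at h1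
      exact h1⟩, h ▸ isInduced_osimPOmega K Φ⟩
  have hpow : osimPOmega K Φ ^ p = 1 := by rw [← hord, pow_orderOf_eq_one]
  have hσp : Φ.σ ^ p = 1 := by
    rw [← osimPOmega_pow] at hpow
    have h3 := osimPOmega_σ_eq K (Ψ := OSim.ofIsometry (1 : Cfsg.isometryGroup F (⇑(qfOdd m F)))) (by
      rw [hpow, ← isoHom_apply, map_one])
    rw [OSim.pow_σ] at h3
    exact h3
  have hordσ : orderOf Φ.σ = p := orderOf_eq_prime hσp hσ1
  let F₀ : Subfield F := (Φ.σ : F →+* F).eqLocusField (RingHom.id F)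
  have hι : ∀ x, Φ.σ x = x ↔ ∃ a : F₀, F₀.subtype a = x :=
    fun x => ⟨fun hx => ⟨⟨x, hx⟩, rfl⟩, by rintro ⟨a, rfl⟩; exact a.2⟩
  letI : Fintype F₀ := Fintype.ofFinite _
  have h20 : (2 : F₀) ≠ 0 := fun h => h2 (by rw [← map_ofNat F₀.subtype 2, h, map_zero])
  obtain ⟨Ψ, -, hΨ⟩ := exists_conj_std F₀.subtype K Φ (qfOdd_equivariant Φ.σ) hι
    (qfOdd_map F₀.subtype) (similar_qfOdd h20) (by rw [hordσ, hpow])
  rw [hΨ] at hord hpow ⊢
  have hfield : Cfsg.IsFieldAutClassPOmega (⇑(qfOdd m F))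
      (osimPOmega K Ψ * osimPOmega K (OSim.std Φ.σ (qfOdd_equivariant Φ.σ)) * (osimPOmega K Ψ)⁻¹) :=
    ⟨(osimPOmega K Ψ)⁻¹, _, Φ.σ, hσ1, isFieldAutPOmegaOf_std K Φ.σ (qfOdd_equivariant Φ.σ), by group⟩
  refine Iff.trans (pPrimeCore_ne_bot_iff (conjHom_pOmega_injective K) A hinn hp _ hord
    fun k hk hkfix => ?_) (by simp only [hfield, true_and])
  exact hasCoreKiller_conj _ _ (hasCoreKiller_field_pOmega K F₀.subtype (qfOdd_map F₀.subtype)
    (octx_odd (F := F₀) h20 hm) Φ.σ (qfOdd_equivariant Φ.σ) hι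
    (fun y _ => exists_osimPOmega K (noFour_odd K) y) hp (fun _ => h2)
    ((osimPOmega K Ψ)⁻¹ k) ((MulEquiv.orderOf_eq _ k).trans hk) (fixed_of_conj _ _ hkfix))

end CfsgLib.KnownC
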