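import Mathlib
import Cfsg.Prelude.Def_KGroupFacts
import Cfsg.Agent.Lib.KnownC.AutPSpOut
import Cfsg.Agent.Lib.KnownC.LocalBalanceTools
import Cfsg.Agent.Lib.Classical.SpSimple
import Cfsg.Agent.Lib.Classical.ExcIsoPerm

set_option autoImplicit false
set_option linter.unusedSectionVars false

/-!
Local balance for `PSp_{2m}(q)`: the centraliser of a field automorphism of prime order dividing the
order of its fixed points has trivial `p'`-core.
-/

namespace CfsgLib.KnownC

open Matrix CfsgLib.Geom CfsgLib.Classical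

variable {m : ℕ} {F : Type*} [Field F]

theorem two_dvd_card_psp [Finite F] (hm : 1 ≤ m) : 2 ∣ Nat.card (Cfsg.PSp m F) := by
  haveI : Finite (symplecticGroup (Fin m) F) := Subtype.finite
  let J0 : symplecticGroup (Fin m) F := ⟨Matrix.J (Fin m) F, SymplecticGroup.J_mem (Fin m) F⟩
  let S : symplecticGroup (Fin m) F :=
    ⟨fromBlocks 1 1 0 1, by simp [SymplecticGroup.mem_iff, Matrix.J, fromBlocks_multiply,
      fromBlocks_transpose]⟩
  have hne : (QuotientGroup.mk J0 : Cfsg.PSp m F) ≠ 1 := fun h => by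
    have hc := Subgroup.mem_center_iff.1 ((QuotientGroup.eq_one_iff _).1 h) S
    have h1 := congrArg (fun A : symplecticGroup (Fin m) F => A.1 (Sum.inl ⟨0, hm⟩) (Sum.inl ⟨0, hm⟩)) hc
    simp [S, J0, Matrix.J, fromBlocks_multiply] at h1
  have hsq : (QuotientGroup.mk J0 : Cfsg.PSp m F) ^ 2 = 1 := by
    rw [← QuotientGroup.mk_pow]
    refine (QuotientGroup.eq_one_iff _).2 (Subgroup.mem_center_iff.2 fun g => Subtype.ext ?_)
    show g.1 * (J0 ^ 2).1 = (J0 ^ 2).1 * g.1
    rw [show (J0 ^ 2).1 = Matrix.J (Fin m) F * Matrix.J (Fin m) F by rw [pow_two]; rfl,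
      Matrix.J_squared, mul_neg, mul_one, neg_mul, one_mul]
  rw [← orderOf_eq_prime hsq hne]
  exact orderOf_dvd_natCard _

theorem perm_six_normal_coprime_eq_bot {p : ℕ} (hp : p.Prime) (hp2 : p ≠ 2)
    (hdvd : p ∣ Nat.card (Equiv.Perm (Fin 6))) (N : Subgroup (Equiv.Perm (Fin 6))) [N.Normal]
    (hN : (Nat.card N).Coprime p) : N = ⊥ := by
  haveI : IsSimpleGroup (alternatingGroup (Fin 6)) :=
    alternatingGroup.isSimpleGroup (by simp)
  have hpA : p ∣ Nat.card (alternatingGroup (Fin 6)) := by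
    rw [← two_mul_nat_card_alternatingGroup (α := Fin 6)] at hdvd
    exact ((Nat.coprime_primes hp Nat.prime_two).2 hp2).dvd_of_dvd_mul_left hdvd
  rcases (inferInstance : (N.subgroupOf (alternatingGroup (Fin 6))).Normal).eq_bot_or_eq_top
    with h | h
  · rw [Subgroup.subgroupOf_eq_bot, disjoint_iff] at h
    refine (Subgroup.eq_bot_iff_forall N).2 fun z hz => Equiv.ext fun a => ?_
    by_contra hza
    rw [Equiv.Perm.one_apply] at hza
    obtain ⟨c, hca, hcz⟩ : ∃ c, c ≠ a ∧ c ≠ z a := by
      have : ∀ a b : Fin 6, ∃ c, c ≠ a ∧ c ≠ b := by decide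
      exact this a (z a)
    have hcomm : z * Equiv.swap a c = Equiv.swap a c * z := by
      have h1 : z * Equiv.swap a c * z⁻¹ * (Equiv.swap a c)⁻¹ ∈ N ⊓ alternatingGroup (Fin 6) := by
        refine ⟨?_, ?_⟩
        · show z * Equiv.swap a c * z⁻¹ * (Equiv.swap a c)⁻¹ ∈ N
          rw [mul_assoc, mul_assoc, ← mul_assoc (Equiv.swap a c)]
          exact N.mul_mem hz ((inferInstance : N.Normal).conj_mem _ (N.inv_mem hz) _)
        · show z * Equiv.swap a c * z⁻¹ * (Equiv.swap a c)⁻¹ ∈ alternatingGroup (Fin 6)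
          rw [Equiv.Perm.mem_alternatingGroup, map_mul, map_mul, map_mul, map_inv,
            map_inv, mul_right_comm (Equiv.Perm.sign z), mul_inv_cancel, one_mul, mul_inv_cancel]
      rw [h, Subgroup.mem_bot, mul_inv_eq_one, mul_inv_eq_iff_eq_mul] at h1
      exact h1
    have h2 := Equiv.Perm.congr_fun hcomm a
    rw [Equiv.Perm.mul_apply, Equiv.Perm.mul_apply, Equiv.swap_apply_left,
      Equiv.swap_apply_of_ne_of_ne hza (Ne.symm hcz)] at h2
    exact hca (z.injective h2)
  · rw [Subgroup.subgroupOf_eq_top] at h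
    exact absurd ((hN.coprime_dvd_left (dvd_trans hpA (Subgroup.card_dvd_of_le h))))
      (fun hc => hp.one_lt.ne' ((Nat.coprime_self p).1 hc))

/-- Normal subgroups of order prime to a divisor `p` of `|PSp_{2m}(q)|` are trivial. -/
theorem psp_normal_coprime_eq_bot [Fintype F] (hm : 2 ≤ m) {p : ℕ} (hp : p.Prime)
    (hp2 : Fintype.card F = 2 → p ≠ 2) (hdvd : p ∣ Nat.card (Cfsg.PSp m F))
    (Q : Subgroup (Cfsg.PSp m F)) [Q.Normal] (hQ : (Nat.card Q).Coprime p) : Q = ⊥ := by
  by_cases h : m = 2 → 3 ≤ Fintype.card F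
  · haveI := isSimpleGroup_psp (F := F) m hm h
    rcases (inferInstance : Q.Normal).eq_bot_or_eq_top with h1 | h1
    · exact h1
    · rw [h1, Subgroup.card_top] at hQ
      exact absurd (hQ.coprime_dvd_left hdvd) (fun hc => hp.one_lt.ne' ((Nat.coprime_self p).1 hc))
  · rw [Classical.not_imp] at h
    obtain ⟨rfl, hq⟩ := h
    have h2 : Fintype.card F = 2 := by
      have := Fintype.one_lt_card (α := F)
      omega
    have h20 : (2 : F) = 0 := by
      have := FiniteField.cast_card_eq_zero F
      rwa [h2, Nat.cast_two] at this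
    let e0 := ZMod.ringEquivOfPrime F Nat.prime_two h2
    have hbij : Function.Bijective
        (QuotientGroup.mk' (Subgroup.center (symplecticGroup (Fin 2) F))) := by
      refine ⟨fun a b hab => ?_, QuotientGroup.mk'_surjective _⟩
      refine (spEquiv 2 F).symm.injective (toPSp_injective_of_two h20 ?_)
      show QuotientGroup.mk' _ (spEquiv 2 F ((spEquiv 2 F).symm a)) =
        QuotientGroup.mk' _ (spEquiv 2 F ((spEquiv 2 F).symm b))
      rw [MulEquiv.apply_symm_apply, MulEquiv.apply_symm_apply, hab]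
    obtain ⟨e6⟩ := sp_four_two_equiv
    let e : Cfsg.PSp 2 F ≃* Equiv.Perm (Fin 6) :=
      ((MulEquiv.ofBijective _ hbij).symm.trans (spCongr e0.symm)).trans e6
    haveI : (Q.map e.toMonoidHom).Normal := (inferInstance : Q.Normal).map _ e.surjective
    have := perm_six_normal_coprime_eq_bot hp (hp2 h2)
      (by rwa [← Nat.card_congr e.toEquiv]) (Q.map e.toMonoidHom)
      (by rwa [← Nat.card_congr (Q.equivMapOfInjective e.toMonoidHom e.injective).toEquiv])
    exact (Subgroup.map_eq_bot_iff_of_injective _ e.injective).1 this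

/-- Automorphisms fixing every fixed point of `σ` are powers of `σ`. -/
theorem mem_zpowers_of_fix_fixed [Finite F] (σ τ : F ≃+* F) (h : ∀ x, σ x = x → τ x = x) :
    τ ∈ Subgroup.zpowers σ := by
  haveI : Finite (F ≃+* F) :=
    Finite.of_injective (fun s : F ≃+* F => (s : F → F)) DFunLike.coe_injective
  let f : F →ₐ[FixedPoints.subfield (Subgroup.zpowers σ) F] F :=
    { (τ : F →+* F) with
      commutes' := fun c => h c.1 (c.2 ⟨σ, Subgroup.mem_zpowers σ⟩) }
  obtain ⟨g, hg⟩ := (FixedPoints.toAlgHom_bijective (Subgroup.zpowers σ) F).2 f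
  have : τ = g.1 := RingEquiv.ext fun x => (DFunLike.congr_fun hg x).symm
  rw [this]
  exact g.2

theorem spSemiAut_one_zpow (σ : F ≃+* F) (k : ℤ) :
    spSemiAut (1 : Cfsg.GSp m F) (σ ^ k) = spSemiAut (1 : Cfsg.GSp m F) σ ^ k :=
  map_zpow (MonoidHom.mk' (fun τ => spSemiAut (1 : Cfsg.GSp m F) τ) fun a b => by
    rw [spSemiAut_mul, map_one, mul_one]) σ k

/-- The fixed points of a field automorphism of order `p` whose order is divisible by `p` kill the
core of every centraliser. -/
theorem hasCoreKiller_fieldPSp [Fintype F] (hm : 2 ≤ m) {r : ℕ} [CharP F r] (σ : F ≃+* F)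
    {p : ℕ} (hp : p.Prime) (hpr : p ≠ r) (k₀ : Cfsg.PSp m F) (hk₀ : orderOf k₀ = p)
    (hk₀fix : spSemiAut (1 : Cfsg.GSp m F) σ k₀ = k₀) :
    HasCoreKiller (MulAut.conj : Cfsg.PSp m F →* MulAut (Cfsg.PSp m F)).range
      (spSemiAut (1 : Cfsg.GSp m F) σ) p := by
  classical
  have hm1 : 1 ≤ m := by omega
  let F₀ : Subfield F := (σ : F →+* F).eqLocusField (RingHom.id F)
  letI : Fintype F₀ := Fintype.ofFinite _
  have hι : ∀ x, σ x = x ↔ ∃ a : F₀, F₀.subtype a = x :=
    fun x => ⟨fun hx => ⟨⟨x, hx⟩, rfl⟩, by rintro ⟨a, rfl⟩; exact a.2⟩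
  obtain ⟨φ, hφ, hmult, hrange⟩ := centralizer_fieldPSp (m := m) hm σ F₀.subtype hι
  set ψ := (spInndiagHom (m := m) (F := F)).comp φ with hψ
  have hker : ψ.ker = (spInndiagHom (m := m) (F := F₀)).ker := by
    ext u
    rw [MonoidHom.mem_ker, MonoidHom.mem_ker, hψ, MonoidHom.comp_apply, spInndiagHom_apply,
      spInndiagHom_apply, spSemiAut_eq_one_iff hm, spSemiAut_eq_one_iff hm, and_iff_right rfl,
      and_iff_right rfl, hφ]
    constructor
    · rintro ⟨c, hc⟩
      let i₀ : Fin m ⊕ Fin m := Sum.inl ⟨0, by omega⟩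
      have hc0 : F₀.subtype (u.1.1 i₀ i₀) = c := by
        have := congrArg (fun M : Matrix _ _ F => M i₀ i₀) hc
        simpa using this
      have hne : u.1.1 i₀ i₀ ≠ 0 := fun h0 => c.ne_zero (by rw [← hc0, h0, map_zero])
      refine ⟨Units.mk0 _ hne, Matrix.map_injective F₀.subtype.injective ?_⟩
      dsimp only
      rw [hc, Units.val_mk0, ← hc0]
      ext k l
      by_cases hkl : k = l <;> simp [hkl, Matrix.one_apply]
    · rintro ⟨c, hc⟩
      refine ⟨Units.map F₀.subtype.toMonoidHom c, ?_⟩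
      rw [hc]
      ext k l
      by_cases hkl : k = l <;> simp [hkl, Matrix.one_apply]
  have hψu : ∀ u : symplecticGroup (Fin m) F₀, ψ (spToGSp u) = 1 ↔
      u ∈ Subgroup.center (symplecticGroup (Fin m) F₀) := fun u => by
    rw [← MonoidHom.mem_ker, hker, MonoidHom.mem_ker, spInndiagHom_spToGSp,
      ← QuotientGroup.eq_one_iff u]
    exact ⟨fun h => conjHom_psp_injective hm (h.trans (map_one _).symm),
      fun h => by rw [h, map_one]⟩
  let Φ : Cfsg.PSp m F₀ →* MulAut (Cfsg.PSp m F) :=
    QuotientGroup.lift (Subgroup.center (symplecticGroup (Fin m) F₀)) (ψ.comp spToGSp)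
      fun u hu => (hψu u).2 hu
  have hΦmk : ∀ u, Φ (QuotientGroup.mk u) = ψ (spToGSp u) := fun u => rfl
  have hΦinj : Function.Injective Φ := (injective_iff_map_eq_one Φ).2 fun z hz => by
    obtain ⟨u, rfl⟩ := QuotientGroup.mk_surjective z
    exact (QuotientGroup.eq_one_iff u).2 ((hψu u).1 hz)
  have hΦrange : Φ.range = (gspMultHom (F := F₀) hm1).ker.map ψ := by
    rw [← spToGSp_range hm1, MonoidHom.map_range]
    ext x
    constructor
    · rintro ⟨z, rfl⟩
      obtain ⟨u, rfl⟩ := QuotientGroup.mk_surjective z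
      exact ⟨u, rfl⟩
    · rintro ⟨u, rfl⟩
      exact ⟨QuotientGroup.mk u, rfl⟩
  have hinn : (MulAut.conj : Cfsg.PSp m F →* MulAut (Cfsg.PSp m F)).range =
      (gspMultHom (F := F) hm1).ker.map spInndiagHom := inn_eq_map_ker hm1
  have hPinn : Φ.range ≤ (MulAut.conj : Cfsg.PSp m F →* MulAut (Cfsg.PSp m F)).range := by
    rw [hΦrange, hinn]
    rintro _ ⟨h, hh, rfl⟩
    refine ⟨φ h, MonoidHom.mem_ker.2 (Units.ext ?_), rfl⟩
    show (gspMult (φ h) : F) = 1
    rw [hmult, show gspMult h = 1 from MonoidHom.mem_ker.1 hh, Units.val_one, map_one]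
  have hPs : Φ.range ≤ Subgroup.centralizer {spSemiAut (1 : Cfsg.GSp m F) σ} := by
    rw [hΦrange]
    exact le_trans (Subgroup.map_le_range _ _) (le_trans hrange.ge inf_le_right)
  have hNψ : ∀ a ∈ (MulAut.conj : Cfsg.PSp m F →* MulAut (Cfsg.PSp m F)).range ⊓
      Subgroup.centralizer {spSemiAut (1 : Cfsg.GSp m F) σ}, a ∈ ψ.range := fun a ha =>
    hrange.le ⟨inn_le_inndiagPSp hm1 ha.1, ha.2⟩
  refine ⟨Φ.range, hPinn, hPs, fun a ha y hy => ?_, fun Q hQ hQn hQc => ?_, fun y hy => ?_⟩
  · obtain ⟨h, rfl⟩ := hNψ a ha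
    rw [hΦrange] at hy ⊢
    obtain ⟨k, hk, rfl⟩ := hy
    exact ⟨h * k * h⁻¹, (MonoidHom.normal_ker _).conj_mem k hk h, by rw [map_mul, map_mul, map_inv]⟩
  · have hcardQ : Nat.card (Q.comap Φ) = Nat.card Q := by
      have h1 := Nat.card_congr ((Q.comap Φ).equivMapOfInjective Φ hΦinj).toEquiv
      rwa [Subgroup.map_comap_eq_self hQ] at h1
    haveI : (Q.comap Φ).Normal := ⟨fun z hz g => by
      show Φ (g * z * g⁻¹) ∈ Q
      rw [map_mul, map_mul, map_inv]
      exact hQn (Φ g) ⟨g, rfl⟩ _ hz⟩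
    have hdvd : p ∣ Nat.card (Cfsg.PSp m F₀) := by
      have h1 : MulAut.conj k₀ ∈ ψ.range := hNψ _ ⟨⟨k₀, rfl⟩,
        Subgroup.mem_centralizer_singleton_iff.2 (MulEquiv.ext fun z => by
          simp [MulAut.mul_apply, hk₀fix])⟩
      have h2 : p ∣ Nat.card ψ.range := by
        rw [← hk₀, ← orderOf_injective _ (conjHom_psp_injective hm) k₀,
          ← Subgroup.orderOf_mk _ h1]
        exact orderOf_dvd_natCard _
      rw [← Subgroup.index_ker, hker, Subgroup.index_ker, ← inndiagPSp_eq_range,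
        card_inndiagPSp hm] at h2
      rcases (Nat.Prime.dvd_mul hp).1 h2 with h3 | h3
      · have : p = 2 := (Nat.prime_dvd_prime_iff_eq hp Nat.prime_two).1
          (h3.trans (Nat.gcd_dvd_left _ _))
        rw [this]
        exact two_dvd_card_psp hm1
      · exact h3
    have hp2 : Fintype.card F₀ = 2 → p ≠ 2 := fun h2 hp2 => hpr (by
      have h20 : (2 : F₀) = 0 := by
        have := FiniteField.cast_card_eq_zero F₀
        rwa [h2, Nat.cast_two] at this
      have h2F : (2 : F) = 0 := by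
        have := congrArg F₀.subtype h20
        rwa [map_ofNat, map_zero] at this
      haveI : CharP F 2 := CharTwo.of_one_ne_zero_of_two_eq_zero one_ne_zero h2F
      rw [hp2]
      exact CharP.eq F ‹CharP F 2› ‹CharP F r›)
    have h0 := psp_normal_coprime_eq_bot hm hp hp2 hdvd (Q.comap Φ) (by rwa [hcardQ])
    rw [← Subgroup.map_comap_eq_self hQ, h0, Subgroup.map_bot]
  · -- what commutes with the rational transvections and with `σ` is a power of it
    have htr : ∀ (v : SpVec m F₀) (c : F₀), MulAut.conj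
        (toPSp (spTr (fun i => F₀.subtype (v i)) (F₀.subtype c))) =
          ψ (spToGSp (spEquiv m F₀ (spTr v c))) := by
      intro v c
      rw [hψ, MonoidHom.comp_apply]
      refine (spInndiagHom_spToGSp _).symm.trans (congrArg spInndiagHom ?_)
      refine Subtype.ext (Units.ext (Matrix.ext fun i j => ?_))
      rw [hφ]
      show (spEquiv m F (spTr _ _)).1 i j = F₀.subtype ((spEquiv m F₀ (spTr v c)).1 i j)
      have e1 : ∀ {E : Type _} [Field E] (w : SpVec m E) (d : E), (spEquiv m E (spTr w d)).1 i j =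
          (Pi.single j (1 : E) : SpVec m E) i + d * sympBilin m E (Pi.single j 1) w * w i := by
        intro E _ w d
        have := congrFun (spEquiv_spTr_mulVec w d (Pi.single j 1)) i
        rw [Matrix.mulVec_single_one, Pi.add_apply, Pi.smul_apply, smul_eq_mul] at this
        exact this
      rw [e1, e1, map_add, map_mul, map_mul]
      have e2 : ∀ k, (Pi.single j (1 : F) : SpVec m F) k =
          F₀.subtype ((Pi.single j (1 : F₀) : SpVec m F₀) k) := fun k => by
        by_cases hk : k = j <;> simp [hk]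
      have e3 : sympBilin m F (Pi.single j 1) (fun i => F₀.subtype (v i)) =
          F₀.subtype (sympBilin m F₀ (Pi.single j 1) v) := by
        rw [sympBilin_apply, sympBilin_apply, sympForm_eq_sum, sympForm_eq_sum, map_sum]
        simp only [e2, map_sub, map_mul]
      rw [← e2, e3]
    have hmem : ∀ (v : SpVec m F₀) (c : F₀), MulAut.conj
        (toPSp (spTr (fun i => F₀.subtype (v i)) (F₀.subtype c))) ∈ Φ.range := fun v c =>
      ⟨QuotientGroup.mk (spEquiv m F₀ (spTr v c)), (htr v c).symm ▸ rfl⟩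
    have hfix : ∀ (v : SpVec m F₀) (c : F₀),
        y (toPSp (spTr (fun i => F₀.subtype (v i)) (F₀.subtype c))) =
          toPSp (spTr (fun i => F₀.subtype (v i)) (F₀.subtype c)) := fun v c => by
      set t := toPSp (spTr (fun i => F₀.subtype (v i)) (F₀.subtype c))
      have h1 := Subgroup.mem_centralizer_iff.1 hy.1 _ (hmem v c)
      refine conjHom_psp_injective hm ?_
      refine MulEquiv.ext fun z => ?_
      obtain ⟨w, rfl⟩ := y.surjective z
      have h2 := DFunLike.congr_fun h1 w
      simp only [MulAut.mul_apply, MulAut.conj_apply, map_mul, map_inv] at h2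
      simp only [MulAut.conj_apply]
      exact h2.symm
    obtain ⟨g, τ, rfl⟩ : ∃ g τ, y = spSemiAut g τ := by
      by_cases h : (2 : F) ≠ 0 ∨ 3 ≤ m
      · exact exists_spSemiAut hm h y
      · simp only [not_or, not_le, ne_eq, not_not] at h
        obtain rfl : m = 2 := by omega
        haveI : CharP F 2 := CharTwo.of_one_ne_zero_of_two_eq_zero one_ne_zero h.1
        rcases mulAut_psp_four y with h' | ⟨g, τ, rfl⟩
        · exact h'
        · exfalso
          let v0 : SpVec 2 F₀ := Pi.single (Sum.inl 0) 1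
          have hv : (fun i => F₀.subtype (v0 i)) ≠ 0 := fun h0 => by
            simpa [v0] using congrFun h0 (Sum.inl 0)
          have h1 := hfix v0 1
          rw [map_one, MulAut.mul_apply] at h1
          have h2 := congrArg starAut h1
          rw [MulAut.apply_inv_self] at h2
          obtain ⟨d, -, hd⟩ := spSemiAut_toPSp_spTr g τ (fun i => F₀.subtype (v0 i)) 1
          refine isShortImg_ne_tv (starAut_short _ hv) ⟨_, ?_, d, h2.symm.trans hd⟩
          intro h0
          exact hv (funext fun i => (map_eq_zero τ).1 (congrFun ((Matrix.mulVec_injective_of_isUnit g.1.isUnit)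
            (h0.trans (mulVec_zero _).symm)) i))
    -- the semilinear map fixes the rational points
    have hline : ∀ w : SpVec m F₀, w ≠ 0 →
        ∃ a : F, g.1.1 *ᵥ (fun i => τ (F₀.subtype (w i))) = a • fun i => F₀.subtype (w i) := by
      intro w hw
      obtain ⟨d, hd0, hd⟩ := spSemiAut_toPSp_spTr g τ (fun i => F₀.subtype (w i)) 1
      have hw' : (fun i => F₀.subtype (w i)) ≠ 0 := fun h0 => hw (funext fun i =>
        F₀.subtype.injective ((congrFun h0 i).trans (map_zero _).symm))
      have h1 := hfix w 1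
      rw [map_one, hd] at h1
      obtain ⟨a, ha⟩ := toPSp_spTr_inj hm one_ne_zero hw' h1.symm
      have ha0 : a ≠ 0 := fun h0 => hw' (by rw [ha, h0, zero_smul])
      exact ⟨a⁻¹, by conv_rhs => rw [ha, inv_smul_smul₀ ha0]⟩
    let E : Fin m ⊕ Fin m → SpVec m F₀ := fun i => Pi.single i 1
    have hEne : ∀ i, E i ≠ 0 := fun i h0 => by simpa [E] using congrFun h0 i
    have hEι : ∀ i, (fun k => τ (F₀.subtype (E i k))) = Pi.single i 1 ∧
        (fun k => F₀.subtype (E i k)) = Pi.single i 1 := fun i => by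
      constructor <;> funext k <;> by_cases hk : k = i <;> simp [E, hk]
    choose a ha using fun i => hline (E i) (hEne i)
    have hcol : ∀ i k, g.1.1 k i = if k = i then a i else 0 := fun i k => by
      have := congrFun (ha i) k
      rw [(hEι i).1, (hEι i).2, Matrix.mulVec_single_one, Pi.smul_apply, smul_eq_mul] at this
      rw [show g.1.1 k i = a i * (Pi.single i (1 : F) : SpVec m F) k from this, Pi.single_apply]
      split <;> simp
    have hconst : ∀ i j, a i = a j := by
      intro i j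
      rcases eq_or_ne i j with rfl | hij
      · rfl
      obtain ⟨b, hb⟩ := hline (E i + E j) (fun h0 => by
        simpa [E, hij] using congrFun h0 i)
      have e : g.1.1 *ᵥ (fun l => τ (F₀.subtype ((E i + E j) l))) = fun k => g.1.1 k i + g.1.1 k j := by
        have : (fun l => τ (F₀.subtype ((E i + E j) l))) = Pi.single i 1 + Pi.single j 1 := by
          rw [← (hEι i).1, ← (hEι j).1]
          funext l
          simp
        rw [this, mulVec_add, Matrix.mulVec_single_one, Matrix.mulVec_single_one]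
        rfl
      rw [e] at hb
      have h1 := congrFun hb i
      have h2 := congrFun hb j
      simp [hcol, E, hij, hij.symm] at h1 h2
      rw [h1, h2]
    let i₀ : Fin m ⊕ Fin m := Sum.inl ⟨0, hm1⟩
    have hscal : g.1.1 = a i₀ • (1 : Matrix (Fin m ⊕ Fin m) (Fin m ⊕ Fin m) F) := by
      ext k i
      rw [hcol, Matrix.smul_apply, Matrix.one_apply, smul_eq_mul]
      split <;> simp [hconst i i₀]
    have ha0 : a i₀ ≠ 0 := fun h0 => by
      haveI : Nonempty (Fin m ⊕ Fin m) := ⟨i₀⟩
      exact g.1.isUnit.ne_zero (by rw [hscal, h0, zero_smul])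
    have hy1 : spSemiAut g τ = spSemiAut 1 τ := by
      rw [spSemiAut_eq_mul, spInndiagHom_apply, (spSemiAut_eq_one_iff hm g (RingEquiv.refl F)).2
        ⟨rfl, Units.mk0 _ ha0, hscal⟩, one_mul]
    rw [hy1] at hy ⊢
    -- and its field part fixes the fixed field
    have hτ : ∀ x, σ x = x → τ x = x := by
      intro x hx
      obtain ⟨x, rfl⟩ := (hι x).1 hx
      let j₀ : Fin m ⊕ Fin m := Sum.inr ⟨0, hm1⟩
      have hb : sympBilin m F₀ (Pi.single j₀ 1) (E i₀) = 1 := by
        rw [sympBilin_apply, sympForm_eq_sum, Finset.sum_eq_single (⟨0, hm1⟩ : Fin m)]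
        · simp [E, i₀, j₀]
        · intro k _ hk
          simp [E, i₀, j₀, hk]
        · intro hk; exact absurd (Finset.mem_univ _) hk
      set h := φ (spToGSp (spEquiv m F₀ (spTr (E i₀) x))) with hh
      have h1 : spInndiagHom h * spSemiAut 1 τ = spSemiAut 1 τ * spInndiagHom h :=
        Subgroup.mem_centralizer_iff.1 hy.1 _
          ⟨QuotientGroup.mk (spEquiv m F₀ (spTr (E i₀) x)), rfl⟩
      rw [spSemiAut_one_mul_inndiag] at h1
      obtain ⟨c, hc⟩ := (spInndiagHom_eq_iff hm _ _).1 (mul_right_cancel h1)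
      have hent : ∀ k l, h.1.1 k l = F₀.subtype ((Pi.single l (1 : F₀) : SpVec m F₀) k +
          x * sympBilin m F₀ (Pi.single l 1) (E i₀) * E i₀ k) := fun k l => by
        rw [hh, hφ]
        refine congrArg F₀.subtype ?_
        have := congrFun (spEquiv_spTr_mulVec (E i₀) x (Pi.single l 1)) k
        rw [Matrix.mulVec_single_one, Pi.add_apply, Pi.smul_apply, smul_eq_mul] at this
        exact this
      have hcc : ∀ k l, h.1.1 k l = (c : F) * τ (h.1.1 k l) := fun k l =>
        congrArg (fun M : Matrix _ _ F => M k l) hc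
      have h00 : h.1.1 i₀ i₀ = 1 := by
        rw [hent, sympBilin_self, mul_zero, zero_mul, add_zero, Pi.single_eq_same, map_one]
      have h0j : h.1.1 i₀ j₀ = F₀.subtype x := by
        rw [hent, hb]
        simp [E, i₀, j₀]
      have hc1 : (c : F) = 1 := by
        have := hcc i₀ i₀
        rw [h00, map_one, mul_one] at this
        exact this.symm
      have := hcc i₀ j₀
      rw [h0j, hc1, one_mul] at this
      exact this.symm
    obtain ⟨k, hk⟩ := mem_zpowers_of_fix_fixed σ τ hτ
    refine ⟨k, ?_⟩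
    show spSemiAut (1 : Cfsg.GSp m F) σ ^ k = spSemiAut 1 τ
    rw [← spSemiAut_one_zpow, ← hk]

end CfsgLib.KnownC
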