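import Mathlib
import Cfsg.Agent.Lib.KnownC.LocalBalanceKiller
import Cfsg.Agent.Lib.KnownC.LocalBalanceFormGroup
import Cfsg.Agent.Lib.KnownC.LocalBalancePSp
import Cfsg.Agent.Lib.KnownC.AutPSLUnitary
import Cfsg.Agent.Lib.Classical.GraphPSL
import Cfsg.Agent.Lib.Classical.SLOrder
import Cfsg.Agent.Lib.Classical.SLGen
import Cfsg.Agent.Lib.Classical.UnitaryGen
import Cfsg.Agent.Lib.ClassK.SmallSimple

set_option autoImplicit false
set_option linter.unusedSectionVars false

/-!
Local balance for `PSL_n(q)`.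
-/

namespace CfsgLib.KnownC

open Matrix CfsgLib.Classical.GraphForm
open Matrix.SpecialLinearGroup (toGL)

variable {n : ℕ} {F : Type*} [Field F] [Fintype F]

theorem conj_psl_injective (hn : 2 ≤ n) [IsSimpleGroup (ProjectiveSpecialLinearGroup (Fin n) F)] :
    Function.Injective (MulAut.conj :
      ProjectiveSpecialLinearGroup (Fin n) F →* MulAut (ProjectiveSpecialLinearGroup (Fin n) F)) := by
  refine (MonoidHom.ker_eq_bot_iff _).1
    (((MonoidHom.normal_ker _).eq_bot_or_eq_top).resolve_right fun h => ?_)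
  let i : Fin n := ⟨0, by omega⟩
  let j : Fin n := ⟨1, by omega⟩
  have hij : i ≠ j := by simp [i, j, Fin.ext_iff]
  have h1 : MulAut.conj (QuotientGroup.mk (Matrix.SpecialLinearGroup.transvection hij (1 : F)) :
      ProjectiveSpecialLinearGroup (Fin n) F) = 1 := MonoidHom.mem_ker.1 (h ▸ Subgroup.mem_top _)
  rw [conj_eq_semiAut, semiAut_eq_one_iff hn] at h1
  obtain ⟨c, hc⟩ := (center_iff_scalar _).1 h1.2
  have h2 : (Matrix.SpecialLinearGroup.transvection hij (1 : F)).1 i j = ((c : F) • (1 : Matrix _ _ F)) i j :=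
    congrFun (congrFun hc i) j
  rw [Matrix.SpecialLinearGroup.transvection_coe] at h2
  simp [hij] at h2

theorem inn_psl_eq : (MulAut.conj : ProjectiveSpecialLinearGroup (Fin n) F →* _).range =
    (toGL (n := Fin n) (R := F)).range.map inndiagHom := by
  refine le_antisymm ?_ ?_
  · rintro _ ⟨y, rfl⟩
    obtain ⟨s, rfl⟩ := QuotientGroup.mk_surjective y
    exact ⟨toGL s, ⟨s, rfl⟩, (conj_eq_semiAut s).symm⟩
  · rintro _ ⟨_, ⟨s, rfl⟩, rfl⟩
    exact ⟨QuotientGroup.mk s, conj_eq_semiAut s⟩

theorem inndiagHom_mem_inn (g : GL (Fin n) F) (h : g.1.det = 1) :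
    inndiagHom g ∈ (MulAut.conj : ProjectiveSpecialLinearGroup (Fin n) F →* _).range := by
  rw [inn_psl_eq]
  obtain ⟨s, hs⟩ := exists_toGL_of_det_one g (Units.ext h)
  exact ⟨g, ⟨s, hs⟩, rfl⟩

theorem inn_le_inndiagPSL : (MulAut.conj : ProjectiveSpecialLinearGroup (Fin n) F →* _).range ≤
    Cfsg.inndiagPSL n F := by
  rw [inn_psl_eq, inndiagPSL_eq_range]
  exact Subgroup.map_le_range _ _

/-- A semilinear map commuting with an inner-diagonal one commutes with its matrix up to a scalar. -/
theorem commute_semiAut (hn : 2 ≤ n) (g h : GL (Fin n) F) (τ : F ≃+* F)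
    (e : semiAut g τ * inndiagHom h = inndiagHom h * semiAut g τ) :
    ∃ c : F, g.1 * h.1.map τ = c • (h.1 * g.1) := by
  rw [semiAut_eq_mul, mul_assoc, semiAut_one_mul_inndiag, ← mul_assoc, ← mul_assoc, ← map_mul, ← map_mul,
    mul_left_inj, inndiag_eq_smul hn] at e
  obtain ⟨c, hc⟩ := e
  exact ⟨c, hc⟩

theorem commute_semiAut_pair (hn : 2 ≤ n) (g h : GL (Fin n) F) (τ : F ≃+* F)
    (e : semiAut g τ * inndiagHom (glInvTrans h) = inndiagHom h * semiAut g τ) :
    ∃ c : F, g.1 * (glInvTrans h).1.map τ = c • (h.1 * g.1) := by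
  rw [semiAut_eq_mul, mul_assoc, semiAut_one_mul_inndiag, ← mul_assoc, ← mul_assoc, ← map_mul, ← map_mul,
    mul_left_inj, inndiag_eq_smul hn] at e
  obtain ⟨c, hc⟩ := e
  exact ⟨c, hc⟩

theorem semiAut_smul_one (hn : 2 ≤ n) {g : GL (Fin n) F} {c : Fˣ} (hg : g.1 = (c : F) • 1)
    (τ : F ≃+* F) : semiAut g τ = semiAut 1 τ :=
  (semiAut_eq_iff hn _ _ _ _).2 ⟨rfl, by
    rw [inv_one, one_mul]
    exact (center_iff_scalar _).2 ⟨c, hg⟩⟩

/-- A semilinear automorphism commuting with generating rational unipotents is a field automorphism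
fixing the subfield. -/
theorem semiAut_of_commute_unipotents (hn : 2 ≤ n) {F₀ : Type*} [Field F₀] (ι : F₀ →+* F)
    (S : Set (Matrix (Fin n) (Fin n) F₀)) (hS : Subring.closure S = ⊤)
    (hnil : ∀ N ∈ S, IsNilpotent N) (g : GL (Fin n) F) (τ : F ≃+* F)
    (h : ∀ N ∈ S, ∃ u : GL (Fin n) F, u.1 = (1 + N).map ι ∧
      semiAut g τ * inndiagHom u = inndiagHom u * semiAut g τ) :
    (∀ t, τ (ι t) = ι t) ∧ semiAut g τ = semiAut 1 τ := by
  haveI : Nonempty (Fin n) := ⟨⟨0, by omega⟩⟩
  obtain ⟨hfix, c, hc⟩ := semilinear_fix_of_unipotents ι τ g.1 g.isUnit S hS hnil fun N hN => by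
    obtain ⟨u, hu, hcomm⟩ := h N hN
    rw [← hu]
    exact commute_semiAut hn g u τ hcomm
  exact ⟨hfix, semiAut_smul_one hn hc τ⟩

theorem map_center_sl {F₀ : Type*} [Field F₀] (ι : F₀ →+* F)
    {z : SpecialLinearGroup (Fin n) F₀} :
    GeneralLinearGroup.map ι (toGL z) ∈ Subgroup.center (GL (Fin n) F) ↔
      z ∈ Subgroup.center (SpecialLinearGroup (Fin n) F₀) := by
  rw [Matrix.SpecialLinearGroup.mem_center_iff, center_iff_scalar]
  constructor
  · rintro ⟨c, hc⟩
    rcases isEmpty_or_nonempty (Fin n) with hempty | ⟨⟨i⟩⟩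
    · exact ⟨1, by simp [Fintype.card_eq_zero], Subsingleton.elim _ _⟩
    have hentry : ∀ k l, ι (z.1 k l) = ((c : F) • (1 : Matrix _ _ F)) k l := fun k l =>
      congrFun (congrFun hc k) l
    have hz : z.1 = Matrix.scalar (Fin n) (z.1 i i) := Matrix.ext fun k l => ι.injective (by
      rw [hentry k l, scalar_apply, diagonal_apply, apply_ite ι, map_zero, hentry i i]
      by_cases hkl : k = l <;> simp [hkl])
    refine ⟨z.1 i i, ?_, hz.symm⟩
    have hd := z.2
    rw [hz, scalar_apply, det_diagonal, Finset.prod_const, Finset.card_univ] at hd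
    exact hd
  · rintro ⟨r, hr, hz⟩
    have hr0 : r ≠ 0 ∨ n = 0 := by
      by_cases hn : n = 0
      · exact Or.inr hn
      · left; rintro rfl; simp [Fintype.card_fin, zero_pow hn] at hr
    rcases hr0 with hr0 | rfl
    · refine ⟨Units.map ι.toMonoidHom (Units.mk0 r hr0), Matrix.ext fun k l => ?_⟩
      show ι (z.1 k l) = _
      rw [← hz, scalar_apply, diagonal_apply]
      by_cases hkl : k = l <;> simp [hkl]
    · exact ⟨1, Subsingleton.elim _ _⟩

/-- The killer of a standard field automorphism. -/
theorem hasCoreKiller_fieldPSL [IsSimpleGroup (ProjectiveSpecialLinearGroup (Fin n) F)] (hn : 2 ≤ n)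
    {r : ℕ} [Fact r.Prime] [CharP F r] (σ : F ≃+* F) {p : ℕ} (hp : p.Prime) (hpr : p ≠ r)
    (hσ : orderOf σ = p) (k₀ : ProjectiveSpecialLinearGroup (Fin n) F) (hk₀ : orderOf k₀ = p)
    (hk₀fix : semiAut (1 : GL (Fin n) F) σ k₀ = k₀) :
    HasCoreKiller (MulAut.conj : ProjectiveSpecialLinearGroup (Fin n) F →* _).range
      (semiAut (1 : GL (Fin n) F) σ) p := by
  classical
  haveI : NeZero n := ⟨by omega⟩
  haveI : Finite (MulAut (ProjectiveSpecialLinearGroup (Fin n) F)) :=
    Finite.of_injective (fun e => (e : ProjectiveSpecialLinearGroup (Fin n) F → _)) DFunLike.coe_injective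
  let F₀ : Subfield F := (σ : F →+* F).eqLocusField (RingHom.id F)
  letI : Fintype F₀ := Fintype.ofFinite _
  have hι : ∀ x, σ x = x ↔ ∃ a : F₀, F₀.subtype a = x :=
    fun x => ⟨fun hx => ⟨⟨x, hx⟩, rfl⟩, by rintro ⟨a, rfl⟩; exact a.2⟩
  have hcent := centralizer_field hn σ F₀.subtype hι
  have hx : orderOf (semiAut (1 : GL (Fin n) F) σ) = p := by rw [orderOf_semiAut_one hn, hσ]
  obtain ⟨f, hf⟩ : ∃ f : SpecialLinearGroup (Fin n) F₀ →* MulAut (ProjectiveSpecialLinearGroup (Fin n) F),
      f = inndiagHom.comp ((GeneralLinearGroup.map F₀.subtype).comp toGL) := ⟨_, rfl⟩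
  have hfapp : ∀ z, f z = inndiagHom (GeneralLinearGroup.map F₀.subtype (toGL z)) := fun z => by
    rw [hf]; rfl
  have hker : f.ker = Subgroup.center (SpecialLinearGroup (Fin n) F₀) := by
    ext z
    rw [MonoidHom.mem_ker, hfapp, inndiagHom_apply, semiAut_eq_one_iff hn, and_iff_right rfl]
    exact map_center_sl _
  have hcard : Nat.card f.range = Nat.card (ProjectiveSpecialLinearGroup (Fin n) F₀) := by
    rw [← Subgroup.index_ker, hker, Subgroup.index_eq_card]
  have hN : f.range ≤ (MulAut.conj : ProjectiveSpecialLinearGroup (Fin n) F →* _).range := by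
    rintro _ ⟨z, rfl⟩
    rw [hfapp]
    refine inndiagHom_mem_inn _ ?_
    show (z.1.map F₀.subtype).det = 1
    rw [← RingHom.mapMatrix_apply, ← RingHom.map_det, z.2, map_one]
  have hc : f.range ≤ Subgroup.centralizer {semiAut (1 : GL (Fin n) F) σ} := by
    rintro _ ⟨z, rfl⟩
    rw [hfapp]
    exact (hcent.ge ⟨_, ⟨toGL z, rfl⟩, rfl⟩).2
  have hnorm : ∀ a ∈ (MulAut.conj : ProjectiveSpecialLinearGroup (Fin n) F →* _).range ⊓
      Subgroup.centralizer {semiAut (1 : GL (Fin n) F) σ}, ∀ z, a * f z * a⁻¹ ∈ f.range := by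
    intro a ha z
    obtain ⟨_, ⟨u, rfl⟩, rfl⟩ := hcent.le ⟨inn_le_inndiagPSL ha.1, ha.2⟩
    refine ⟨slConj u z, ?_⟩
    rw [hfapp, hfapp, ← map_inv, ← map_mul, ← map_mul, ← map_inv, ← map_mul, ← map_mul]
    congr 2
    exact Units.ext rfl
  -- `p` divides the order of the rational group
  have hdvd : p ∣ Nat.card f.range := by
    obtain ⟨ψ, hψ⟩ : ∃ ψ : GL (Fin n) F₀ →* MulAut (ProjectiveSpecialLinearGroup (Fin n) F),
        ψ = inndiagHom.comp (GeneralLinearGroup.map F₀.subtype) := ⟨_, rfl⟩
    obtain ⟨u, hu⟩ : ∃ u, ψ u = MulAut.conj k₀ := by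
      obtain ⟨_, ⟨u, rfl⟩, hu⟩ := hcent.le ⟨inn_le_inndiagPSL ⟨k₀, rfl⟩,
        Subgroup.mem_centralizer_singleton_iff.2 (MulEquiv.ext fun z => by
          simp [MulAut.mul_apply, hk₀fix])⟩
      exact ⟨u, by rw [hψ]; exact hu⟩
    have hu1 : orderOf (ψ u) = p := by rw [hu, orderOf_injective _ (conj_psl_injective hn), hk₀]
    by_cases hpq : p ∣ Nat.card (F₀ˣ)
    · by_cases h22 : n = 2 ∧ p = 2
      · obtain ⟨rfl, rfl⟩ := h22
        obtain ⟨w, hw⟩ : ∃ w : SpecialLinearGroup (Fin 2) F₀, w.1 = !![0, 1; -1, 0] :=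
          ⟨⟨!![0, 1; -1, 0], by simp [det_fin_two]⟩, rfl⟩
        have hne : f w ≠ 1 := fun h => by
          obtain ⟨s, -, hs⟩ := Matrix.SpecialLinearGroup.mem_center_iff.1 (hker ▸ MonoidHom.mem_ker.2 h)
          have := congrFun (congrFun hs 0) 1
          rw [hw] at this
          simp at this
        have hsq : f w ^ 2 = 1 := by
          rw [← map_pow]
          refine MonoidHom.mem_ker.1 ?_
          rw [hker, Matrix.SpecialLinearGroup.mem_center_iff]
          refine ⟨-1, by simp, ?_⟩
          rw [Matrix.SpecialLinearGroup.coe_pow, hw, sq]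
          ext i j
          fin_cases i <;> fin_cases j <;> simp
        have hmem : f w ∈ f.range := ⟨w, rfl⟩
        have h := orderOf_dvd_natCard (⟨f w, hmem⟩ : f.range)
        have e := Subgroup.orderOf_mk (f w) hmem
        rw [e, orderOf_eq_prime hsq hne] at h
        exact h
      · haveI : Fact p.Prime := ⟨hp⟩
        obtain ⟨ζ, hζ⟩ := exists_prime_orderOf_dvd_card' (G := F₀ˣ) p hpq
        obtain ⟨d, hd⟩ : ∃ d : Fin n → F₀ˣ,
            d = fun i : Fin n => if i.1 = 0 then ζ else if i.1 = 1 then ζ⁻¹ else 1 := ⟨_, rfl⟩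
        have hprod : ∏ i, d i = 1 := by
          rw [Fintype.prod_eq_mul (⟨0, by omega⟩ : Fin n) ⟨1, by omega⟩ (by simp [Fin.ext_iff])
            (fun x hx => by
              rw [hd]
              obtain ⟨h0, h1⟩ := hx
              have e0 : x.1 ≠ 0 := fun e => h0 (Fin.ext e)
              have e1 : x.1 ≠ 1 := fun e => h1 (Fin.ext e)
              dsimp only
              rw [if_neg e0, if_neg e1])]
          rw [hd]
          simp only [if_true, one_ne_zero, if_false]
          exact mul_inv_cancel ζ
        obtain ⟨z, hz⟩ : ∃ z : SpecialLinearGroup (Fin n) F₀, z.1 = diagonal fun i => (d i : F₀) :=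
          ⟨⟨diagonal fun i => (d i : F₀), by rw [det_diagonal, ← Units.coe_prod, hprod, Units.val_one]⟩, rfl⟩
        have hne : f z ≠ 1 := fun h => by
          obtain ⟨s, -, hs⟩ := Matrix.SpecialLinearGroup.mem_center_iff.1 (hker ▸ MonoidHom.mem_ker.2 h)
          have hcoef : ∀ i, (d i : F₀) = s := fun i => by
            have := congrFun (congrFun hs i) i
            rw [hz] at this
            simpa using this.symm
          have h01 : d ⟨0, by omega⟩ = d ⟨1, by omega⟩ := Units.ext ((hcoef _).trans (hcoef _).symm)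
          rcases Nat.lt_or_ge n 3 with hn3 | hn3
          · simp [hd] at h01
            have hsq : orderOf ζ ∣ 2 := orderOf_dvd_of_pow_eq_one (by rw [sq]; nth_rw 2 [h01]; simp)
            rw [hζ] at hsq
            exact h22 ⟨by omega, (Nat.prime_dvd_prime_iff_eq hp Nat.prime_two).1 hsq⟩
          · have h02 : d ⟨0, by omega⟩ = d ⟨2, by omega⟩ := Units.ext ((hcoef _).trans (hcoef _).symm)
            simp [hd] at h02
            rw [h02, orderOf_one] at hζ
            exact hp.one_lt.ne hζ
        have hpw : f z ^ p = 1 := by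
          rw [← map_pow]
          refine (congrArg f (Subtype.ext ?_)).trans (map_one f)
          rw [Matrix.SpecialLinearGroup.coe_pow, hz, diagonal_pow, Matrix.SpecialLinearGroup.coe_one, ← diagonal_one]
          congr 1
          funext i
          have hdp : d i ^ p = 1 := by
            rw [hd]
            dsimp only
            split_ifs
            · rw [← hζ, pow_orderOf_eq_one]
            · rw [inv_pow, ← hζ, pow_orderOf_eq_one, inv_one]
            · rw [one_pow]
          show (d i : F₀) ^ p = 1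
          rw [← Units.val_pow_eq_pow_val, hdp, Units.val_one]
        haveI : Fact p.Prime := ⟨hp⟩
        have hmem : f z ∈ f.range := ⟨z, rfl⟩
        have h := orderOf_dvd_natCard (⟨f z, hmem⟩ : f.range)
        have e := Subgroup.orderOf_mk (f z) hmem
        rw [e, orderOf_eq_prime hpw hne] at h
        exact h
    · -- a power of `u` of determinant one
      obtain ⟨m, hm⟩ : ∃ m, m = Nat.card F₀ˣ := ⟨_, rfl⟩
      have hmem : ψ u ^ m ∈ f.range := by
        obtain ⟨z, hz⟩ := exists_toGL_of_det_one (u ^ m) (by rw [map_pow, hm, pow_card_eq_one'])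
        exact ⟨z, by rw [hfapp, hz, map_pow, map_pow, hψ]; rfl⟩
      have ho : orderOf (ψ u ^ m) = p := by
        rw [Nat.Coprime.orderOf_pow, hu1]
        rw [hu1]
        exact (hp.coprime_iff_not_dvd.2 (hm ▸ hpq))
      rw [← ho, ← Subgroup.orderOf_mk _ hmem]
      exact orderOf_dvd_natCard _
  refine hasCoreKiller_of_hom hp hx f hN hc hnorm ?_ ?_
  · -- normal subgroups of order prime to `p`
    by_cases hsimple : 3 ≤ n ∨ 4 ≤ Fintype.card F₀
    · haveI : IsSimpleGroup (SpecialLinearGroup (Fin n) F₀ ⧸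
          Subgroup.center (SpecialLinearGroup (Fin n) F₀)) := by
        rcases hsimple with h | h
        · exact CfsgLib.Classical.isSimpleGroup_psl (ι := Fin n) (by simpa using h)
        · rcases Nat.lt_or_ge n 3 with hn3 | hn3
          · obtain rfl : n = 2 := by omega
            exact CfsgLib.ClassK.isSimpleGroup_psl_two h
          · exact CfsgLib.Classical.isSimpleGroup_psl (ι := Fin n) (by simpa using hn3)
      exact fun R hR hRc => commute_of_simple_quotient hp f hker.le (hcard ▸ hdvd) R hR hRc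
    · simp only [not_or, not_le] at hsimple
      obtain rfl : n = 2 := by omega
      intro R hR hRc z hz y
      obtain ⟨q, hq⟩ : ∃ q, q = Fintype.card F₀ := ⟨_, rfl⟩
      have hq1 := Fintype.one_lt_card (α := F₀)
      have hcq : (q : F₀) = 0 := by rw [hq]; exact FiniteField.cast_card_eq_zero F₀
      have hqF : (q : F) = 0 := by
        have := congrArg F₀.subtype hcq
        rwa [map_natCast, map_zero] at this
      have hpq : ¬ q = p := fun e => hpr (by
        haveI : Fact p.Prime := ⟨hp⟩
        have h1 : r ∣ p := (CharP.cast_eq_zero_iff F r p).1 (e ▸ hqF)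
        exact ((Nat.prime_dvd_prime_iff_eq Fact.out hp).1 h1).symm)
      have hprod := CfsgLib.Classical.card_psl_mul (F := F₀) (n := 2) (by norm_num)
      rw [Fin.prod_univ_two, ← hq] at hprod
      obtain ⟨Q, hQ⟩ : ∃ Q, Q = R.map f := ⟨_, rfl⟩
      have hQle : Q ≤ f.range := hQ ▸ Subgroup.map_le_range f R
      have hQcard : Nat.card Q ∣ Nat.card f.range := Subgroup.card_dvd_of_le hQle
      have hrel : ∀ a ∈ f.range, a ^ Q.relIndex f.range ∈ Q := by
        intro a ha
        haveI : (Q.subgroupOf f.range).Normal := by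
          refine ⟨fun x hx g => ?_⟩
          rw [Subgroup.mem_subgroupOf] at hx ⊢
          obtain ⟨w, hw⟩ := g.2
          rw [hQ] at hx ⊢
          obtain ⟨v, hv, hvx⟩ := hx
          exact ⟨w * v * w⁻¹, hR.conj_mem v hv w, by
            rw [map_mul, map_mul, map_inv, hvx, hw]; rfl⟩
        exact (Q.subgroupOf f.range).pow_index_mem ⟨a, ha⟩
      have hmul : Nat.card Q * Q.relIndex f.range = Nat.card f.range := by
        rw [Subgroup.relIndex, ← Subgroup.card_mul_index (Q.subgroupOf f.range),
          Nat.card_congr (Subgroup.subgroupOfEquivOfLe hQle).toEquiv]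
      rw [hcard] at hmul hQcard
      rw [hcard] at hdvd
      rw [← hQ] at hRc
      have hres : Nat.card Q = 1 ∨ (Nat.card Q = q ∧ Q.relIndex f.range % q = 1) := by
        have hle4 : q = 2 ∨ q = 3 := by omega
        rcases hle4 with e | e <;> rw [e] at hprod hpq ⊢ <;> norm_num [-Nat.card_eq_fintype_card] at hprod
        · have hc6 : Nat.card (ProjectiveSpecialLinearGroup (Fin 2) F₀) = 6 := by omega
          rw [hc6] at hmul hQcard hdvd
          have : p = 3 := by
            have := Nat.le_of_dvd (by norm_num) hdvd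
            interval_cases p <;> revert hdvd hp hpq <;> norm_num
          subst this
          have := Nat.le_of_dvd (by norm_num) hQcard
          interval_cases hk : Nat.card Q <;> revert hQcard hRc hmul <;> norm_num <;> intros <;> omega
        · have hc12 : Nat.card (ProjectiveSpecialLinearGroup (Fin 2) F₀) = 12 := by omega
          rw [hc12] at hmul hQcard hdvd
          have : p = 2 := by
            have := Nat.le_of_dvd (by norm_num) hdvd
            interval_cases p <;> revert hdvd hp hpq <;> norm_num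
          subst this
          have := Nat.le_of_dvd (by norm_num) hQcard
          interval_cases hk : Nat.card Q <;> revert hQcard hRc hmul <;> norm_num <;> intros <;> omega
      rcases hres with h1 | ⟨h1, hmod⟩
      · have : f z = 1 := Subgroup.mem_bot.1 ((Subgroup.eq_bot_of_card_eq Q h1) ▸ (hQ ▸ ⟨z, hz, rfl⟩))
        rw [this, one_mul, mul_one]
      exfalso
      have h01 : (0 : Fin 2) ≠ 1 := by simp
      have hqprime : q.Prime := by rcases (show q = 2 ∨ q = 3 by omega) with e | e <;> rw [e] <;> norm_num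
      haveI : Fact q.Prime := ⟨hqprime⟩
      have hTq : ∀ {i j : Fin 2} (hij : i ≠ j),
          f (Matrix.SpecialLinearGroup.transvection hij (1 : F₀)) ∈ Q ∧
            orderOf (f (Matrix.SpecialLinearGroup.transvection hij (1 : F₀))) = q := by
        intro i j hij
        obtain ⟨T, hT⟩ : ∃ T, T = Matrix.SpecialLinearGroup.transvection hij (1 : F₀) := ⟨_, rfl⟩
        rw [← hT]
        have hpw : ∀ k : ℕ, (T ^ k).1 = 1 + Matrix.single i j (k : F₀) := fun k => by
          induction k with
          | zero => simp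
          | succ k ih =>
            rw [pow_succ, Matrix.SpecialLinearGroup.coe_mul, ih, hT, Matrix.SpecialLinearGroup.transvection_coe]
            simp [Matrix.mul_add, Matrix.add_mul, Matrix.single_mul_single_of_ne _ _ _ _ hij.symm,
              add_assoc, Matrix.single_add]
        have hTq1 : f T ^ q = 1 := by
          rw [← map_pow, show T ^ q = 1 from Subtype.ext (by
            rw [hpw, hcq, Matrix.SpecialLinearGroup.coe_one, Matrix.single_zero, add_zero]), map_one]
        have hne : f T ≠ 1 := fun h => by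
          obtain ⟨s, -, hs⟩ := Matrix.SpecialLinearGroup.mem_center_iff.1 (hker ▸ MonoidHom.mem_ker.2 h)
          have := congrFun (congrFun hs i) j
          rw [hT, Matrix.SpecialLinearGroup.transvection_coe] at this
          simp [hij] at this
        refine ⟨?_, orderOf_eq_prime hTq1 hne⟩
        have h2 := hrel (f T) ⟨T, rfl⟩
        rwa [pow_eq_pow_mod _ hTq1, hmod, pow_one] at h2
      obtain ⟨hA, hAo⟩ := hTq h01
      obtain ⟨hB, -⟩ := hTq h01.symm
      have hZ : Subgroup.zpowers (f (Matrix.SpecialLinearGroup.transvection h01 (1 : F₀))) = Q :=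
        Subgroup.eq_of_le_of_card_ge (Subgroup.zpowers_le.2 hA) (by rw [Nat.card_zpowers, hAo, h1])
      rw [← hZ] at hB
      obtain ⟨k, hk⟩ := mem_powers_iff_mem_zpowers.2 hB
      simp only at hk
      rw [← map_pow] at hk
      have hk2 : ((Matrix.SpecialLinearGroup.transvection h01 (1 : F₀)) ^ k)⁻¹ *
          Matrix.SpecialLinearGroup.transvection h01.symm (1 : F₀) ∈ f.ker := by
        rw [MonoidHom.mem_ker, map_mul, map_inv, hk, inv_mul_cancel]
      obtain ⟨s, -, hs⟩ := Matrix.SpecialLinearGroup.mem_center_iff.1 (hker ▸ hk2)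
      have h3 : (Matrix.SpecialLinearGroup.transvection h01.symm (1 : F₀)).1 =
          ((Matrix.SpecialLinearGroup.transvection h01 (1 : F₀)) ^ k).1 * Matrix.scalar (Fin 2) s := by
        rw [hs, ← Matrix.SpecialLinearGroup.coe_mul, mul_inv_cancel_left]
      have hup : ∀ k : ℕ, ((Matrix.SpecialLinearGroup.transvection h01 (1 : F₀)) ^ k).1 1 0 = 0 := fun k => by
        induction k with
        | zero => simp
        | succ k ih =>
          rw [pow_succ, Matrix.SpecialLinearGroup.coe_mul, Matrix.mul_apply, Fin.sum_univ_two, ih, zero_mul,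
            zero_add, Matrix.SpecialLinearGroup.transvection_coe]
          simp
      have := congrFun (congrFun h3 1) 0
      rw [Matrix.SpecialLinearGroup.transvection_coe, scalar_apply, Matrix.mul_diagonal, hup, zero_mul] at this
      simp at this
  · -- what commutes with the rational group
    rintro y ⟨hy, hys⟩
    haveI : Nontrivial (Fin n) := ⟨⟨⟨0, by omega⟩, ⟨1, by omega⟩, by simp [Fin.ext_iff]⟩⟩
    have hcomm : ∀ z, y * f z = f z * y := fun z =>
      (Subgroup.mem_centralizer_iff.1 hy (f z) ⟨z, rfl⟩).symm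
    rcases mulAut_psl_cases hn y with ⟨g, τ, rfl⟩ | ⟨hn3, g, τ, rfl⟩
    · obtain ⟨hfix, hg⟩ := semiAut_of_commute_unipotents hn F₀.subtype _ (ring_top_offdiag (F₀ := F₀))
        (fun N hN => by
          obtain ⟨i, j, hij, t, rfl⟩ := hN
          exact ⟨2, by rw [sq, Matrix.single_mul_single_of_ne _ _ _ _ hij.symm]⟩) g τ
        (fun N hN => by
          obtain ⟨i, j, hij, t, rfl⟩ := hN
          refine ⟨GeneralLinearGroup.map F₀.subtype (toGL (Matrix.SpecialLinearGroup.transvection hij t)), ?_, ?_⟩
          · show (Matrix.SpecialLinearGroup.transvection hij t).1.map F₀.subtype = _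
            rw [Matrix.SpecialLinearGroup.transvection_coe]
          · rw [← hfapp]; exact hcomm _)
      rw [hg]
      have hmem := mem_zpowers_of_fix_fixed σ τ fun x hx => by
        obtain ⟨a, rfl⟩ := (hι x).1 hx
        exact hfix a
      haveI : Finite (F ≃+* F) :=
        Finite.of_injective (fun e : F ≃+* F => (e : F → F)) DFunLike.coe_injective
      obtain ⟨k, rfl⟩ := mem_powers_iff_mem_zpowers.2 hmem
      exact mem_powers_iff_mem_zpowers.1 ⟨k, semiAut_one_pow σ k⟩
    · exfalso
      have key : ∀ i j : Fin n, i ≠ j →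
          Matrix.single i j (1 : F) * g.1 = -(g.1 * Matrix.single j i (1 : F)) := by
        intro i j hij
        obtain ⟨u, hu⟩ : ∃ u, u = GeneralLinearGroup.map F₀.subtype
          (toGL (Matrix.SpecialLinearGroup.transvection hij (1 : F₀))) := ⟨_, rfl⟩
        have hu1 : u.1 = 1 + Matrix.single i j 1 := by
          rw [hu]
          show (Matrix.SpecialLinearGroup.transvection hij (1 : F₀)).1.map F₀.subtype = _
          rw [Matrix.SpecialLinearGroup.transvection_coe, Matrix.map_add _ (map_add _),
            Matrix.map_one _ (map_zero _) (map_one _), Matrix.map_single, map_one]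
        have e := hcomm (Matrix.SpecialLinearGroup.transvection hij (1 : F₀))
        rw [hfapp, ← hu, mul_assoc (semiAut g τ), itAut_mul_inndiag, ← mul_assoc, ← mul_assoc,
          mul_left_inj] at e
        obtain ⟨c, hc⟩ := commute_semiAut_pair hn g u τ e
        have hgi : (glInvTrans u).1 = 1 - Matrix.single j i (1 : F) := by
          show (u⁻¹).1ᵀ = _
          rw [Matrix.coe_units_inv, Matrix.inv_eq_left_inv (show (1 - Matrix.single i j (1 : F)) * u.1 = 1 by
            rw [hu1, Matrix.sub_mul, Matrix.mul_add, Matrix.mul_add, Matrix.mul_one, Matrix.mul_one,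
              Matrix.one_mul, Matrix.single_mul_single_of_ne _ _ _ _ hij.symm]
            abel), transpose_sub, transpose_one, transpose_single]
        rw [show (glInvTrans u).1.map τ = 1 - Matrix.single j i (1 : F) by
          rw [hgi, Matrix.map_sub _ (map_sub τ), Matrix.map_one _ (map_zero τ) (map_one τ),
            Matrix.map_single, map_one], hu1] at hc
        haveI : Nonempty (Fin n) := ⟨i⟩
        have hc1 : c = 1 := scalar_one_of_unipotent g.isUnit
          (by rw [sub_sub_cancel_left]; exact IsNilpotent.neg (x := Matrix.single j i (1 : F)) ⟨2, by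
            rw [sq, Matrix.single_mul_single_of_ne _ _ _ _ hij]⟩)
          (by rw [add_sub_cancel_left]; exact ⟨2, by
            rw [sq, Matrix.single_mul_single_of_ne _ _ _ _ hij.symm]⟩) hc
        rw [hc1, one_smul, Matrix.mul_sub, Matrix.add_mul, Matrix.mul_one, Matrix.one_mul,
          sub_eq_add_neg] at hc
        exact (add_left_cancel hc).symm
      let a : Fin n := ⟨0, by omega⟩
      let b : Fin n := ⟨1, by omega⟩
      let d : Fin n := ⟨2, by omega⟩
      have hab : a ≠ b := by simp [a, b, Fin.ext_iff]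
      have hbd : b ≠ d := by simp [b, d, Fin.ext_iff]
      have had : a ≠ d := by simp [a, d, Fin.ext_iff]
      have h3 : Matrix.single a d (1 : F) * g.1 = 0 := by
        rw [show Matrix.single a d (1 : F) = Matrix.single a b 1 * Matrix.single b d 1 by
          rw [Matrix.single_mul_single_same, one_mul], Matrix.mul_assoc, key b d hbd, Matrix.mul_neg,
          ← Matrix.mul_assoc, key a b hab, Matrix.neg_mul, neg_neg, Matrix.mul_assoc,
          Matrix.single_mul_single_of_ne _ _ _ _ had, Matrix.mul_zero]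
      have h4 := congrArg (fun M => M * (g⁻¹).1) h3
      simp only [Matrix.mul_assoc, Units.mul_inv, Matrix.mul_one, Matrix.zero_mul] at h4
      simpa [Matrix.single] using congrFun (congrFun h4 a) d

end CfsgLib.KnownC
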