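import Mathlib
import Cfsg.Agent.Lib.KnownC.LocalBalancePSL

set_option autoImplicit false
set_option linter.unusedSectionVars false

/-!
Local balance for `PSL_n(q)`: graph and graph-field involutions, and the criterion.
-/

namespace CfsgLib.KnownC

open Matrix CfsgLib.Classical.GraphForm
open Matrix.SpecialLinearGroup (toGL)

variable {n : ℕ} {F : Type*} [Field F] [Fintype F]

/-- Conjugation by inverse transpose turns a semilinear map into one. -/
theorem itAut_semiAut_itAut (g : GL (Fin n) F) (τ : F ≃+* F) :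
    itAut * semiAut g τ * itAut = semiAut (glInvTrans g) τ := by
  rw [itAut_mul_semiAut, mul_assoc, itAut_mul_self, mul_one]

/-- The killer of a graph involution. -/
theorem hasCoreKiller_graphPSL (hn : 3 ≤ n) (h2 : (2 : F) ≠ 0) (g : GL (Fin n) F) (hg : IsForm g.1) :
    HasCoreKiller (MulAut.conj : ProjectiveSpecialLinearGroup (Fin n) F →* _).range (pslGraph g) 2 := by
  classical
  haveI : Finite (MulAut (ProjectiveSpecialLinearGroup (Fin n) F)) :=
    Finite.of_injective (fun e => (e : ProjectiveSpecialLinearGroup (Fin n) F → _)) DFunLike.coe_injective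
  have hn2 : 2 ≤ n := by omega
  haveI : Nonempty (Fin n) := ⟨⟨0, by omega⟩⟩
  obtain ⟨f, hf⟩ : ∃ f : ↥(formIsom1 g.1) →* MulAut (ProjectiveSpecialLinearGroup (Fin n) F),
      ∀ x, f x = inndiagHom (glInvTrans x.1) :=
    ⟨MonoidHom.mk' (fun x => inndiagHom (glInvTrans x.1)) fun x y => by
      rw [Subgroup.coe_mul, glInvTrans_mul, map_mul], fun x => rfl⟩
  have hmem := (centralizer_psl hn2 g).2
  have hdet : ∀ x : ↥(formIsom1 g.1), (glInvTrans x.1).1.det = 1 := fun x => by
    show ((x.1⁻¹).1ᵀ).det = 1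
    rw [det_transpose]
    exact ((formIsom1 g.1).inv_mem x.2).2
  have hker : ∀ x ∈ f.ker, ∃ c : Fˣ, x.1.1 = (c : F) • 1 := by
    intro x hx
    rw [MonoidHom.mem_ker, hf, ← map_one inndiagHom, inndiag_eq_smul hn2] at hx
    obtain ⟨c, hc⟩ := hx
    have h1 : x.1 = glInvTrans (glInvTrans x.1) := (glInvTrans_glInvTrans x.1).symm
    refine ⟨c⁻¹, ?_⟩
    have hc' : (x.1⁻¹).1ᵀ = (c : F) • 1 := hc
    have h3 := congrArg Matrix.transpose hc'
    rw [transpose_transpose, transpose_smul, transpose_one] at h3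
    have h4 := Units.mul_inv x.1
    rw [h3, Matrix.mul_smul, Matrix.mul_one] at h4
    rw [← h4, smul_smul, Units.inv_mul, one_smul]
  have hkerc : f.ker ≤ Subgroup.center ↥(formIsom1 g.1) := fun x hx => by
    obtain ⟨c, hc⟩ := hker x hx
    refine Subgroup.mem_center_iff.2 fun y => Subtype.ext (Units.ext ?_)
    show y.1.1 * x.1.1 = x.1.1 * y.1.1
    rw [hc, Matrix.mul_smul, Matrix.smul_mul, Matrix.mul_one, Matrix.one_mul]
  refine hasCoreKiller_of_hom Nat.prime_two ((orderOf_pslGraph hn g).2 hg) f ?_ ?_ ?_ ?_ ?_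
  · rintro _ ⟨x, rfl⟩
    rw [hf]
    exact inndiagHom_mem_inn _ (hdet x)
  · rintro _ ⟨x, rfl⟩
    rw [hf, hmem, glInvTrans_glInvTrans]
    exact formIsom1_le_formSim _ x.2
  · intro a ha x
    obtain ⟨k, rfl⟩ : ∃ k, inndiagHom k = a := by
      have := inn_le_inndiagPSL ha.1
      rwa [inndiagPSL_eq_range] at this
    refine ⟨⟨glInvTrans k * x.1 * (glInvTrans k)⁻¹, conj_mem_formIsom1 ((hmem k).1 ha.2) x.2⟩, ?_⟩
    rw [hf, hf, ← map_inv, ← map_mul, ← map_mul]
    congr 1
    show glInvTrans (glInvTrans k * x.1 * (glInvTrans k)⁻¹) = _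
    rw [glInvTrans_mul, glInvTrans_mul, glInvTrans_glInvTrans]
    congr 1
  · rcases (isForm_iff g.1).1 hg with ha | ⟨hs, -⟩
    · obtain ⟨m, hm⟩ := even_card_of_alt ha g.isUnit
      rw [Fintype.card_fin] at hm
      obtain ⟨hsimple, hcard⟩ := isSimpleGroup_formIsom1_alt h2 (m := m) (by omega) ha g.isUnit
        (by rw [Fintype.card_fin]; omega)
      haveI := hsimple
      exact fun R hR hc => commute_of_simple_quotient Nat.prime_two f hkerc
        (hcard ▸ two_dvd_card_psp (by omega)) R hR hc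
    · refine fun R hR hc => commute_of_no_odd_normal f hkerc (fun x hx => ?_)
        (fun C hC hodd => odd_normal_formIsom1 h2 hs g.isUnit (by rw [Fintype.card_fin]; omega) C hC hodd)
        R hR hc
      obtain ⟨c, hc⟩ := hker x hx
      have h := x.2.1
      rw [hc, transpose_smul, transpose_one, Matrix.smul_mul, Matrix.one_mul, Matrix.smul_mul,
        Matrix.mul_smul, Matrix.mul_one, smul_smul] at h
      have hcc : (c : F) * c = 1 := by
        have h0 : ((c : F) * c - 1) • g.1 = 0 := by rw [sub_smul, h, one_smul, sub_self]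
        exact sub_eq_zero.1 ((smul_eq_zero.1 h0).resolve_right g.isUnit.ne_zero)
      refine Subtype.ext (Units.ext ?_)
      show x.1.1 * x.1.1 = 1
      rw [hc, Matrix.smul_mul, Matrix.one_mul, smul_smul, hcc, one_smul]
  · rintro y ⟨hy, hys⟩
    have hgen : Subring.closure (nilIsom (RingEquiv.refl F) g.1) = ⊤ := by
      rcases (isForm_iff g.1).1 hg with ha | ⟨hs, -⟩
      · exact alt_ring_top ha.1 h2 g.isUnit
      · obtain ⟨e, he0, he⟩ := exists_isotropic_form h2 hs g.isUnit (by rw [Fintype.card_fin]; omega)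
        refine herm_ring_top h2 (fun x => rfl) (Matrix.ext fun i j => congrFun (congrFun hs i) j) g.isUnit
          (by rw [Fintype.card_fin]; omega) he0 ?_
        show (fun i => e i) ᵥ* g.1 ⬝ᵥ e = 0
        rw [← dotProduct_mulVec]
        exact he
    have key : ∀ (a : GL (Fin n) F) (τ : F ≃+* F), (∀ x, semiAut a τ * f x = f x * semiAut a τ) →
        semiAut a τ = 1 := by
      intro a τ h
      obtain ⟨hfix, hsc⟩ := semiAut_of_commute_unipotents hn2 (RingHom.id F) _ hgen
        (fun N hN => hN.1) (glInvTrans a) τ fun N hN => by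
          have hunit : IsUnit (1 + N) := hN.1.isUnit_one_add
          refine ⟨hunit.unit, (Matrix.map_id _).symm, ?_⟩
          have hm : hunit.unit ∈ formIsom1 g.1 := ⟨by simpa using hN.2.1, hN.2.2⟩
          have e := h ⟨hunit.unit, hm⟩
          rw [hf] at e
          have e2 := congrArg (fun z => itAut * z * itAut) e
          simp only at e2
          have hins : ∀ u v : MulAut (ProjectiveSpecialLinearGroup (Fin n) F),
              itAut * (u * v) * itAut = (itAut * u * itAut) * (itAut * v * itAut) := fun u v => by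
            rw [show itAut * u * itAut * (itAut * v * itAut) = itAut * u * (itAut * itAut) * v * itAut by
              simp only [mul_assoc], itAut_mul_self, mul_one]
            simp only [mul_assoc]
          rw [hins, hins, itAut_semiAut_itAut, inndiagHom_apply (glInvTrans _), itAut_semiAut_itAut,
            glInvTrans_glInvTrans] at e2
          exact e2
      have hτ : τ = RingEquiv.refl F := RingEquiv.ext hfix
      rw [hτ] at hsc ⊢
      have h1 : itAut * semiAut a (RingEquiv.refl F) * itAut = 1 := by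
        rw [itAut_semiAut_itAut, hsc, semiAut_one]
      have h3 : semiAut a (RingEquiv.refl F) = itAut⁻¹ * (itAut * semiAut a (RingEquiv.refl F) * itAut) * itAut⁻¹ := by
        group
      rw [h3, h1, mul_one, itAut_inv, itAut_mul_self]
    have hcomm : ∀ x, y * f x = f x * y := fun x =>
      (Subgroup.mem_centralizer_iff.1 hy (f x) ⟨x, rfl⟩).symm
    rcases mulAut_psl_cases hn2 y with ⟨a, τ, rfl⟩ | ⟨-, a, τ, rfl⟩
    · rw [key a τ hcomm]
      exact one_mem _
    · have h1 : semiAut a τ * itAut * pslGraph g = semiAut (a * GeneralLinearGroup.map (τ : F →+* F) (glInvTrans g)) τ := by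
        rw [pslGraph, ← mul_assoc, mul_assoc (semiAut a τ) itAut, itAut_mul_inndiag, inndiagHom_apply,
          ← mul_assoc, mul_assoc _ itAut itAut, itAut_mul_self, mul_one, semiAut_mul]
        rfl
      have h3 : semiAut a τ * itAut * pslGraph g = 1 := by
        rw [h1]
        refine key _ _ fun x => ?_
        rw [← h1]
        have hs : pslGraph g * f x = f x * pslGraph g := by
          have := (hmem (glInvTrans x.1)).2 (by
            rw [glInvTrans_glInvTrans]; exact formIsom1_le_formSim _ x.2)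
          rw [Subgroup.mem_centralizer_singleton_iff] at this
          rw [hf]; exact this.symm
        rw [mul_assoc _ (pslGraph g), hs, ← mul_assoc, hcomm, mul_assoc]
      rw [eq_inv_of_mul_eq_one_left h3]
      exact Subgroup.inv_mem _ (Subgroup.mem_zpowers _)

/-- The killer of a graph-field involution. -/
theorem hasCoreKiller_graphFieldPSL (hn : 3 ≤ n) (h2 : (2 : F) ≠ 0) {r : ℕ} [Fact r.Prime] [CharP F r]
    (σ : F ≃+* F) (hσ : orderOf σ = 2) :
    HasCoreKiller (MulAut.conj : ProjectiveSpecialLinearGroup (Fin n) F →* _).range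
      (semiAut (1 : GL (Fin n) F) σ * itAut) 2 := by
  classical
  haveI : Finite (MulAut (ProjectiveSpecialLinearGroup (Fin n) F)) :=
    Finite.of_injective (fun e => (e : ProjectiveSpecialLinearGroup (Fin n) F → _)) DFunLike.coe_injective
  haveI : Nonempty (Fin n) := ⟨⟨0, by omega⟩⟩
  have hn2 : 2 ≤ n := by omega
  obtain ⟨e, -, he⟩ := FiniteField.card F r
  obtain ⟨h2e, hσq⟩ := apply_of_orderOf_two he σ hσ
  obtain ⟨q, hq⟩ : ∃ q, q = r ^ ((e : ℕ) / 2) := ⟨_, rfl⟩
  rw [← hq] at hσq
  have hF : Fintype.card F = q ^ 2 := by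
    rw [hq, ← pow_mul, he, Nat.div_mul_cancel h2e]
  have h32 : ¬ (n = 3 ∧ q = 2) := fun h => h2 (by
    have h4 := FiniteField.cast_card_eq_zero F
    rw [hF, h.2] at h4
    norm_num at h4
    exact (mul_eq_zero.1 (show (2 : F) * 2 = 0 by linear_combination h4)).elim id id)
  have hσσ : ∀ x, σ (σ x) = x := fun x => by
    have := pow_orderOf_eq_one σ
    rw [hσ, sq] at this
    exact RingEquiv.congr_fun this x
  have hU : ∀ h, h ∈ Cfsg.GU n F q ↔ hermSq σ h = 1 := mem_GU_iff σ hσq hσσ
  have hcent := centralizer_graphField hn σ hσ (Cfsg.GU n F q) hU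
  set s : MulAut (ProjectiveSpecialLinearGroup (Fin n) F) := semiAut (1 : GL (Fin n) F) σ * itAut with hs
  have hord : orderOf s = 2 := by
    refine orderOf_eq_prime ?_ fun h => ?_
    · rw [sq, hs, graphField_mul_self, semiAut_eq_one_iff hn2]
      refine ⟨RingEquiv.ext hσσ, ?_⟩
      rw [one_mul, show glInvTrans (1 : GL (Fin n) F) = 1 from Units.ext (by
        show ((1 : GL (Fin n) F)⁻¹).1ᵀ = 1; simp), map_one]
      exact one_mem _
    · have h1 := eq_inv_of_mul_eq_one_right (hs ▸ h)
      rw [semiAut_inv] at h1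
      exact itAut_ne_semiAut hn _ _ h1
  obtain ⟨f, hf⟩ : ∃ f : ↥(Cfsg.SU n F q) →* MulAut (ProjectiveSpecialLinearGroup (Fin n) F),
      ∀ x, f x = inndiagHom (toGL x.1) :=
    ⟨inndiagHom.comp (toGL.comp (Cfsg.SU n F q).subtype), fun x => rfl⟩
  have hc : f.range ≤ Subgroup.centralizer {s} := by
    rintro _ ⟨x, rfl⟩
    rw [hf]
    exact (hcent.ge ⟨toGL x.1, x.2, rfl⟩).2
  have hC : Subgroup.centralizer (f.range : Set _) ⊓ Subgroup.centralizer {s} ≤ Subgroup.zpowers s := by
    rintro y ⟨hy, hys⟩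
    have hgen : Subring.closure (nilIsom σ (1 : Matrix (Fin n) (Fin n) F)) = ⊤ := by
      obtain ⟨c, hc0, hc⟩ := exists_mul_apply_eq σ hσ (neg_ne_zero.2 (one_ne_zero (α := F))) (by simp)
      let i : Fin n := ⟨0, by omega⟩
      let j : Fin n := ⟨1, by omega⟩
      have hij : i ≠ j := by simp [i, j, Fin.ext_iff]
      refine herm_ring_top h2 hσσ (by rw [Matrix.map_one _ (map_zero σ) (map_one σ), transpose_one])
        isUnit_one (by rw [Fintype.card_fin]; omega) (e := Pi.single i 1 + Pi.single j c) ?_ ?_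
      · intro h
        simpa [hij] using congrFun h i
      · show ((fun k => σ ((Pi.single i (1 : F) + Pi.single j c : Fin n → F) k)) ᵥ* 1) ⬝ᵥ _ = 0
        rw [vecMul_one, dotProduct, Fintype.sum_eq_add i j hij]
        · simp [hij, hij.symm]
          linear_combination hc
        · intro k hk
          simp [hk.1, hk.2]
    have key : ∀ (a : GL (Fin n) F) (τ : F ≃+* F), (∀ x, semiAut a τ * f x = f x * semiAut a τ) →
        semiAut a τ = 1 := by
      intro a τ h
      obtain ⟨hfix, hsc⟩ := semiAut_of_commute_unipotents hn2 (RingHom.id F) _ hgen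
        (fun N hN => hN.1) a τ fun N hN => by
          have hG : (GeneralLinearGroup.mkOfDetNeZero (1 + N) (by rw [hN.2.2]; exact one_ne_zero) :
              GL (Fin n) F) ∈ Cfsg.GU n F q := by
            rw [hU, hermSq, mul_eq_one_comm]
            have := hN.2.1
            rw [Matrix.mul_one] at this
            exact this
          refine ⟨GeneralLinearGroup.mkOfDetNeZero (1 + N) (by rw [hN.2.2]; exact one_ne_zero),
            (Matrix.map_id _).symm, ?_⟩
          have e := h ⟨⟨1 + N, hN.2.2⟩, hG⟩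
          rw [hf] at e
          have hu : toGL (⟨1 + N, hN.2.2⟩ : SpecialLinearGroup (Fin n) F) =
              GeneralLinearGroup.mkOfDetNeZero (1 + N) (by rw [hN.2.2]; exact one_ne_zero) := Units.ext rfl
          rw [hu] at e
          exact e
      rw [hsc, show τ = RingEquiv.refl F from RingEquiv.ext hfix, semiAut_one]
    have hcomm : ∀ x, y * f x = f x * y := fun x =>
      (Subgroup.mem_centralizer_iff.1 hy (f x) ⟨x, rfl⟩).symm
    rcases mulAut_psl_cases hn2 y with ⟨a, τ, rfl⟩ | ⟨-, a, τ, rfl⟩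
    · rw [key a τ hcomm]
      exact one_mem _
    · have h1 : semiAut a τ * itAut * s = semiAut a (τ * σ) := by
        rw [hs, mul_assoc, ← mul_assoc itAut, itAut_comm_semiAut_one, mul_assoc _ itAut itAut,
          itAut_mul_self, mul_one, semiAut_mul, map_one, mul_one]
      have h3 : semiAut a τ * itAut * s = 1 := by
        rw [h1]
        refine key _ _ fun x => ?_
        rw [← h1]
        have hsx : s * f x = f x * s :=
          (Subgroup.mem_centralizer_singleton_iff.1 (hc ⟨x, rfl⟩)).symm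
        rw [mul_assoc _ s, hsx, ← mul_assoc, hcomm, mul_assoc]
      rw [eq_inv_of_mul_eq_one_left h3]
      exact Subgroup.inv_mem _ (Subgroup.mem_zpowers _)
  refine hasCoreKiller_of_hom Nat.prime_two hord f ?_ hc ?_ ?_ hC
  · rintro _ ⟨x, rfl⟩
    rw [hf]
    exact inndiagHom_mem_inn _ x.1.2
  · intro a ha x
    obtain ⟨u, hu, rfl⟩ := hcent.le ⟨inn_le_inndiagPSL ha.1, ha.2⟩
    refine ⟨⟨slConj u x.1, ?_⟩, ?_⟩
    · show toGL (slConj u x.1) ∈ Cfsg.GU n F q
      rw [show toGL (slConj u x.1) = u * toGL x.1 * u⁻¹ from Units.ext rfl]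
      exact mul_mem (mul_mem hu x.2) (inv_mem hu)
    · rw [hf, hf, ← map_inv, ← map_mul, ← map_mul]
      congr 1
      exact Units.ext rfl
  · haveI : IsSimpleGroup (↥(Cfsg.SU n F q) ⧸ Subgroup.center ↥(Cfsg.SU n F q)) :=
      CfsgLib.Classical.isSimpleGroup_psu hF hn h32
    have hkerc : f.ker ≤ Subgroup.center ↥(Cfsg.SU n F q) := fun x hx => by
      rw [MonoidHom.mem_ker, hf, inndiagHom_apply, semiAut_eq_one_iff hn2] at hx
      refine Subgroup.mem_center_iff.2 fun y => Subtype.ext (Subtype.ext ?_)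
      exact congrArg Units.val (Subgroup.mem_center_iff.1 hx.2 (toGL y.1))
    -- a noncentral involution
    obtain ⟨d, hd⟩ : ∃ d : Fin n → F, d = fun i : Fin n => if i.1 ≤ 1 then -1 else 1 := ⟨_, rfl⟩
    have hdd : ∀ i, d i * d i = 1 := fun i => by rw [hd]; dsimp only; split_ifs <;> ring
    have hdσ : ∀ i, σ (d i) = d i := fun i => by rw [hd]; dsimp only; split_ifs <;> simp
    have hdet : (diagonal d).det = 1 := by
      rw [det_diagonal, Fintype.prod_eq_mul (⟨0, by omega⟩ : Fin n) ⟨1, by omega⟩ (by simp [Fin.ext_iff])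
        (fun x hx => by
          have e0 : x.1 ≠ 0 := fun e => hx.1 (Fin.ext e)
          have e1 : x.1 ≠ 1 := fun e => hx.2 (Fin.ext e)
          rw [hd]; dsimp only
          rw [if_neg (by omega)]), hd]
      simp
    have hdU : toGL (⟨diagonal d, hdet⟩ : SpecialLinearGroup (Fin n) F) ∈ Cfsg.GU n F q := by
      rw [hU, hermSq]
      show diagonal d * ((diagonal d).map σ)ᵀ = 1
      rw [diagonal_map (map_zero σ), diagonal_transpose, diagonal_mul_diagonal, ← diagonal_one]
      congr 1
      funext i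
      rw [hdσ, hdd]
    obtain ⟨D, hD⟩ : ∃ D : ↥(Cfsg.SU n F q), D = ⟨⟨diagonal d, hdet⟩, hdU⟩ := ⟨_, rfl⟩
    have hdvd : 2 ∣ Nat.card (↥(Cfsg.SU n F q) ⧸ Subgroup.center ↥(Cfsg.SU n F q)) := by
      have hsq : (QuotientGroup.mk D : ↥(Cfsg.SU n F q) ⧸ Subgroup.center ↥(Cfsg.SU n F q)) ^ 2 = 1 := by
        rw [← QuotientGroup.mk_pow, show D ^ 2 = 1 from Subtype.ext (Subtype.ext (by
          rw [sq, hD]
          show diagonal d * diagonal d = 1
          rw [diagonal_mul_diagonal, ← diagonal_one]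
          exact congrArg _ (funext hdd))), QuotientGroup.mk_one]
      have hne : (QuotientGroup.mk D : ↥(Cfsg.SU n F q) ⧸ Subgroup.center ↥(Cfsg.SU n F q)) ≠ 1 := fun h => by
        have hz := (QuotientGroup.eq_one_iff _).1 h
        have hfD : f D ∈ Subgroup.zpowers s := hC ⟨Subgroup.mem_centralizer_iff.2 (by
          rintro _ ⟨x, rfl⟩
          rw [← map_mul, ← map_mul, Subgroup.mem_center_iff.1 hz x]), hc ⟨D, rfl⟩⟩
        obtain ⟨k, hk⟩ := hfD
        have hs2 : s ^ 2 = 1 := hord ▸ pow_orderOf_eq_one s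
        obtain ⟨l, hl⟩ := mem_powers_iff_mem_zpowers.2 (⟨k, hk⟩ : f D ∈ Subgroup.zpowers s)
        simp only at hl
        rw [pow_eq_pow_mod l hs2] at hl
        rcases Nat.mod_two_eq_zero_or_one l with e | e <;> rw [e] at hl
        · rw [pow_zero, hf, inndiagHom_apply, eq_comm, semiAut_eq_one_iff hn2] at hl
          obtain ⟨c, hc⟩ := (center_iff_scalar _).1 hl.2
          have h0 : d ⟨0, by omega⟩ = c := by
            subst hD
            have : diagonal d (⟨0, by omega⟩ : Fin n) ⟨0, by omega⟩ =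
                ((c : F) • (1 : Matrix (Fin n) (Fin n) F)) ⟨0, by omega⟩ ⟨0, by omega⟩ :=
              congrFun (congrFun hc ⟨0, by omega⟩) ⟨0, by omega⟩
            simpa using this
          have h2' : d ⟨2, by omega⟩ = c := by
            subst hD
            have : diagonal d (⟨2, by omega⟩ : Fin n) ⟨2, by omega⟩ =
                ((c : F) • (1 : Matrix (Fin n) (Fin n) F)) ⟨2, by omega⟩ ⟨2, by omega⟩ :=
              congrFun (congrFun hc ⟨2, by omega⟩) ⟨2, by omega⟩
            simpa using this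
          rw [← h2', hd] at h0
          simp at h0
          exact h2 (by linear_combination -h0)
        · rw [pow_one, hf, inndiagHom_apply, hs] at hl
          have h1 : (itAut : MulAut (ProjectiveSpecialLinearGroup (Fin n) F)) =
              (semiAut (1 : GL (Fin n) F) σ)⁻¹ * semiAut (toGL D.1) (RingEquiv.refl F) := by
            rw [← hl, inv_mul_cancel_left]
          rw [semiAut_inv, semiAut_mul] at h1
          exact itAut_ne_semiAut hn _ _ h1
      rw [← orderOf_eq_prime hsq hne]
      exact orderOf_dvd_natCard _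
    exact fun R hR hRc => commute_of_simple_quotient Nat.prime_two f hkerc hdvd R hR hRc

/-- The criterion for `PSL_n(q)`. -/
theorem psl_local_balance {r : ℕ} [Fact r.Prime] [CharP F r] (hn : 2 ≤ n)
    (hK : IsSimpleGroup (ProjectiveSpecialLinearGroup (Fin n) F))
    (A : Subgroup (MulAut (ProjectiveSpecialLinearGroup (Fin n) F))) (hinn : ∀ k, MulAut.conj k ∈ A)
    {p : ℕ} [Fact p.Prime] (hpr : p ≠ r) (β : MulAut (ProjectiveSpecialLinearGroup (Fin n) F))
    (hord : orderOf β = p) (hnot : ¬ Cfsg.IsInnerDiagonalAutPSL β) :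
    Cfsg.pPrimeCore p ↥(A ⊓ Subgroup.centralizer {β}) ≠ ⊥ ↔
      ((∃ γ φ : MulAut (ProjectiveSpecialLinearGroup (Fin n) F), Cfsg.IsInnerDiagonalAutPSL γ ∧
          Cfsg.IsFieldAutPSL φ ∧ β = φ.trans γ) ∧
        Nat.Coprime p (Nat.card ↥(MonoidHom.eqLocus β.toMonoidHom
          (MonoidHom.id (ProjectiveSpecialLinearGroup (Fin n) F))))) := by
  classical
  haveI := hK
  have hp : p.Prime := Fact.out
  haveI : Finite (MulAut (ProjectiveSpecialLinearGroup (Fin n) F)) :=
    Finite.of_injective (fun e => (e : ProjectiveSpecialLinearGroup (Fin n) F → _)) DFunLike.coe_injective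
  haveI := inn_normal (K := ProjectiveSpecialLinearGroup (Fin n) F)
  have hinj := conj_psl_injective (F := F) hn
  have hle : (MulAut.conj : ProjectiveSpecialLinearGroup (Fin n) F →* _).range ≤ A := by
    rintro _ ⟨k, rfl⟩; exact hinn k
  rcases mulAut_psl_cases hn β with ⟨g, σ, rfl⟩ | ⟨hn3, g, σ, rfl⟩
  · have hσ1 : σ ≠ RingEquiv.refl F := fun h =>
      hnot ((isInnerDiagonalAutPSL_iff _).2 ⟨g, by rw [h]⟩)
    have hσp : σ ^ p = 1 := by
      have h1 : semiAut g σ ^ p = 1 := by rw [← hord, pow_orderOf_eq_one]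
      rw [semiAut_pow, semiAut_eq_one_iff hn] at h1
      exact h1.1
    have hordσ : orderOf σ = p := orderOf_eq_prime hσp hσ1
    obtain ⟨c, hc⟩ := exists_conj_field hn (σ := σ) (g := g) (by rw [hordσ, ← hord, pow_orderOf_eq_one])
    have hfield : ∃ γ φ : MulAut (ProjectiveSpecialLinearGroup (Fin n) F),
        Cfsg.IsInnerDiagonalAutPSL γ ∧ Cfsg.IsFieldAutPSL φ ∧ semiAut g σ = φ.trans γ :=
      ⟨semiAut g (RingEquiv.refl F), semiAut 1 σ, (isInnerDiagonalAutPSL_iff _).2 ⟨g, rfl⟩,
        ⟨σ, (isStdFieldAutPSL_iff σ _).2 rfl⟩, semiAut_eq_mul g σ⟩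
    rw [pPrimeCore_ne_bot_iff hinj A hinn hp _ hord fun k hk hkfix => ?_]
    · exact ⟨fun h => ⟨hfield, h⟩, fun h => h.2⟩
    rw [hc] at hkfix ⊢
    refine hasCoreKiller_conj _ _ (hasCoreKiller_fieldPSL (r := r) hn σ hp hpr hordσ
      ((inndiagHom c)⁻¹ k) ((MulEquiv.orderOf_eq ((inndiagHom c)⁻¹ : MulAut _) k).trans hk)
      (fixed_of_conj _ _ hkfix))
  · -- no field type
    have hn2 : 2 ≤ n := hn
    have hβ2 : (semiAut g σ * itAut) * (semiAut g σ * itAut) =
        semiAut (g * GeneralLinearGroup.map (σ : F →+* F) (glInvTrans g)) (σ * σ) := graphField_mul_self g σ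
    have hp2 : p = 2 := by
      rcases hp.eq_two_or_odd' with h | hodd
      · exact h
      exfalso
      obtain ⟨j, hj⟩ := hodd
      have h1 : (semiAut g σ * itAut) ^ p = 1 := by rw [← hord, pow_orderOf_eq_one]
      rw [hj, pow_succ, pow_mul, pow_two, hβ2, semiAut_pow, ← mul_assoc, semiAut_mul] at h1
      have h3 := eq_inv_of_mul_eq_one_right h1
      rw [semiAut_inv] at h3
      exact itAut_ne_semiAut hn3 _ _ h3
    subst hp2
    have h2 : (2 : F) ≠ 0 := fun h => hpr (by
      have h1 : ((2 : ℕ) : F) = 0 := by exact_mod_cast h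
      exact ((Nat.prime_dvd_prime_iff_eq (Fact.out : r.Prime) Nat.prime_two).1
        ((CharP.cast_eq_zero_iff F r 2).1 h1)).symm)
    have hsq : (semiAut g σ * itAut) * (semiAut g σ * itAut) = 1 := by
      rw [← pow_two, ← hord, pow_orderOf_eq_one]
    have hσσ : σ * σ = 1 := by
      rw [hβ2, semiAut_eq_one_iff hn] at hsq
      exact hsq.1
    have hkill : HasCoreKiller (MulAut.conj : ProjectiveSpecialLinearGroup (Fin n) F →* _).range
        (semiAut g σ * itAut) 2 := by
      by_cases hσ1 : σ = RingEquiv.refl F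
      · subst hσ1
        exact hasCoreKiller_graphPSL hn3 h2 g ((orderOf_pslGraph hn3 g).1 hord)
      · have hordσ : orderOf σ = 2 := orderOf_eq_prime (by rw [sq]; exact hσσ) hσ1
        obtain ⟨k, hk⟩ := exists_conj_graphField hn3 hordσ hsq
        rw [hk]
        exact hasCoreKiller_conj _ _ (hasCoreKiller_graphFieldPSL (r := r) hn3 h2 σ hordσ)
    refine ⟨fun h => absurd (hkill.pPrimeCore_eq_bot hp hord A hle) h, ?_⟩
    rintro ⟨⟨γ, φ, hγ, ⟨τ, hφ⟩, hβ⟩, -⟩
    obtain ⟨a, rfl⟩ := (isInnerDiagonalAutPSL_iff γ).1 hγ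
    rw [(isStdFieldAutPSL_iff τ φ).1 hφ] at hβ
    have h1 : semiAut g σ * itAut = semiAut a (RingEquiv.refl F) * semiAut 1 τ := hβ
    have h3 : (itAut : MulAut (ProjectiveSpecialLinearGroup (Fin n) F)) =
        (semiAut g σ)⁻¹ * (semiAut a (RingEquiv.refl F) * semiAut 1 τ) := by
      rw [← h1, inv_mul_cancel_left]
    rw [semiAut_inv, semiAut_mul, semiAut_mul] at h3
    exact absurd h3 (itAut_ne_semiAut hn3 _ _)

end CfsgLib.KnownC
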