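import Mathlib
import Cfsg.Agent.Lib.KnownC.LocalBalanceKiller
import Cfsg.Agent.Lib.KnownC.LocalBalanceFormGroup
import Cfsg.Agent.Lib.KnownC.LocalBalancePSp
import Cfsg.Agent.Lib.KnownC.AutPSUField
import Cfsg.Agent.Lib.Classical.GraphPSUMain
import Cfsg.Agent.Lib.Classical.UnitaryGen
import Cfsg.Agent.S0282
import Cfsg.Agent.S0827

set_option autoImplicit false
set_option linter.unusedSectionVars false

/-!
Local balance for `PSU_n(q)`.
-/

namespace CfsgLib.KnownC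

open Matrix CfsgLib.Classical.GraphForm CfsgLib.Classical
open Matrix.SpecialLinearGroup (toGL)

theorem quaternion_involution_unique :
    ∀ a b : QuaternionGroup 2, a * a = 1 → a ≠ 1 → b * b = 1 → b ≠ 1 → a = b := by decide

variable {n q : ℕ} {F : Type*} [Field F] [Fintype F]

/-- The inner-diagonal part and the field part are independent. -/
theorem psuSemiAut_field_eq (hF : Fintype.card F = q ^ 2) (hn : 3 ≤ n) (h32 : ¬ (n = 3 ∧ q = 2))
    {g h : Cfsg.GU n F q} {ρ : F ≃+* F} (e : psuSemiAut g (RingEquiv.refl F) = psuSemiAut h ρ) :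
    ρ = RingEquiv.refl F := by
  have h1 : (psuSemiAut g (RingEquiv.refl F))⁻¹ * psuSemiAut h ρ = 1 := inv_mul_eq_one.2 e
  rw [psuSemiAut_inv, psuSemiAut_mul, psuSemiAut_eq_one_iff hF hn h32] at h1
  exact RingEquiv.ext fun x => RingEquiv.congr_fun h1.1 x

theorem conj_psu_injective (hF : Fintype.card F = q ^ 2) (hn : 3 ≤ n) (h32 : ¬ (n = 3 ∧ q = 2))
    [IsSimpleGroup (Cfsg.PSU n F q)] :
    Function.Injective (MulAut.conj : Cfsg.PSU n F q →* MulAut (Cfsg.PSU n F q)) := by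
  refine (MonoidHom.ker_eq_bot_iff _).1
    (((MonoidHom.normal_ker _).eq_bot_or_eq_top).resolve_right fun h => ?_)
  obtain ⟨x, hx⟩ := exists_ne (1 : Cfsg.PSU n F q)
  obtain ⟨s, rfl⟩ := QuotientGroup.mk_surjective x
  refine hx ((QuotientGroup.eq_one_iff s).2 (Subgroup.mem_center_iff.2 fun t => ?_))
  have h1 : MulAut.conj (QuotientGroup.mk s : Cfsg.PSU n F q) = 1 :=
    MonoidHom.mem_ker.1 (h ▸ Subgroup.mem_top _)
  rw [← psuInndiagHom_suToGU, psuInndiagHom_apply, psuSemiAut_eq_one_iff hF hn h32] at h1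
  obtain ⟨-, c, hc⟩ := h1
  refine Subtype.ext (Subtype.ext ?_)
  show t.1.1 * s.1.1 = s.1.1 * t.1.1
  rw [show s.1.1 = (c : F) • 1 from hc, Matrix.mul_smul, Matrix.smul_mul, Matrix.one_mul, Matrix.mul_one]

/-- A semilinear map commuting with an inner-diagonal one commutes with its matrix up to a scalar. -/
theorem commute_psuSemiAut (hF : Fintype.card F = q ^ 2) (hn : 3 ≤ n) (h32 : ¬ (n = 3 ∧ q = 2))
    (a k : Cfsg.GU n F q) (τ : F ≃+* F)
    (e : psuSemiAut a τ * psuInndiagHom k = psuInndiagHom k * psuSemiAut a τ) :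
    ∃ c : F, a.1.1 * k.1.1.map τ = c • (k.1.1 * a.1.1) := by
  rw [psuSemiAut_eq_mul a, mul_assoc, psuSemiAut_one_mul_inndiag, ← mul_assoc, ← mul_assoc, ← map_mul,
    ← map_mul, mul_left_inj, psuInndiagHom_eq_iff hF hn h32] at e
  obtain ⟨c, hc⟩ := e
  exact ⟨c, hc⟩

theorem psuSemiAut_smul_one (hF : Fintype.card F = q ^ 2) (hn : 3 ≤ n) (h32 : ¬ (n = 3 ∧ q = 2))
    {a : Cfsg.GU n F q} {c : Fˣ} (ha : a.1.1 = (c : F) • 1) (τ : F ≃+* F) :
    psuSemiAut a τ = psuSemiAut 1 τ := by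
  rw [psuSemiAut_eq_mul a, show psuInndiagHom a = 1 from
    (psuSemiAut_eq_one_iff hF hn h32 a _).2 ⟨rfl, c, ha⟩, one_mul]

theorem suToGU_mem_inn (u : Cfsg.GU n F q) (hu : u.1.1.det = 1) :
    psuInndiagHom u ∈ (MulAut.conj : Cfsg.PSU n F q →* _).range := by
  refine ⟨QuotientGroup.mk ⟨⟨u.1.1, hu⟩, u.2⟩, ?_⟩
  rw [← psuInndiagHom_suToGU]
  exact congrArg _ (Subtype.ext (Units.ext rfl))

/-- A unitary group has an isotropic vector and an element of trace one. -/
theorem exists_isotropic_unitary (hF : Fintype.card F = q ^ 2) (hn : 2 ≤ n) :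
    ∃ (e : Fin n → F) (θ : F), e ≠ 0 ∧ θ + frobQ hF θ = 1 ∧
      formRow (frobQ hF) (1 : Matrix (Fin n) (Fin n) F) e ⬝ᵥ e = 0 := by
  obtain ⟨θ, hθ⟩ := exists_qFrob_trace_one hF
  obtain ⟨c, hc0, hc⟩ := exists_mul_apply_eq (frobQ hF) (orderOf_frobQ hF)
    (neg_ne_zero.2 (one_ne_zero (α := F))) (by simp)
  let i : Fin n := ⟨0, by omega⟩
  let j : Fin n := ⟨1, by omega⟩
  have hij : i ≠ j := by simp [i, j, Fin.ext_iff]
  refine ⟨Pi.single i 1 + Pi.single j c, θ, fun h => ?_, hθ, ?_⟩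
  · simpa [hij] using congrFun h i
  · rw [formRow, vecMul_one, dotProduct, Fintype.sum_eq_add i j hij]
    · simp [hij, hij.symm]
      linear_combination hc
    · intro k hk
      simp [hk.1, hk.2]

theorem unipotent_mem_GU (hF : Fintype.card F = q ^ 2) {N : Matrix (Fin n) (Fin n) F}
    (hN : N ∈ nilIsom (frobQ hF) 1) :
    ∃ s : ↥(Cfsg.SU n F q), s.1.1 = 1 + N := by
  refine ⟨⟨⟨1 + N, hN.2.2⟩, ?_⟩, rfl⟩
  show toGL (⟨1 + N, hN.2.2⟩ : SpecialLinearGroup (Fin n) F) ∈ Cfsg.GU n F q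
  rw [mem_GU_iff_frobQ hF]
  have := hN.2.1
  rw [Matrix.mul_one] at this
  exact this

/-- The killer of a standard field automorphism. -/
theorem hasCoreKiller_fieldPSU (hF : Fintype.card F = q ^ 2) (hn : 3 ≤ n) (h32 : ¬ (n = 3 ∧ q = 2))
    [IsSimpleGroup (Cfsg.PSU n F q)] {r : ℕ} [Fact r.Prime] [CharP F r] {p : ℕ} (hp : p.Prime)
    (hpr : p ≠ r) (hodd : Odd p) {q₀ : ℕ} {F₀ : Type*} [Field F₀] [Fintype F₀]
    (hF₀ : Fintype.card F₀ = q₀ ^ 2) (hq : q = q₀ ^ p) (σ : F ≃+* F) (hσ : orderOf σ = p) (ι : F₀ →+* F)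
    (hι : ∀ x, σ x = x ↔ ∃ a, ι a = x) (k₀ : Cfsg.PSU n F q) (hk₀ : orderOf k₀ = p)
    (hk₀fix : psuSemiAut (1 : Cfsg.GU n F q) σ k₀ = k₀) :
    HasCoreKiller (MulAut.conj : Cfsg.PSU n F q →* _).range (psuSemiAut (1 : Cfsg.GU n F q) σ) p := by
  classical
  haveI : NeZero n := ⟨by omega⟩
  haveI : Fact p.Prime := ⟨hp⟩
  haveI : Finite (MulAut (Cfsg.PSU n F q)) :=
    Finite.of_injective (fun e => (e : Cfsg.PSU n F q → _)) DFunLike.coe_injective
  obtain ⟨φ, hφ, hcent⟩ := centralizer_fieldPSU hF hn h32 hF₀ hq σ hσ hodd ι hι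
  have hx : orderOf (psuSemiAut (1 : Cfsg.GU n F q) σ) = p := by rw [orderOf_psuSemiAut_one hF hn h32, hσ]
  obtain ⟨f, hf⟩ : ∃ f : ↥(Cfsg.SU n F₀ q₀) →* MulAut (Cfsg.PSU n F q),
      ∀ z, f z = psuInndiagHom (φ (suToGU z)) :=
    ⟨psuInndiagHom.comp (φ.comp suToGU), fun z => rfl⟩
  have hmat : ∀ z, (φ (suToGU z)).1.1 = z.1.1.map ι := fun z => hφ _
  have hkerc : f.ker ≤ Subgroup.center ↥(Cfsg.SU n F₀ q₀) := fun z hz => by
    rw [MonoidHom.mem_ker, hf, psuInndiagHom_apply, psuSemiAut_eq_one_iff hF hn h32, hmat] at hz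
    obtain ⟨-, c, hc⟩ := hz
    refine Subgroup.mem_center_iff.2 fun y => Subtype.ext (Subtype.ext (Matrix.map_injective ι.injective ?_))
    show (y.1.1 * z.1.1).map ι = (z.1.1 * y.1.1).map ι
    rw [Matrix.map_mul, Matrix.map_mul, hc, Matrix.mul_smul, Matrix.smul_mul, Matrix.one_mul, Matrix.mul_one]
  have hc : f.range ≤ Subgroup.centralizer {psuSemiAut (1 : Cfsg.GU n F q) σ} := by
    rintro _ ⟨z, rfl⟩
    exact (hcent.ge ⟨suToGU z, (hf z).symm⟩).2
  have hN : f.range ≤ (MulAut.conj : Cfsg.PSU n F q →* _).range := by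
    rintro _ ⟨z, rfl⟩
    rw [hf]
    refine suToGU_mem_inn _ ?_
    rw [hmat, ← RingHom.mapMatrix_apply, ← RingHom.map_det, z.1.2, map_one]
  have hC : Subgroup.centralizer (f.range : Set _) ⊓
      Subgroup.centralizer {psuSemiAut (1 : Cfsg.GU n F q) σ} ≤
      Subgroup.zpowers (psuSemiAut (1 : Cfsg.GU n F q) σ) := by
    rintro y ⟨hy, -⟩
    haveI : Nonempty (Fin n) := ⟨⟨0, by omega⟩⟩
    obtain ⟨e, θ, he0, hθ, hee⟩ := exists_isotropic_unitary (n := n) hF₀ (by omega)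
    have hgen : Subring.closure (nilIsom (frobQ hF₀) (1 : Matrix (Fin n) (Fin n) F₀)) = ⊤ :=
      herm_ring_top_trace hθ (frobQ_frobQ hF₀)
        (by rw [Matrix.map_one _ (map_zero _) (map_one _), transpose_one]) isUnit_one
        (by rw [Fintype.card_fin]; omega) he0 hee
    obtain ⟨a, τ, rfl⟩ := exists_psuSemiAut hF hn h32 y
    obtain ⟨hfix, c, hc'⟩ := semilinear_fix_of_unipotents ι τ a.1.1 a.1.isUnit _ hgen (fun N hN => hN.1)
      fun N hN => by
        obtain ⟨z, hz⟩ := unipotent_mem_GU hF₀ hN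
        rw [← hz, ← hmat z]
        refine commute_psuSemiAut hF hn h32 a _ τ ?_
        rw [← hf]
        exact (Subgroup.mem_centralizer_iff.1 hy (f z) ⟨z, rfl⟩).symm
    rw [psuSemiAut_smul_one hF hn h32 hc']
    have hmem := mem_zpowers_of_fix_fixed σ τ fun x hx => by
      obtain ⟨b, rfl⟩ := (hι x).1 hx
      exact hfix b
    haveI : Finite (F ≃+* F) :=
      Finite.of_injective (fun e : F ≃+* F => (e : F → F)) DFunLike.coe_injective
    obtain ⟨k, rfl⟩ := mem_powers_iff_mem_zpowers.2 hmem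
    exact mem_powers_iff_mem_zpowers.1 ⟨k, psuSemiAut_one_pow σ k⟩
  -- inner elements centralising the rational group
  have hkill : ∀ z, (∀ y, f z * f y = f y * f z) → f z = 1 := by
    intro z hz
    have hm := hC ⟨Subgroup.mem_centralizer_iff.2 (by rintro _ ⟨y, rfl⟩; exact (hz y).symm), hc ⟨z, rfl⟩⟩
    obtain ⟨l, hl⟩ := mem_powers_iff_mem_zpowers.2 hm
    simp only at hl
    rw [psuSemiAut_one_pow, hf, psuInndiagHom_apply] at hl
    have h1 := psuSemiAut_field_eq hF hn h32 hl.symm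
    rw [hf, psuInndiagHom_apply, ← hl, h1, psuSemiAut_one]
  have hker : f.ker = Subgroup.center ↥(Cfsg.SU n F₀ q₀) := le_antisymm hkerc fun z hz =>
    MonoidHom.mem_ker.2 (hkill z fun y => by rw [← map_mul, ← map_mul, Subgroup.mem_center_iff.1 hz y])
  have hcard : Nat.card f.range = Nat.card (Cfsg.PSU n F₀ q₀) := by
    rw [← Subgroup.index_ker, hker, Subgroup.index_eq_card]
  have hnorm : ∀ a ∈ (MulAut.conj : Cfsg.PSU n F q →* _).range ⊓
      Subgroup.centralizer {psuSemiAut (1 : Cfsg.GU n F q) σ}, ∀ z, a * f z * a⁻¹ ∈ f.range := by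
    intro a ha z
    obtain ⟨u, rfl⟩ := hcent.le ⟨inn_le_inndiagPSU hF (by omega) ha.1, ha.2⟩
    refine ⟨suConj u z, ?_⟩
    rw [hf, hf, MonoidHom.comp_apply, ← map_inv, ← map_mul, ← map_mul, ← map_inv, ← map_mul, ← map_mul]
    exact congrArg _ (congrArg _ (Subtype.ext (Units.ext rfl)))
  have hdvd : p ∣ Nat.card f.range := by
    obtain ⟨u, hu⟩ : ∃ u, psuInndiagHom (φ u) = MulAut.conj k₀ := hcent.le
      ⟨inn_le_inndiagPSU hF (by omega) ⟨k₀, rfl⟩, Subgroup.mem_centralizer_singleton_iff.2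
        (MulEquiv.ext fun z => by simp [MulAut.mul_apply, hk₀fix])⟩
    have hu1 : orderOf (psuInndiagHom (φ u)) = p := by
      rw [hu, orderOf_injective _ (conj_psu_injective hF hn h32), hk₀]
    by_cases hpq : p ∣ Nat.card (normOne F₀ q₀)
    · obtain ⟨⟨ζ, hζmem⟩, hζ⟩ := exists_prime_orderOf_dvd_card' (G := normOne F₀ q₀) p hpq
      rw [Subgroup.orderOf_mk] at hζ
      have hζn : frobQ hF₀ (ζ : F₀) * ζ = 1 := by
        have h1 : ζ ^ (q₀ + 1) = 1 := MonoidHom.mem_ker.1 hζmem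
        rw [frobQ_apply, ← pow_succ, ← Units.val_pow_eq_pow_val, h1, Units.val_one]
      obtain ⟨d, hd⟩ : ∃ d : Fin n → F₀ˣ,
          d = fun i : Fin n => if i.1 = 0 then ζ else if i.1 = 1 then ζ⁻¹ else 1 := ⟨_, rfl⟩
      have hprod : ∏ i, d i = 1 := by
        rw [Fintype.prod_eq_mul (⟨0, by omega⟩ : Fin n) ⟨1, by omega⟩ (by simp [Fin.ext_iff])
          (fun x hx => by
            rw [hd]
            obtain ⟨h0, h1⟩ := hx
            have e0 : x.1 ≠ 0 := fun e => h0 (Fin.ext e)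
            have e1 : x.1 ≠ 1 := fun e => h1 (Fin.ext e)
            dsimp only
            rw [if_neg e0, if_neg e1])]
        rw [hd]
        simp only [if_true, one_ne_zero, if_false]
        exact mul_inv_cancel ζ
      have hdn : ∀ i, frobQ hF₀ (d i : F₀) * d i = 1 := fun i => by
        rw [hd]
        dsimp only
        split_ifs
        · exact hζn
        · rw [Units.val_inv_eq_inv_val, map_inv₀, ← mul_inv, hζn, inv_one]
        · simp
      have hdet : (diagonal fun i => (d i : F₀)).det = 1 := by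
        rw [det_diagonal, ← Units.coe_prod, hprod, Units.val_one]
      have hdU : toGL (⟨diagonal fun i => (d i : F₀), hdet⟩ : SpecialLinearGroup (Fin n) F₀) ∈
          Cfsg.GU n F₀ q₀ := by
        rw [mem_GU_iff_frobQ hF₀]
        show ((diagonal fun i => (d i : F₀)).map (frobQ hF₀))ᵀ * diagonal (fun i => (d i : F₀)) = 1
        rw [diagonal_map (map_zero _), diagonal_transpose, diagonal_mul_diagonal, ← diagonal_one]
        exact congrArg _ (funext hdn)
      obtain ⟨z, hz⟩ : ∃ z : ↥(Cfsg.SU n F₀ q₀), z.1.1 = diagonal fun i => (d i : F₀) :=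
        ⟨⟨⟨_, hdet⟩, hdU⟩, rfl⟩
      have hne : f z ≠ 1 := fun h => by
        rw [hf, psuInndiagHom_apply, psuSemiAut_eq_one_iff hF hn h32, hmat, hz] at h
        obtain ⟨-, c, hc⟩ := h
        have hcoef : ∀ i, ι (d i : F₀) = c := fun i => by
          have := congrFun (congrFun hc i) i
          simpa using this
        have h02 : d ⟨0, by omega⟩ = d ⟨2, by omega⟩ :=
          Units.ext (ι.injective ((hcoef _).trans (hcoef _).symm))
        simp [hd] at h02
        rw [h02, orderOf_one] at hζ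
        exact hp.one_lt.ne hζ
      have hpw : f z ^ p = 1 := by
        rw [← map_pow]
        refine (congrArg f (Subtype.ext (Subtype.ext ?_))).trans (map_one f)
        rw [SubgroupClass.coe_pow, Matrix.SpecialLinearGroup.coe_pow, hz, diagonal_pow, Subgroup.coe_one,
          Matrix.SpecialLinearGroup.coe_one, ← diagonal_one]
        congr 1
        funext i
        have hdp : d i ^ p = 1 := by
          rw [hd]
          dsimp only
          split_ifs
          · rw [← hζ, pow_orderOf_eq_one]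
          · rw [inv_pow, ← hζ, pow_orderOf_eq_one, inv_one]
          · rw [one_pow]
        show (d i : F₀) ^ p = 1
        rw [← Units.val_pow_eq_pow_val, hdp, Units.val_one]
      have hmem : f z ∈ f.range := ⟨z, rfl⟩
      have h := orderOf_dvd_natCard (⟨f z, hmem⟩ : f.range)
      have e := Subgroup.orderOf_mk (f z) hmem
      rw [e, orderOf_eq_prime hpw hne] at h
      exact h
    · obtain ⟨m, hm⟩ : ∃ m, m = Nat.card (normOne F₀ q₀) := ⟨_, rfl⟩
      have hmem : psuInndiagHom (φ u) ^ m ∈ f.range := by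
        have hdet1 : guDet hF₀ (by omega) (u ^ m) = 1 := by rw [map_pow, hm, pow_card_eq_one']
        obtain ⟨z, hz⟩ := (suToGU_range hF₀ (by omega)).ge (MonoidHom.mem_ker.2 hdet1)
        exact ⟨z, by rw [hf, hz, map_pow, map_pow]⟩
      have ho : orderOf (psuInndiagHom (φ u) ^ m) = p := by
        rw [Nat.Coprime.orderOf_pow, hu1]
        rw [hu1]
        exact hp.coprime_iff_not_dvd.2 (hm ▸ hpq)
      rw [← ho, ← Subgroup.orderOf_mk _ hmem]
      exact orderOf_dvd_natCard _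
  refine hasCoreKiller_of_hom hp hx f hN hc hnorm ?_ hC
  by_cases h32₀ : n = 3 ∧ q₀ = 2
  · obtain ⟨rfl, rfl⟩ := h32₀
    have h4 : Fintype.card F₀ = 4 := by rw [hF₀]; norm_num
    obtain ⟨h72, -⟩ := Cfsg.Agent.S0282.result h4
    obtain ⟨N, hNn, hN9, -, ⟨eQ⟩⟩ := Cfsg.Agent.S0827.result h4
    haveI := hNn
    have hp3 : p = 3 := by
      rw [hcard, h72, show (72 : ℕ) = 2 ^ 3 * 3 ^ 2 by norm_num] at hdvd
      rcases (Nat.Prime.dvd_mul hp).1 hdvd with h | h
      · have := (Nat.prime_dvd_prime_iff_eq hp Nat.prime_two).1 (hp.dvd_of_dvd_pow h)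
        rw [this] at hodd
        exact absurd hodd (by decide)
      · exact (Nat.prime_dvd_prime_iff_eq hp Nat.prime_three).1 (hp.dvd_of_dvd_pow h)
    subst hp3
    intro R hR hRc r hr g
    haveI := hR
    obtain ⟨π, hπ⟩ : ∃ π : ↥(Cfsg.SU 3 F₀ 2) →* Cfsg.PSU 3 F₀ 2, π = QuotientGroup.mk' _ := ⟨_, rfl⟩
    have hsurj : Function.Surjective π := hπ ▸ QuotientGroup.mk'_surjective _
    obtain ⟨Q, hQ⟩ : ∃ Q, Q = R.map π := ⟨_, rfl⟩
    have hQn : Q.Normal := hQ ▸ hR.map π hsurj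
    have hQc : (Nat.card Q).Coprime 3 := by
      refine hRc.coprime_dvd_left ?_
      have h1 : (f.comp R.subtype).range = R.map f := by rw [MonoidHom.range_comp, Subgroup.range_subtype]
      have h2 : (π.comp R.subtype).range = R.map π := by rw [MonoidHom.range_comp, Subgroup.range_subtype]
      rw [hQ, ← h1, ← h2, ← Subgroup.index_ker, ← Subgroup.index_ker]
      refine Subgroup.index_dvd_of_le fun z hz => ?_
      show π z.1 = 1
      rw [hπ]
      exact (QuotientGroup.eq_one_iff _).2 (hkerc hz)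
    have hQN : N ⊓ Q = ⊥ := Subgroup.inf_eq_bot_of_coprime (by
      rw [hN9, show (9 : ℕ) = 3 ^ 2 by norm_num]
      exact Nat.Coprime.pow_left 2 hQc.symm)
    obtain ⟨χ, hχ⟩ : ∃ χ : Cfsg.PSU 3 F₀ 2 →* QuaternionGroup 2, ∀ x, χ x = 1 → x ∈ N :=
      ⟨eQ.toMonoidHom.comp (QuotientGroup.mk' N), fun x hx => (QuotientGroup.eq_one_iff x).1
        (eQ.injective (hx.trans (map_one eQ).symm))⟩
    have hχQ : ∀ x ∈ Q, χ x = 1 → x = 1 := fun x hx h => Subgroup.mem_bot.1 (hQN ▸ ⟨hχ x h, hx⟩)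
    have hrc : π r = 1 := by
      by_contra hne
      have hQ1 : Nat.card Q ∣ 8 := by
        have hinj : Function.Injective (χ.comp Q.subtype) := (injective_iff_map_eq_one _).2 fun x hx =>
          Subtype.ext (hχQ x.1 x.2 hx)
        have h := Subgroup.card_subgroup_dvd_card (χ.comp Q.subtype).range
        rw [← Nat.card_congr (MonoidHom.ofInjective hinj).toEquiv,
          Nat.card_eq_fintype_card (α := QuaternionGroup 2), QuaternionGroup.card] at h
        exact h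
      have h2 : 2 ∣ Nat.card Q := by
        obtain ⟨i, -, hi⟩ := (Nat.dvd_prime_pow Nat.prime_two).1 (show Nat.card Q ∣ 2 ^ 3 from hQ1)
        rcases Nat.eq_zero_or_pos i with rfl | hi'
        · rw [pow_zero] at hi
          have := Subgroup.eq_bot_of_card_eq Q hi
          exact absurd (Subgroup.mem_bot.1 (this ▸ (hQ ▸ ⟨r, hr, rfl⟩))) hne
        · rw [hi]; exact dvd_pow_self 2 (by omega)
      haveI : Fact (Nat.Prime 2) := ⟨Nat.prime_two⟩
      obtain ⟨⟨x, hxQ⟩, hxo⟩ := exists_prime_orderOf_dvd_card' (G := Q) 2 h2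
      rw [Subgroup.orderOf_mk] at hxo
      have hx2 : x * x = 1 := by
        have := pow_orderOf_eq_one x
        rw [hxo, sq] at this
        exact this
      have hx1 : x ≠ 1 := fun h => by rw [h, orderOf_one] at hxo; exact absurd hxo (by norm_num)
      have hcen : ∀ y, y * x * y⁻¹ = x := by
        intro y
        have hmem := hQn.conj_mem x hxQ y
        have hy2 : y * x * y⁻¹ * (y * x * y⁻¹) = 1 := by
          rw [show y * x * y⁻¹ * (y * x * y⁻¹) = y * (x * x) * y⁻¹ by group, hx2, mul_one, mul_inv_cancel]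
        have hy1 : y * x * y⁻¹ ≠ 1 := fun h => hx1 (by simpa using h)
        have h := quaternion_involution_unique (χ (y * x * y⁻¹)) (χ x)
          (by rw [← map_mul, hy2, map_one]) (fun h => hy1 (hχQ _ hmem h))
          (by rw [← map_mul, hx2, map_one]) (fun h => hx1 (hχQ _ hxQ h))
        have h' : χ ((y * x * y⁻¹) * x⁻¹) = 1 := by rw [map_mul, map_inv, h, mul_inv_cancel]
        exact mul_inv_eq_one.1 (hχQ _ (Q.mul_mem hmem (Q.inv_mem hxQ)) h')
      obtain ⟨s, rfl⟩ := hsurj x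
      have hfs : f s = 1 := hkill s fun y => by
        have h1 : y * s * y⁻¹ * s⁻¹ ∈ f.ker := by
          rw [hker]
          refine (QuotientGroup.eq_one_iff _).1 ?_
          show QuotientGroup.mk' _ _ = 1
          rw [← hπ, map_mul, map_mul, map_mul, map_inv, map_inv, hcen (π y), mul_inv_cancel]
        rw [MonoidHom.mem_ker, map_mul, map_mul, map_mul, map_inv, map_inv, mul_inv_eq_one,
          mul_inv_eq_iff_eq_mul] at h1
        exact h1.symm
      exact hx1 (by rw [hπ]; exact (QuotientGroup.eq_one_iff s).2 (hker ▸ MonoidHom.mem_ker.2 hfs))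
    have hrker : r ∈ f.ker := by
      rw [hker]
      exact (QuotientGroup.eq_one_iff r).1 (by rw [← hrc, hπ]; rfl)
    rw [MonoidHom.mem_ker.1 hrker, one_mul, mul_one]
  · haveI : IsSimpleGroup (↥(Cfsg.SU n F₀ q₀) ⧸ Subgroup.center ↥(Cfsg.SU n F₀ q₀)) :=
      isSimpleGroup_psu hF₀ hn h32₀
    exact fun R hR hRc => commute_of_simple_quotient hp f hkerc (hcard ▸ hdvd) R hR hRc

/-- The killer of a graph involution. -/
theorem hasCoreKiller_graphPSU (hF : Fintype.card F = q ^ 2) (hn : 3 ≤ n) (h32 : ¬ (n = 3 ∧ q = 2))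
    (h2 : (2 : F) ≠ 0) {F₀ : Type*} [Field F₀] [Fintype F₀] {ι : F₀ →+* F}
    (hι : ∀ x, frobQ hF x = x ↔ ∃ a, ι a = x) {γ : MulAut (Cfsg.PSU n F q)}
    {B : Matrix (Fin n) (Fin n) F₀} {h : GL (Fin n) F} {w : F} (hB : IsForm B) (hu : IsUnit B)
    (hd : PSUData hF ι γ B h w) (hγ : orderOf γ = 2) :
    HasCoreKiller (MulAut.conj : Cfsg.PSU n F q →* _).range γ 2 := by
  classical
  haveI : NeZero n := ⟨by omega⟩
  haveI : Nonempty (Fin n) := ⟨⟨0, by omega⟩⟩
  haveI : Finite (MulAut (Cfsg.PSU n F q)) :=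
    Finite.of_injective (fun e => (e : Cfsg.PSU n F q → _)) DFunLike.coe_injective
  have h20 : (2 : F₀) ≠ 0 := fun e => h2 (by rw [← map_ofNat ι 2, e, map_zero])
  obtain ⟨-, hh, -, e, g, hg, hγg⟩ := id hd
  have hmemGU : ∀ x : ↥(formIsom1 B), h * GeneralLinearGroup.map ι x.1 * h⁻¹ ∈ Cfsg.GU n F q := by
    intro x
    rw [mem_GU_iff_frobQ hF]
    show (((h.1 * x.1.1.map ι * (h⁻¹).1)).map (frobQ hF))ᵀ * (h.1 * x.1.1.map ι * (h⁻¹).1) = 1
    rw [mapτ_mul, mapτ_mul, mapι_fix hF hι, transpose_mul, transpose_mul]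
    calc ((h⁻¹).1.map (frobQ hF))ᵀ * ((x.1.1.map ι)ᵀ * (h.1.map (frobQ hF))ᵀ) *
          (h.1 * x.1.1.map ι * (h⁻¹).1)
        = ((h⁻¹).1.map (frobQ hF))ᵀ * ((x.1.1.map ι)ᵀ * ((h.1.map (frobQ hF))ᵀ * h.1) * x.1.1.map ι) *
            (h⁻¹).1 := by simp only [Matrix.mul_assoc]
      _ = ((h⁻¹).1.map (frobQ hF))ᵀ * ((h.1.map (frobQ hF))ᵀ * h.1) * (h⁻¹).1 := by
          congr 2
          rw [hh, Matrix.mul_smul, Matrix.smul_mul, ← transpose_map (f := ⇑ι), ← Matrix.map_mul,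
            ← Matrix.map_mul, x.2.1]
      _ = 1 := by
          rw [← Matrix.mul_assoc, ← transpose_mul, ← mapτ_mul, Units.mul_inv, mapτ_one, transpose_one,
            Matrix.one_mul, Units.mul_inv]
  obtain ⟨f, hf⟩ : ∃ f : ↥(formIsom1 B) →* MulAut (Cfsg.PSU n F q),
      ∀ x, f x = psuInndiagHom ⟨h * GeneralLinearGroup.map ι x.1 * h⁻¹, hmemGU x⟩ :=
    ⟨MonoidHom.mk' (fun x => psuInndiagHom ⟨h * GeneralLinearGroup.map ι x.1 * h⁻¹, hmemGU x⟩) fun x y => by
      rw [← map_mul]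
      refine congrArg _ (Subtype.ext ?_)
      show h * GeneralLinearGroup.map ι (x.1 * y.1) * h⁻¹ = _
      rw [map_mul, Subgroup.coe_mul]
      group, fun x => rfl⟩
  have hker : ∀ x ∈ f.ker, ∃ c : F₀, x.1.1 = c • 1 := by
    intro x hx
    rw [MonoidHom.mem_ker, hf, psuInndiagHom_apply, psuSemiAut_eq_one_iff hF hn h32] at hx
    obtain ⟨-, c, hc⟩ := hx
    have h1 : x.1.1.map ι = (c : F) • 1 := by
      have := congrArg (fun M => (h⁻¹).1 * M * h.1) hc
      simp only [Units.val_mul, Matrix.mul_smul, Matrix.smul_mul, Matrix.mul_one, Units.inv_mul] at this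
      rw [← this]
      show x.1.1.map ι = (h⁻¹).1 * (h.1 * x.1.1.map ι * (h⁻¹).1) * h.1
      simp only [← Matrix.mul_assoc, Units.inv_mul, Matrix.one_mul]
      rw [Matrix.mul_assoc, Units.inv_mul, Matrix.mul_one]
    let i₀ : Fin n := ⟨0, by omega⟩
    have hc0 : ι (x.1.1 i₀ i₀) = c := by simpa using congrFun (congrFun h1 i₀) i₀
    refine ⟨x.1.1 i₀ i₀, mapι_injective (ι := ι) ?_⟩
    show x.1.1.map ι = (x.1.1 i₀ i₀ • (1 : Matrix (Fin n) (Fin n) F₀)).map ι
    rw [mapι_smul, hc0, Matrix.map_one _ (map_zero ι) (map_one ι), h1]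
  have hkerc : f.ker ≤ Subgroup.center ↥(formIsom1 B) := fun x hx => by
    obtain ⟨c, hc⟩ := hker x hx
    refine Subgroup.mem_center_iff.2 fun y => Subtype.ext (Units.ext ?_)
    show y.1.1 * x.1.1 = x.1.1 * y.1.1
    rw [hc, Matrix.mul_smul, Matrix.smul_mul, Matrix.mul_one, Matrix.one_mul]
  refine hasCoreKiller_of_hom Nat.prime_two hγ f ?_ ?_ ?_ ?_ ?_
  · rintro _ ⟨x, rfl⟩
    rw [hf]
    refine suToGU_mem_inn _ ?_
    show (h.1 * x.1.1.map ι * (h⁻¹).1).det = 1
    rw [det_mul_right_comm, Units.mul_inv, Matrix.one_mul, ← RingHom.mapMatrix_apply, ← RingHom.map_det,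
      x.2.2, map_one]
  · rintro _ ⟨x, rfl⟩
    obtain ⟨K, hK, hKv⟩ : ∃ K : Cfsg.GU n F q, f x = psuInndiagHom K ∧
        K.1.1 = h.1 * x.1.1.map ι * (h⁻¹).1 := ⟨_, hf x, rfl⟩
    rw [Subgroup.mem_centralizer_singleton_iff, hK, hγg, psuSemiAut_eq_mul g,
      mul_assoc (psuInndiagHom g), psuSemiAut_one_mul_inndiag, ← mul_assoc, ← mul_assoc, ← map_mul, ← map_mul,
      mul_left_inj]
    refine congrArg _ (Subtype.ext (Units.ext ?_))
    show K.1.1 * g.1.1 = g.1.1 * K.1.1.map (frobQ hF)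
    rw [hKv]
    rw [hg, mapτ_mul, mapτ_mul, mapι_fix hF hι, Matrix.mul_smul, Matrix.smul_mul]
    congr 1
    calc h.1 * x.1.1.map ι * (h⁻¹).1 * (h.1 * (h⁻¹).1.map (frobQ hF))
        = h.1 * x.1.1.map ι * ((h⁻¹).1 * h.1) * (h⁻¹).1.map (frobQ hF) := by simp only [Matrix.mul_assoc]
      _ = h.1 * ((h⁻¹).1.map (frobQ hF) * h.1.map (frobQ hF)) * x.1.1.map ι * (h⁻¹).1.map (frobQ hF) := by
          rw [Units.inv_mul, Matrix.mul_one, ← mapτ_mul, Units.inv_mul, mapτ_one, Matrix.mul_one]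
      _ = _ := by simp only [Matrix.mul_assoc]
  · intro a ha x
    obtain ⟨k, rfl⟩ : ∃ k, psuInndiagHom k = a := by
      have := inn_le_inndiagPSU hF (by omega) ha.1
      rwa [inndiagPSU_eq_range] at this
    obtain ⟨v, P, c, hk, hP, -⟩ := exists_of_conj hF hι hn h32 hu hd hd (k := k)
      (mul_inv_eq_iff_eq_mul.2 (Subgroup.mem_centralizer_singleton_iff.1 ha.2))
    obtain ⟨x', hx'⟩ : ∃ x' : ↥(formIsom1 B), x'.1 = P * x.1 * P⁻¹ :=
      ⟨⟨_, conj_mem_formIsom1 ⟨c, hP⟩ x.2⟩, rfl⟩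
    refine ⟨x', ?_⟩
    rw [hf, hf, eq_mul_inv_iff_mul_eq, ← map_mul, ← map_mul, psuInndiagHom_eq_iff hF hn h32]
    refine ⟨1, ?_⟩
    rw [Units.val_one, one_smul]
    show h.1 * x'.1.1.map ι * (h⁻¹).1 * k.1.1 = k.1.1 * (h.1 * x.1.1.map ι * (h⁻¹).1)
    rw [hk, hx', Units.val_mul, Units.val_mul, Matrix.map_mul, Matrix.map_mul, Matrix.mul_smul,
      Matrix.smul_mul]
    congr 1
    calc h.1 * (P.1.map ι * x.1.1.map ι * (P⁻¹).1.map ι) * (h⁻¹).1 * (h.1 * P.1.map ι * (h⁻¹).1)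
        = h.1 * P.1.map ι * x.1.1.map ι * ((P⁻¹).1.map ι * (((h⁻¹).1 * h.1) * P.1.map ι)) * (h⁻¹).1 := by
          simp only [Matrix.mul_assoc]
      _ = h.1 * P.1.map ι * x.1.1.map ι * (h⁻¹).1 := by
          rw [Units.inv_mul, Matrix.one_mul, ← Matrix.map_mul, Units.inv_mul,
            Matrix.map_one _ (map_zero ι) (map_one ι), Matrix.mul_one]
      _ = h.1 * P.1.map ι * (((h⁻¹).1 * h.1) * x.1.1.map ι * (h⁻¹).1) := by
          rw [Units.inv_mul, Matrix.one_mul]; simp only [Matrix.mul_assoc]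
      _ = _ := by simp only [Matrix.mul_assoc]
  · rcases (isForm_iff B).1 hB with ha | ⟨hs, -⟩
    · obtain ⟨m, hm⟩ := even_card_of_alt ha hu
      rw [Fintype.card_fin] at hm
      obtain ⟨hsimple, hcard⟩ := isSimpleGroup_formIsom1_alt h20 (m := m) (by omega) ha hu
        (by rw [Fintype.card_fin]; omega)
      haveI := hsimple
      exact fun R hR hc => commute_of_simple_quotient Nat.prime_two f hkerc
        (hcard ▸ two_dvd_card_psp (by omega)) R hR hc
    · refine fun R hR hc => commute_of_no_odd_normal f hkerc (fun x hx => ?_)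
        (fun C hC hodd => odd_normal_formIsom1 h20 hs hu (by rw [Fintype.card_fin]; omega) C hC hodd)
        R hR hc
      obtain ⟨c, hc⟩ := hker x hx
      have h1 := x.2.1
      rw [hc, transpose_smul, transpose_one, Matrix.smul_mul, Matrix.one_mul, Matrix.smul_mul,
        Matrix.mul_smul, Matrix.mul_one, smul_smul] at h1
      have hcc : c * c = 1 := by
        have h0 : (c * c - 1) • B = 0 := by rw [sub_smul, h1, one_smul, sub_self]
        exact sub_eq_zero.1 ((smul_eq_zero.1 h0).resolve_right hu.ne_zero)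
      refine Subtype.ext (Units.ext ?_)
      show x.1.1 * x.1.1 = 1
      rw [hc, Matrix.smul_mul, Matrix.one_mul, smul_smul, hcc, one_smul]
  · rintro y ⟨hy, -⟩
    have hgen : Subring.closure (nilIsom (RingEquiv.refl F₀) B) = ⊤ := by
      rcases (isForm_iff B).1 hB with ha | ⟨hs, -⟩
      · exact alt_ring_top ha.1 h20 hu
      · obtain ⟨v, hv0, hv⟩ := exists_isotropic_form h20 hs hu (by rw [Fintype.card_fin]; omega)
        refine herm_ring_top h20 (fun x => rfl) (Matrix.ext fun i j => congrFun (congrFun hs i) j) hu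
          (by rw [Fintype.card_fin]; omega) hv0 ?_
        show (fun i => v i) ᵥ* B ⬝ᵥ v = 0
        rw [← dotProduct_mulVec]
        exact hv
    obtain ⟨a, τ, rfl⟩ := exists_psuSemiAut hF hn h32 y
    obtain ⟨g', hg'⟩ : ∃ g' : GL (Fin n) F,
        g' = h⁻¹ * a.1 * GeneralLinearGroup.map (τ : F →+* F) h := ⟨_, rfl⟩
    have hg'v : g'.1 = (h⁻¹).1 * a.1.1 * h.1.map τ := by rw [hg']; rfl
    obtain ⟨hfix, c, hc⟩ := semilinear_fix_of_unipotents ι τ g'.1 g'.isUnit _ hgen (fun N hN => hN.1)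
      fun N hN => by
        obtain ⟨z, hz⟩ : ∃ z : ↥(formIsom1 B), z.1.1 = 1 + N :=
          ⟨⟨GeneralLinearGroup.mkOfDetNeZero (1 + N) (by rw [hN.2.2]; exact one_ne_zero),
            by simpa using hN.2.1, hN.2.2⟩, rfl⟩
        obtain ⟨c, hc⟩ := commute_psuSemiAut hF hn h32 a ⟨_, hmemGU z⟩ τ (by
          rw [← hf]; exact (Subgroup.mem_centralizer_iff.1 hy (f z) ⟨z, rfl⟩).symm)
        refine ⟨c, ?_⟩
        have hc' : a.1.1 * (h.1 * z.1.1.map ι * (h⁻¹).1).map τ =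
            c • (h.1 * z.1.1.map ι * (h⁻¹).1 * a.1.1) := hc
        rw [hz] at hc'
        have h1 := congrArg (fun M => (h⁻¹).1 * M * h.1.map τ) hc'
        simp only [Matrix.map_mul, Matrix.mul_smul, Matrix.smul_mul] at h1
        rw [hg'v]
        calc (h⁻¹).1 * a.1.1 * h.1.map τ * ((1 + N).map ι).map τ
            = (h⁻¹).1 * (a.1.1 * (h.1.map τ * ((1 + N).map ι).map τ * (h⁻¹).1.map τ)) * h.1.map τ := by
              have e1 : (h⁻¹).1.map τ * h.1.map τ = 1 := by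
                rw [← Matrix.map_mul, Units.inv_mul, Matrix.map_one _ (map_zero τ) (map_one τ)]
              simp only [Matrix.mul_assoc, e1, Matrix.mul_one]
          _ = c • ((h⁻¹).1 * (h.1 * (1 + N).map ι * (h⁻¹).1 * a.1.1) * h.1.map τ) := h1
          _ = c • ((1 + N).map ι * ((h⁻¹).1 * a.1.1 * h.1.map τ)) := by
              congr 1
              simp only [← Matrix.mul_assoc, Units.inv_mul, Matrix.one_mul]
    have hav : a.1.1 = (c : F) • (h.1 * (h⁻¹).1.map τ) := by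
      have h1 := congrArg (fun M => h.1 * M * (h⁻¹).1.map τ) (hg'v.symm.trans hc)
      simp only [Matrix.mul_smul, Matrix.smul_mul, Matrix.mul_one] at h1
      rw [← h1]
      have e1 : h.1.map τ * (h⁻¹).1.map τ = 1 := by
        rw [← Matrix.map_mul, Units.mul_inv, Matrix.map_one _ (map_zero τ) (map_one τ)]
      simp only [← Matrix.mul_assoc, Units.mul_inv, Matrix.one_mul]
      rw [Matrix.mul_assoc, e1, Matrix.mul_one]
    have hτ := mem_zpowers_of_fix_fixed (frobQ hF) τ fun x hx => by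
      obtain ⟨b, rfl⟩ := (hι x).1 hx
      exact hfix b
    haveI : Finite (F ≃+* F) :=
      Finite.of_injective (fun e : F ≃+* F => (e : F → F)) DFunLike.coe_injective
    obtain ⟨l, hl⟩ := mem_powers_iff_mem_zpowers.2 hτ
    simp only at hl
    rw [pow_eq_pow_mod l (show frobQ hF ^ 2 = 1 by rw [← orderOf_frobQ hF, pow_orderOf_eq_one])] at hl
    rcases Nat.mod_two_eq_zero_or_one l with hmod | hmod <;> rw [hmod] at hl
    · rw [pow_zero] at hl
      subst hl
      have h1 : (h⁻¹).1.map ((1 : F ≃+* F) : F → F) = (h⁻¹).1 := Matrix.ext fun i j => rfl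
      rw [h1, Units.mul_inv] at hav
      rw [psuSemiAut_smul_one hF hn h32 hav, show (1 : F ≃+* F) = RingEquiv.refl F from rfl, psuSemiAut_one]
      exact one_mem _
    · rw [pow_one] at hl
      subst hl
      have h1 : psuSemiAut a (frobQ hF) = γ := by
        rw [hγg, psuSemiAut_eq_mul a, psuSemiAut_eq_mul g, mul_left_inj, psuInndiagHom_eq_iff hF hn h32]
        refine ⟨c * e⁻¹, ?_⟩
        rw [hav, hg, smul_smul, Units.val_mul, mul_assoc, Units.inv_mul, mul_one]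
      rw [h1]
      exact Subgroup.mem_zpowers _

/-- The criterion for `PSU_n(q)`. -/
theorem psu_local_balance (hF : Fintype.card F = q ^ 2) {r : ℕ} [Fact r.Prime] [CharP F r] (hn : 3 ≤ n)
    (hK : IsSimpleGroup (Cfsg.PSU n F q))
    (A : Subgroup (MulAut (Cfsg.PSU n F q))) (hinn : ∀ k, MulAut.conj k ∈ A)
    {p : ℕ} [Fact p.Prime] (hpr : p ≠ r) (β : MulAut (Cfsg.PSU n F q))
    (hord : orderOf β = p) (hnot : ¬ Cfsg.IsInnerDiagonalAutPSU β) :
    Cfsg.pPrimeCore p ↥(A ⊓ Subgroup.centralizer {β}) ≠ ⊥ ↔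
      ((∃ γ φ : MulAut (Cfsg.PSU n F q), Cfsg.IsInnerDiagonalAutPSU γ ∧
          (∃ σ : F ≃+* F, Cfsg.IsFieldAutPSUOf σ φ) ∧ β = φ.trans γ) ∧
        Nat.Coprime p (Nat.card ↥(MonoidHom.eqLocus β.toMonoidHom (MonoidHom.id (Cfsg.PSU n F q))))) := by
  classical
  haveI := hK
  have hp : p.Prime := Fact.out
  have h32 : ¬ (n = 3 ∧ q = 2) := by
    rintro ⟨rfl, rfl⟩
    have h4 : Fintype.card F = 4 := by rw [hF]; norm_num
    obtain ⟨N, hNn, hN9, -⟩ := Cfsg.Agent.S0827.result h4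
    rcases hNn.eq_bot_or_eq_top with h | h
    · rw [h, Subgroup.card_bot] at hN9
      exact absurd hN9 (by norm_num)
    · rw [h, Subgroup.card_top, (Cfsg.Agent.S0282.result h4).1] at hN9
      exact absurd hN9 (by norm_num)
  haveI : Finite (MulAut (Cfsg.PSU n F q)) :=
    Finite.of_injective (fun e => (e : Cfsg.PSU n F q → _)) DFunLike.coe_injective
  have hinj := conj_psu_injective hF hn h32
  obtain ⟨g, σ, rfl⟩ := exists_psuSemiAut hF hn h32 β
  have hσ1 : σ ≠ RingEquiv.refl F := fun h =>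
    hnot ((isInnerDiagonalAutPSU_iff _).2 ⟨g, by rw [h]⟩)
  have hσp : σ ^ p = 1 := by
    have h1 : psuSemiAut g σ ^ p = 1 := by rw [← hord, pow_orderOf_eq_one]
    rw [psuSemiAut_pow, psuSemiAut_eq_one_iff hF hn h32] at h1
    exact h1.1
  have hordσ : orderOf σ = p := orderOf_eq_prime hσp hσ1
  have hfield : ∃ γ φ : MulAut (Cfsg.PSU n F q), Cfsg.IsInnerDiagonalAutPSU γ ∧
      (∃ σ' : F ≃+* F, Cfsg.IsFieldAutPSUOf σ' φ) ∧ psuSemiAut g σ = φ.trans γ :=
    ⟨psuInndiagHom g, psuSemiAut 1 σ, (isInnerDiagonalAutPSU_iff _).2 ⟨g, rfl⟩,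
      ⟨σ, (isFieldAutPSUOf_iff σ _).2 rfl⟩, psuSemiAut_eq_mul g σ⟩
  rw [pPrimeCore_ne_bot_iff hinj A hinn hp _ hord fun k hk hkfix => ?_]
  · exact ⟨fun h => ⟨hfield, h⟩, fun h => h.2⟩
  rcases hp.eq_two_or_odd' with rfl | hodd
  · -- a graph involution
    have h2 : (2 : F) ≠ 0 := fun h => hpr (by
      have h1 : ((2 : ℕ) : F) = 0 := by exact_mod_cast h
      exact ((Nat.prime_dvd_prime_iff_eq (Fact.out : r.Prime) Nat.prime_two).1
        ((CharP.cast_eq_zero_iff F r 2).1 h1)).symm)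
    haveI : NeZero n := ⟨by omega⟩
    have hgraph : Cfsg.IsGraphAutClassPSU (psuSemiAut g σ) :=
      ⟨hn, psuInndiagHom g, psuSemiAut 1 σ, σ, by rw [hordσ]; exact even_two,
        (isInnerDiagonalAutPSU_iff _).2 ⟨g, rfl⟩, (isFieldAutPSUOf_iff _ _).2 rfl, psuSemiAut_eq_mul g σ⟩
    let F₀ : Subfield F := (frobQ hF : F →+* F).eqLocusField (RingHom.id F)
    letI : Fintype F₀ := Fintype.ofFinite _
    have hι : ∀ x, frobQ hF x = x ↔ ∃ a : F₀, F₀.subtype a = x :=
      fun x => ⟨fun hx => ⟨⟨x, hx⟩, rfl⟩, by rintro ⟨a, rfl⟩; exact a.2⟩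
    obtain ⟨B, h, w, hB, hu, hd⟩ := exists_data hF hι hn h32 hgraph hord
    exact hasCoreKiller_graphPSU hF hn h32 h2 hι hB hu hd hord
  · obtain ⟨f, hr, hcard⟩ := FiniteField.card F r
    obtain ⟨hdvd, -, hemb⟩ := exists_fixed_embedding σ hcard
    rw [hordσ] at hdvd hemb
    obtain ⟨a, ha⟩ : ∃ a, q = r ^ a ∧ (f : ℕ) = 2 * a := by
      have hdq : q ∣ r ^ (f : ℕ) := by rw [← hcard, hF, sq]; exact dvd_mul_right q q
      obtain ⟨a, -, ha⟩ := (Nat.dvd_prime_pow hr).1 hdq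
      refine ⟨a, ha, Nat.pow_right_injective hr.two_le ?_⟩
      show r ^ (f : ℕ) = r ^ (2 * a)
      rw [← hcard, hF, ha, ← pow_mul, mul_comm]
    rw [ha.2] at hdvd hemb
    have hpa : p ∣ a := (Nat.Coprime.dvd_of_dvd_mul_left (Nat.coprime_two_right.2 hodd) hdvd)
    have hdiv : 2 * a / p = 2 * (a / p) := Nat.mul_div_assoc 2 hpa
    have ha0 : 0 < a := by
      have := f.pos
      omega
    have hpos : 0 < a / p := Nat.div_pos (Nat.le_of_dvd ha0 hpa) hp.pos
    haveI : Fintype (GaloisField r (2 * (a / p))) := Fintype.ofFinite _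
    have hF₀ : Fintype.card (GaloisField r (2 * (a / p))) = r ^ (2 * (a / p)) := by
      rw [← Nat.card_eq_fintype_card, GaloisField.card r _ (by omega)]
    obtain ⟨ι, hι⟩ := hemb (GaloisField r (2 * (a / p))) (by rw [hdiv]; exact hF₀)
    have hF₀' : Fintype.card (GaloisField r (2 * (a / p))) = (r ^ (a / p)) ^ 2 := by
      rw [hF₀, ← pow_mul, mul_comm]
    have hq' : q = (r ^ (a / p)) ^ p := by rw [← pow_mul, Nat.div_mul_cancel hpa, ha.1]
    obtain ⟨c, hc⟩ := exists_conj_fieldPSU hF hn h32 hF₀' hq' σ hordσ hodd ι hι g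
      (by rw [← hord, pow_orderOf_eq_one])
    rw [hc] at hkfix ⊢
    exact hasCoreKiller_conj _ _ (hasCoreKiller_fieldPSU (r := r) hF hn h32 hp hpr hodd hF₀' hq' σ hordσ ι
      hι ((psuInndiagHom c)⁻¹ k) ((MulEquiv.orderOf_eq ((psuInndiagHom c)⁻¹ : MulAut _) k).trans hk)
      (fixed_of_conj _ _ hkfix))

end CfsgLib.KnownC
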