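import Mathlib
import Cfsg.Agent.Lib.KnownC.AutPOmegaEvenClass
import Cfsg.Agent.Lib.Classical.OrthSiegel
import Cfsg.Agent.Lib.Geom.StdForms

set_option autoImplicit false
set_option linter.unusedSectionVars false
set_option linter.style.haveILetI false

/-!
Hyperbolic and elliptic bases of non-degenerate quadratic spaces over a finite field.
-/

namespace CfsgLib.KnownC

open CfsgLib.Geom CfsgLib.Classical
open QuadraticMap (polar)

universe u v

variable {F : Type u} [Field F] [Finite F]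

/-- A form of odd dimension is, up to the value at the anisotropic vector, the standard one. -/
theorem odd_form_std (n : ℕ) : ∀ (V : Type v) [AddCommGroup V] [Module F V] [FiniteDimensional F V]
    (Q : QuadraticForm F V), (∀ x, (∀ y, polar Q x y = 0) → x = 0) → Module.finrank F V = 2 * n + 1 →
    ∃ (c : F), c ≠ 0 ∧ ∃ e : (Unit ⊕ (Fin n ⊕ Fin n) → F) ≃ₗ[F] V, ∀ v, Q (e v) =
      c * v (.inl ()) ^ 2 + ∑ i, v (.inr (.inl i)) * v (.inr (.inr i)) := by
  induction n with
  | zero =>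
    intro V _ _ _ Q hQ hn
    haveI : Nontrivial V := Module.nontrivial_of_finrank_pos (R := F) (by omega)
    obtain ⟨v, hv⟩ := exists_anisotropic Q hQ
    have hv0 : v ≠ 0 := fun h => hv (by simp [h])
    obtain ⟨b, hb⟩ : ∃ b : Module.Basis Unit F V, b () = v :=
      ⟨FiniteDimensional.basisSingleton Unit (by omega) v hv0, FiniteDimensional.basisSingleton_apply ..⟩
    refine ⟨Q v, hv, (LinearEquiv.funCongrLeft F F (Equiv.sumEmpty Unit (Fin 0 ⊕ Fin 0)).symm).trans
      b.equivFun.symm, fun w => ?_⟩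
    rw [LinearEquiv.trans_apply, Module.Basis.equivFun_symm_apply, Fintype.sum_unique, hb, quad_smul]
    simp [LinearEquiv.funCongrLeft, LinearMap.funLeft]
    ring
  | succ n ih =>
    intro V _ _ _ Q hQ hn
    obtain ⟨x, hx, hQx⟩ := exists_singular_ge_three Q hQ (by omega)
    obtain ⟨W, Ψ, hW, hWsep, hΨ⟩ := exists_hyperbolic_split Q hQ hx hQx (n := 2 * n + 1) (by omega)
    obtain ⟨c, hc, e, he⟩ := ih W (Q.comp W.subtype) hWsep hW
    obtain ⟨P, hP⟩ : ∃ P : (Unit ⊕ (Fin (n + 1) ⊕ Fin (n + 1)) → F) ≃ₗ[F]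
          (F × F × (Unit ⊕ (Fin n ⊕ Fin n) → F)),
        ∀ v, P v = (v (.inr (.inl 0)), v (.inr (.inr 0)),
          fun i => v (Sum.map id (Sum.map Fin.succ Fin.succ) i)) :=
      ⟨{ toFun := fun v => (v (.inr (.inl 0)), v (.inr (.inr 0)),
          fun i => v (Sum.map id (Sum.map Fin.succ Fin.succ) i))
         map_add' := fun _ _ => rfl
         map_smul' := fun _ _ => rfl
         invFun := fun p => Sum.elim (fun u => p.2.2 (.inl u)) (Sum.elim
          (Fin.cons p.1 fun i => p.2.2 (.inr (.inl i))) (Fin.cons p.2.1 fun i => p.2.2 (.inr (.inr i))))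
         left_inv := fun v => funext fun i => by
          rcases i with _ | i | i
          · simp
          · refine Fin.cases ?_ ?_ i <;> simp
          · refine Fin.cases ?_ ?_ i <;> simp
         right_inv := fun p => Prod.ext (by simp) (Prod.ext (by simp) (funext fun i => by
          rcases i with _ | i | i <;> simp)) }, fun v => rfl⟩
    refine ⟨c, hc, P.trans (((LinearEquiv.refl F F).prodCongr
      ((LinearEquiv.refl F F).prodCongr e)).trans Ψ), fun v => ?_⟩
    simp only [LinearEquiv.trans_apply, LinearEquiv.prodCongr_apply, LinearEquiv.refl_apply, hΨ, hP]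
    have h1 := he fun i => v (Sum.map id (Sum.map Fin.succ Fin.succ) i)
    rw [QuadraticMap.comp_apply, Submodule.coe_subtype] at h1
    rw [h1, Fin.sum_univ_succ]
    simp only [Sum.map_inl, Sum.map_inr, id_eq]
    ring

theorem exists_odd_basis {V : Type v} [AddCommGroup V] [Module F V] [FiniteDimensional F V] {m : ℕ}
    (hV : Module.finrank F V = 2 * m + 1) (Q : QuadraticForm F V) (hQ : Q.polarBilin.Nondegenerate) :
    ∃ b : Module.Basis (Unit ⊕ (Fin m ⊕ Fin m)) F V, Q (b (Sum.inl ())) ≠ 0 ∧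
      (∀ i, polar ⇑Q (b (Sum.inl ())) (b (Sum.inr (Sum.inl i))) = 0 ∧
        polar ⇑Q (b (Sum.inl ())) (b (Sum.inr (Sum.inr i))) = 0) ∧
      (∀ i, Q (b (Sum.inr (Sum.inl i))) = 0 ∧ Q (b (Sum.inr (Sum.inr i))) = 0) ∧
      (∀ i j, polar ⇑Q (b (Sum.inr (Sum.inl i))) (b (Sum.inr (Sum.inr j))) = if i = j then 1 else 0) ∧
      (∀ i j, polar ⇑Q (b (Sum.inr (Sum.inl i))) (b (Sum.inr (Sum.inl j))) = 0 ∧
        polar ⇑Q (b (Sum.inr (Sum.inr i))) (b (Sum.inr (Sum.inr j))) = 0) := by
  obtain ⟨c, hc, e, he⟩ := odd_form_std m V Q (fun x hx => hQ.1 x hx) hV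
  have hp : ∀ u w, polar ⇑Q (e u) (e w) = 2 * c * u (.inl ()) * w (.inl ()) +
      ∑ i, (u (.inr (.inl i)) * w (.inr (.inr i)) + w (.inr (.inl i)) * u (.inr (.inr i))) := by
    intro u w
    simp only [QuadraticMap.polar, ← map_add, he, Pi.add_apply, add_sub_add_comm, ← Finset.sum_sub_distrib]
    congr 1
    · ring
    · exact Finset.sum_congr rfl fun i _ => by ring
  refine ⟨(Pi.basisFun F _).map e, ?_, fun i => ?_, fun i => ?_, fun i j => ?_, fun i j => ?_⟩ <;>
    simp only [Module.Basis.map_apply, Pi.basisFun_apply, he, hp]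
  · simpa [Pi.single_apply] using hc
  · constructor <;> simp [Pi.single_apply]
  · constructor <;> simp [Pi.single_apply]
  · by_cases h : i = j
    · subst h; simp [Pi.single_apply]
    · simp [Pi.single_apply, h, Ne.symm h]
  · constructor <;> simp [Pi.single_apply]

/-- An anisotropic plane has a basis `x, y` with `Q x = 1` and `polar x y = 1`. -/
theorem exists_plane_basis (P : QuadraticForm F (Fin 2 → F)) (hP : ∀ z, P z = 0 → z = 0)
    (hsep : ∀ x, (∀ y, polar P x y = 0) → x = 0) :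
    ∃ x y : Fin 2 → F, P x = 1 ∧ polar P x y = 1 ∧ LinearIndependent F ![x, y] := by
  haveI := Fintype.ofFinite F
  obtain ⟨x, hx⟩ : ∃ x, P x = 1 := by
    by_cases h2 : (2 : F) = 0
    · obtain ⟨w, hw⟩ : ∃ w, P w ≠ 0 := ⟨Pi.single 0 1, fun h => by simpa using congrFun (hP _ h) 0⟩
      obtain ⟨s, hs⟩ := isSquare_of_two_eq_zero h2 (P w)⁻¹
      exact ⟨s • w, by rw [quad_smul, ← hs, inv_mul_cancel₀ hw]⟩
    · exact exists_value P h2 hsep (by simp) 1 one_ne_zero
  have hx0 : x ≠ 0 := fun h => by simp [h] at hx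
  obtain ⟨y₀, hy₀⟩ := exists_partner P hsep hx0
  by_cases hli : LinearIndependent F ![x, y₀]
  · exact ⟨x, y₀, hx, hy₀, hli⟩
  rw [LinearIndependent.pair_iff' hx0] at hli
  push Not at hli
  obtain ⟨s, hs⟩ := hli
  have h2s : 2 * s = 1 := by
    rw [← hs, QuadraticMap.polar_smul_right, polar_self_two, hx, mul_one, smul_eq_mul] at hy₀
    linear_combination hy₀
  obtain ⟨w, hw, hw0⟩ : ∃ w ∈ LinearMap.ker (P.polarBilin x), w ≠ 0 := by
    refine Submodule.exists_mem_ne_zero_of_ne_bot fun h => ?_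
    have h1 := (P.polarBilin x).finrank_range_add_finrank_ker
    have h3 := Submodule.finrank_le (LinearMap.range (P.polarBilin x))
    rw [h, finrank_bot, Module.finrank_self] at *
    simp at h1
    omega
  have hxw : polar P x w = 0 := hw
  refine ⟨x, y₀ + w, hx, by rw [QuadraticMap.polar_add_right, hy₀, hxw, add_zero],
    (LinearIndependent.pair_iff' hx0).2 fun a ha => hw0 ?_⟩
  have h5 : (a - s) • x = w := by rw [sub_smul, ha, hs, add_sub_cancel_left]
  have h6 : (a - s) * 2 = 0 := by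
    rw [← h5, QuadraticMap.polar_smul_right, polar_self_two, hx, mul_one, smul_eq_mul] at hxw
    exact hxw
  rcases mul_eq_zero.1 h6 with h | h
  · rw [← h5, h, zero_smul]
  · rw [h, zero_mul] at h2s; exact absurd h2s zero_ne_one

theorem exists_even_basis {V : Type v} [AddCommGroup V] [Module F V] [FiniteDimensional F V] {m : ℕ}
    (hV : Module.finrank F V = 2 * m) (Q : QuadraticForm F V) (hQ : Q.polarBilin.Nondegenerate) :
    (∃ b : Module.Basis (Fin m ⊕ Fin m) F V, (∀ i, Q (b (Sum.inl i)) = 0 ∧ Q (b (Sum.inr i)) = 0) ∧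
      (∀ i j, polar ⇑Q (b (Sum.inl i)) (b (Sum.inr j)) = if i = j then 1 else 0) ∧
      (∀ i j, polar ⇑Q (b (Sum.inl i)) (b (Sum.inl j)) = 0 ∧ polar ⇑Q (b (Sum.inr i)) (b (Sum.inr j)) = 0)) ∨
    (∃ (b : Module.Basis ((Fin (m - 1) ⊕ Fin (m - 1)) ⊕ Fin 2) F V) (ζ : F), (∀ t : F, t ^ 2 + t + ζ ≠ 0) ∧
      (∀ i, Q (b (Sum.inl (Sum.inl i))) = 0 ∧ Q (b (Sum.inl (Sum.inr i))) = 0) ∧
      (∀ i j, polar ⇑Q (b (Sum.inl (Sum.inl i))) (b (Sum.inl (Sum.inr j))) = if i = j then 1 else 0) ∧
      (∀ i j, polar ⇑Q (b (Sum.inl (Sum.inl i))) (b (Sum.inl (Sum.inl j))) = 0 ∧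
        polar ⇑Q (b (Sum.inl (Sum.inr i))) (b (Sum.inl (Sum.inr j))) = 0) ∧
      (∀ i (k : Fin 2), polar ⇑Q (b (Sum.inl (Sum.inl i))) (b (Sum.inr k)) = 0 ∧
        polar ⇑Q (b (Sum.inl (Sum.inr i))) (b (Sum.inr k)) = 0) ∧
      Q (b (Sum.inr 0)) = 1 ∧ polar ⇑Q (b (Sum.inr 0)) (b (Sum.inr 1)) = 1 ∧ Q (b (Sum.inr 1)) = ζ) := by
  have hsep : ∀ x, (∀ y, polar Q x y = 0) → x = 0 := fun x hx => hQ.1 x hx
  rcases even_form_std m V Q hsep hV with ⟨e, he⟩ | ⟨k, a, b, c, rfl, hc, hab, e, he⟩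
  · left
    have hp : ∀ u w, polar ⇑Q (e u) (e w) = polar (qfPlus m F) u w := fun u w => by
      simp only [QuadraticMap.polar, ← map_add, he]
    refine ⟨(Pi.basisFun F _).map e, fun i => ?_, fun i j => ?_, fun i j => ?_⟩ <;>
      simp only [Module.Basis.map_apply, Pi.basisFun_apply, he, hp, polar_qfPlus, qfPlus_apply, Cfsg.quadFormPlus]
    · constructor <;> simp [Pi.single_apply]
    · by_cases h : i = j
      · subst h; simp [Pi.single_apply]
      · simp [Pi.single_apply, h, Ne.symm h]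
    · constructor <;> simp [Pi.single_apply]
  right
  haveI := Fintype.ofFinite F
  obtain ⟨P, hP⟩ : ∃ P : QuadraticForm F (Fin 2 → F), ∀ z,
      P z = c * (z 0 ^ 2 + a * z 0 * z 1 + b * z 1 ^ 2) := ⟨c • binForm a b, fun z => by
    rw [QuadraticMap.smul_apply, binForm_apply, smul_eq_mul]⟩
  have hP0 : ∀ z, P z = 0 → z = 0 := fun z hz => by
    rw [hP, mul_eq_zero, or_iff_right hc] at hz
    obtain ⟨h0, h1⟩ := hab _ _ hz
    funext i; fin_cases i
    exacts [h0, h1]
  have hPp : ∀ x y : Fin 2 → F,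
      polar P x y = c * (x 0 * (2 * y 0 + a * y 1) + x 1 * (a * y 0 + 2 * b * y 1)) := fun x y => by
    simp only [QuadraticMap.polar, hP, Pi.add_apply]; ring
  have hPsep : ∀ x, (∀ y, polar P x y = 0) → x = 0 := by
    intro x hx
    have h0 := hx (Pi.single 0 1)
    have h1 := hx (Pi.single 1 1)
    rw [hPp] at h0 h1
    simp [hc] at h0 h1
    have hd := anisotropic_disc hab
    have z0 : (4 * b - a ^ 2) * x 0 = 0 := by linear_combination (2 * b) * h0 - a * h1
    have z1 : (4 * b - a ^ 2) * x 1 = 0 := by linear_combination 2 * h1 - a * h0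
    funext i; fin_cases i
    exacts [(mul_eq_zero.1 z0).resolve_left hd, (mul_eq_zero.1 z1).resolve_left hd]
  obtain ⟨x, y, hx, hxy, hli⟩ := exists_plane_basis P hP0 hPsep
  obtain ⟨G, hG⟩ : ∃ G : ((Fin k ⊕ Fin k) ⊕ Fin 2) → ((Fin k ⊕ Fin k) ⊕ Fin 2 → F), G =
      Sum.elim (fun i => Sum.elim (fun i => Pi.single (.inl (.inl i)) 1)
        (fun i => Pi.single (.inl (.inr i)) c⁻¹) i) (fun j => Sum.elim (fun _ => 0) (![x, y] j)) := ⟨_, rfl⟩
  have hGi : LinearIndependent F G := by
    rw [Fintype.linearIndependent_iff]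
    intro g hg i
    rcases i with (i | i) | j
    · simpa [hG, Fintype.sum_sum_type, Finset.sum_apply, Pi.single_apply] using congrFun hg (.inl (.inl i))
    · simpa [hG, Fintype.sum_sum_type, Finset.sum_apply, Pi.single_apply, hc] using congrFun hg (.inl (.inr i))
    · refine Fintype.linearIndependent_iff.1 hli (fun j => g (.inr j)) (funext fun l => ?_) j
      simpa [hG, Fintype.sum_sum_type, Finset.sum_apply, Pi.single_apply, Fin.sum_univ_two] using
        congrFun hg (.inr l)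
  obtain ⟨B, hB⟩ : ∃ B : Module.Basis ((Fin k ⊕ Fin k) ⊕ Fin 2) F V, ∀ i, B i = e (G i) :=
    ⟨(basisOfLinearIndependentOfCardEqFinrank' G hGi (by rw [Module.finrank_fintype_fun_eq_card])).map e,
      fun i => by simp⟩
  have hq : ∀ u, Q (e u) = c * (∑ i, u (.inl (.inl i)) * u (.inl (.inr i))) + P (fun j => u (.inr j)) :=
    fun u => by rw [he, qfMinus_apply, Cfsg.quadFormMinus, hP]; ring
  have hp : ∀ u w, polar ⇑Q (e u) (e w) =
      c * (∑ i, (u (.inl (.inl i)) * w (.inl (.inr i)) + w (.inl (.inl i)) * u (.inl (.inr i)))) +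
        polar P (fun j => u (.inr j)) (fun j => w (.inr j)) := fun u w => by
    simp only [QuadraticMap.polar, ← map_add, hq, Pi.add_apply, add_sub_add_comm, ← mul_sub,
      ← Finset.sum_sub_distrib]
    congr 1
    · exact congrArg (c * ·) (Finset.sum_congr rfl fun i _ => by ring)
  have hz : P (fun _ => (0 : F)) = 0 := QuadraticMap.map_zero P
  have hz1 : ∀ w, polar P (fun _ => (0 : F)) w = 0 := fun w => QuadraticMap.polar_zero_left P w
  have hz2 : ∀ w, polar P w (fun _ => (0 : F)) = 0 := fun w => QuadraticMap.polar_zero_right P w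
  refine ⟨B, P y, fun t ht => ?_, fun i => ?_, fun i j => ?_, fun i j => ?_, fun i j => ?_, ?_, ?_, ?_⟩
  · have h1 : t • x + y ≠ 0 := fun h => one_ne_zero (LinearIndependent.pair_iff.1 hli t 1 (by rwa [one_smul])).2
    refine h1 (hP0 _ ?_)
    rw [QuadraticMap.map_add P, QuadraticMap.polar_smul_left, hxy, quad_smul, hx, smul_eq_mul]
    linear_combination ht
  all_goals simp only [hB, hq, hp, hG, Sum.elim_inl, Sum.elim_inr, Matrix.cons_val_zero, Matrix.cons_val_one]
  · constructor <;> simp [Pi.single_apply, hz]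
  · by_cases h : i = j
    · subst h; simp [Pi.single_apply, hz1, hc]
    · simp [Pi.single_apply, hz1, h, Ne.symm h]
  · constructor <;> simp [Pi.single_apply, hz1]
  · constructor <;> simp [Pi.single_apply, hz1]
  · simpa using hx
  · simpa using hxy
  · simp

end CfsgLib.KnownC
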