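import Mathlib
import Cfsg.Agent.Lib.KnownC.OrthSpinor

set_option autoImplicit false
set_option linter.unusedSectionVars false
set_option linter.style.haveILetI false

/-!
`Ω` and orthogonal sums: block diagonal elements, and transitivity on non-degenerate subspaces.
-/

namespace CfsgLib.KnownC

open CfsgLib.Geom CfsgLib.Classical
open QuadraticMap (polar)
open Matrix

universe u

variable {F : Type u} [Field F]

section Blocks

variable {κ κ' : Type} [Fintype κ] [DecidableEq κ] [Fintype κ'] [DecidableEq κ']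

theorem exists_sumForm (Q₁ : QuadraticForm F (κ → F)) (Q₂ : QuadraticForm F (κ' → F)) :
    ∃ Q : QuadraticForm F (κ ⊕ κ' → F), ∀ v, Q v = Q₁ (v ∘ Sum.inl) + Q₂ (v ∘ Sum.inr) :=
  ⟨Q₁.comp (LinearMap.funLeft F F Sum.inl) + Q₂.comp (LinearMap.funLeft F F Sum.inr), fun _ => rfl⟩

variable {Q₁ : QuadraticForm F (κ → F)} {Q₂ : QuadraticForm F (κ' → F)} {Q : QuadraticForm F (κ ⊕ κ' → F)}
variable (hQ : ∀ v, Q v = Q₁ (v ∘ Sum.inl) + Q₂ (v ∘ Sum.inr))
include hQ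

theorem polar_sumForm (u v : κ ⊕ κ' → F) :
    polar Q u v = polar Q₁ (u ∘ Sum.inl) (v ∘ Sum.inl) + polar Q₂ (u ∘ Sum.inr) (v ∘ Sum.inr) := by
  simp only [QuadraticMap.polar, hQ]
  rw [show (u + v) ∘ Sum.inl = u ∘ Sum.inl + v ∘ Sum.inl from rfl,
    show (u + v) ∘ Sum.inr = u ∘ Sum.inr + v ∘ Sum.inr from rfl]
  ring

theorem sep_sumForm (h₁ : ∀ x, (∀ y, polar Q₁ x y = 0) → x = 0) (h₂ : ∀ x, (∀ y, polar Q₂ x y = 0) → x = 0)
    (x : κ ⊕ κ' → F) (hx : ∀ y, polar Q x y = 0) : x = 0 := by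
  have e1 := h₁ (x ∘ Sum.inl) fun y => by
    have := hx (Sum.elim y 0)
    rwa [polar_sumForm hQ, Sum.elim_comp_inl, Sum.elim_comp_inr, QuadraticMap.polar_zero_right, add_zero] at this
  have e2 := h₂ (x ∘ Sum.inr) fun y => by
    have := hx (Sum.elim 0 y)
    rwa [polar_sumForm hQ, Sum.elim_comp_inl, Sum.elim_comp_inr, QuadraticMap.polar_zero_right, zero_add] at this
  funext k
  rcases k with i | i
  exacts [congrFun e1 i, congrFun e2 i]

theorem exists_block_isometry (g₁ : Cfsg.isometryGroup F (⇑Q₁)) (g₂ : Cfsg.isometryGroup F (⇑Q₂)) :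
    ∃ g : Cfsg.isometryGroup F (⇑Q), g.1.1 = Matrix.fromBlocks g₁.1.1 0 0 g₂.1.1 := by
  have hu : IsUnit (Matrix.fromBlocks g₁.1.1 0 0 g₂.1.1) :=
    IsUnit.of_mul_eq_one (Matrix.fromBlocks (g₁.1⁻¹).1 0 0 (g₂.1⁻¹).1) (by
      rw [Matrix.fromBlocks_multiply]; simp)
  refine ⟨⟨hu.unit, (mem_isometryGroup_iff _ _).2 fun v => ?_⟩, rfl⟩
  rw [IsUnit.unit_spec, hQ, hQ, Matrix.fromBlocks_mulVec, Sum.elim_comp_inl, Sum.elim_comp_inr, zero_mulVec,
    zero_mulVec, add_zero, zero_add, (mem_isometryGroup_iff _ _).1 g₁.2, (mem_isometryGroup_iff _ _).1 g₂.2]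

theorem reflectionMatrix_inl (v : κ → F) :
    Cfsg.reflectionMatrix (⇑Q) (Sum.elim v 0) = Matrix.fromBlocks (Cfsg.reflectionMatrix (⇑Q₁) v) 0 0 1 := by
  refine Matrix.ext_iff_mulVec.2 fun x => ?_
  rw [reflectionMatrix_mulVec, Matrix.fromBlocks_mulVec, reflectionMatrix_mulVec, zero_mulVec, zero_mulVec,
    add_zero, zero_add, one_mulVec, hQ, polar_sumForm hQ, Sum.elim_comp_inl, Sum.elim_comp_inr,
    QuadraticMap.map_zero, QuadraticMap.polar_zero_left, add_zero, add_zero]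
  funext k
  rcases k with i | i <;> simp

theorem spinorHom_block (h₁ : ∀ x, (∀ y, polar Q₁ x y = 0) → x = 0) (hsep : ∀ x, (∀ y, polar Q x y = 0) → x = 0)
    (hex₁ : (∃ t : F, t ≠ 0 ∧ t ≠ 1) ∨ Module.finrank F (κ → F) ≠ 4)
    (hex : (∃ t : F, t ≠ 0 ∧ t ≠ 1) ∨ Module.finrank F (κ ⊕ κ' → F) ≠ 4)
    (g₁ : Cfsg.isometryGroup F (⇑Q₁)) (g : Cfsg.isometryGroup F (⇑Q))
    (hg : g.1.1 = Matrix.fromBlocks g₁.1.1 0 0 1) :
    spinorHom Q hsep hex g = spinorHom Q₁ h₁ hex₁ g₁ := by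
  obtain ⟨vs, hvs, hgv⟩ := exists_reflection_word h₁ hex₁ g₁
  have hval : ∀ v : κ → F, Q (Sum.elim v 0) = Q₁ v := fun v => by
    rw [hQ, Sum.elim_comp_inl, Sum.elim_comp_inr, QuadraticMap.map_zero, add_zero]
  have hmul : ∀ L : List (κ → F),
      ((L.map fun v => (Sum.elim v 0 : κ ⊕ κ' → F)).map fun v => Cfsg.reflectionMatrix (⇑Q) v).prod =
        Matrix.fromBlocks (L.map fun v => Cfsg.reflectionMatrix (⇑Q₁) v).prod 0 0 1 := by
    intro L
    induction L with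
    | nil => simp
    | cons v L ih =>
      simp only [List.map_cons, List.prod_cons, ih, reflectionMatrix_inl hQ, Matrix.fromBlocks_multiply]
      simp
  rw [spinorHom_reflection_word h₁ hex₁ vs hvs g₁ hgv,
    spinorHom_reflection_word hsep hex (vs.map fun v => (Sum.elim v 0 : κ ⊕ κ' → F))
      (fun w hw => by
        obtain ⟨v, hv, rfl⟩ := List.mem_map.1 hw
        rw [hval]; exact hvs v hv) g (by rw [hg, hgv, hmul])]
  refine Prod.ext (by simp) ?_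
  show sqClass _ = sqClass _
  rw [sqClass, sqClass]
  exact congrArg (sqProj F) (Units.ext (by simp [List.map_map, Function.comp_def, hval]))

omit hQ in
theorem block_one_mem_omega_iff [Finite F] (h₁ : Q₁.polarBilin.Nondegenerate) (h₂ : Q₂.polarBilin.Nondegenerate)
    (hex₁ : (∃ t : F, t ≠ 0 ∧ t ≠ 1) ∨ Module.finrank F (κ → F) ≠ 4)
    (hex : (∃ t : F, t ≠ 0 ∧ t ≠ 1) ∨ Module.finrank F (κ ⊕ κ' → F) ≠ 4)
    (g₁ : Cfsg.isometryGroup F (⇑Q₁)) :
    (∃ g : Cfsg.isometryGroup F (fun v : κ ⊕ κ' → F => Q₁ (v ∘ Sum.inl) + Q₂ (v ∘ Sum.inr)),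
      g ∈ Cfsg.Omega F (fun v : κ ⊕ κ' → F => Q₁ (v ∘ Sum.inl) + Q₂ (v ∘ Sum.inr)) ∧
        g.1.1 = Matrix.fromBlocks g₁.1.1 0 0 1) ↔ g₁ ∈ Cfsg.Omega F (⇑Q₁) := by
  obtain ⟨Q, hQ⟩ := exists_sumForm Q₁ Q₂
  rw [← funext hQ]
  have hs₁ := sep_of_nondegenerate Q₁ h₁
  have hsep := sep_sumForm hQ hs₁ (sep_of_nondegenerate Q₂ h₂)
  obtain ⟨t, ht⟩ := exists_block_isometry hQ g₁ 1
  have ht' : t.1.1 = Matrix.fromBlocks g₁.1.1 0 0 1 := by rw [ht]; rfl
  rw [isometry_iff_eq_matrix (t := t) ht', omega_eq_ker_spinorHom Q hsep hex,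
    omega_eq_ker_spinorHom Q₁ hs₁ hex₁, MonoidHom.mem_ker, MonoidHom.mem_ker,
    spinorHom_block hQ hs₁ hsep hex₁ hex g₁ t ht']

end Blocks

theorem exists_diag_mem_omega [Finite F] {κ : Type} [Fintype κ] [DecidableEq κ] (Q₁ : QuadraticForm F (κ → F))
    (h₁ : Q₁.polarBilin.Nondegenerate) (hex : (∃ t : F, t ≠ 0 ∧ t ≠ 1) ∨ Module.finrank F (κ ⊕ κ → F) ≠ 4)
    (g₁ : Cfsg.isometryGroup F (⇑Q₁)) :
    ∃ x : Cfsg.isometryGroup F (fun v : κ ⊕ κ → F => Q₁ (v ∘ Sum.inl) + Q₁ (v ∘ Sum.inr)),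
      x ∈ Cfsg.Omega F (fun v : κ ⊕ κ → F => Q₁ (v ∘ Sum.inl) + Q₁ (v ∘ Sum.inr)) ∧
        x.1.1 = Matrix.fromBlocks g₁.1.1 0 0 g₁.1.1 := by
  obtain ⟨Q, hQ⟩ := exists_sumForm Q₁ Q₁
  rw [← funext hQ]
  have hs₁ := sep_of_nondegenerate Q₁ h₁
  have hsep := sep_sumForm hQ hs₁ hs₁
  obtain ⟨a, ha⟩ := exists_block_isometry hQ g₁ 1
  obtain ⟨b, hb⟩ := exists_block_isometry hQ 1 g₁
  obtain ⟨s, hs⟩ : ∃ s : Cfsg.isometryGroup F (⇑Q), ∀ v k, (s.1.1 *ᵥ v) k = v (Sum.swap k) := by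
    refine ⟨orEquiv _ ⟨LinearEquiv.funCongrLeft F F (Equiv.sumComm κ κ), fun v => ?_⟩,
      fun v k => by rw [orEquiv_mulVec]; rfl⟩
    rw [hQ, hQ, add_comm]
    rfl
  have hconj : s * a = b * s := by
    refine Subtype.ext (Units.ext (Matrix.ext_iff_mulVec.2 fun v => funext fun k => ?_))
    rw [Subgroup.coe_mul, Units.val_mul, Subgroup.coe_mul, Units.val_mul, ← mulVec_mulVec, ← mulVec_mulVec, hs,
      ha, hb, Matrix.fromBlocks_mulVec, Matrix.fromBlocks_mulVec]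
    rcases k with i | i <;> simp [Function.comp_def, hs]
  refine ⟨a * b, ?_, by rw [Subgroup.coe_mul, Units.val_mul, ha, hb, Matrix.fromBlocks_multiply]; simp⟩
  rw [omega_eq_ker_spinorHom Q hsep hex, MonoidHom.mem_ker, map_mul]
  have h2 := congrArg (spinorHom Q hsep hex) hconj
  rw [map_mul, map_mul, mul_comm _ (spinorHom Q hsep hex s)] at h2
  rw [← mul_left_cancel h2]
  have : ∀ z : Multiplicative (ZMod 2), z * z = 1 := by decide
  exact Prod.ext (this _) (sqClass_mul_self _)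

section Subspaces

variable {ι : Type} [Fintype ι] [DecidableEq ι] {Q : QuadraticForm F (ι → F)}

/-- `Ω` is transitive on isometric non-degenerate subspaces. -/
theorem exists_omega_map_nondeg [Fintype F] (hQ : Q.polarBilin.Nondegenerate) (hn : 3 ≤ Fintype.card ι)
    (hex : (∃ t : F, t ≠ 0 ∧ t ≠ 1) ∨ Module.finrank F (ι → F) ≠ 4) {U W : Submodule F (ι → F)}
    (hW : W ⊓ LinearMap.BilinForm.orthogonal Q.polarBilin W = ⊥) (e : U ≃ₗ[F] W)
    (he : ∀ u : U, Q (e u : ι → F) = Q (u : ι → F)) :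
    ∃ g : Cfsg.isometryGroup F (⇑Q), g ∈ Cfsg.Omega F (⇑Q) ∧ Cfsg.imageSubmodule g.1.1 U = W := by
  have hsep := sep_of_nondegenerate Q hQ
  obtain ⟨g₀, hg₀, hgU⟩ := witt_quadratic Q hsep U (W.subtype ∘ₗ e.toLinearMap)
    (Subtype.val_injective.comp e.injective) he
  obtain ⟨g, hg⟩ : ∃ g : Cfsg.isometryGroup F (⇑Q), Cfsg.imageSubmodule g.1.1 U = W := by
    refine ⟨orEquiv Q ⟨g₀, hg₀⟩, Submodule.ext fun x => ⟨?_, fun hx => ⟨e.symm ⟨x, hx⟩, (e.symm ⟨x, hx⟩).2, ?_⟩⟩⟩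
    · rintro ⟨y, hy, rfl⟩
      rw [Matrix.toLin'_apply, orEquiv_mulVec]
      exact (hgU ⟨y, hy⟩).symm ▸ (e ⟨y, hy⟩).2
    · rw [Matrix.toLin'_apply, orEquiv_mulVec]
      exact (hgU _).trans (congrArg Subtype.val (e.apply_symm_apply _))
  -- a part of dimension at least two whose reflections stabilise `W`
  obtain ⟨X, hX2, hXnd, hXW⟩ : ∃ X : Submodule F (ι → F), 2 ≤ Module.finrank F X ∧
      (∀ x ∈ X, (∀ y ∈ X, polar Q x y = 0) → x = 0) ∧
      ∀ v ∈ X, ∀ w ∈ W, polar Q v w • v ∈ W := by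
    rcases le_or_gt 2 (Module.finrank F W) with h | h
    · refine ⟨W, h, fun x hx hxy => ?_, fun v hv w _ => W.smul_mem _ hv⟩
      refine (Submodule.mem_bot F).1 (hW ▸ Submodule.mem_inf.2 ⟨hx, fun y hy => ?_⟩)
      show polar Q y x = 0
      rw [QuadraticMap.polar_comm]; exact hxy y hy
    · refine ⟨LinearMap.BilinForm.orthogonal Q.polarBilin W, ?_, fun x hx hxy => ?_, fun v hv w hw => ?_⟩
      · rw [LinearMap.BilinForm.finrank_orthogonal hQ, Module.finrank_fintype_fun_eq_card]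
        omega
      · have h1 : x ∈ LinearMap.BilinForm.orthogonal Q.polarBilin (LinearMap.BilinForm.orthogonal Q.polarBilin W) :=
          fun y hy => by
            show polar Q y x = 0
            rw [QuadraticMap.polar_comm]; exact hxy y hy
        rw [LinearMap.BilinForm.orthogonal_orthogonal hQ
          (fun a b h => (QuadraticMap.polar_comm (⇑Q) b a).trans h)] at h1
        exact (Submodule.mem_bot F).1 (hW ▸ Submodule.mem_inf.2 ⟨h1, hx⟩)
      · rw [QuadraticMap.polar_comm, show polar Q w v = 0 from hv w hw, zero_smul]; exact W.zero_mem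
  have hfix : ∀ v (hv : Q v ≠ 0), v ∈ X → ∀ w ∈ W, (reflIsom Q v hv).1.1 *ᵥ w ∈ W := fun v hv hvX w hw => by
    rw [reflIsom_mulVec, mul_smul]
    exact sub_mem hw (W.smul_mem _ (hXW v hvX w hw))
  have hXsep : ∀ x : X, (∀ y, polar (Q.comp X.subtype) x y = 0) → x = 0 := fun x hx =>
    Subtype.ext (hXnd x x.2 fun y hy => hx ⟨y, hy⟩)
  haveI : Nontrivial X := Module.nontrivial_of_finrank_pos (R := F) (by omega)
  have hval : ∀ c : SqClass F, ∃ (v : ι → F) (hv : Q v ≠ 0), v ∈ X ∧ sqClass hv = c := by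
    intro c
    by_cases h2 : (2 : F) = 0
    · obtain ⟨v, hv⟩ := exists_anisotropic (Q.comp X.subtype) hXsep
      exact ⟨v, hv, v.2, (sqClass_eq_one_of_two_eq_zero h2 _).trans (sqClass_eq_one_of_two_eq_zero h2 _).symm⟩
    · obtain ⟨a, rfl⟩ := sqProj_surjective F c
      obtain ⟨v, hv⟩ := exists_value (Q.comp X.subtype) h2 hXsep hX2 a a.ne_zero
      have hv0 : Q v.1 ≠ 0 := by rw [show Q v.1 = a from hv]; exact a.ne_zero
      exact ⟨v, hv0, v.2, congrArg (sqProj F) (Units.ext hv)⟩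
  obtain ⟨s, hsW, hs⟩ : ∃ s : Cfsg.isometryGroup F (⇑Q), (∀ w ∈ W, s.1.1 *ᵥ w ∈ W) ∧
      spinorHom Q hsep hex s = spinorHom Q hsep hex g := by
    obtain ⟨v, hv, hvX, hvc⟩ := hval (spinorHom Q hsep hex g).2
    rcases zmodTwo_cases (spinorHom Q hsep hex g).1 with h | h
    · obtain ⟨u, hu, huX, huc⟩ := hval 1
      refine ⟨reflIsom Q u hu * reflIsom Q v hv, fun w hw => ?_, ?_⟩
      · rw [Subgroup.coe_mul, Units.val_mul, ← mulVec_mulVec]
        exact hfix u hu huX _ (hfix v hv hvX w hw)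
      · rw [map_mul, spinorHom_reflIsom, spinorHom_reflIsom, huc, hvc]
        exact Prod.ext (by rw [h]; exact zmodTwo_ofAdd_mul) (one_mul _)
    · exact ⟨reflIsom Q v hv, hfix v hv hvX, by rw [spinorHom_reflIsom, hvc]; exact Prod.ext h.symm rfl⟩
  refine ⟨s * g, ?_, ?_⟩
  · rw [omega_eq_ker_spinorHom Q hsep hex, MonoidHom.mem_ker, map_mul, hs]
    have : ∀ z : Multiplicative (ZMod 2), z * z = 1 := by decide
    exact Prod.ext (this _) (sqClass_mul_self _)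
  · rw [Subgroup.coe_mul, Units.val_mul, imageSubmodule_mul, hg]
    refine Submodule.eq_of_le_of_finrank_le (fun x hx => ?_) ?_
    · obtain ⟨w, hw, rfl⟩ := hx
      rw [Matrix.toLin'_apply]; exact hsW w hw
    · rw [Cfsg.imageSubmodule, ← (Submodule.equivMapOfInjective _ (toLin'_gl_injective s.1) _).finrank_eq]

end Subspaces

end CfsgLib.KnownC
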