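import Cfsg.Agent.Lib.KnownB.SpOrthOmega
import Cfsg.Agent.Lib.KnownC.OrthBlocks
import Cfsg.Agent.Lib.MaxSub.IsoNDJordan
import Cfsg.Agent.Lib.Classical.OrthOmega

/-!
Isometries of quadratic spaces in odd characteristic: transfer of the commutator subgroup along isometries and
non-degenerate subspaces, the decomposition given by a semisimple element, unipotent elements with long chains.
-/

set_option autoImplicit false
set_option linter.unusedSectionVars false

namespace CfsgLib.KnownC.OrthNine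

open CfsgLib.Geom CfsgLib.Classical CfsgLib.KnownB.SpOrth
open QuadraticMap (polar)

universe u v w

variable {F : Type u} [Field F]

section Abstract

variable {V : Type v} [AddCommGroup V] [Module F V] {W : Type w} [AddCommGroup W] [Module F W]

theorem map_comm {G H : Type*} [Group G] [Group H] (f : G →* H) {g : G} (hg : g ∈ commutator G) :
    f g ∈ commutator H := by
  have h : (commutator G).map f ≤ commutator H := by
    rw [commutator_def, Subgroup.map_commutator]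
    exact Subgroup.commutator_mono le_top le_top
  exact h ⟨g, hg, rfl⟩

/-- Isometries act as isomorphisms on the isometry groups. -/
theorem exists_conj {Q : QuadraticForm F V} {R : QuadraticForm F W} (e : V ≃ₗ[F] W)
    (he : ∀ v, R (e v) = Q v) :
    ∃ ψ : quadIsoms Q ≃* quadIsoms R, ∀ g v, (ψ g).1 (e v) = e (g.1 v) := by
  have hmem : ∀ g : quadIsoms Q, e.symm.trans (g.1.trans e) ∈ quadIsoms R := by
    intro g v
    obtain ⟨w, rfl⟩ := e.surjective v
    simp only [LinearEquiv.trans_apply, e.symm_apply_apply, he]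
    exact g.2 w
  have hmem' : ∀ g : quadIsoms R, e.trans (g.1.trans e.symm) ∈ quadIsoms Q := by
    intro g v
    rw [← he, ← he]
    simp only [LinearEquiv.trans_apply, e.apply_symm_apply]
    exact g.2 (e v)
  exact ⟨{ toFun := fun g => ⟨_, hmem g⟩
           invFun := fun g => ⟨_, hmem' g⟩
           left_inv := fun g => Subtype.ext (LinearEquiv.ext fun v => by simp)
           right_inv := fun g => Subtype.ext (LinearEquiv.ext fun v => by simp)
           map_mul' := fun g h => Subtype.ext (LinearEquiv.ext fun v => by simp) }, fun g v => by simp⟩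

theorem pow_eq_one_iff {Q : QuadraticForm F V} (g : quadIsoms Q) (n : ℕ) :
    g ^ n = 1 ↔ ∀ v, (g ^ n).1 v = v := by
  constructor
  · intro h v; rw [h]; rfl
  · exact fun h => Subtype.ext (LinearEquiv.ext h)

theorem pow_intertwine {Q : QuadraticForm F V} {R : QuadraticForm F W} {a : quadIsoms Q} {g : quadIsoms R}
    (φ : V →ₗ[F] W) (h : ∀ x, g.1 (φ x) = φ (a.1 x)) (n : ℕ) (x : V) : (g ^ n).1 (φ x) = φ ((a ^ n).1 x) := by
  induction n generalizing x with
  | zero => simp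
  | succ n ih =>
    rw [pow_succ, pow_succ]
    show (g ^ n).1 (g.1 (φ x)) = φ ((a ^ n).1 (a.1 x))
    rw [h, ih]

theorem polar_map {Q : QuadraticForm F V} {R : QuadraticForm F W} (φ : V →ₗ[F] W) (h : ∀ x, R (φ x) = Q x)
    (x y : V) : polar R (φ x) (φ y) = polar Q x y := by
  simp only [QuadraticMap.polar, ← map_add, h]

theorem fin_isometry [FiniteDimensional F V] (Q : QuadraticForm F V) {n : ℕ} (hn : Module.finrank F V = n) :
    ∃ (Q' : QuadraticForm F (Fin n → F)) (e : (Fin n → F) ≃ₗ[F] V), ∀ v, Q (e v) = Q' v :=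
  ⟨Q.comp ((Module.finBasisOfFinrankEq F V hn).equivFun.symm : (Fin n → F) ≃ₗ[F] V).toLinearMap,
    (Module.finBasisOfFinrankEq F V hn).equivFun.symm, fun _ => rfl⟩

/-- An orthogonal decomposition given by two isometric embeddings. -/
structure Split (Q : QuadraticForm F V) {U U' : Type*} [AddCommGroup U] [Module F U] [AddCommGroup U']
    [Module F U'] (φ : U →ₗ[F] V) (ψ : U' →ₗ[F] V) : Prop where
  orth : ∀ x y, polar Q (φ x) (ψ y) = 0
  span : ∀ v, ∃ x y, v = φ x + ψ y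
  sep₁ : ∀ x, (∀ y, polar (Q.comp φ) x y = 0) → x = 0
  sep₂ : ∀ x, (∀ y, polar (Q.comp ψ) x y = 0) → x = 0
  inj₁ : Function.Injective φ
  inj₂ : Function.Injective ψ

theorem Split.ext_eq {Q : QuadraticForm F V} {U U' : Type*} [AddCommGroup U] [Module F U] [AddCommGroup U']
    [Module F U'] {φ : U →ₗ[F] V} {ψ : U' →ₗ[F] V} (S : Split Q φ ψ) {g h : quadIsoms Q}
    (h₁ : ∀ x, g.1 (φ x) = h.1 (φ x)) (h₂ : ∀ y, g.1 (ψ y) = h.1 (ψ y)) : g = h :=
  Subtype.ext (LinearEquiv.ext fun v => by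
    obtain ⟨x, y, rfl⟩ := S.span v
    rw [map_add, map_add, h₁, h₂])

theorem Split.pow_eq_one {Q : QuadraticForm F V} {U U' : Type*} [AddCommGroup U] [Module F U] [AddCommGroup U']
    [Module F U'] {φ : U →ₗ[F] V} {ψ : U' →ₗ[F] V} (S : Split Q φ ψ) {g : quadIsoms Q}
    {a : quadIsoms (Q.comp φ)} {b : quadIsoms (Q.comp ψ)} (h₁ : ∀ x, g.1 (φ x) = φ (a.1 x))
    (h₂ : ∀ y, g.1 (ψ y) = ψ (b.1 y)) (n : ℕ) : g ^ n = 1 ↔ a ^ n = 1 ∧ b ^ n = 1 := by
  simp only [OrthNine.pow_eq_one_iff]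
  constructor
  · intro h
    exact ⟨fun x => S.inj₁ (by rw [← pow_intertwine φ h₁, h]), fun y => S.inj₂ (by rw [← pow_intertwine ψ h₂, h])⟩
  · rintro ⟨ha, hb⟩ v
    obtain ⟨x, y, rfl⟩ := S.span v
    rw [map_add, pow_intertwine φ h₁, pow_intertwine ψ h₂, ha, hb]

theorem Split.orderOf_eq {Q : QuadraticForm F V} {U U' : Type*} [AddCommGroup U] [Module F U] [AddCommGroup U']
    [Module F U'] {φ : U →ₗ[F] V} {ψ : U' →ₗ[F] V} (S : Split Q φ ψ) {g : quadIsoms Q}
    {a : quadIsoms (Q.comp φ)} {b : quadIsoms (Q.comp ψ)} (h₁ : ∀ x, g.1 (φ x) = φ (a.1 x))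
    (h₂ : ∀ y, g.1 (ψ y) = ψ (b.1 y)) : orderOf g = Nat.lcm (orderOf a) (orderOf b) := by
  apply Nat.dvd_antisymm
  · exact orderOf_dvd_of_pow_eq_one ((S.pow_eq_one h₁ h₂ _).2 ⟨orderOf_dvd_iff_pow_eq_one.1 (Nat.dvd_lcm_left _ _),
      orderOf_dvd_iff_pow_eq_one.1 (Nat.dvd_lcm_right _ _)⟩)
  · obtain ⟨ha, hb⟩ := (S.pow_eq_one h₁ h₂ _).1 (pow_orderOf_eq_one g)
    exact Nat.lcm_dvd (orderOf_dvd_of_pow_eq_one ha) (orderOf_dvd_of_pow_eq_one hb)

/-- Combine isometries of the two parts. -/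
theorem Split.exists_glue [FiniteDimensional F V] {Q : QuadraticForm F V} {U U' : Type*} [AddCommGroup U]
    [Module F U] [FiniteDimensional F U] [AddCommGroup U'] [Module F U'] [FiniteDimensional F U']
    {φ : U →ₗ[F] V} {ψ : U' →ₗ[F] V} (S : Split Q φ ψ) :
    ∃ (E₁ : quadIsoms (Q.comp φ) →* quadIsoms Q) (E₂ : quadIsoms (Q.comp ψ) →* quadIsoms Q),
      ∀ a b, (∀ x, (E₁ a * E₂ b).1 (φ x) = φ (a.1 x)) ∧ (∀ y, (E₁ a * E₂ b).1 (ψ y) = ψ (b.1 y)) := by
  obtain ⟨E₁, -, hφ, hψ, -⟩ := exists_quad_ext (Q.comp φ) S.sep₁ Q φ (fun _ => rfl)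
  obtain ⟨E₂, -, hψ', hφ', -⟩ := exists_quad_ext (Q.comp ψ) S.sep₂ Q ψ (fun _ => rfl)
  refine ⟨E₁, E₂, fun a b => ⟨fun x => ?_, fun y => ?_⟩⟩
  · show (E₁ a).1 ((E₂ b).1 (φ x)) = _
    rw [hφ' b _ (fun u => by rw [QuadraticMap.polar_comm]; exact S.orth x u), hφ]
  · show (E₁ a).1 ((E₂ b).1 (ψ y)) = _
    rw [hψ', hψ a _ (fun u => S.orth u _)]

end Abstract

section Coord

variable [Fintype F] {ι : Type} [Fintype ι] [DecidableEq ι] {Q : QuadraticForm F (ι → F)}

theorem mem_comm_iff (g : quadIsoms Q) : g ∈ commutator (quadIsoms Q) ↔ InOmega g := by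
  have h : (commutator (quadIsoms Q)).map (orEquiv Q).toMonoidHom = Cfsg.Omega F (⇑Q) := by
    show _ = commutator _
    rw [commutator_def, Subgroup.map_commutator, Subgroup.map_top_of_surjective (orEquiv Q).toMonoidHom
      (orEquiv Q).surjective, ← commutator_def]
  show g ∈ _ ↔ orEquiv Q g ∈ _
  rw [← h]
  exact (Subgroup.mem_map_iff_mem (f := (orEquiv Q).toMonoidHom) (orEquiv Q).injective).symm

theorem mem_of_odd (hQ : ∀ x, (∀ y, polar Q x y = 0) → x = 0) (h2 : (2 : F) ≠ 0) {g : quadIsoms Q}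
    (h : Odd (orderOf g)) : g ∈ commutator (quadIsoms Q) :=
  (mem_comm_iff g).2 (inOmega_odd hQ h2 h)

theorem mem_iff_spinor (hQ : ∀ x, (∀ y, polar Q x y = 0) → x = 0) (h2 : (2 : F) ≠ 0) (g : quadIsoms Q) :
    g ∈ commutator (quadIsoms Q) ↔ spinorHom Q hQ (exGen_of_odd h2) (orEquiv Q g) = 1 := by
  rw [mem_comm_iff, ← MonoidHom.mem_ker, ← omega_eq_ker_spinorHom Q hQ (exGen_of_odd h2)]
  rfl

theorem orEquiv_val (g : quadIsoms Q) : (orEquiv Q g).1.1 = LinearMap.toMatrix' g.1.toLinearMap := by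
  refine Matrix.ext_iff_mulVec.2 fun x => ?_
  rw [LinearMap.toMatrix'_mulVec]
  exact orEquiv_mulVec Q g x

/-- An isometry of a non-degenerate subspace lying in the commutator subgroup after extension by the
identity already lies in the commutator subgroup. -/
theorem ext_mem {κ κ' : Type} [Fintype κ] [DecidableEq κ] [Fintype κ'] [DecidableEq κ']
    (h2 : (2 : F) ≠ 0) {φ : (κ → F) →ₗ[F] (ι → F)} {ψ : (κ' → F) →ₗ[F] (ι → F)} (S : Split Q φ ψ)
    {a : quadIsoms (Q.comp φ)} {g : quadIsoms Q} (hg : g ∈ commutator (quadIsoms Q))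
    (h₁ : ∀ x, g.1 (φ x) = φ (a.1 x)) (hw : ∀ y, g.1 (ψ y) = ψ y) :
    a ∈ commutator (quadIsoms (Q.comp φ)) := by
  obtain ⟨Q', hQ'⟩ := exists_sumForm (Q.comp φ) (Q.comp ψ)
  let T₀ : (κ ⊕ κ' → F) →ₗ[F] (ι → F) :=
    φ ∘ₗ LinearMap.funLeft F F Sum.inl + ψ ∘ₗ LinearMap.funLeft F F Sum.inr
  have hT₀ : ∀ v, T₀ v = φ (v ∘ Sum.inl) + ψ (v ∘ Sum.inr) := fun v => rfl
  have hQT : ∀ v, Q (T₀ v) = Q' v := fun v => by
    rw [hT₀, QuadraticMap.map_add Q, S.orth, add_zero, hQ']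
    rfl
  have hbij : Function.Bijective T₀ := by
    refine ⟨OrthType.injective_of_preserving (sep_sumForm hQ' S.sep₁ S.sep₂) T₀ hQT, fun v => ?_⟩
    obtain ⟨x, y, rfl⟩ := S.span v
    exact ⟨Sum.elim x y, by rw [hT₀, Sum.elim_comp_inl, Sum.elim_comp_inr]⟩
  let T := LinearEquiv.ofBijective T₀ hbij
  obtain ⟨C, hC⟩ := exists_conj (Q := Q') (R := Q) T hQT
  obtain ⟨g', hg'⟩ : ∃ g', C g' = g := C.surjective g
  have hg'm : g' ∈ commutator (quadIsoms Q') := by
    have h := map_comm C.symm.toMonoidHom hg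
    rwa [← hg', MulEquiv.coe_toMonoidHom, C.symm_apply_apply] at h
  have hval : ∀ v, g'.1 v = Sum.elim (a.1 (v ∘ Sum.inl)) (v ∘ Sum.inr) := by
    intro v
    refine T.injective ?_
    rw [← hC, hg']
    show g.1 (T₀ v) = T₀ _
    rw [hT₀, hT₀, map_add, h₁, hw, Sum.elim_comp_inl, Sum.elim_comp_inr]
  rw [mem_iff_spinor (sep_sumForm hQ' S.sep₁ S.sep₂) h2] at hg'm
  rw [mem_iff_spinor S.sep₁ h2, ← spinorHom_block hQ' S.sep₁ (sep_sumForm hQ' S.sep₁ S.sep₂)
    (exGen_of_odd h2) (exGen_of_odd h2) (orEquiv _ a) (orEquiv Q' g') ?_, hg'm]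
  refine Matrix.ext_iff_mulVec.2 fun x => ?_
  rw [orEquiv_mulVec, hval, Matrix.fromBlocks_mulVec, orEquiv_mulVec, Matrix.zero_mulVec, Matrix.zero_mulVec,
    Matrix.one_mulVec, add_zero, zero_add]

theorem comp_sep {U : Type*} [AddCommGroup U] [Module F U] (hQ : ∀ x, (∀ y, polar Q x y = 0) → x = 0)
    {φ : U →ₗ[F] (ι → F)} (hi : Function.Injective φ) (P : Submodule F (ι → F))
    (hP : ∀ v, ∃ x, ∃ w ∈ P, v = φ x + w) (horth : ∀ x, ∀ w ∈ P, polar Q (φ x) w = 0) (x : U)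
    (hx : ∀ y, polar (Q.comp φ) x y = 0) : x = 0 := by
  refine (injective_iff_map_eq_zero φ).1 hi x (hQ _ fun v => ?_)
  obtain ⟨y, w, hw, rfl⟩ := hP v
  rw [QuadraticMap.polar_add_right, horth x w hw, add_zero, polar_map (Q := Q.comp φ) (R := Q) φ (fun _ => rfl) x y, hx]

/-- The orthogonal complement of an embedded space. -/
theorem exists_perp_split {U : Type*} [AddCommGroup U] [Module F U] [FiniteDimensional F U]
    (hQ : ∀ x, (∀ y, polar Q x y = 0) → x = 0) (φ : U →ₗ[F] (ι → F))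
    (hs : ∀ x, (∀ y, polar (Q.comp φ) x y = 0) → x = 0) :
    ∃ r, Module.finrank F U + r = Fintype.card ι ∧ ∃ ψ : (Fin r → F) →ₗ[F] (ι → F), Split Q φ ψ := by
  have hi : Function.Injective φ := (injective_iff_map_eq_zero φ).2 fun v hv => hs v fun y => by
    rw [← polar_map φ (Q := Q.comp φ) (R := Q) (fun _ => rfl), hv, QuadraticMap.polar_zero_left]
  obtain ⟨π, hπB, hπ⟩ := exists_proj (Q.comp φ).polarBilin hs Q.polarBilin φ
    (fun x y => polar_map (Q := Q.comp φ) (R := Q) φ (fun _ => rfl) x y)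
  simp only [QuadraticMap.polarBilin_apply_apply] at hπB
  have horth : ∀ x, ∀ w ∈ LinearMap.ker π, polar Q (φ x) w = 0 := fun x w hw => by
    rw [QuadraticMap.polar_comm, hπB, LinearMap.mem_ker.1 hw, QuadraticMap.polar_zero_left]
  have hspan : ∀ v, v - φ (π v) ∈ LinearMap.ker π := fun v => by
    rw [LinearMap.mem_ker, map_sub, hπ, sub_self]
  have hdim : Module.finrank F U + Module.finrank F (LinearMap.ker π) = Fintype.card ι := by
    have h := LinearMap.finrank_range_add_finrank_ker π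
    rwa [LinearMap.range_eq_top.2 fun u => ⟨φ u, hπ u⟩, finrank_top, Module.finrank_fintype_fun_eq_card] at h
  let ψ : (Fin (Module.finrank F (LinearMap.ker π)) → F) →ₗ[F] (ι → F) :=
    (LinearMap.ker π).subtype ∘ₗ (Module.finBasis F (LinearMap.ker π)).equivFun.symm.toLinearMap
  have hψ : ∀ y, ψ y ∈ LinearMap.ker π := fun y => Subtype.coe_prop _
  have hψr : ∀ w ∈ LinearMap.ker π, ∃ y, ψ y = w := fun w hw =>
    ⟨(Module.finBasis F (LinearMap.ker π)).equivFun ⟨w, hw⟩, by simp [ψ]⟩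
  have hψi : Function.Injective ψ :=
    (LinearMap.ker π).injective_subtype.comp (LinearEquiv.injective _)
  refine ⟨_, hdim, ψ, fun x y => horth x _ (hψ y), fun v => ?_, hs, ?_, hi, hψi⟩
  · obtain ⟨y, hy⟩ := hψr _ (hspan v)
    exact ⟨π v, y, by rw [hy, add_sub_cancel]⟩
  · refine comp_sep hQ hψi (LinearMap.range φ) (fun v => ?_) ?_
    · obtain ⟨y, hy⟩ := hψr _ (hspan v)
      exact ⟨y, φ (π v), ⟨_, rfl⟩, by rw [hy, sub_add_cancel]⟩
    · rintro y _ ⟨x, rfl⟩
      rw [QuadraticMap.polar_comm]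
      exact horth x _ (hψ y)

/-- The decomposition of a semisimple element into fixed and moved part. -/
theorem exists_fix_split (hQ : ∀ x, (∀ y, polar Q x y = 0) → x = 0) (s : quadIsoms Q) {N : ℕ}
    (hs : s ^ N = 1) (hN : (N : F) ≠ 0) :
    ∃ (d r : ℕ) (φ : (Fin d → F) →ₗ[F] (ι → F)) (ψ : (Fin r → F) →ₗ[F] (ι → F)),
      d + r = Fintype.card ι ∧ Split Q φ ψ ∧ (∀ y, s.1 (ψ y) = ψ y) ∧ (∀ x, s.1 (φ x) = φ x → x = 0) ∧
      ∀ g : quadIsoms Q, Commute s g → ∃ (a : quadIsoms (Q.comp φ)) (b : quadIsoms (Q.comp ψ)),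
        (∀ x, g.1 (φ x) = φ (a.1 x)) ∧ ∀ y, g.1 (ψ y) = ψ (b.1 y) := by
  have hc := isCompl_fix_mov s.1 (N := N) (by
    rw [← Subgroup.coe_pow, hs]; rfl) hN
  have horth : ∀ w ∈ fixSub s.1, ∀ x ∈ movSub s.1, polar Q w x = 0 := by
    rintro w hw x ⟨y, rfl⟩
    rw [mem_fixSub] at hw
    rw [LinearMap.sub_apply, LinearEquiv.coe_coe, LinearMap.id_apply, QuadraticMap.polar_sub_right]
    nth_rw 1 [← hw]
    rw [polar_quadIsom s.2, sub_self]
  let bX := Module.finBasis F (movSub s.1)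
  let bW := Module.finBasis F (fixSub s.1)
  let φ : (Fin _ → F) →ₗ[F] (ι → F) := (movSub s.1).subtype ∘ₗ bX.equivFun.symm.toLinearMap
  let ψ : (Fin _ → F) →ₗ[F] (ι → F) := (fixSub s.1).subtype ∘ₗ bW.equivFun.symm.toLinearMap
  have hφ : ∀ x, φ x ∈ movSub s.1 := fun x => Subtype.coe_prop _
  have hψ : ∀ x, ψ x ∈ fixSub s.1 := fun x => Subtype.coe_prop _
  have hφr : ∀ w ∈ movSub s.1, ∃ x, φ x = w := fun w hw => ⟨bX.equivFun ⟨w, hw⟩, by simp [φ]⟩
  have hψr : ∀ w ∈ fixSub s.1, ∃ x, ψ x = w := fun w hw => ⟨bW.equivFun ⟨w, hw⟩, by simp [ψ]⟩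
  have hφi : Function.Injective φ := (movSub s.1).injective_subtype.comp (LinearEquiv.injective _)
  have hψi : Function.Injective ψ := (fixSub s.1).injective_subtype.comp (LinearEquiv.injective _)
  have hspan : ∀ v, ∃ x ∈ movSub s.1, ∃ w ∈ fixSub s.1, v = x + w := fun v => by
    have h : v ∈ movSub s.1 ⊔ fixSub s.1 := by rw [hc.symm.sup_eq_top]; trivial
    obtain ⟨x, hx, w, hw, h⟩ := Submodule.mem_sup.1 h
    exact ⟨x, hx, w, hw, h.symm⟩
  have S : Split Q φ ψ := by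
    refine ⟨fun x y => by rw [QuadraticMap.polar_comm]; exact horth _ (hψ y) _ (hφ x), fun v => ?_,
      comp_sep hQ hφi (fixSub s.1) (fun v => ?_) fun x w hw => ?_,
      comp_sep hQ hψi (movSub s.1) (fun v => ?_) fun x w hw => ?_, hφi, hψi⟩
    · obtain ⟨x, hx, w, hw, rfl⟩ := hspan v
      obtain ⟨a, rfl⟩ := hφr x hx
      obtain ⟨b, rfl⟩ := hψr w hw
      exact ⟨a, b, rfl⟩
    · obtain ⟨x, hx, w, hw, rfl⟩ := hspan v
      obtain ⟨a, rfl⟩ := hφr x hx
      exact ⟨a, w, hw, rfl⟩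
    · rw [QuadraticMap.polar_comm]; exact horth w hw _ (hφ x)
    · obtain ⟨x, hx, w, hw, rfl⟩ := hspan v
      obtain ⟨b, rfl⟩ := hψr w hw
      exact ⟨b, x, hx, add_comm _ _⟩
    · exact horth _ (hψ x) w hw
  refine ⟨_, _, φ, ψ, ?_, S, fun y => mem_fixSub.1 (hψ y), fun x hx => ?_, fun g hg => ?_⟩
  · rw [← Module.finrank_fintype_fun_eq_card (R := F) (η := ι),
      ← Submodule.finrank_add_eq_of_isCompl hc.symm]
  · refine (injective_iff_map_eq_zero φ).1 hφi x ?_
    exact Submodule.disjoint_def.1 hc.disjoint _ (mem_fixSub.2 hx) (hφ x)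
  · have hW : ∀ h : quadIsoms Q, Commute s h → ∀ w ∈ fixSub s.1, h.1 w ∈ fixSub s.1 := by
      intro h hh w hw
      rw [mem_fixSub] at hw ⊢
      rw [← comm_apply hh.symm, hw]
    have hM : ∀ h : quadIsoms Q, Commute s h → ∀ w ∈ movSub s.1, h.1 w ∈ movSub s.1 :=
      fun h hh w hw => mov_invariant hh hw
    have mk : ∀ (U : Submodule F (ι → F)) {n : ℕ} (b : Module.Basis (Fin n) F U),
        (∀ h : quadIsoms Q, Commute s h → ∀ w ∈ U, h.1 w ∈ U) →
        ∃ a : quadIsoms (Q.comp (U.subtype ∘ₗ b.equivFun.symm.toLinearMap)),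
          ∀ x, g.1 ((U.subtype ∘ₗ b.equivFun.symm.toLinearMap) x) =
            (U.subtype ∘ₗ b.equivFun.symm.toLinearMap) (a.1 x) := by
      intro U n b hU
      let R := resEquiv U g (hU g hg) (hU g⁻¹ hg.inv_right)
      refine ⟨⟨b.equivFun.symm.trans (R.trans b.equivFun), fun x => ?_⟩, fun x => ?_⟩
      · show Q ((U.subtype ∘ₗ b.equivFun.symm.toLinearMap) _) = Q _
        simp only [LinearMap.comp_apply, LinearEquiv.coe_coe, LinearEquiv.trans_apply,
          LinearEquiv.symm_apply_apply]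
        exact g.2 _
      · simp only [LinearMap.comp_apply, LinearEquiv.coe_coe, LinearEquiv.trans_apply,
          LinearEquiv.symm_apply_apply]
        rfl
    obtain ⟨a, ha⟩ := mk _ bX hM
    obtain ⟨b, hb⟩ := mk _ bW hW
    exact ⟨a, b, ha, hb⟩

/-- An isometry without fixed vectors of determinant one lives in even dimension. -/
theorem even_of_no_fixed (hQ : ∀ x, (∀ y, polar Q x y = 0) → x = 0) (h2 : (2 : F) ≠ 0) {g : quadIsoms Q}
    (hg : g ∈ commutator (quadIsoms Q)) (hfix : ∀ v, g.1 v = v → v = 0) : Even (Fintype.card ι) := by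
  classical
  set A := (orEquiv Q g).1.1 with hA
  let G : Matrix ι ι F := LinearMap.toMatrix₂' F Q.polarBilin
  have hG : ∀ x y, x ⬝ᵥ (G.mulVec y) = polar Q x y := fun x y => by
    rw [← Matrix.toLinearMap₂'_apply', Matrix.toLinearMap₂'_toMatrix']
    rfl
  have hinv : A.transpose * G * A = G := by
    refine Matrix.ext_iff_mulVec.2 fun y => dotProduct_eq _ _ fun x => ?_
    rw [dotProduct_comm, ← Matrix.mulVec_mulVec, ← Matrix.mulVec_mulVec, Matrix.dotProduct_mulVec,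
      Matrix.vecMul_transpose, hG, orEquiv_mulVec, orEquiv_mulVec, polar_quadIsom g.2, ← hG, dotProduct_comm]
  have hGdet : G.det ≠ 0 := by
    intro h
    obtain ⟨v, hv, hv0⟩ := Matrix.exists_mulVec_eq_zero_iff.2 h
    exact hv (hQ v fun y => by rw [QuadraticMap.polar_comm, ← hG, hv0, dotProduct_zero])
  have hdet : A.det = 1 := by
    have h := omega_le_special Q ((mem_comm_iff g).1 hg)
    exact congrArg Units.val h
  have hne : (A - 1).det ≠ 0 := by
    intro h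
    obtain ⟨v, hv, hv0⟩ := Matrix.exists_mulVec_eq_zero_iff.2 h
    rw [Matrix.sub_mulVec, Matrix.one_mulVec, sub_eq_zero, orEquiv_mulVec] at hv0
    exact hv (hfix v hv0)
  have h1 : (A - 1).transpose * G * A = -(G * (A - 1)) := by
    rw [Matrix.transpose_sub, Matrix.transpose_one, Matrix.sub_mul, Matrix.sub_mul, hinv, Matrix.one_mul,
      Matrix.mul_sub, Matrix.mul_one, neg_sub]
  have h3 := congrArg Matrix.det h1
  rw [Matrix.det_mul, Matrix.det_mul, Matrix.det_transpose, hdet, mul_one, Matrix.det_neg, Matrix.det_mul] at h3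
  by_contra ho
  rw [(Nat.not_even_iff_odd.1 ho).neg_one_pow] at h3
  exact mul_ne_zero h2 (mul_ne_zero hne hGdet) (by linear_combination h3)

/-- A unipotent isometry with a Jordan block as long as possible. -/
theorem exists_long_unip (hQ : ∀ x, (∀ y, polar Q x y = 0) → x = 0) (p : ℕ) [hp : Fact p.Prime] [CharP F p]
    (hp2 : p ≠ 2) {j : ℕ} (hj : (Odd (Fintype.card ι) ∧ j + 1 = Fintype.card ι) ∨
      (Even (Fintype.card ι) ∧ j + 2 = Fintype.card ι)) :
    ∃ (R : quadIsoms Q) (N : ℕ), R ^ p ^ N = 1 ∧ ((R.1.toLinearMap : Module.End F (ι → F)) - 1) ^ j ≠ 0 := by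
  have h2 : (2 : F) ≠ 0 := fun h => hp2 ((Nat.prime_dvd_prime_iff_eq hp.out Nat.prime_two).1
    ((CharP.cast_eq_zero_iff F p 2).1 (by exact_mod_cast h)))
  obtain ⟨μ, hpos, heven, hsum, hodd, htail⟩ : ∃ μ : Multiset ℕ, (∀ e ∈ μ, 0 < e) ∧
      (∀ e : ℕ, Even e → Even (μ.count e)) ∧ μ.sum = Fintype.card ι ∧ (∃ e ∈ μ, Odd e) ∧
      0 < MaxSub.IsoNDJordan.tail μ j := by
    rcases hj with ⟨ho, hj⟩ | ⟨he, hj⟩
    · refine ⟨{j + 1}, by simp, fun e he => ?_, by simpa using hj, ⟨j + 1, by simp, hj ▸ ho⟩,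
        by simp [MaxSub.IsoNDJordan.tail]⟩
      rcases eq_or_ne e (j + 1) with rfl | hne
      · exact absurd he (Nat.not_even_iff_odd.2 (hj ▸ ho))
      · simp [hne]
    · have hjo : Odd (j + 1) := by
        rw [← hj] at he
        exact (Nat.even_add_one.1 he |> Nat.not_even_iff_odd.1)
      refine ⟨(j + 1) ::ₘ {1}, by simp, fun e he' => ?_, by simp; omega, ⟨j + 1, by simp, hjo⟩,
        by simp [MaxSub.IsoNDJordan.tail]⟩
      have h1 : e ≠ j + 1 := fun h => Nat.not_even_iff_odd.2 hjo (h ▸ he')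
      have h3 : e ≠ 1 := fun h => by subst h; exact Nat.not_even_one he'
      simp [h1, h3]
  obtain ⟨T, hT, hrank⟩ := MaxSub.IsoNDJordan.exists_of_type h2 hQ hpos heven hsum hodd
  have hnil : (T - 1) ^ Fintype.card ι = 0 := by
    rw [← LinearMap.range_eq_bot, ← Submodule.finrank_eq_zero, hrank]
    exact MaxSub.IsoNDJordan.tail_eq_zero (p := Fintype.card ι) (fun e he => hsum ▸ Multiset.le_sum_of_mem he) le_rfl
  obtain ⟨N, hN⟩ : ∃ N, Fintype.card ι ≤ p ^ N := ⟨_, (Nat.lt_pow_self hp.out.one_lt).le⟩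
  have : CharP (Module.End F (ι → F)) p := by
    rcases isEmpty_or_nonempty ι with h | h
    · simp at hj
    · exact charP_of_injective_algebraMap (algebraMap F (Module.End F (ι → F))).injective p
  have hTN : T ^ p ^ N = 1 := by
    have h : (T - 1) ^ p ^ N = 0 := pow_eq_zero_of_le hN hnil
    rwa [sub_pow_char_pow_of_commute (p := p) N (Commute.one_right T), one_pow, sub_eq_zero] at h
  have hN0 : 0 < p ^ N := pow_pos hp.out.pos N
  let e : (ι → F) ≃ₗ[F] (ι → F) := LinearEquiv.ofLinearMap T (T ^ (p ^ N - 1))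
    (by rw [← Module.End.mul_eq_comp, ← pow_succ', Nat.sub_add_cancel hN0, hTN]; rfl)
    (by rw [← Module.End.mul_eq_comp, ← pow_succ, Nat.sub_add_cancel hN0, hTN]; rfl)
  refine ⟨⟨e, hT⟩, N, Subtype.ext (LinearEquiv.toLinearMap_injective ?_), fun h => ?_⟩
  · have hc : ∀ k : ℕ, ((e ^ k : (ι → F) ≃ₗ[F] (ι → F))).toLinearMap = T ^ k := by
      intro k
      induction k with
      | zero => rfl
      | succ k ih => rw [pow_succ, pow_succ, ← ih]; rfl
    rw [Subgroup.coe_pow, hc, hTN]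
    rfl
  · have h' := hrank j
    rw [show (T - 1) ^ j = 0 from h, LinearMap.range_zero, finrank_bot] at h'
    omega

end Coord

end CfsgLib.KnownC.OrthNine
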