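import Cfsg.Agent.Lib.KnownC.OrthNineUp
import Cfsg.Agent.Lib.KnownC.OrthPlusOmega
import Cfsg.Agent.Lib.KnownC.AutPOmegaEven
import Cfsg.Agent.Lib.KnownB.BCTorus
import Cfsg.Agent.Lib.Classical.OrthOrder

/-!
Torus elements of orders `q^c ± 1` with non-trivial spinor norm, their orthogonal sums, and the element orders
of `V ⋊ Ω₈⁻(q)` they give.
-/

set_option autoImplicit false
set_option linter.unusedSectionVars false

namespace CfsgLib.KnownC.OrthNine

open CfsgLib.Geom CfsgLib.Classical CfsgLib.KnownB.SpOrth CfsgLib.KnownC.OrthType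
open QuadraticMap (polar)
open Matrix

universe u

variable {F : Type u} [Field F] [Fintype F]

section Twist

variable {ι : Type} [Fintype ι] [DecidableEq ι]

/-- Determinant one, spinor norm a non-square. -/
def Twist {Q : QuadraticForm F (ι → F)} (a : quadIsoms Q) : Prop :=
  LinearMap.det (a.1.toLinearMap) = 1 ∧ a ∉ commutator (quadIsoms Q)

variable {Q : QuadraticForm F (ι → F)}

theorem Twist.spinor (hQ : ∀ x, (∀ y, polar Q x y = 0) → x = 0) (h2 : (2 : F) ≠ 0) (hn : 2 ≤ Fintype.card ι)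
    {a : quadIsoms Q} (ha : Twist a) :
    ∃ s, s ≠ 1 ∧ spinorHom Q hQ (exGen_of_odd h2) (orEquiv Q a) = (1, s) := by
  have h1 : (spinorHom Q hQ (exGen_of_odd h2) (orEquiv Q a)).1 = 1 := by
    rw [spinorHom_fst_eq_one_iff hQ h2 hn, orEquiv_val, LinearMap.det_toMatrix']
    exact ha.1
  refine ⟨_, fun h => ha.2 ?_, Prod.ext h1 rfl⟩
  rw [mem_iff_spinor hQ h2]
  exact Prod.ext h1 h

theorem Twist.sq (hQ : ∀ x, (∀ y, polar Q x y = 0) → x = 0) (h2 : (2 : F) ≠ 0) (a : quadIsoms Q) :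
    a * a ∈ commutator (quadIsoms Q) :=
  (mem_comm_iff _).2 (inOmega_sq hQ h2 a)

end Twist

section Sum

variable {κ κ' : Type} [Fintype κ] [DecidableEq κ] [Fintype κ'] [DecidableEq κ']
  {Q₁ : QuadraticForm F (κ → F)} {Q₂ : QuadraticForm F (κ' → F)} {Q : QuadraticForm F (κ ⊕ κ' → F)}

theorem reflectionMatrix_inr (hQ : ∀ v, Q v = Q₁ (v ∘ Sum.inl) + Q₂ (v ∘ Sum.inr)) (v : κ' → F) :
    Cfsg.reflectionMatrix (⇑Q) (Sum.elim 0 v) = Matrix.fromBlocks 1 0 0 (Cfsg.reflectionMatrix (⇑Q₂) v) := by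
  refine Matrix.ext_iff_mulVec.2 fun x => ?_
  rw [reflectionMatrix_mulVec, Matrix.fromBlocks_mulVec, reflectionMatrix_mulVec, zero_mulVec, zero_mulVec,
    add_zero, zero_add, one_mulVec, hQ, polar_sumForm hQ, Sum.elim_comp_inl, Sum.elim_comp_inr,
    QuadraticMap.map_zero, QuadraticMap.polar_zero_left, zero_add, zero_add]
  funext k
  rcases k with i | i <;> simp

theorem spinorHom_block_inr (hQ : ∀ v, Q v = Q₁ (v ∘ Sum.inl) + Q₂ (v ∘ Sum.inr))
    (h₂ : ∀ x, (∀ y, polar Q₂ x y = 0) → x = 0) (hsep : ∀ x, (∀ y, polar Q x y = 0) → x = 0) (h2 : (2 : F) ≠ 0)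
    (g₂ : Cfsg.isometryGroup F (⇑Q₂)) (g : Cfsg.isometryGroup F (⇑Q))
    (hg : g.1.1 = Matrix.fromBlocks 1 0 0 g₂.1.1) :
    spinorHom Q hsep (exGen_of_odd h2) g = spinorHom Q₂ h₂ (exGen_of_odd h2) g₂ := by
  obtain ⟨vs, hvs, hgv⟩ := exists_reflection_word h₂ (exGen_of_odd h2) g₂
  have hval : ∀ v : κ' → F, Q (Sum.elim 0 v) = Q₂ v := fun v => by
    rw [hQ, Sum.elim_comp_inl, Sum.elim_comp_inr, QuadraticMap.map_zero, zero_add]
  have hmul : ∀ L : List (κ' → F),
      ((L.map fun v => (Sum.elim 0 v : κ ⊕ κ' → F)).map fun v => Cfsg.reflectionMatrix (⇑Q) v).prod =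
        Matrix.fromBlocks 1 0 0 (L.map fun v => Cfsg.reflectionMatrix (⇑Q₂) v).prod := by
    intro L
    induction L with
    | nil => simp
    | cons v L ih =>
      simp only [List.map_cons, List.prod_cons, ih, reflectionMatrix_inr hQ, Matrix.fromBlocks_multiply]
      simp
  rw [spinorHom_reflection_word h₂ (exGen_of_odd h2) vs hvs g₂ hgv,
    spinorHom_reflection_word hsep (exGen_of_odd h2) (vs.map fun v => (Sum.elim 0 v : κ ⊕ κ' → F))
      (fun w hw => by
        obtain ⟨v, hv, rfl⟩ := List.mem_map.1 hw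
        rw [hval]; exact hvs v hv) g (by rw [hg, hgv, hmul])]
  refine Prod.ext (by simp) ?_
  show sqClass _ = sqClass _
  rw [sqClass, sqClass]
  exact congrArg (sqProj F) (Units.ext (by simp [List.map_map, Function.comp_def, hval]))

/-- Two twisted elements give an element of `Ω` of the orthogonal sum. -/
theorem exists_sum (hQ : ∀ v, Q v = Q₁ (v ∘ Sum.inl) + Q₂ (v ∘ Sum.inr)) (h2 : (2 : F) ≠ 0)
    (s₁ : ∀ x, (∀ y, polar Q₁ x y = 0) → x = 0) (s₂ : ∀ x, (∀ y, polar Q₂ x y = 0) → x = 0)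
    (hn₁ : 2 ≤ Fintype.card κ) (hn₂ : 2 ≤ Fintype.card κ') {a : quadIsoms Q₁} {b : quadIsoms Q₂}
    (ha : Twist a) (hb : Twist b) :
    ∃ g ∈ commutator (quadIsoms Q), orderOf g = Nat.lcm (orderOf a) (orderOf b) := by
  let φ : (κ → F) →ₗ[F] (κ ⊕ κ' → F) :=
    { toFun := fun v => Sum.elim v 0
      map_add' := fun u v => funext fun x => by rcases x with x | x <;> simp
      map_smul' := fun s v => funext fun x => by rcases x with x | x <;> simp }
  let ψ : (κ' → F) →ₗ[F] (κ ⊕ κ' → F) :=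
    { toFun := fun v => Sum.elim 0 v
      map_add' := fun u v => funext fun x => by rcases x with x | x <;> simp
      map_smul' := fun s v => funext fun x => by rcases x with x | x <;> simp }
  obtain rfl : Q.comp φ = Q₁ := QuadraticMap.ext fun v => by
    show Q (Sum.elim v 0) = Q₁ v
    rw [hQ, Sum.elim_comp_inl, Sum.elim_comp_inr, QuadraticMap.map_zero, add_zero]
  obtain rfl : Q.comp ψ = Q₂ := QuadraticMap.ext fun v => by
    show Q (Sum.elim 0 v) = Q₂ v
    rw [hQ, Sum.elim_comp_inl, Sum.elim_comp_inr, QuadraticMap.map_zero, zero_add]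
  have S : Split Q φ ψ := by
    refine ⟨fun x y => ?_, fun v => ⟨v ∘ Sum.inl, v ∘ Sum.inr, funext fun k => ?_⟩, s₁, s₂,
      fun u v h => funext fun i => congrFun h (Sum.inl i), fun u v h => funext fun i => congrFun h (Sum.inr i)⟩
    · rw [polar_sumForm hQ]
      simp [φ, ψ, Sum.elim_comp_inl, Sum.elim_comp_inr]
    · rcases k with k | k <;> simp [φ, ψ]
  obtain ⟨E₁, E₂, hE⟩ := S.exists_glue
  have hsep := sep_sumForm hQ s₁ s₂
  have hφ0 : ∀ v, φ v = Sum.elim v (0 : κ' → F) := fun v => rfl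
  have hψ0 : ∀ v, ψ v = Sum.elim (0 : κ → F) v := fun v => rfl
  have hval : ∀ x y v, (E₁ x * E₂ y).1 v = Sum.elim (x.1 (v ∘ Sum.inl)) (y.1 (v ∘ Sum.inr)) := by
    intro x y v
    have hv : v = φ (v ∘ Sum.inl) + ψ (v ∘ Sum.inr) := funext fun k => by
      rcases k with k | k <;> simp [φ, ψ]
    conv_lhs => rw [hv]
    rw [map_add, (hE x y).1, (hE x y).2, hφ0, hψ0]
    funext k
    rcases k with k | k <;> simp
  refine ⟨E₁ a * E₂ b, ?_, S.orderOf_eq (hE a b).1 (hE a b).2⟩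
  obtain ⟨s, hs, hsa⟩ := ha.spinor s₁ h2 hn₁
  obtain ⟨t, ht, htb⟩ := hb.spinor s₂ h2 hn₂
  have e1 : spinorHom Q hsep (exGen_of_odd h2) (orEquiv Q (E₁ a)) =
      spinorHom (Q.comp φ) s₁ (exGen_of_odd h2) (orEquiv _ a) := by
    refine spinorHom_block hQ s₁ hsep _ _ _ _ (Matrix.ext_iff_mulVec.2 fun v => ?_)
    rw [orEquiv_mulVec, show E₁ a = E₁ a * E₂ 1 by rw [map_one, mul_one], hval, Matrix.fromBlocks_mulVec,
      orEquiv_mulVec, zero_mulVec, zero_mulVec, one_mulVec, add_zero, zero_add]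
    rfl
  have e2 : spinorHom Q hsep (exGen_of_odd h2) (orEquiv Q (E₂ b)) =
      spinorHom (Q.comp ψ) s₂ (exGen_of_odd h2) (orEquiv _ b) := by
    refine spinorHom_block_inr hQ s₂ hsep h2 _ _ (Matrix.ext_iff_mulVec.2 fun v => ?_)
    rw [orEquiv_mulVec, show E₂ b = E₁ 1 * E₂ b by rw [map_one, one_mul], hval, Matrix.fromBlocks_mulVec,
      orEquiv_mulVec, zero_mulVec, zero_mulVec, one_mulVec, add_zero, zero_add]
    rfl
  rw [mem_iff_spinor hsep h2, map_mul, map_mul, e1, e2, hsa, htb, Prod.mk_mul_mk, one_mul,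
    sqClass_two s t hs ht, sqClass_mul_self]
  rfl

end Sum

section Exists

theorem norm_generator_not_square {K : Type*} [Field K] [Algebra F K] [Finite K] (h2 : (2 : F) ≠ 0) {γ : K}
    (hgen : ∀ x : K, x ≠ 0 → ∃ i : ℕ, γ ^ i = x) : ¬ IsSquare (Algebra.norm F γ) := by
  rintro ⟨t, ht⟩
  obtain ⟨n, hn⟩ : ∃ n : F, ¬ IsSquare n :=
    FiniteField.exists_nonsquare (fun h => h2 (by rw [← Nat.cast_two, ← h]; exact CharP.cast_eq_zero F _))
  obtain ⟨x, hx⟩ := FiniteField.norm_surjective F K n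
  have hx0 : x ≠ 0 := fun h => hn ⟨0, by rw [← hx, h, Algebra.norm_zero]; ring⟩
  obtain ⟨i, rfl⟩ := hgen x hx0
  exact hn ⟨t ^ i, by rw [← hx, map_pow, ht, mul_pow]⟩

variable (p : ℕ) [hp : Fact p.Prime] [CharP F p]

omit [Fintype F] in
theorem exists_field [Finite F] (p : ℕ) [Fact p.Prime] [CharP F p] (n : ℕ) [NeZero n] :
    ∃ (K : Type) (_ : Field K) (_ : Algebra F K) (_ : Finite K) (γ : K),
      Module.finrank F K = n ∧ Nat.card K = Nat.card F ^ n ∧ γ ≠ 0 ∧
      orderOf γ = Nat.card F ^ n - 1 ∧ ∀ x : K, x ≠ 0 → ∃ i : ℕ, γ ^ i = x := by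
  let K := FiniteField.Extension F p n
  obtain ⟨c, hc⟩ := IsCyclic.exists_generator (α := Kˣ)
  refine ⟨K, inferInstance, inferInstance, inferInstance, (c : K), FiniteField.finrank_extension F p n,
    FiniteField.natCard_extension F p n, c.ne_zero, ?_, fun x hx => ?_⟩
  · rw [orderOf_units, orderOf_eq_card_of_forall_mem_zpowers hc, Nat.card_units, FiniteField.natCard_extension]
  · obtain ⟨i, hi⟩ := (mem_powers_iff_mem_zpowers (x := c)).2 (hc (Units.mk0 x hx))
    exact ⟨i, by simpa using congrArg Units.val hi⟩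

/-- A torus element of order `q ^ c - 1` with non-square spinor norm. -/
theorem twist_plus (hp2 : p ≠ 2) (c : ℕ) (hc : 1 ≤ c) :
    ∃ a : quadIsoms (qfPlus c F), Twist a ∧ orderOf a = Fintype.card F ^ c - 1 := by
  have h2 := two_ne_zero_of_char (F := F) hp2
  have : NeZero c := ⟨by omega⟩
  obtain ⟨K, _, _, _, γ, hdim, -, hγ0, hord, hgen⟩ := exists_field (F := F) p c
  have hcard : Fintype.card F ≠ 2 ∨ c ≠ 2 := Or.inl fun h => h2 (by
    rw [← Nat.cast_two, ← h]; exact FiniteField.cast_card_eq_zero F)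
  let b := (Module.finBasisOfFinrankEq F K hdim)
  let L : Kˣ →* GL (Fin c) F := Units.map (Algebra.leftMulMatrix b : K →* Matrix (Fin c) (Fin c) F)
  have hL : Function.Injective L := Units.map_injective (Algebra.leftMulMatrix_injective b)
  obtain ⟨Φ, hΦ⟩ := exists_levi (F := F) c
  have hΦi : Function.Injective Φ := fun A B h => Units.ext (by
    have := congrArg (fun g : Cfsg.isometryGroup F (⇑(qfPlus c F)) => g.1.1.toBlocks₁₁) h
    simpa [hΦ] using this)
  refine ⟨(orEquiv (qfPlus c F)).symm (Φ (L (Units.mk0 γ hγ0))), ⟨?_, ?_⟩, ?_⟩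
  · rw [← LinearMap.det_toMatrix', ← orEquiv_val, MulEquiv.apply_symm_apply, hΦ, Matrix.det_fromBlocks_zero₁₂,
      Matrix.det_transpose, Matrix.det_nonsing_inv]
    exact Ring.mul_inverse_cancel _ ((Matrix.isUnit_iff_isUnit_det _).1 (L (Units.mk0 γ hγ0)).isUnit)
  · rw [mem_iff_spinor (qfPlus_sep c) h2, MulEquiv.apply_symm_apply]
    intro h
    refine norm_generator_not_square (F := F) h2 hgen ?_
    rw [Algebra.norm_eq_matrix_det b]
    exact (levi_spinor hc hcard hΦ _).1 h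
  · rw [MulEquiv.orderOf_eq, orderOf_injective Φ hΦi, orderOf_injective L hL, ← orderOf_units, Units.val_mk0,
      hord, Nat.card_eq_fintype_card]

/-- A torus element of order `q ^ c + 1` with non-square spinor norm, on a space of minus type. -/
theorem twist_minus (hp2 : p ≠ 2) (c : ℕ) (hc : 1 ≤ c) :
    ∃ Q : QuadraticForm F (Fin (2 * c) → F), (∀ x, (∀ y, polar Q x y = 0) → x = 0) ∧
      (c = 1 → ∀ v, Q v = 0 → v = 0) ∧
      ∃ a : quadIsoms Q, Twist a ∧ orderOf a = Fintype.card F ^ c + 1 := by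
  have h2 := two_ne_zero_of_char (F := F) hp2
  have : NeZero (2 * c) := ⟨by omega⟩
  obtain ⟨K, _, _, _, γ, hdim, hcard, hγ0, hord, hgen⟩ := exists_field (F := F) p (2 * c)
  have : Module.Finite F K := Module.Finite.of_finite
  obtain ⟨q, hq⟩ : ∃ q, q = Fintype.card F := ⟨_, rfl⟩
  rw [Nat.card_eq_fintype_card (α := F), ← hq] at hcard hord
  have hq2 : 2 ≤ q := hq ▸ Fintype.one_lt_card
  obtain ⟨N, hN⟩ : ∃ N, N = q ^ c := ⟨_, rfl⟩
  have hN2 : 2 ≤ N := hN ▸ hq2.trans (Nat.le_self_pow (by omega) q)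
  have hNN : q ^ (2 * c) - 1 = (N + 1) * (N - 1) := by
    rw [← Nat.sq_sub_sq, one_pow, hN, ← pow_mul, mul_comm c]
  have hKN : ∀ x : K, x ^ (N * N) = x := fun x => by
    letI := Fintype.ofFinite K
    rw [show N * N = Fintype.card K by rw [← Nat.card_eq_fintype_card, hcard, hN, ← pow_add, two_mul]]
    exact FiniteField.pow_card x
  let σ : K →ₐ[F] K := (FiniteField.frobeniusAlgHom F K) ^ c
  have hσ : ∀ x, σ x = x ^ N := fun x => by
    rw [hN, hq]
    exact congrFun (AlgHom.coe_pow ..) x |>.trans (by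
      rw [FiniteField.coe_frobeniusAlgHom]
      exact congrFun (pow_iterate (Fintype.card F) c) x)
  have hσσ : ∀ x, σ (σ x) = x := fun x => by rw [hσ, hσ, ← pow_mul, hKN]
  have hordN : orderOf γ = (N + 1) * (N - 1) := by rw [hord, hNN]
  have hγN : γ ^ (N - 1) ≠ 1 := fun h => by
    have h1 := Nat.le_of_dvd (by omega) (hordN ▸ orderOf_dvd_of_pow_eq_one h)
    have h3 : 2 * (N - 1) ≤ (N + 1) * (N - 1) := Nat.mul_le_mul_right _ (by omega)
    omega
  have hσne : ∃ x, σ x ≠ x := ⟨γ, fun h => hγN (mul_right_cancel₀ hγ0 (by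
    rw [← pow_succ, Nat.sub_add_cancel (by omega), ← hσ, h, one_mul]))⟩
  -- the trace form
  have htr : ∀ x, Algebra.trace F K (σ x) = Algebra.trace F K x := fun x =>
    Algebra.trace_eq_of_algEquiv (AlgEquiv.ofBijective σ
      ⟨σ.toRingHom.injective, Finite.injective_iff_surjective.1 σ.toRingHom.injective⟩) x
  let e' : (Fin (2 * c) → F) ≃ₗ[F] K := (Module.finBasisOfFinrankEq F K hdim).equivFun.symm
  let Q : QuadraticForm F (Fin (2 * c) → F) :=
    LinearMap.BilinMap.toQuadraticMap ((Algebra.traceForm F K).compl₁₂ e'.toLinearMap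
      (σ.toLinearMap ∘ₗ e'.toLinearMap))
  have hQ : ∀ v, Q v = Algebra.trace F K (e' v * σ (e' v)) := fun v => rfl
  let e : K →ₗ[F] (Fin (2 * c) → F) := e'.symm.toLinearMap
  have hQe : ∀ x, Q (e x) = Algebra.trace F K (x * σ x) := fun x => by
    rw [hQ]; simp [e]
  have hpol : ∀ x y, polar Q (e x) (e y) = 2 * Algebra.trace F K (x * σ y) := fun x y => by
    have h' := htr (x * σ y)
    rw [map_mul, hσσ, mul_comm] at h'
    simp only [QuadraticMap.polar, ← map_add e, hQe, map_add σ, mul_add, add_mul, map_add (Algebra.trace F K)]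
    linear_combination h'
  have hsep : ∀ x, (∀ y, polar Q x y = 0) → x = 0 := fun v hv => by
    obtain ⟨x, rfl⟩ : ∃ x, e x = v := e'.symm.surjective v
    have : x = 0 := (traceForm_nondegenerate F K).1 x fun y => by
      have h := hv (e (σ y))
      rw [hpol, hσσ] at h
      exact (mul_eq_zero.1 h).resolve_left h2
    rw [this, map_zero]
  refine ⟨Q, hsep, fun hc1 v hv => ?_, ?_⟩
  · obtain ⟨x, rfl⟩ : ∃ x, e x = v := e'.symm.surjective v
    rw [hQe] at hv
    have hy : σ (x * σ x) = x * σ x := by rw [map_mul, hσσ, mul_comm]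
    have hx : x * σ x = 0 := by
      have h4 := congrArg (algebraMap F K) hv
      rw [FiniteField.algebraMap_trace_eq_sum_pow, hdim, hc1, map_zero, Finset.sum_range_succ,
        Finset.sum_range_one, pow_zero, pow_one, pow_one, Nat.card_eq_fintype_card, ← hq] at h4
      rw [hσ, hN, hc1, pow_one] at hy
      rw [hy, ← two_mul] at h4
      exact (mul_eq_zero.1 h4).resolve_left fun h => h2 ((algebraMap F K).injective (by
        rw [map_ofNat, map_zero, h]))
    rcases mul_eq_zero.1 hx with h | h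
    · rw [h, map_zero]
    · rw [(map_eq_zero σ).1 h, map_zero]
  obtain ⟨T, hT, -, hTs⟩ := KnownB.BC.spinor_torus Q hsep (exGen_of_odd h2) h2 σ hσσ hσne e
    e'.symm.injective (W₀ := ⊥) ⟨disjoint_bot_right, codisjoint_iff.2 (by
      rw [sup_bot_eq, LinearMap.range_eq_top.2 e'.symm.surjective])⟩
    (fun x w hw => by rw [(Submodule.mem_bot F).1 hw, QuadraticMap.polar_zero_right])
    (fun x y z => by rw [hpol, hpol, map_mul σ, hσσ, mul_comm x y, mul_assoc]) hγ0 hgen hN2 (hσ γ) hordN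
  let w := σ γ * γ⁻¹
  have hw : w = γ ^ (N - 1) := mul_right_cancel₀ hγ0 (by
    rw [← pow_succ, Nat.sub_add_cancel (by omega), inv_mul_cancel_right₀ hγ0, hσ])
  obtain ⟨a, rfl⟩ : ∃ a, orEquiv Q a = T := (orEquiv Q).surjective T
  have hae : ∀ n : ℕ, ∀ x, (a ^ n).1 (e x) = e (w ^ n * x) := fun n => by
    induction n with
    | zero => intro x; simp
    | succ n ih =>
      intro x
      rw [pow_succ, pow_succ, mul_assoc]
      show (a ^ n).1 (a.1 (e x)) = _
      rw [← isoLin_orEquiv Q a, hT, ih]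
  refine ⟨a, ⟨?_, fun h => hTs ?_⟩, ?_⟩
  · have ha : a.1.toLinearMap = e ∘ₗ LinearMap.mulLeft F w ∘ₗ e'.toLinearMap := LinearMap.ext fun v => by
      obtain ⟨x, rfl⟩ : ∃ x, e x = v := e'.symm.surjective v
      simpa [e] using hae 1 x
    rw [ha, show LinearMap.det (e ∘ₗ LinearMap.mulLeft F w ∘ₗ e'.toLinearMap) =
      LinearMap.det (LinearMap.mulLeft F w) from LinearMap.det_conj (LinearMap.mulLeft F w) e'.symm, show LinearMap.det (LinearMap.mulLeft F w) = Algebra.norm F w from rfl, hw,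
      map_pow]
    obtain ⟨t, ht⟩ : q - 1 ∣ N - 1 := hN ▸ Nat.sub_one_dvd_pow_sub_one q c
    rw [ht, hq, pow_mul, FiniteField.pow_card_sub_one_eq_one _ (Algebra.norm_ne_zero_iff.2 hγ0), one_pow]
  · exact (mem_iff_spinor hsep h2 a).1 h
  · have hiff : ∀ n, a ^ n = 1 ↔ w ^ n = 1 := fun n => by
      rw [OrthNine.pow_eq_one_iff]
      constructor
      · intro h
        have h1 := h (e 1)
        rw [hae, mul_one] at h1
        exact e'.symm.injective h1
      · intro h v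
        obtain ⟨x, rfl⟩ : ∃ x, e x = v := e'.symm.surjective v
        rw [hae, h, one_mul]
    have heq : orderOf a = orderOf w := Nat.dvd_antisymm
      (orderOf_dvd_of_pow_eq_one ((hiff _).2 (pow_orderOf_eq_one w)))
      (orderOf_dvd_of_pow_eq_one ((hiff _).1 (pow_orderOf_eq_one a)))
    rw [heq, hw, orderOf_pow_of_dvd (by omega) (hordN ▸ Dvd.intro_left _ rfl), hordN,
      Nat.mul_div_cancel _ (by omega), ← hq, hN]

end Exists

section Minus

variable {p : ℕ} [hp : Fact p.Prime] [CharP F p] {a b : F}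

theorem three_le_card (hp2 : p ≠ 2) : 3 ≤ Fintype.card F := by
  obtain ⟨n, -, hn⟩ := FiniteField.card F p
  have h3 : 3 ≤ p := by have := hp.out.two_le; omega
  rw [hn]
  exact h3.trans (Nat.le_self_pow n.pos.ne' p)

/-- The minus torus: an element of order `q^c + 1` of non-square spinor norm in the minus space of dimension `2c`. -/
theorem twist_minus_type (hp2 : p ≠ 2)
    (hab : ∀ z₁ z₂ : F, z₁ ^ 2 + a * z₁ * z₂ + b * z₂ ^ 2 = 0 → z₁ = 0 ∧ z₂ = 0) (l : ℕ) (hl : l ≤ 2) :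
    ∃ x : quadIsoms (qfMinus l F a b), Twist x ∧ orderOf x = Fintype.card F ^ (l + 1) + 1 := by
  classical
  have h2 := two_ne_zero_of_char (F := F) hp2
  obtain ⟨Q, hsep, haniso, x, hx, hord⟩ := twist_minus (F := F) p hp2 (l + 1) (by omega)
  have hq3 := three_le_card (F := F) hp2
  obtain ⟨q, hq⟩ : ∃ q, q = Fintype.card F := ⟨_, rfl⟩
  rcases dichotomy Q hsep (k := l + 1) (by rw [Module.finrank_fintype_fun_eq_card, Fintype.card_fin]) with
    ⟨e, he⟩ | ⟨l', hl', h⟩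
  · exfalso
    obtain ⟨C, -⟩ := exists_conj (Q := qfPlus (l + 1) F) (R := Q) e he
    have hdvd : orderOf (C.symm x) ∣ Nat.card (quadIsoms (qfPlus (l + 1) F)) := orderOf_dvd_natCard _
    rw [C.symm.orderOf_eq, hord, card_qfPlus_isoms, ← hq] at hdvd
    interval_cases l
    · have h1 : e (Pi.single (.inl 0) 1) = 0 := haniso rfl _ (by rw [he]; exact qfPlus_single _ _)
      rw [LinearEquiv.map_eq_zero_iff, Pi.single_eq_zero_iff] at h1
      exact one_ne_zero h1
    · -- `q ^ 2 + 1` does not divide the order of the plus group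
      obtain ⟨z, hz⟩ : ∃ z : ZMod (q ^ 2 + 1), z = q := ⟨_, rfl⟩
      have hz2 : z ^ 2 = -1 := by
        have h0 := ZMod.natCast_self (q ^ 2 + 1)
        push_cast at h0
        rw [← hz] at h0
        linear_combination h0
      have h0 := (ZMod.natCast_eq_zero_iff _ (q ^ 2 + 1)).2 hdvd
      rw [Nat.cast_mul, Nat.cast_mul, Nat.cast_mul, Finset.prod_range_one,
        Nat.cast_sub (Nat.one_le_pow _ _ (by omega))] at h0
      push_cast at h0
      rw [← hz] at h0
      norm_num [hz2] at h0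
      have h8 : ((8 : ℕ) : ZMod (q ^ 2 + 1)) = 0 := by push_cast; linear_combination h0
      have := Nat.le_of_dvd (by norm_num) ((ZMod.natCast_eq_zero_iff _ _).1 h8)
      nlinarith
    · -- `q ^ 3 + 1` does not divide the order of the plus group
      obtain ⟨r, hr⟩ : ∃ r, q = r + 1 := ⟨q - 1, by omega⟩
      obtain ⟨m, hm⟩ : ∃ m, m = r * r + r + 1 := ⟨_, rfl⟩
      have hmd : m ∣ q ^ (2 + 1) + 1 := ⟨q + 1, by rw [hm, hr]; ring⟩
      obtain ⟨z, hz⟩ : ∃ z : ZMod m, z = q := ⟨_, rfl⟩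
      have hz2 : z ^ 2 = z - 1 := by
        have h0 := ZMod.natCast_self m
        have h1 : (m : ZMod m) = ((r * r + r + 1 : ℕ) : ZMod m) := congrArg Nat.cast hm
        push_cast at h1
        rw [hz, hr]; push_cast
        linear_combination h0 - h1
      have hz3 : z ^ 3 = -1 := by linear_combination (z + 1) * hz2
      have hz4 : z ^ 4 = -z := by linear_combination z * hz3
      have hz6 : z ^ 6 = 1 := by linear_combination (z ^ 3 - 1) * hz3
      have h0 := (ZMod.natCast_eq_zero_iff _ m).2 (hmd.trans hdvd)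
      rw [Nat.cast_mul, Nat.cast_mul, Nat.cast_mul, Finset.prod_range_succ, Finset.prod_range_one, Nat.cast_mul,
        Nat.cast_sub (Nat.one_le_pow _ _ (by omega)), Nat.cast_sub (Nat.one_le_pow _ _ (by omega)),
        Nat.cast_sub (Nat.one_le_pow _ _ (by omega))] at h0
      push_cast at h0
      rw [← hz] at h0
      norm_num [hz3, hz4, hz6] at h0
      have h12 : ((12 : ℕ) : ZMod m) = 0 := by
        push_cast
        linear_combination h0 + (4 * z + 8) * hz2
      have hd12 : m ∣ 12 := (ZMod.natCast_eq_zero_iff _ _).1 h12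
      have hm12 := Nat.le_of_dvd (by norm_num) hd12
      have hr2 : r = 2 := by nlinarith
      subst hr2
      norm_num [hm] at hd12
  · obtain rfl : l' = l := by omega
    obtain ⟨e, he⟩ := h a b hab
    obtain ⟨C, hC⟩ := exists_conj (Q := qfMinus l' F a b) (R := Q) e he
    refine ⟨C.symm x, ⟨?_, fun hm => hx.2 ?_⟩, by rw [C.symm.orderOf_eq, hord]⟩
    · have hcx : (C.symm x).1.toLinearMap = e.symm.toLinearMap ∘ₗ x.1.toLinearMap ∘ₗ e.toLinearMap :=
        LinearMap.ext fun v => by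
          show (C.symm x).1 v = e.symm (x.1 (e v))
          have h' := hC (C.symm x) v
          rw [C.apply_symm_apply] at h'
          rw [h', e.symm_apply_apply]
      rw [hcx]
      exact (LinearMap.det_conj x.1.toLinearMap e.symm).trans hx.1
    · have h' := map_comm C.toMonoidHom hm
      rwa [MulEquiv.coe_toMonoidHom, C.apply_symm_apply] at h'

theorem SpecM.of_mem {g : quadIsoms (qfMinus 3 F a b)} (hg : g ∈ commutator (quadIsoms (qfMinus 3 F a b))) :
    SpecM p a b (orderOf g) :=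
  ⟨g, hg, Or.inl dvd_rfl⟩

/-- A twisted element of a plus space and one of a minus space filling the eight dimensions. -/
theorem specM_sum (hp2 : p ≠ 2) (hab : ∀ z₁ z₂ : F, z₁ ^ 2 + a * z₁ * z₂ + b * z₂ ^ 2 = 0 → z₁ = 0 ∧ z₂ = 0)
    {i l : ℕ} (hil : i + l = 3) (hi : 1 ≤ i) (hl : l ≤ 2) :
    SpecM p a b (Nat.lcm (Fintype.card F ^ i - 1) (Fintype.card F ^ (l + 1) + 1)) := by
  have h2 := two_ne_zero_of_char (F := F) hp2
  obtain ⟨x, hx, hxo⟩ := twist_plus (F := F) p hp2 i hi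
  obtain ⟨y, hy, hyo⟩ := twist_minus_type (p := p) hp2 hab l hl
  obtain ⟨Q, hQ⟩ := exists_sumForm (qfPlus i F) (qfMinus l F a b)
  obtain ⟨g, hg, hgo⟩ := exists_sum hQ h2 (qfPlus_sep i) (qfMinus_sep l hab) (by simp; omega) (by simp) hx hy
  let E : (Fin i ⊕ Fin i) ⊕ ((Fin l ⊕ Fin l) ⊕ Fin 2) ≃ (Fin (i + l) ⊕ Fin (i + l)) ⊕ Fin 2 :=
    (Equiv.sumAssoc _ _ _).symm.trans (Equiv.sumCongr ((Equiv.sumSumSumComm _ _ _ _).trans
      (Equiv.sumCongr finSumFinEquiv finSumFinEquiv)) (Equiv.refl _))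
  have he : ∀ v, qfMinus (i + l) F a b (LinearEquiv.funCongrLeft F F E.symm v) = Q v := fun v => by
    rw [hQ, qfMinus_apply, qfMinus_apply, qfPlus_apply]
    simp only [Cfsg.quadFormMinus, Cfsg.quadFormPlus, LinearEquiv.funCongrLeft_apply, LinearMap.funLeft_apply,
      Fin.sum_univ_add, Function.comp_apply]
    simp [E, add_assoc]
  obtain ⟨C, -⟩ := exists_conj (LinearEquiv.funCongrLeft F F E.symm) he
  have key : ∀ n, n = 3 → ∀ h ∈ commutator (quadIsoms (qfMinus n F a b)), SpecM p a b (orderOf h) := by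
    rintro _ rfl h hh
    exact SpecM.of_mem hh
  have h := key _ hil _ (map_comm C.toMonoidHom hg)
  rwa [MulEquiv.coe_toMonoidHom, C.orderOf_eq, hgo, hxo, hyo] at h

/-- An element of `Ω` of a six-dimensional space. -/
theorem specM_six (hp2 : p ≠ 2) (hab : ∀ z₁ z₂ : F, z₁ ^ 2 + a * z₁ * z₂ + b * z₂ ^ 2 = 0 → z₁ = 0 ∧ z₂ = 0)
    {κ κ' : Type} [Fintype κ] [DecidableEq κ] [Fintype κ'] [DecidableEq κ'] {Q₁ : QuadraticForm F (κ → F)}
    {Q₂ : QuadraticForm F (κ' → F)} (s₁ : ∀ x, (∀ y, polar Q₁ x y = 0) → x = 0)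
    (s₂ : ∀ x, (∀ y, polar Q₂ x y = 0) → x = 0) (hn₁ : Fintype.card κ = 4) (hn₂ : Fintype.card κ' = 2)
    {x : quadIsoms Q₁} {y : quadIsoms Q₂} (hx : Twist x) (hy : Twist y) :
    SpecM p a b (Nat.lcm (Nat.lcm (orderOf x) (orderOf y)) p) := by
  obtain ⟨Q, hQ⟩ := exists_sumForm Q₁ Q₂
  obtain ⟨g, hg, hgo⟩ := exists_sum hQ (two_ne_zero_of_char hp2) s₁ s₂ (by omega) (by omega) hx hy
  have h := specM_lcm (p := p) hp2 hab (sep_sumForm hQ s₁ s₂) (c := 3) (by simp [hn₁, hn₂]) le_rfl hg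
  rw [hgo] at h
  refine h.mono (Nat.lcm_dvd (Nat.dvd_lcm_left _ _) (dvd_trans ?_ (Nat.dvd_lcm_right _ _)))
  exact dvd_pow_self p (Nat.clog_pos hp.out.one_lt (by norm_num)).ne'

theorem specM_C (hp2 : p ≠ 2) (hab : ∀ z₁ z₂ : F, z₁ ^ 2 + a * z₁ * z₂ + b * z₂ ^ 2 = 0 → z₁ = 0 ∧ z₂ = 0)
    (minus : Bool) :
    SpecM p a b (Nat.lcm (Nat.lcm (Fintype.card F ^ 2 + 1)
      (if minus then Fintype.card F + 1 else Fintype.card F - 1)) p) := by
  obtain ⟨x, hx, hxo⟩ := twist_minus_type (p := p) hp2 hab 1 (by omega)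
  cases minus
  · obtain ⟨y, hy, hyo⟩ := twist_plus (F := F) p hp2 1 le_rfl
    have := specM_six (p := p) hp2 hab (qfMinus_sep 1 hab) (qfPlus_sep 1) (by simp) (by simp) hx hy
    simpa [hxo, hyo] using this
  · obtain ⟨y, hy, hyo⟩ := twist_minus_type (p := p) hp2 hab 0 (by omega)
    have := specM_six (p := p) hp2 hab (qfMinus_sep 1 hab) (qfMinus_sep 0 hab) (by simp) (by simp) hx hy
    simpa [hxo, hyo] using this

theorem specM_D (hp2 : p ≠ 2) (hab : ∀ z₁ z₂ : F, z₁ ^ 2 + a * z₁ * z₂ + b * z₂ ^ 2 = 0 → z₁ = 0 ∧ z₂ = 0) :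
    SpecM p a b (Nat.lcm (Fintype.card F ^ 2 - 1) p) := by
  obtain ⟨x, hx, hxo⟩ := twist_plus (F := F) p hp2 2 (by omega)
  obtain ⟨y, hy, hyo⟩ := twist_plus (F := F) p hp2 1 le_rfl
  have := specM_six (p := p) hp2 hab (qfPlus_sep 2) (qfPlus_sep 1) (by simp) (by simp) hx hy
  refine this.mono (Nat.lcm_dvd (dvd_trans ?_ (Nat.dvd_lcm_left _ _)) (Nat.dvd_lcm_right _ _))
  rw [hxo]
  exact Nat.dvd_lcm_left _ _

theorem specM_F (hp2 : p ≠ 2) (hab : ∀ z₁ z₂ : F, z₁ ^ 2 + a * z₁ * z₂ + b * z₂ ^ 2 = 0 → z₁ = 0 ∧ z₂ = 0) :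
    SpecM p a b (Nat.lcm ((Fintype.card F ^ 2 - 1) / 2) (p ^ Nat.clog p 5)) := by
  obtain ⟨x, hx, hxo⟩ := twist_plus (F := F) p hp2 2 (by omega)
  have h := specM_lcm (p := p) hp2 hab (qfPlus_sep 2) (c := 2) (by simp) (by omega)
    (Twist.sq (qfPlus_sep 2) (two_ne_zero_of_char hp2) x)
  have h2 : orderOf (x * x) = (Fintype.card F ^ 2 - 1) / 2 := by
    rw [← pow_two, orderOf_pow' x two_ne_zero, hxo]
    congr 1
    refine Nat.gcd_eq_right ?_
    rw [← one_pow 2, Nat.sq_sub_sq]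
    obtain ⟨n, -, hn⟩ := FiniteField.card F p
    exact dvd_mul_of_dvd_left (even_iff_two_dvd.1 (hn ▸ ((hp.out.odd_of_ne_two hp2).pow).add_one)) _
  rwa [h2] at h

theorem specM_G (hp2 : p ≠ 2) (hab : ∀ z₁ z₂ : F, z₁ ^ 2 + a * z₁ * z₂ + b * z₂ ^ 2 = 0 → z₁ = 0 ∧ z₂ = 0) :
    SpecM p a b (Nat.lcm 2 (p ^ Nat.clog p 7)) := by
  have h2 := two_ne_zero_of_char (F := F) hp2
  obtain ⟨x, hx, hxo⟩ := twist_plus (F := F) p hp2 1 le_rfl
  obtain ⟨y, hy, hyo⟩ := twist_minus_type (p := p) hp2 hab 0 (by omega)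
  obtain ⟨n, -, hn⟩ := FiniteField.card F p
  obtain ⟨k, hk⟩ : Odd (Fintype.card F) := hn ▸ (hp.out.odd_of_ne_two hp2).pow
  rw [pow_one, hk] at hxo hyo
  rcases Nat.even_or_odd k with ⟨j, rfl⟩ | ⟨j, rfl⟩
  · have h := specM_lcm (p := p) hp2 hab (qfPlus_sep 1) (c := 1) (by simp) (by omega)
      (Twist.sq (qfPlus_sep 1) h2 x)
    refine h.mono (Nat.lcm_dvd ((?_ : 2 ∣ _).trans (Nat.dvd_lcm_left _ _)) (Nat.dvd_lcm_right _ _))
    rw [← pow_two, orderOf_pow' x two_ne_zero, hxo]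
    rw [show 2 * (j + j) + 1 - 1 = 2 * (2 * j) by omega, Nat.gcd_mul_right_left, Nat.mul_div_cancel_left _ two_pos]
    exact dvd_mul_right 2 j
  · have h := specM_lcm (p := p) hp2 hab (qfMinus_sep 0 hab) (c := 1) (by simp) (by omega)
      (Twist.sq (qfMinus_sep 0 hab) h2 y)
    refine h.mono (Nat.lcm_dvd ((?_ : 2 ∣ _).trans (Nat.dvd_lcm_left _ _)) (Nat.dvd_lcm_right _ _))
    rw [← pow_two, orderOf_pow' y two_ne_zero, hyo]
    rw [show 2 * (2 * j + 1) + 1 + 1 = 2 * (2 * (j + 1)) by ring, Nat.gcd_mul_right_left,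
      Nat.mul_div_cancel_left _ two_pos]
    exact dvd_mul_right 2 _

end Minus

end CfsgLib.KnownC.OrthNine
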