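import Cfsg.Agent.Lib.KnownC.OrthNinePoly
import Cfsg.Agent.Lib.KnownC.OrthNineTorus
import Cfsg.Agent.Lib.KnownC.OrthPrimeOrder

/-!
Element orders of `Ω₈⁺(q)` on elements without fixed vectors, `q` odd.
-/

set_option autoImplicit false
set_option linter.unusedSectionVars false

namespace CfsgLib.KnownC.OrthNine

open CfsgLib.Geom CfsgLib.Classical CfsgLib.KnownB.SpOrth CfsgLib.KnownC.OrthType
open QuadraticMap (polar)
open Polynomial
open scoped Matrix

universe u

variable {F : Type u} [Field F] [Fintype F]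

section Linear

variable {V : Type*} [AddCommGroup V] [Module F V] {Q : QuadraticForm F V}

/-- Negation. -/
noncomputable def negQ (Q : QuadraticForm F V) : quadIsoms Q :=
  ⟨LinearEquiv.neg F, fun v => by simp [QuadraticMap.map_neg]⟩

theorem negQ_apply (v : V) : (negQ Q).1 v = -v := rfl

theorem negQ_sq : (negQ Q) ^ 2 = 1 :=
  Subtype.ext (LinearEquiv.ext fun v => by
    rw [pow_two]
    show -(-v) = v
    exact neg_neg v)

theorem commute_negQ (g : quadIsoms Q) : Commute (negQ Q) g :=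
  Subtype.ext (LinearEquiv.ext fun v => by
    show -(g.1 v) = g.1 (-v)
    exact (map_neg g.1 v).symm)

/-- An isometry as an endomorphism. -/
noncomputable abbrev toEnd (g : quadIsoms Q) : Module.End F V := g.1.toLinearMap

theorem toEnd_mul (g h : quadIsoms Q) : toEnd (g * h) = toEnd g * toEnd h := rfl

theorem toEnd_one : toEnd (1 : quadIsoms Q) = 1 := rfl

theorem toEnd_pow (g : quadIsoms Q) (n : ℕ) : toEnd (g ^ n) = toEnd g ^ n := by
  induction n with
  | zero => rfl
  | succ n ih => rw [pow_succ, pow_succ, ← ih]; rfl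

theorem eq_one_of_toEnd {g : quadIsoms Q} (h : toEnd g = 1) : g = 1 :=
  Subtype.ext (LinearEquiv.toLinearMap_injective h)

theorem polar_aeval (g : quadIsoms Q) (f : F[X]) (x y : V) :
    polar Q (aeval (toEnd g) f x) y = polar Q x (aeval (toEnd g⁻¹) f y) := by
  induction f using Polynomial.induction_on' with
  | add f₁ f₂ h₁ h₂ =>
    rw [map_add, map_add, LinearMap.add_apply, LinearMap.add_apply, QuadraticMap.polar_add_left,
      QuadraticMap.polar_add_right, h₁, h₂]
  | monomial i c =>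
    rw [aeval_monomial, aeval_monomial, ← Algebra.smul_def, ← Algebra.smul_def, LinearMap.smul_apply,
      LinearMap.smul_apply, QuadraticMap.polar_smul_left, QuadraticMap.polar_smul_right, ← toEnd_pow, ← toEnd_pow]
    congr 1
    show polar Q ((g ^ i).1 x) y = _
    rw [← polar_quadIsom ((g ^ i)⁻¹).2 ((g ^ i).1 x) y, inv_pow]
    congr 1
    exact (g ^ i).1.symm_apply_apply x

theorem aeval_inv_of_tilde (g : quadIsoms Q) {f : F[X]} (h0 : f.coeff 0 ≠ 0) :
    ∃ c : F, ∃ n : ℕ, aeval (toEnd g⁻¹) f =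
      c • (toEnd g⁻¹ ^ n * aeval (toEnd g) (SemiPalin.tilde (RingHom.id F) f)) := by
  have hcomm : Commute (toEnd g) (toEnd g⁻¹) := by
    rw [Commute, SemiconjBy, ← toEnd_mul, ← toEnd_mul, mul_inv_cancel, inv_mul_cancel]
  let S : Set (Module.End F V) := {toEnd g, toEnd g⁻¹}
  have hS : ∀ x ∈ S, ∀ y ∈ S, x * y = y * x := by
    rintro x (rfl | rfl) y (rfl | rfl)
    exacts [rfl, hcomm.eq, hcomm.symm.eq, rfl]
  let x : Algebra.adjoin F S := ⟨toEnd g, Algebra.subset_adjoin (Or.inl rfl)⟩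
  let xi : Algebra.adjoin F S := ⟨toEnd g⁻¹, Algebra.subset_adjoin (Or.inr rfl)⟩
  have := Algebra.isMulCommutative_adjoin F hS
  let : CommRing (Algebra.adjoin F S) := { (inferInstance : Ring (Algebra.adjoin F S)) with mul_comm := fun a b => mul_comm' a b }
  have h := SympSpectrum.aeval_reverse_of_mul_eq_one (F := F) (x := x) (xi := xi)
    (Subtype.ext (by show toEnd g * toEnd g⁻¹ = 1; rw [← toEnd_mul, mul_inv_cancel]; rfl)) f
  refine ⟨f.coeff 0, f.natDegree, ?_⟩
  have h' := congrArg (fun z : Algebra.adjoin F S => (z : Module.End F V)) h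
  simp only [MulMemClass.coe_mul, SubmonoidClass.coe_pow, Polynomial.aeval_subalgebra_coe] at h'
  have hr : f.reverse = C (f.coeff 0) * SemiPalin.tilde (RingHom.id F) f := by
    rw [SemiPalin.tilde, SemiPalin.srev, Polynomial.map_id, RingHom.id_apply, ← mul_assoc, ← C_mul,
      mul_inv_cancel₀ h0, map_one, one_mul]
  rw [← h', hr, map_mul, aeval_C, ← Algebra.smul_def, smul_mul_assoc]
  congr 1
  have hc2 : Commute (toEnd g⁻¹ ^ f.natDegree) (aeval (toEnd g) (SemiPalin.tilde (RingHom.id F) f)) := by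
    refine Commute.pow_left ?_ _
    refine Polynomial.induction_on' (motive := fun h => Commute (toEnd g⁻¹) (aeval (toEnd g) h)) _
      (fun a b ha hb => by rw [map_add]; exact ha.add_right hb) fun i c => ?_
    rw [aeval_monomial]
    exact Commute.mul_right (Algebra.commutes c _).symm (hcomm.symm.pow_right i)
  exact hc2.eq.symm

variable [FiniteDimensional F V]

theorem coeff_zero_ne (g : quadIsoms Q) : (toEnd g).charpoly.coeff 0 ≠ 0 := fun h => by
  have h1 : (toEnd g).HasEigenvalue 0 :=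
    (Module.End.hasEigenvalue_iff_isRoot_charpoly _ 0).2 (by rw [IsRoot, ← coeff_zero_eq_eval_zero, h])
  obtain ⟨v, hv⟩ := h1.exists_hasEigenvector
  refine hv.2 (g.1.map_eq_zero_iff.1 ?_)
  simpa using hv.apply_eq_smul

/-- The characteristic polynomial of an isometry without eigenvalues `±1`. -/
theorem recip_charpoly (hQ : ∀ x, (∀ y, polar Q x y = 0) → x = 0) (g : quadIsoms Q)
    (h1 : ∀ v, g.1 v = v → v = 0) (hn : ∀ v, g.1 v = -v → v = 0) : Recip (toEnd g).charpoly := by
  refine ⟨LinearMap.charpoly_monic _, coeff_zero_ne g, OrthPrime.tilde_charpoly Q hQ g.2, fun h => ?_,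
    fun h => ?_⟩ <;>
    obtain ⟨v, hv⟩ := ((Module.End.hasEigenvalue_iff_isRoot_charpoly _ _).2 h).exists_hasEigenvector
  · exact hv.2 (h1 v (by simpa using hv.apply_eq_smul))
  · exact hv.2 (hn v (by simpa using hv.apply_eq_smul))

theorem orderOf_dvd_of_charpoly (g : quadIsoms Q) {N : ℕ} (h : (toEnd g).charpoly ∣ X ^ N - 1) :
    orderOf g ∣ N := by
  refine orderOf_dvd_of_pow_eq_one (eq_one_of_toEnd ?_)
  obtain ⟨w, hw⟩ := h
  have h1 := congrArg (aeval (toEnd g)) hw
  rw [map_mul, LinearMap.aeval_self_charpoly, zero_mul, map_sub, map_pow, aeval_X, map_one, sub_eq_zero] at h1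
  rw [toEnd_pow, h1]

/-- In even dimension a unipotent isometry has no Jordan block of full size. -/
theorem unip_pow_pred (hQ : ∀ x, (∀ y, polar Q x y = 0) → x = 0) (h2 : (2 : F) ≠ 0) (u : quadIsoms Q)
    (hu : IsNilpotent (toEnd u - 1)) {D : ℕ} (hD : Module.finrank F V = D) (hev : Even D) (hD0 : 0 < D) :
    (toEnd u - 1) ^ (D - 1) = 0 := by
  set N := toEnd u - 1 with hN
  have hND : N ^ D = 0 := hD ▸ by
    have h1 := N.aeval_self_charpoly
    rwa [IsNilpotent.charpoly_eq_X_pow_finrank hu, map_pow, aeval_X] at h1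
  by_contra hne
  obtain ⟨x, hx⟩ : ∃ x, (N ^ (D - 1)) x ≠ 0 := by
    by_contra h
    push Not at h
    exact hne (LinearMap.ext fun w => by rw [h w]; rfl)
  obtain ⟨z, hz⟩ : ∃ z, z = (N ^ (D - 1)) x := ⟨_, rfl⟩
  let L : degreeLT F D →ₗ[F] V := (LinearMap.applyₗ x) ∘ₗ (aeval N).toLinearMap ∘ₗ (degreeLT F D).subtype
  have hL : ∀ f : degreeLT F D, L f = aeval N f.1 x := fun f => rfl
  have hLi : Function.Injective L := by
    refine (injective_iff_map_eq_zero L).2 fun ⟨f, hf⟩ hf0 => Subtype.ext ?_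
    by_contra hne0
    obtain ⟨i, g, hgX, rfl⟩ := WfDvdMonoid.max_power_factor' (a₀ := f) (x := (X : F[X])) hne0 not_isUnit_X
    obtain ⟨u', v', huv⟩ := (irreducible_X.coprime_iff_not_dvd.2 hgX).pow_left (m := D)
    have h1 := congrArg (fun w => aeval N w ((N ^ i) x)) huv
    simp only [map_add, map_mul, map_pow, aeval_X, hND, mul_zero, map_one, LinearMap.add_apply,
      LinearMap.zero_apply, zero_add, Module.End.one_apply, Module.End.mul_apply] at h1
    rw [hL] at hf0
    simp only [map_mul, map_pow, aeval_X] at hf0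
    have h3 : aeval N g ((N ^ i) x) = 0 := by
      have hc : N ^ i * aeval N g = aeval N g * N ^ i := by
        rw [← aeval_X (R := F) N, ← map_pow, aeval_X, ← map_mul, ← map_mul, mul_comm]
      rw [← Module.End.mul_apply, ← hc]
      exact hf0
    rw [h3, map_zero] at h1
    have hiD : i < D := by
      have := mem_degreeLT.1 hf
      rw [degree_mul, degree_X_pow, degree_eq_natDegree (show g ≠ 0 from fun e => hgX (by rw [e]; exact dvd_zero _))] at this
      exact_mod_cast lt_of_le_of_lt (le_add_of_nonneg_right (Nat.cast_nonneg _)) this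
    refine hx ?_
    rw [show D - 1 = (D - 1 - i) + i by omega, pow_add, Module.End.mul_apply, ← h1, map_zero]
  have hdeg : Module.finrank F (degreeLT F D) = Module.finrank F V := by
    rw [(degreeLTEquiv F D).finrank_eq, Module.finrank_fin_fun, hD]
  have : FiniteDimensional F (degreeLT F D) := LinearEquiv.finiteDimensional (degreeLTEquiv F D).symm
  have hsurj : ∀ y, ∃ f : F[X], y = aeval N f x := fun y => by
    obtain ⟨f, rfl⟩ := (LinearMap.injective_iff_surjective_of_finrank_eq_finrank hdeg).1 hLi y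
    exact ⟨f.1, hL f⟩
  have hNz : N z = 0 := by
    rw [hz, ← Module.End.mul_apply, ← pow_succ', Nat.sub_add_cancel hD0, hND, LinearMap.zero_apply]
  have huz : toEnd u⁻¹ z = z := by
    have h : toEnd u z = z := by rwa [hN, LinearMap.sub_apply, Module.End.one_apply, sub_eq_zero] at hNz
    conv_lhs => rw [← h, ← Module.End.mul_apply, ← toEnd_mul, inv_mul_cancel]
    rfl
  have hcoef : ∀ f : F[X], (N ^ (D - 1)) (aeval N f x) = f.coeff 0 • z := fun f => by
    induction f using Polynomial.induction_on' with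
    | add a b ha hb => rw [map_add, LinearMap.add_apply, map_add, ha, hb, coeff_add, add_smul]
    | monomial i c =>
      rw [aeval_monomial, ← Algebra.smul_def, LinearMap.smul_apply, map_smul, ← Module.End.mul_apply, ← pow_add,
        coeff_monomial]
      rcases Nat.eq_zero_or_pos i with rfl | hi
      · rw [add_zero, if_pos rfl, hz]
      · rw [pow_eq_zero_of_le (by omega) hND, LinearMap.zero_apply, smul_zero, if_neg (by omega), zero_smul]
  have hodd : Odd (D - 1) := Nat.Even.sub_odd hD0 hev odd_one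
  have hadj : ∀ y, polar Q z y = polar Q x (-(((toEnd u⁻¹) ^ (D - 1)) ((N ^ (D - 1)) y))) := fun y => by
    have h := polar_aeval u ((X - 1) ^ (D - 1)) x y
    simp only [map_pow, map_sub, aeval_X, map_one, ← hN] at h
    rw [← hz] at h
    rw [h]
    congr 1
    have hc : Commute (toEnd u⁻¹) N := by
      rw [hN]
      refine Commute.sub_right ?_ (Commute.one_right _)
      rw [Commute, SemiconjBy, ← toEnd_mul, ← toEnd_mul, mul_inv_cancel, inv_mul_cancel]
    have he : toEnd u⁻¹ - 1 = -(toEnd u⁻¹ * N) := by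
      rw [hN, mul_sub, mul_one, ← toEnd_mul, inv_mul_cancel, toEnd_one, neg_sub]
    rw [he, hodd.neg_pow, hc.mul_pow, LinearMap.neg_apply, Module.End.mul_apply]
  have hpow : ∀ n : ℕ, ((toEnd u⁻¹) ^ n) z = z := fun n => by
    induction n with
    | zero => rfl
    | succ n ih => rw [pow_succ, Module.End.mul_apply, huz, ih]
  have hall : ∀ y, ∃ c : F, polar Q z y = c * polar Q x z ∧ (y = x → c = -1) := fun y => by
    by_cases hyx : y = x
    · subst hyx
      exact ⟨-1, by rw [hadj, ← hz, hpow, QuadraticMap.polar_neg_right, neg_one_mul], fun _ => rfl⟩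
    obtain ⟨f, rfl⟩ := hsurj y
    exact ⟨-f.coeff 0, by rw [hadj, hcoef, map_smul, hpow, QuadraticMap.polar_neg_right,
      QuadraticMap.polar_smul_right, smul_eq_mul, neg_mul], fun h => absurd h hyx⟩
  have hxz : polar Q x z = 0 := by
    obtain ⟨c, hc, hc1⟩ := hall x
    rw [hc1 rfl, QuadraticMap.polar_comm, neg_one_mul] at hc
    exact (mul_eq_zero.1 (show (2 : F) * polar Q x z = 0 by linear_combination hc)).resolve_left h2
  refine hx (hz ▸ hQ z fun y => ?_)
  obtain ⟨c, hc, -⟩ := hall y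
  rw [hc, hxz, mul_zero]

end Linear

section Eight

variable {p : ℕ} [hp : Fact p.Prime] [CharP F p] {ι : Type} [Fintype ι] [DecidableEq ι]
  {Q : QuadraticForm F (ι → F)}

/-- An irreducible characteristic polynomial does not occur in the plus space of dimension eight. -/
theorem not_irreducible (hp2 : p ≠ 2) (hQ : ∀ x, (∀ y, polar Q x y = 0) → x = 0) (hpl : IsPlus Q 4)
    (a : quadIsoms Q) (hr : Recip (toEnd a).charpoly) (hd : (toEnd a).charpoly.natDegree = 8)
    (hirr : Irreducible (toEnd a).charpoly)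
    (hdvd : (toEnd a).charpoly ∣ X ^ (Fintype.card F ^ 4 + 1) - 1) : False := by
  obtain ⟨q, hq⟩ : ∃ q, q = Fintype.card F := ⟨_, rfl⟩
  have hqo : Odd q := by
    obtain ⟨n, -, hn⟩ := FiniteField.card F p
    exact hq ▸ hn ▸ (hp.out.odd_of_ne_two hp2).pow
  have h1 : orderOf a ∣ q ^ 4 + 1 := hq ▸ orderOf_dvd_of_charpoly a hdvd
  obtain ⟨e, he⟩ := hpl
  obtain ⟨C, -⟩ := exists_conj (Q := qfPlus 4 F) (R := Q) e he
  have h2 : orderOf a ∣ 2 * q ^ (4 * 3) * (q ^ 4 - 1) * ((q ^ 2 - 1) * (q ^ 4 - 1) * (q ^ 6 - 1)) := by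
    have h := orderOf_dvd_natCard (C.symm a)
    rw [C.symm.orderOf_eq, card_qfPlus_isoms 3, ← hq, Finset.prod_range_succ, Finset.prod_range_succ,
      Finset.prod_range_one] at h
    exact h
  obtain ⟨m, hm⟩ : ∃ m, m = orderOf a := ⟨_, rfl⟩
  rw [← hm] at h1 h2
  have hq1 : 1 ≤ q := by obtain ⟨k, hk⟩ := hqo; omega
  obtain ⟨z, hz⟩ : ∃ z : ZMod m, z = q := ⟨_, rfl⟩
  have hz4 : z ^ 4 = -1 := by
    have h := (ZMod.natCast_eq_zero_iff _ m).2 h1
    push_cast at h
    rw [← hz] at h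
    linear_combination h
  have hz6 : z ^ 6 = -z ^ 2 := by linear_combination z ^ 2 * hz4
  have hz12 : z ^ 12 = -1 := by linear_combination (z ^ 8 - z ^ 4 + 1) * hz4
  have h := (ZMod.natCast_eq_zero_iff _ m).2 h2
  rw [Nat.cast_mul, Nat.cast_mul, Nat.cast_mul, Nat.cast_mul, Nat.cast_mul,
    Nat.cast_sub (Nat.one_le_pow _ _ hq1), Nat.cast_sub (Nat.one_le_pow _ _ hq1),
    Nat.cast_sub (Nat.one_le_pow _ _ hq1)] at h
  push_cast at h
  rw [← hz] at h
  norm_num [hz4, hz6, hz12] at h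
  have h16 : m ∣ 16 := (ZMod.natCast_eq_zero_iff _ m).1 (by
    push_cast
    linear_combination h + 8 * hz4)
  have hmod : (q ^ 4 + 1) % 4 = 2 := by
    obtain ⟨k, rfl⟩ := hqo
    rw [show (2 * k + 1) ^ 4 + 1 = 4 * (4 * k ^ 4 + 8 * k ^ 3 + 6 * k ^ 2 + 2 * k) + 2 by ring]
    omega
  have hm2 : m ∣ 2 := by
    obtain ⟨i, -, rfl⟩ := (Nat.dvd_prime_pow Nat.prime_two).1 (show m ∣ 2 ^ 4 from h16)
    rcases Nat.lt_or_ge i 2 with hi | hi
    · interval_cases i <;> norm_num
    · have := (pow_dvd_pow 2 hi).trans h1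
      omega
  obtain ⟨k, hk⟩ := hm ▸ hm2
  have ha2 : a ^ 2 = 1 := by rw [hk, pow_mul, pow_orderOf_eq_one, one_pow]
  have hcop : IsCoprime (toEnd a).charpoly ((X : F[X]) ^ 2 - 1) := by
    refine hirr.coprime_iff_not_dvd.2 fun h' => ?_
    have hne : ((X : F[X]) ^ 2 - 1) ≠ 0 := by
      rw [← map_one (Polynomial.C : F →+* F[X])]
      exact X_pow_sub_C_ne_zero two_pos 1
    have := natDegree_le_of_dvd h' hne
    rw [hd, ← map_one (Polynomial.C : F →+* F[X]), natDegree_X_pow_sub_C] at this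
    omega
  obtain ⟨u, v, huv⟩ := hcop
  have h' := congrArg (aeval (toEnd a)) huv
  rw [map_add, map_mul, map_mul, LinearMap.aeval_self_charpoly, mul_zero, zero_add, map_sub, map_pow, aeval_X,
    map_one, ← toEnd_pow, ha2, toEnd_one, sub_self, mul_zero] at h'
  have hc : (toEnd a).charpoly.natDegree = Fintype.card ι := by
    rw [LinearMap.charpoly_natDegree, Module.finrank_fintype_fun_eq_card]
  rw [hd] at hc
  obtain ⟨i⟩ : Nonempty ι := Fintype.card_pos_iff.1 (by omega)
  have := congrFun (LinearMap.congr_fun h' (Pi.single i 1)) i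
  simp at this

set_option maxHeartbeats 1000000 in
/-- In the pair case the roots are squares, the spinor norm being trivial. -/
theorem pair_case (hp2 : p ≠ 2) (hQ : ∀ x, (∀ y, polar Q x y = 0) → x = 0) (hcard : Fintype.card ι = 8)
    {a : quadIsoms Q} (ha : a ∈ commutator (quadIsoms Q)) (hf : IsPair (toEnd a).charpoly 4) :
    orderOf a ∣ (Fintype.card F ^ 4 - 1) / 2 := by
  classical
  have h2 := two_ne_zero_of_char (F := F) hp2
  obtain ⟨P, hP, hPm, hP0, hPd, hne, hχ⟩ := hf
  obtain ⟨P', hP'⟩ : ∃ P', P' = SemiPalin.tilde (RingHom.id F) P := ⟨_, rfl⟩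
  rw [← hP'] at hne hχ
  obtain ⟨hP'm, hP'd, hP'c⟩ := SemiPalin.tilde_facts (RingHom.id F) hPm hP0
  have hP'i := SemiPalin.tilde_irreducible (RingHom.id F) (fun _ => rfl) hPm hP0 hP
  have hP't : SemiPalin.tilde (RingHom.id F) P' = P := by
    rw [hP', SemiPalin.tilde_tilde _ (fun _ => rfl) hPm hP0]
  rw [← hP'] at hP'm hP'd hP'c hP'i
  have hP'0 : P'.coeff 0 ≠ 0 := by rw [hP'c]; simpa using hP0
  have hcop : IsCoprime P P' := hP.coprime_iff_not_dvd.2 fun h =>
    hne (eq_of_monic_of_associated hPm hP'm (hP.associated_of_dvd hP'i h)).symm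
  obtain ⟨u, v, huv⟩ := hcop
  let T := toEnd a
  let U := LinearMap.ker (aeval T P)
  let U' := LinearMap.ker (aeval T P')
  have hone : ∀ x, aeval T u (aeval T P x) + aeval T v (aeval T P' x) = x := fun x => by
    have := LinearMap.congr_fun (congrArg (aeval T) huv) x
    rwa [map_add, map_mul, map_mul, map_one] at this
  have hzero : ∀ x, aeval T P (aeval T P' x) = 0 ∧ aeval T P' (aeval T P x) = 0 := fun x => by
    rw [← Module.End.mul_apply, ← Module.End.mul_apply, ← map_mul, ← map_mul, mul_comm P' P, ← hχ,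
      LinearMap.aeval_self_charpoly]
    exact ⟨rfl, rfl⟩
  have hcomm : ∀ (f g : F[X]) x, aeval T f (aeval T g x) = aeval T g (aeval T f x) := fun f g x => by
    rw [← Module.End.mul_apply, ← Module.End.mul_apply, ← map_mul, ← map_mul, mul_comm]
  have hsum : ∀ x, ∃ y ∈ U, ∃ z ∈ U', x = y + z := fun x => by
    refine ⟨aeval T v (aeval T P' x), ?_, aeval T u (aeval T P x), ?_, by rw [add_comm, hone]⟩
    · rw [LinearMap.mem_ker, hcomm P v, (hzero x).1, map_zero]
    · rw [LinearMap.mem_ker, hcomm P' u, (hzero x).2, map_zero]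
  have hts : ∀ (A B : F[X]) (w : F[X]), B.coeff 0 ≠ 0 → SemiPalin.tilde (RingHom.id F) B = A →
      (∀ x, aeval T A x = 0 → aeval T B (aeval T w x) = x) →
      ∀ x, aeval T A x = 0 → ∀ y, aeval T A y = 0 → polar Q x y = 0 := by
    intro A B w hB0 hBt hw x hx y hy
    rw [← hw x hx, polar_aeval]
    obtain ⟨c, n, hc⟩ := aeval_inv_of_tilde a hB0
    rw [hc, hBt, LinearMap.smul_apply, Module.End.mul_apply, hy, map_zero, smul_zero,
      QuadraticMap.polar_zero_right]
  have hU : ∀ x ∈ U, ∀ y ∈ U, polar Q x y = 0 := fun x hx y hy => hts P P' v hP'0 hP't (fun z hz => by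
    have := hone z
    rw [hz, map_zero, zero_add, ← hcomm P' v] at this
    exact this) x hx y hy
  have hU' : ∀ x ∈ U', ∀ y ∈ U', polar Q x y = 0 := fun x hx y hy => hts P' P u hP0 hP'.symm (fun z hz => by
    have := hone z
    rw [hz, map_zero, add_zero, ← hcomm P u] at this
    exact this) x hx y hy
  have hinj : ∀ y ∈ U', (∀ x ∈ U, polar Q x y = 0) → y = 0 := fun y hy h => hQ y fun w => by
    obtain ⟨x, hx, z, hz, rfl⟩ := hsum w
    rw [QuadraticMap.polar_add_right, QuadraticMap.polar_comm, h x hx, hU' y hy z hz, add_zero]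
  have hinj' : ∀ x ∈ U, (∀ y ∈ U', polar Q x y = 0) → x = 0 := fun x hx h => hQ x fun w => by
    obtain ⟨z, hz, y, hy, rfl⟩ := hsum w
    rw [QuadraticMap.polar_add_right, h y hy, hU x hx z hz, add_zero]
  have hdimU : Module.finrank F U = 4 ∧ Module.finrank F U' = 4 := by
    let B₁ : U' →ₗ[F] Module.Dual F U := (Q.polarBilin.compl₁₂ U'.subtype U.subtype)
    let B₂ : U →ₗ[F] Module.Dual F U' := (Q.polarBilin.compl₁₂ U.subtype U'.subtype)
    have e1 : Module.finrank F U' ≤ Module.finrank F U := by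
      rw [← Subspace.dual_finrank_eq (V := U)]
      refine LinearMap.finrank_le_finrank_of_injective (f := B₁) ((injective_iff_map_eq_zero _).2 fun y hy =>
        Subtype.ext (hinj y.1 y.2 fun x hx => ?_))
      rw [QuadraticMap.polar_comm]
      exact LinearMap.congr_fun hy ⟨x, hx⟩
    have e2 : Module.finrank F U ≤ Module.finrank F U' := by
      rw [← Subspace.dual_finrank_eq (V := U')]
      exact LinearMap.finrank_le_finrank_of_injective (f := B₂) ((injective_iff_map_eq_zero _).2 fun y hy =>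
        Subtype.ext (hinj' y.1 y.2 fun x hx => LinearMap.congr_fun hy ⟨x, hx⟩))
    have e3 : U ⊔ U' = ⊤ := eq_top_iff.2 fun x _ => by
      obtain ⟨y, hy, z, hz, rfl⟩ := hsum x
      exact Submodule.add_mem_sup hy hz
    have e4 : U ⊓ U' = ⊥ := (Submodule.eq_bot_iff _).2 fun x hx => by
      have := hone x
      rw [LinearMap.mem_ker.1 hx.1, LinearMap.mem_ker.1 hx.2, map_zero, map_zero, add_zero] at this
      exact this.symm
    have e5 := Submodule.finrank_sup_add_finrank_inf_eq U U'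
    rw [e3, e4, finrank_top, finrank_bot, Module.finrank_fintype_fun_eq_card, hcard] at e5
    omega
  let b : Module.Basis (Fin 4) F U := Module.finBasisOfFinrankEq F U hdimU.1
  let ψ₀ : U' →ₗ[F] (Fin 4 → F) := LinearMap.pi fun i => (Q.polarBilin (b i).1) ∘ₗ U'.subtype
  have hψ₀ : ∀ y i, ψ₀ y i = polar Q (b i).1 y.1 := fun y i => rfl
  have hψi : Function.Injective ψ₀ := (injective_iff_map_eq_zero _).2 fun y hy =>
    Subtype.ext (hinj y.1 y.2 fun x hx => by
      have h : (Q.polarBilin.flip y.1) ∘ₗ U.subtype = 0 := b.ext fun i => congrFun hy i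
      exact LinearMap.congr_fun h ⟨x, hx⟩)
  let ψ := LinearEquiv.ofBijective ψ₀ ⟨hψi, (LinearMap.injective_iff_surjective_of_finrank_eq_finrank
    (by rw [hdimU.2, Module.finrank_fin_fun])).1 hψi⟩
  let e₀ : (Fin 4 ⊕ Fin 4 → F) →ₗ[F] (ι → F) :=
    U.subtype ∘ₗ b.equivFun.symm.toLinearMap ∘ₗ LinearMap.funLeft F F Sum.inl +
      U'.subtype ∘ₗ ψ.symm.toLinearMap ∘ₗ LinearMap.funLeft F F Sum.inr
  have he₀ : ∀ w, e₀ w = (b.equivFun.symm (w ∘ Sum.inl)).1 + (ψ.symm (w ∘ Sum.inr)).1 := fun w => rfl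
  have hQ0 : ∀ (W : Submodule F (ι → F)), (∀ x ∈ W, ∀ y ∈ W, polar Q x y = 0) → ∀ x ∈ W, Q x = 0 :=
    fun W hW x hx => by
      have h := hW x hx x hx
      rw [polar_self_two] at h
      exact (mul_eq_zero.1 h).resolve_left h2
  have hQe : ∀ w, Q (e₀ w) = qfPlus 4 F w := fun w => by
    rw [he₀, QuadraticMap.map_add Q, hQ0 U hU _ (Subtype.coe_prop _), hQ0 U' hU' _ (Subtype.coe_prop _),
      zero_add, zero_add, qfPlus_apply]
    rw [Module.Basis.equivFun_symm_apply, Submodule.coe_sum, ← QuadraticMap.polarBilin_apply_apply, map_sum,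
      LinearMap.sum_apply]
    refine Finset.sum_congr rfl fun i _ => ?_
    rw [Submodule.coe_smul, map_smul, LinearMap.smul_apply, QuadraticMap.polarBilin_apply_apply, ← hψ₀, smul_eq_mul]
    exact congrArg _ (congrFun (ψ.apply_symm_apply (w ∘ Sum.inr)) i)
  let e := LinearEquiv.ofBijective e₀ (⟨OrthType.injective_of_preserving (qfPlus_sep 4) e₀ hQe,
    (LinearMap.injective_iff_surjective_of_finrank_eq_finrank (by simp [hcard])).1
      (OrthType.injective_of_preserving (qfPlus_sep 4) e₀ hQe)⟩)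
  obtain ⟨C, hC⟩ := exists_conj (Q := qfPlus 4 F) (R := Q) e hQe
  obtain ⟨g, rfl⟩ : ∃ g, C g = a := C.surjective a
  have hg : g ∈ commutator (quadIsoms (qfPlus 4 F)) := by
    have h := map_comm C.symm.toMonoidHom ha
    rwa [MulEquiv.coe_toMonoidHom, C.symm_apply_apply] at h
  have hTU : ∀ (A : F[X]), ∀ x ∈ LinearMap.ker (aeval T A), T x ∈ LinearMap.ker (aeval T A) := fun A x hx => by
    rw [LinearMap.mem_ker, show T x = aeval T (X : F[X]) x by rw [aeval_X], hcomm, LinearMap.mem_ker.1 hx, map_zero]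
  obtain ⟨R, hR⟩ : ∃ R, R = T.restrict (hTU P) := ⟨_, rfl⟩
  obtain ⟨A, hA⟩ : ∃ A, A = LinearMap.toMatrix b b R := ⟨_, rfl⟩
  have hAv : ∀ x, b.equivFun (R x) = A *ᵥ b.equivFun x := fun x => by
    rw [hA, Module.Basis.equivFun_apply, Module.Basis.equivFun_apply, LinearMap.toMatrix_mulVec_repr]
  have hu : ∀ x, (g.1 (Sum.elim x (0 : Fin 4 → F))) = Sum.elim (A *ᵥ x) (0 : Fin 4 → F) := fun x => e.injective (by
    rw [← hC]
    show (C g).1 (e₀ _) = e₀ _
    rw [he₀, he₀, Sum.elim_comp_inl, Sum.elim_comp_inr, Sum.elim_comp_inl, Sum.elim_comp_inr, map_zero]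
    simp only [Submodule.coe_zero, add_zero]
    show T _ = _
    have : A *ᵥ x = b.equivFun (R (b.equivFun.symm x)) := by rw [hAv, LinearEquiv.apply_symm_apply]
    rw [this, LinearEquiv.symm_apply_apply, hR]
    rfl)
  have hu' : ∀ y, ∃ y', g.1 (Sum.elim (0 : Fin 4 → F) y) = Sum.elim (0 : Fin 4 → F) y' := fun y => by
    refine ⟨ψ ⟨T (ψ.symm y).1, hTU P' _ (ψ.symm y).2⟩, e.injective ?_⟩
    rw [← hC]
    show (C g).1 (e₀ _) = e₀ _
    rw [he₀, he₀, Sum.elim_comp_inl, Sum.elim_comp_inr, Sum.elim_comp_inl, Sum.elim_comp_inr, map_zero,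
      LinearEquiv.symm_apply_apply]
    simp only [Submodule.coe_zero, zero_add]
    rfl
  have hAdet : A.det ≠ 0 := fun h => by
    obtain ⟨x, hx, hx0⟩ := Matrix.exists_mulVec_eq_zero_iff.2 h
    have h' : g.1 (Sum.elim x (0 : Fin 4 → F)) = 0 := by rw [hu, hx0]; funext k; rcases k with k | k <;> rfl
    rw [LinearEquiv.map_eq_zero_iff] at h'
    exact hx (funext fun i => congrFun h' (Sum.inl i))
  obtain ⟨Φ, hΦ⟩ := exists_levi (F := F) 4
  have hgA : orEquiv (qfPlus 4 F) g = Φ (Matrix.GeneralLinearGroup.mkOfDetNeZero A hAdet) := by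
    refine Subtype.ext (Units.ext (Matrix.ext_iff_mulVec.2 fun w => ?_))
    rw [orEquiv_mulVec, hΦ, Matrix.fromBlocks_mulVec, Matrix.zero_mulVec, Matrix.zero_mulVec, add_zero, zero_add]
    obtain ⟨x, y, rfl⟩ : ∃ x y : Fin 4 → F, w = Sum.elim x (0 : Fin 4 → F) + Sum.elim (0 : Fin 4 → F) y :=
      ⟨w ∘ Sum.inl, w ∘ Sum.inr, funext fun k => by rcases k with k | k <;> simp⟩
    have e1 : (Sum.elim x (0 : Fin 4 → F) + Sum.elim (0 : Fin 4 → F) y) ∘ Sum.inl = x := funext fun i => by simp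
    have e2 : (Sum.elim x (0 : Fin 4 → F) + Sum.elim (0 : Fin 4 → F) y) ∘ Sum.inr = y := funext fun i => by simp
    obtain ⟨y', hy'⟩ := hu' y
    have hyy : A.transpose *ᵥ y' = y := dotProduct_eq _ _ fun z => by
      have h := polar_quadIsom g.2 (Sum.elim z (0 : Fin 4 → F)) (Sum.elim (0 : Fin 4 → F) y)
      rw [hu, hy', polar_qfPlus, polar_qfPlus] at h
      simp only [Sum.elim_inl, Sum.elim_inr, Pi.zero_apply, mul_zero, add_zero] at h
      rw [dotProduct_comm, dotProduct_comm y, Matrix.dotProduct_mulVec, Matrix.vecMul_transpose]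
      exact h
    rw [e1, e2, map_add, hu, hy']
    show _ = Sum.elim (A *ᵥ x) (A⁻¹.transpose *ᵥ y)
    rw [← hyy, Matrix.mulVec_mulVec, ← Matrix.transpose_mul, Matrix.mul_nonsing_inv _ (Ne.isUnit hAdet),
      Matrix.transpose_one, Matrix.one_mulVec]
    funext k
    rcases k with k | k <;> simp
  have hcard2 : Fintype.card F ≠ 2 ∨ (4 : ℕ) ≠ 2 := Or.inr (by norm_num)
  have hsq : IsSquare A.det := by
    rw [mem_iff_spinor (qfPlus_sep 4) h2, hgA] at hg
    exact (levi_spinor (by norm_num) hcard2 hΦ _).1 hg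
  have hRP : aeval R P = 0 := by
    have hres : ∀ (f : F[X]) (x : LinearMap.ker (aeval T P)), (aeval R f x).1 = aeval T f x.1 := fun f x => by
      induction f using Polynomial.induction_on generalizing x with
      | C c => simp
      | add f₁ f₂ h₁ h₂ => simp only [map_add, LinearMap.add_apply, Submodule.coe_add, h₁, h₂]
      | monomial i c ih =>
        rw [pow_succ, ← mul_assoc, map_mul (aeval R), map_mul (aeval T), aeval_X, aeval_X, Module.End.mul_apply,
          Module.End.mul_apply, ih]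
        congr 1
        rw [hR]
        rfl
    exact LinearMap.ext fun x => Subtype.ext ((hres P x).trans x.2)
  have hcp : R.charpoly = P := by
    have hU0 : Nontrivial U := Module.nontrivial_of_finrank_pos (R := F) (by rw [hdimU.1]; norm_num)
    have hmin := minpoly.eq_of_irreducible_of_monic (B := Module.End F U) hP hRP hPm
    exact (Polynomial.eq_of_monic_of_dvd_of_natDegree_le hPm R.charpoly_monic
      ((dvd_of_eq hmin).trans R.minpoly_dvd_charpoly) (by rw [R.charpoly_natDegree, hdimU.1, hPd]))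
  have hdetA : A.det = P.coeff 0 := by
    rw [hA, LinearMap.det_toMatrix, LinearMap.det_eq_sign_charpoly_coeff, hcp, hdimU.1]
    ring
  -- roots
  have := Fact.mk hP
  have : Module.Finite F (AdjoinRoot P) := (AdjoinRoot.powerBasis hP.ne_zero).finite
  have : Finite (AdjoinRoot P) := Module.finite_of_finite F
  obtain ⟨k, hk⟩ : Odd (Fintype.card F) := by
    obtain ⟨n, -, hn⟩ := FiniteField.card F p
    exact hn ▸ (hp.out.odd_of_ne_two hp2).pow
  obtain ⟨t, ht⟩ := hsq
  have hnorm : Algebra.norm F (AdjoinRoot.root P) = A.det := by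
    rw [← AdjoinRoot.powerBasis_gen hP.ne_zero, Algebra.PowerBasis.norm_gen_eq_coeff_zero_minpoly,
      AdjoinRoot.minpoly_powerBasis_gen_of_monic hPm, AdjoinRoot.powerBasis_dim, hPd, hdetA]
    ring
  have hdimK : Module.finrank F (AdjoinRoot P) = 4 := by
    rw [(AdjoinRoot.powerBasis hP.ne_zero).finrank, AdjoinRoot.powerBasis_dim, hPd]
  have hM : (Fintype.card F ^ 4 - 1) / 2 = (1 + Fintype.card F + Fintype.card F ^ 2 + Fintype.card F ^ 3) * k := by
    have h4 : Fintype.card F ^ 4 - 1 =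
        2 * ((1 + Fintype.card F + Fintype.card F ^ 2 + Fintype.card F ^ 3) * k) :=
      Nat.sub_eq_of_eq_add (by rw [hk]; ring)
    rw [h4, Nat.mul_div_cancel_left _ two_pos]
  have hroot : (AdjoinRoot.root P) ^ ((Fintype.card F ^ 4 - 1) / 2) = 1 := by
    have h := congrArg (fun z => algebraMap F (AdjoinRoot P) (z ^ k)) hnorm
    simp only [map_pow, FiniteField.algebraMap_norm_eq_prod_pow, hdimK, Finset.prod_range_succ,
      Finset.prod_range_zero, one_mul, Nat.card_eq_fintype_card] at h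
    rw [← pow_add, ← pow_add, ← pow_add, ← pow_mul, pow_zero, pow_one, ← hM] at h
    rw [h, ← map_pow, ht, ← pow_two, ← pow_mul, show 2 * k = Fintype.card F - 1 by omega,
      FiniteField.pow_card_sub_one_eq_one _ (fun h0 => hAdet (by rw [ht, h0, mul_zero])), map_one]
  have hd : P ∣ X ^ ((Fintype.card F ^ 4 - 1) / 2) - 1 := KnownA.RecipOrder.dvd_of_root_eq_one hroot
  have hM1 : 1 ≤ (Fintype.card F ^ 4 - 1) / 2 := by
    rw [hM]
    have : 1 < Fintype.card F := Fintype.one_lt_card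
    exact Nat.mul_pos (by omega) (by omega)
  have hd' : P' ∣ X ^ ((Fintype.card F ^ 4 - 1) / 2) - 1 := by
    obtain ⟨w, hw⟩ := hd
    exact ⟨SemiPalin.tilde (RingHom.id F) w, by
      rw [hP', ← SemiPalin.tilde_mul, ← hw, KnownA.RecipOrder.tilde_X_pow_sub_one hM1]⟩
  refine orderOf_dvd_of_charpoly (C g) ?_
  rw [hχ]
  exact IsCoprime.mul_dvd ⟨u, v, huv⟩ hd hd'

end Eight

section Main

variable {p : ℕ} [hp : Fact p.Prime] [CharP F p]

/-- The `p'`-part of an element, as a power of it. -/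
theorem exists_parts {G : Type*} [Group G] [Finite G] (g : G) :
    ∃ (e m j : ℕ) (s : G), orderOf g = p ^ e * m ∧ ¬ p ∣ m ∧ s = g ^ j ∧ orderOf s = m ∧
      g ^ p ^ e = s ^ p ^ e ∧ (2 ∣ m → Odd j) := by
  obtain ⟨e, m, hpm, hgm⟩ := Nat.exists_eq_pow_mul_and_not_dvd (orderOf_pos g).ne' p hp.out.ne_one
  have hcop : Nat.Coprime (p ^ e) m := (hp.out.coprime_iff_not_dvd.2 hpm).pow_left e
  have hm0 : m ≠ 0 := fun h => hpm (h ▸ dvd_zero p)
  obtain ⟨k, hk⟩ : ∃ k, p ^ e * k ≡ 1 [MOD m] := by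
    refine ⟨(p ^ e) ^ (m.totient - 1), ?_⟩
    rw [← pow_succ', Nat.sub_add_cancel (Nat.totient_pos.2 (Nat.pos_of_ne_zero hm0))]
    exact Nat.ModEq.pow_totient hcop
  have hdvd : orderOf (g ^ p ^ e) = m := by
    rw [orderOf_pow_of_dvd (pow_pos hp.out.pos e).ne' (hgm ▸ dvd_mul_right _ _), hgm,
      Nat.mul_div_cancel_left _ (pow_pos hp.out.pos e)]
  have hs : (g ^ (p ^ e * k)) ^ p ^ e = g ^ p ^ e := by
    rw [← pow_mul, mul_comm (p ^ e * k), pow_mul]
    conv_rhs => rw [← pow_one (g ^ p ^ e)]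
    rw [pow_eq_pow_iff_modEq, hdvd]
    exact hk
  refine ⟨e, m, p ^ e * k, _, hgm, hpm, rfl, Nat.dvd_antisymm ?_ ?_, hs.symm, fun h2 => ?_⟩
  · rw [pow_mul]
    exact hdvd ▸ orderOf_pow_dvd k
  · conv_lhs => rw [← hdvd, ← hs]
    exact orderOf_pow_dvd _
  · rw [Nat.odd_iff]
    obtain ⟨m', rfl⟩ := h2
    exact hk.of_mul_right m'

theorem smul_pow_apply {ι : Type} {Q : QuadraticForm F (ι → F)} (g : quadIsoms Q) {v : ι → F} {c : F}
    (h : g.1 v = c • v) (n : ℕ) : (g ^ n).1 v = c ^ n • v := by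
  induction n with
  | zero => simp
  | succ n ih =>
    rw [pow_succ]
    show (g ^ n).1 (g.1 v) = _
    rw [h, map_smul, ih, smul_smul, pow_succ']

/-- Isometries with `u - 1` nilpotent of index at most `r` have order dividing `p ^ clog p r`. -/
theorem orderOf_dvd_clog {V : Type*} [AddCommGroup V] [Module F V] [FiniteDimensional F V] {Q : QuadraticForm F V}
    (u : quadIsoms Q) {r : ℕ} (h : (toEnd u - 1) ^ r = 0) : orderOf u ∣ p ^ Nat.clog p r := by
  refine orderOf_dvd_of_pow_eq_one (eq_one_of_toEnd ?_)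
  rcases subsingleton_or_nontrivial V with hV | hV
  · exact Subsingleton.elim _ _
  have : CharP (Module.End F V) p :=
    charP_of_injective_algebraMap (algebraMap F (Module.End F V)).injective p
  have h' : (toEnd u - 1) ^ p ^ Nat.clog p r = 0 := pow_eq_zero_of_le (Nat.le_pow_clog hp.out.one_lt r) h
  rwa [sub_pow_char_pow_of_commute (p := p) _ (Commute.one_right _), one_pow, sub_eq_zero, ← toEnd_pow] at h'

theorem nilpotent_of_pow {V : Type*} [AddCommGroup V] [Module F V] {Q : QuadraticForm F V}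
    (u : quadIsoms Q) {e : ℕ} (h : u ^ p ^ e = 1) : IsNilpotent (toEnd u - 1) := by
  refine ⟨p ^ e, ?_⟩
  rcases subsingleton_or_nontrivial V with hV | hV
  · exact Subsingleton.elim _ _
  have : CharP (Module.End F V) p :=
    charP_of_injective_algebraMap (algebraMap F (Module.End F V)).injective p
  rw [sub_pow_char_pow_of_commute (p := p) e (Commute.one_right _), one_pow, ← toEnd_pow, h, toEnd_one, sub_self]

variable {ι : Type} [Fintype ι] [DecidableEq ι] {Q : QuadraticForm F (ι → F)}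

/-- The orders of elements without fixed vectors in `Ω` of the plus space of dimension eight. -/
theorem classify_plus (hp2 : p ≠ 2) (hQ : ∀ x, (∀ y, polar Q x y = 0) → x = 0) (hcard : Fintype.card ι = 8)
    (hpl : IsPlus Q 4) {a : quadIsoms Q} (ha : a ∈ commutator (quadIsoms Q))
    (hfix : ∀ v, a.1 v = v → v = 0) : Target p (Fintype.card F) (orderOf a) := by
  classical
  have h2 := two_ne_zero_of_char (F := F) hp2
  have hdeg : (toEnd a).charpoly.natDegree = 8 := by
    rw [LinearMap.charpoly_natDegree, Module.finrank_fintype_fun_eq_card, hcard]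
  have mono : ∀ {N L}, Target p (Fintype.card F) N → L ∣ N → Target p (Fintype.card F) L := by
    intro N L h hL
    rcases h with h | h | h | h | h | h | h | h
    exacts [Or.inl (hL.trans h), Or.inr (Or.inl (hL.trans h)), Or.inr (Or.inr (Or.inl (hL.trans h))),
      Or.inr (Or.inr (Or.inr (Or.inl (hL.trans h)))), Or.inr (Or.inr (Or.inr (Or.inr (Or.inl (hL.trans h))))),
      Or.inr (Or.inr (Or.inr (Or.inr (Or.inr (Or.inl (hL.trans h)))))),
      Or.inr (Or.inr (Or.inr (Or.inr (Or.inr (Or.inr (Or.inl (hL.trans h))))))),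
      Or.inr (Or.inr (Or.inr (Or.inr (Or.inr (Or.inr (Or.inr (hL.trans h)))))))]
  by_cases hneg : ∀ v, a.1 v = -v → v = 0
  · have hr := recip_charpoly hQ a hfix hneg
    rcases degree_eight (p := p) hp2 hr hdeg with ⟨N, hN, hd⟩ | hpair | ⟨hirr, hd⟩
    · exact mono hN (orderOf_dvd_of_charpoly a hd)
    · refine Or.inl ((pair_case (p := p) hp2 hQ hcard ha hpair).trans ?_)
      obtain ⟨k, hk⟩ : Odd (Fintype.card F) := by
        obtain ⟨n, -, hn⟩ := FiniteField.card F p
        exact hn ▸ (hp.out.odd_of_ne_two hp2).pow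
      have hA : Fintype.card F ^ 2 - 1 = 2 * (2 * k ^ 2 + 2 * k) := Nat.sub_eq_of_eq_add (by rw [hk]; ring)
      have hB : Fintype.card F ^ 2 + 1 = 2 * (2 * k ^ 2 + 2 * k + 1) := by rw [hk]; ring
      have h4 : Fintype.card F ^ 4 - 1 = 2 * (2 * ((2 * k ^ 2 + 2 * k) * (2 * k ^ 2 + 2 * k + 1))) :=
        Nat.sub_eq_of_eq_add (by rw [hk]; ring)
      rw [hA, hB, h4, Nat.mul_div_cancel_left _ two_pos, Nat.lcm_mul_left,
        ((Nat.coprime_self_add_right).2 (Nat.coprime_one_right _)).lcm_eq_mul]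
    · exact (not_irreducible (p := p) hp2 hQ hpl a hr hdeg hirr hd).elim
  push Not at hneg
  obtain ⟨v, hv, hv0⟩ := hneg
  have : Finite (quadIsoms Q) := Finite.of_injective (orEquiv Q) (orEquiv Q).injective
  obtain ⟨e, m, j, s, hord, hpm, hsj, hsm, hse, hjodd⟩ := exists_parts (p := p) a
  have hodd : Odd (p ^ e) := (hp.out.odd_of_ne_two hp2).pow
  -- eigenvectors for `-1` of `a` are fixed by `-s`
  have hneg_fix : ∀ w, a.1 w = -w → s.1 w = -w := by
    intro w hw
    have hw' : a.1 w = (-1 : F) • w := by rw [hw, neg_one_smul]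
    by_cases hw0 : w = 0
    · rw [hw0, map_zero, neg_zero]
    have h1 := smul_pow_apply a hw' (orderOf a)
    rw [pow_orderOf_eq_one] at h1
    change w = _ at h1
    have hev : 2 ∣ m := by
      rw [← even_iff_two_dvd]
      by_contra ho
      rw [hord, (hodd.mul (Nat.not_even_iff_odd.1 ho)).neg_one_pow, neg_one_smul] at h1
      have : (2 : F) • w = 0 := by rw [two_smul]; exact eq_neg_iff_add_eq_zero.1 h1
      exact hw0 ((smul_eq_zero.1 this).resolve_left h2)
    rw [hsj, smul_pow_apply a hw' j, (hjodd hev).neg_one_pow, neg_one_smul]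
  obtain ⟨z, hz⟩ : ∃ z, z = negQ Q * s := ⟨_, rfl⟩
  have hzN : z ^ (2 * m) = 1 := by
    rw [hz, (commute_negQ s).mul_pow, pow_mul, negQ_sq, one_pow, one_mul, mul_comm, pow_mul, ← hsm,
      pow_orderOf_eq_one, one_pow]
  have hmF : ((2 * m : ℕ) : F) ≠ 0 := by
    rw [Nat.cast_mul, Nat.cast_ofNat]
    exact mul_ne_zero h2 fun h => hpm ((CharP.cast_eq_zero_iff F p m).1 h)
  obtain ⟨d, r, φ, ψ, hdr, S, hW, hX, hsplit⟩ := exists_fix_split hQ z hzN hmF
  have hcz : Commute z a := by
    rw [hz, hsj]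
    exact (commute_negQ a).mul_left ((Commute.refl a).pow_left j)
  obtain ⟨a', b', ha', hb'⟩ := hsplit a hcz
  have hzv : ∀ w, a.1 w = -w → z.1 w = w := fun w hw => by
    rw [hz]
    show -(s.1 w) = w
    rw [hneg_fix w hw, neg_neg]
  have h1' : ∀ x, a'.1 x = x → x = 0 := fun x hx => S.inj₁ (by
    rw [map_zero]; exact hfix _ (by rw [ha', hx]))
  have hn' : ∀ x, a'.1 x = -x → x = 0 := fun x hx => hX x (hzv _ (by rw [ha', hx, map_neg]))
  have hr := recip_charpoly S.sep₁ a' h1' hn'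
  have hd : (toEnd a').charpoly.natDegree = d := by
    rw [LinearMap.charpoly_natDegree, Module.finrank_fin_fun]
  have hdev : Even d := hd ▸ hr.even_natDegree p
  have hr0 : 0 < r := by
    by_contra h
    have hr' : r = 0 := by omega
    subst hr'
    obtain ⟨x, y, hxy⟩ := S.span v
    have hy : y = 0 := Subsingleton.elim _ _
    rw [hy, map_zero, add_zero] at hxy
    exact hv0 (by rw [hxy, hX x (by rw [← hxy]; exact hzv v hv), map_zero])
  rw [hcard] at hdr
  have hrev : Even r := by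
    rw [Nat.even_iff] at hdev ⊢
    omega
  obtain ⟨u, hu⟩ : ∃ u, u = negQ (Q.comp ψ) * b' := ⟨_, rfl⟩
  have hup : u ^ p ^ e = 1 := by
    refine Subtype.ext (LinearEquiv.ext fun y => S.inj₂ ?_)
    rw [hu, (commute_negQ b').mul_pow]
    show ψ (((negQ (Q.comp ψ)) ^ p ^ e).1 ((b' ^ p ^ e).1 y)) = ψ y
    obtain ⟨t, ht⟩ := hodd
    have hnp : ∀ w, ((negQ (Q.comp ψ)) ^ p ^ e).1 w = -w := fun w => by
      rw [ht, pow_succ, pow_mul, negQ_sq, one_pow, one_mul, negQ_apply]
    rw [hnp, map_neg, ← pow_intertwine ψ hb', hse]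
    have hsy : s.1 (ψ y) = (-1 : F) • ψ y := by
      have := hW y
      rw [hz] at this
      rw [neg_one_smul]
      exact neg_eq_iff_eq_neg.1 this
    rw [smul_pow_apply s hsy, ht, pow_succ, pow_mul, neg_one_sq, one_pow, one_mul, neg_one_smul, neg_neg]
  have hu' := unip_pow_pred S.sep₂ h2 u (nilpotent_of_pow u hup) (Module.finrank_fin_fun F) hrev hr0
  have hb'o : orderOf b' ∣ Nat.lcm 2 (p ^ Nat.clog p (r - 1)) := by
    have hbu : b' = negQ _ * u := by rw [hu, ← mul_assoc, ← pow_two, negQ_sq, one_mul]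
    rw [hbu]
    exact (commute_negQ u).orderOf_mul_dvd_lcm.trans (Nat.lcm_dvd ((orderOf_dvd_of_pow_eq_one negQ_sq).trans
      (Nat.dvd_lcm_left _ _)) ((orderOf_dvd_clog (p := p) u hu').trans (Nat.dvd_lcm_right _ _)))
  have key : ∀ N, (toEnd a').charpoly ∣ X ^ N - 1 →
      Target p (Fintype.card F) (Nat.lcm N (Nat.lcm 2 (p ^ Nat.clog p (r - 1)))) →
      Target p (Fintype.card F) (orderOf a) := fun N hN hT => by
    refine mono hT ?_
    rw [S.orderOf_eq ha' hb']
    exact Nat.lcm_dvd ((orderOf_dvd_of_charpoly a' hN).trans (Nat.dvd_lcm_left _ _))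
      (hb'o.trans (Nat.dvd_lcm_right _ _))
  obtain ⟨c1, c2, c3⟩ := clog_small p hp2
  obtain ⟨s1, s2⟩ := dvd_sq_sub_one (Fintype.card F)
  have hq : Odd (Fintype.card F) := by
    obtain ⟨n, -, hn⟩ := FiniteField.card F p
    exact hn ▸ (hp.out.odd_of_ne_two hp2).pow
  obtain ⟨t1, t2⟩ := dvd_half_sq_sub_one hq
  have e1 : 2 ∣ Fintype.card F - 1 := even_iff_two_dvd.1 (Nat.Odd.sub_odd hq odd_one)
  have e2 : 2 ∣ Fintype.card F + 1 := even_iff_two_dvd.1 hq.add_one
  have l1 := @Nat.dvd_lcm_left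
  have l2 := @Nat.dvd_lcm_right
  rcases hdev with ⟨c, rfl⟩
  have hc : c ≤ 3 := by omega
  interval_cases c
  · refine key 1 (degree_zero hr (by omega) 1) ?_
    obtain rfl : r = 8 := by omega
    refine Or.inr (Or.inr (Or.inr (Or.inr (Or.inr (Or.inr (Or.inr ?_))))))
    rw [Nat.lcm_one_left]
  · obtain ⟨N, hN, hd'⟩ := degree_two (p := p) hp2 hr (by omega)
    refine key N hd' ?_
    obtain rfl : r = 6 := by omega
    refine Or.inr (Or.inr (Or.inr (Or.inr (Or.inr (Or.inr (Or.inl ?_))))))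
    refine Nat.lcm_dvd ?_ (Nat.lcm_dvd ?_ (l2 _ _))
    · rcases hN with rfl | rfl
      exacts [t2.trans (l1 _ _), t1.trans (l1 _ _)]
    · exact (e2.trans t2).trans (l1 _ _)
  · obtain ⟨N, hN, hd'⟩ := degree_four (p := p) hp2 hr (by omega)
    refine key N hd' ?_
    obtain rfl : r = 4 := by omega
    rw [show 4 - 1 = 3 by norm_num, c3, pow_one]
    rcases hN with rfl | rfl | rfl | rfl
    · exact Or.inr (Or.inr (Or.inr (Or.inl (Nat.lcm_dvd ((l1 _ _).trans (l1 _ _))
        (Nat.lcm_dvd (e2.trans ((l2 _ _).trans (l1 _ _))) (l2 _ _))))))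
    all_goals refine Or.inr (Or.inr (Or.inr (Or.inr (Or.inr (Or.inl
      (Nat.lcm_dvd ?_ (Nat.lcm_dvd ((e2.trans s2).trans (l1 _ _)) (l2 _ _))))))))
    · exact l1 _ _
    · exact Nat.lcm_dvd (s2.trans (l1 _ _)) (l2 _ _)
    · exact Nat.lcm_dvd (s1.trans (l1 _ _)) (l2 _ _)
  · obtain ⟨N, hN, hd'⟩ := degree_six (p := p) hp2 hr (by omega)
    refine key N hd' ?_
    obtain rfl : r = 2 := by omega
    rw [show 2 - 1 = 1 by norm_num, c1, pow_zero, Nat.lcm_one_right]
    rcases hN with rfl | rfl | rfl | rfl | rfl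
    · exact Or.inr (Or.inl (Nat.lcm_dvd (l2 _ _) (e1.trans (l1 _ _))))
    · exact Or.inr (Or.inr (Or.inl (Nat.lcm_dvd (l1 _ _) (e2.trans (l2 _ _)))))
    · exact Or.inr (Or.inr (Or.inr (Or.inl (Nat.lcm_dvd (l1 _ _) (e2.trans ((l2 _ _).trans (l1 _ _)))))))
    · exact Or.inr (Or.inr (Or.inr (Or.inr (Or.inl (Nat.lcm_dvd (l1 _ _) (e1.trans ((l2 _ _).trans (l1 _ _))))))))
    · exact Or.inr (Or.inr (Or.inr (Or.inr (Or.inr (Or.inl
        (Nat.lcm_dvd dvd_rfl ((e2.trans s2).trans (l1 _ _))))))))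

end Main

end CfsgLib.KnownC.OrthNine
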