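import Cfsg.Agent.Lib.KnownA.RecipOrder.Orth

/-!
Self-reciprocal polynomials of degree at most eight without roots `±1` over the field of `q` elements: the
possible exponents `N` with `f ∣ X ^ N - 1`.
-/

set_option autoImplicit false
set_option linter.unusedSectionVars false

namespace CfsgLib.KnownC.OrthNine

open Polynomial CfsgLib.Classical.SemiPalin CfsgLib.KnownA.RecipOrder

variable {F : Type*} [Field F]

/-- Monic, self-reciprocal, without roots `±1`. -/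
structure Recip (f : F[X]) : Prop where
  monic : f.Monic
  coeff0 : f.coeff 0 ≠ 0
  tilde_eq : tilde (RingHom.id F) f = f
  one : ¬ f.IsRoot 1
  neg_one : ¬ f.IsRoot (-1)

/-- Monic irreducible of degree `k` with reciprocal `≠` itself, and their product. -/
def IsPair (f : F[X]) (k : ℕ) : Prop :=
  ∃ P : F[X], Irreducible P ∧ P.Monic ∧ P.coeff 0 ≠ 0 ∧ P.natDegree = k ∧
    tilde (RingHom.id F) P ≠ P ∧ f = P * tilde (RingHom.id F) P

theorem tilde_pow {a : F[X]} (hat : tilde (RingHom.id F) a = a) (μ : ℕ) :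
    tilde (RingHom.id F) (a ^ μ) = a ^ μ := by
  induction μ with
  | zero =>
    rw [pow_zero, tilde, srev, Polynomial.map_id, RingHom.id_apply, coeff_one_zero, inv_one, map_one, one_mul,
      ← C_1, Polynomial.reverse_C]
  | succ i ih => rw [pow_succ, tilde_mul, ih, hat]

theorem exp_dvd {N M : ℕ} (h : N ∣ M) : (X : F[X]) ^ N - 1 ∣ X ^ M - 1 := by
  obtain ⟨t, rfl⟩ := h
  rw [pow_mul]
  exact sub_one_dvd_pow_sub_one _ _

variable [Fintype F] (p : ℕ) [hp : Fact p.Prime] [CharP F p]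

omit [Fintype F] in
theorem pow_dvd_pow_sub_one {a : F[X]} {N μ : ℕ} (h : a ∣ X ^ N - 1) :
    a ^ μ ∣ X ^ (N * p ^ Nat.clog p μ) - 1 := by
  refine (pow_dvd_pow a (Nat.le_pow_clog hp.out.one_lt μ)).trans ((pow_dvd_pow_of_dvd h _).trans ?_)
  rw [sub_pow_char_pow, one_pow, ← pow_mul]

theorem coprime_pm {d N : ℕ} (hd : 1 ≤ d) (hN : N = Fintype.card F ^ d + 1 ∨ N = Fintype.card F ^ d - 1) (k : ℕ) :
    Nat.Coprime N (p ^ k) := by
  refine Nat.Coprime.pow_right k (Nat.coprime_comm.1 (hp.out.coprime_iff_not_dvd.2 fun h => ?_))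
  obtain ⟨n, -, hn⟩ := FiniteField.card F p
  have hpd : p ∣ Fintype.card F ^ d := hn ▸ dvd_pow (dvd_pow_self p n.pos.ne') (by omega)
  have h1 : 1 ≤ Fintype.card F ^ d := Nat.one_le_pow _ _ Fintype.card_pos
  rcases hN with rfl | rfl
  · exact hp.out.not_dvd_one ((Nat.dvd_add_right hpd).1 h)
  · refine hp.out.not_dvd_one ((Nat.dvd_add_right h).1 ?_)
    rwa [Nat.sub_add_cancel h1]

/-- Split off a primary component. -/
theorem exists_block {f : F[X]} (hf : Recip f) (hd : 0 < f.natDegree) :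
    ∃ (d μ N : ℕ) (h : F[X]), 1 ≤ d ∧ 1 ≤ μ ∧ f.natDegree = 2 * (d * μ) + h.natDegree ∧ Recip h ∧
      (N = Fintype.card F ^ d + 1 ∨ N = Fintype.card F ^ d - 1) ∧
      (∀ M, h ∣ X ^ M - 1 → f ∣ X ^ Nat.lcm (Nat.lcm N (p ^ Nat.clog p μ)) M - 1) ∧
      (μ = 1 → h.natDegree = 0 → (N = Fintype.card F ^ d + 1 ∧ Irreducible f) ∨ IsPair f d) := by
  obtain ⟨a, b, ham, -, hab, had, hat, -, hcase⟩ :=
    exists_piece (RingHom.id F) (fun _ => rfl) hf.monic hf.coeff0 hf.tilde_eq hd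
  have ha0 : a.coeff 0 ≠ 0 := fun h => hf.coeff0 (by rw [hab, mul_coeff_zero, h, zero_mul])
  obtain ⟨μ, h, hnd, hμ⟩ := WfDvdMonoid.max_power_factor' (a₀ := f) (x := a) hf.monic.ne_zero
    (fun hu => by have := natDegree_eq_zero_of_isUnit hu; omega)
  have hμ1 : 1 ≤ μ := by
    by_contra hc
    rw [Nat.lt_one_iff.1 (not_le.1 hc), pow_zero, one_mul] at hμ
    exact hnd (hμ ▸ ⟨b, hab⟩)
  have hhm : h.Monic := (ham.pow μ).of_mul_monic_left (hμ ▸ hf.monic)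
  have hh : Recip h := by
    refine ⟨hhm, fun h0 => hf.coeff0 (by rw [hμ, mul_coeff_zero, h0, mul_zero]), ?_,
      fun h0 => hf.one (by rw [hμ, IsRoot, eval_mul, h0.eq_zero, mul_zero]),
      fun h0 => hf.neg_one (by rw [hμ, IsRoot, eval_mul, h0.eq_zero, mul_zero])⟩
    refine mul_left_cancel₀ (pow_ne_zero μ ham.ne_zero) ?_
    rw [← hμ]
    conv_rhs => rw [← hf.tilde_eq, hμ, tilde_mul, tilde_pow hat]
  have hroot : ∀ c : F, a.IsRoot c → f.IsRoot c := fun c hc => by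
    rw [hab, IsRoot, eval_mul, hc.eq_zero, zero_mul]
  have hone : μ = 1 → h.natDegree = 0 → f = a := fun h1 h2 => by
    rw [hμ, h1, pow_one, hhm.natDegree_eq_zero.1 h2, mul_one]
  rcases hcase with hirr | ⟨P, hP, hPm, hP0, hne, hPa⟩
  · rcases self_cases hirr ham ha0 hat with e | e | ⟨k, hk, hdeg, hdvd⟩
    · exact absurd (hroot 1 (by simp [e])) hf.one
    · exact absurd (hroot (-1) (by simp [e])) hf.neg_one
    refine ⟨k, μ, _, h, hk, hμ1, ?_, hh, Or.inl rfl, fun M hM => ?_,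
      fun h1 h2 => Or.inl ⟨rfl, (hone h1 h2).symm ▸ hirr⟩⟩
    · rw [hμ, (ham.pow μ).natDegree_mul hhm, natDegree_pow, hdeg]; ring
    · rw [hμ, (coprime_pm p hk (Or.inl rfl) _).lcm_eq_mul]
      exact ((hirr.coprime_iff_not_dvd.2 hnd).pow_left).mul_dvd
        ((pow_dvd_pow_sub_one p hdvd).trans (exp_dvd (Nat.dvd_lcm_left _ _)))
        (hM.trans (exp_dvd (Nat.dvd_lcm_right _ _)))
  · obtain ⟨hQm, hQd, -⟩ := tilde_facts (RingHom.id F) hPm hP0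
    have hQ := tilde_irreducible (RingHom.id F) (fun _ => rfl) hPm hP0 hP
    obtain ⟨Q, hQe⟩ : ∃ Q, Q = tilde (RingHom.id F) P := ⟨_, rfl⟩
    rw [← hQe] at hPa hQm hQd hQ
    have hQ0 : Q.coeff 0 ≠ 0 := fun h0 => ha0 (by rw [hPa, mul_coeff_zero, h0, mul_zero])
    have hcop : IsCoprime P Q := hP.coprime_iff_not_dvd.2 fun h' =>
      hne (hQe.symm.trans (eq_of_monic_of_associated hPm hQm (hP.associated_of_dvd hQ h')).symm)
    have hPQ : tilde (RingHom.id F) Q = P := by rw [hQe, tilde_tilde _ (fun _ => rfl) hPm hP0]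
    have hPh : ¬ P ∣ h := fun ⟨w, hw⟩ => hnd (hPa ▸ hcop.mul_dvd ⟨w, hw⟩
      ⟨tilde (RingHom.id F) w, by rw [hQe, ← tilde_mul, ← hw, hh.tilde_eq]⟩)
    have hQh : ¬ Q ∣ h := fun ⟨w, hw⟩ => hnd (hPa ▸ hcop.mul_dvd
      ⟨tilde (RingHom.id F) w, by rw [← hPQ, ← tilde_mul, ← hw, hh.tilde_eq]⟩ ⟨w, hw⟩)
    refine ⟨P.natDegree, μ, _, h, hP.natDegree_pos, hμ1, ?_, hh, Or.inr rfl, fun M hM => ?_,
      fun h1 h2 => Or.inr ⟨P, hP, hPm, hP0, rfl, hne, by rw [hone h1 h2, hPa, hQe]⟩⟩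
    · rw [hμ, (ham.pow μ).natDegree_mul hhm, natDegree_pow, hPa, hPm.natDegree_mul hQm, hQd]; ring
    · have hd : a ∣ X ^ (Fintype.card F ^ P.natDegree - 1) - 1 := hPa ▸ hcop.mul_dvd
        (dvd_pow_sub_one hP hP0) (hQd ▸ dvd_pow_sub_one hQ hQ0)
      rw [hμ, (coprime_pm p hP.natDegree_pos (Or.inr rfl) _).lcm_eq_mul]
      have hc : IsCoprime a h := hPa ▸ (hP.coprime_iff_not_dvd.2 hPh).mul_left (hQ.coprime_iff_not_dvd.2 hQh)
      exact hc.pow_left.mul_dvd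
        ((pow_dvd_pow_sub_one p hd).trans (exp_dvd (Nat.dvd_lcm_left _ _)))
        (hM.trans (exp_dvd (Nat.dvd_lcm_right _ _)))

include p hp in
theorem Recip.even_natDegree {f : F[X]} (hf : Recip f) : Even f.natDegree := by
  induction hn : f.natDegree using Nat.strong_induction_on generalizing f with
  | _ n ih =>
    rcases Nat.eq_zero_or_pos n with rfl | hpos
    · exact Even.zero
    obtain ⟨d, μ, N, h, hd, hμ, hdeg, hh, -⟩ := exists_block p hf (hn ▸ hpos)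
    have : 1 ≤ d * μ := Nat.mul_pos hd hμ
    rw [← hn, hdeg]
    exact (even_two_mul _).add (ih _ (by omega) hh rfl)

/-- The exponents in degree two. -/
def U1 (q N : ℕ) : Prop := N = q + 1 ∨ N = q - 1

/-- The exponents in degree four. -/
def U2 (p q N : ℕ) : Prop :=
  N = q ^ 2 + 1 ∨ N = q ^ 2 - 1 ∨ N = Nat.lcm (q + 1) p ∨ N = Nat.lcm (q - 1) p

/-- The exponents in degree six. -/
def U3 (p q N : ℕ) : Prop :=
  N = q ^ 3 + 1 ∨ N = q ^ 3 - 1 ∨ N = Nat.lcm (q ^ 2 + 1) (q + 1) ∨ N = Nat.lcm (q ^ 2 + 1) (q - 1) ∨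
    N = Nat.lcm (q ^ 2 - 1) p

/-- The possible exponents in degree eight. -/
def Target (p q N : ℕ) : Prop :=
  N ∣ Nat.lcm (q ^ 2 - 1) (q ^ 2 + 1) ∨ N ∣ Nat.lcm (q - 1) (q ^ 3 + 1) ∨ N ∣ Nat.lcm (q ^ 3 - 1) (q + 1) ∨
  N ∣ Nat.lcm (Nat.lcm (q ^ 2 + 1) (q + 1)) p ∨ N ∣ Nat.lcm (Nat.lcm (q ^ 2 + 1) (q - 1)) p ∨
  N ∣ Nat.lcm (q ^ 2 - 1) p ∨ N ∣ Nat.lcm ((q ^ 2 - 1) / 2) (p ^ Nat.clog p 5) ∨
  N ∣ Nat.lcm 2 (p ^ Nat.clog p 7)

theorem dvd_sq_sub_one (q : ℕ) : q - 1 ∣ q ^ 2 - 1 ∧ q + 1 ∣ q ^ 2 - 1 := by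
  rw [← one_pow 2, Nat.sq_sub_sq]
  exact ⟨dvd_mul_left _ _, dvd_mul_right _ _⟩

omit hp in
theorem dvd_half_sq_sub_one {q : ℕ} (hq : Odd q) : q - 1 ∣ (q ^ 2 - 1) / 2 ∧ q + 1 ∣ (q ^ 2 - 1) / 2 := by
  obtain ⟨k, rfl⟩ := hq
  have h : (2 * k + 1) ^ 2 - 1 = 2 * (2 * k * (k + 1)) := Nat.sub_eq_of_eq_add (by ring)
  rw [h, Nat.mul_div_cancel_left _ two_pos]
  exact ⟨⟨k + 1, by rw [show 2 * k + 1 - 1 = 2 * k by omega]⟩, ⟨k, by ring⟩⟩

theorem clog_small (hp2 : p ≠ 2) : Nat.clog p 1 = 0 ∧ Nat.clog p 2 = 1 ∧ Nat.clog p 3 = 1 := by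
  have h3 : 3 ≤ p := by have := hp.out.two_le; omega
  refine ⟨Nat.clog_one_right p, ?_, ?_⟩ <;>
    refine le_antisymm (Nat.clog_le_of_le_pow (by rw [pow_one]; omega)) (Nat.clog_pos hp.out.one_lt (by norm_num))

variable {p}

theorem degree_zero {f : F[X]} (hf : Recip f) (hd : f.natDegree = 0) (M : ℕ) : f ∣ X ^ M - 1 := by
  rw [hf.monic.natDegree_eq_zero.1 hd]
  exact one_dvd _

theorem degree_two (hp2 : p ≠ 2) {f : F[X]} (hf : Recip f) (hd : f.natDegree = 2) :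
    ∃ N, U1 (Fintype.card F) N ∧ f ∣ X ^ N - 1 := by
  obtain ⟨c1, -⟩ := clog_small p hp2
  obtain ⟨d, μ, N, h, hd1, hμ, hdeg, hh, hN, hdvd, -⟩ := exists_block p hf (by omega)
  have hd' : d = 1 ∧ μ = 1 ∧ h.natDegree = 0 := by
    have := Nat.mul_pos hd1 hμ
    have h' : d * μ = 1 := by omega
    exact ⟨Nat.eq_one_of_mul_eq_one_right h', Nat.eq_one_of_mul_eq_one_left h', by omega⟩
  obtain ⟨rfl, rfl, h0⟩ := hd'
  have := hdvd N (degree_zero hh h0 N)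
  rw [c1, pow_zero, Nat.lcm_one_right, Nat.lcm_self] at this
  exact ⟨N, by simpa [U1] using hN, this⟩

/-- Replace the exponent by a multiple. -/
theorem dvd_trans_exp {f : F[X]} {N M : ℕ} (h : f ∣ X ^ N - 1) (hNM : N ∣ M) : f ∣ X ^ M - 1 :=
  h.trans (exp_dvd hNM)

theorem degree_four (hp2 : p ≠ 2) {f : F[X]} (hf : Recip f) (hd : f.natDegree = 4) :
    ∃ N, U2 p (Fintype.card F) N ∧ f ∣ X ^ N - 1 := by
  obtain ⟨c1, c2, -⟩ := clog_small p hp2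
  obtain ⟨s1, s2⟩ := dvd_sq_sub_one (Fintype.card F)
  obtain ⟨d, μ, N, h, hd1, hμ, hdeg, hh, hN, hdvd, -⟩ := exists_block p hf (by omega)
  have : d ≤ 2 := (Nat.le_mul_of_pos_right d hμ).trans (by omega)
  have : μ ≤ 2 := (Nat.le_mul_of_pos_left μ hd1).trans (by omega)
  interval_cases d <;> interval_cases μ <;> simp only [c1, c2, pow_zero, pow_one, Nat.lcm_one_right] at hdvd hN
  · obtain ⟨M, hM, hM'⟩ := degree_two hp2 hh (by omega)
    refine ⟨_, Or.inr (Or.inl rfl), dvd_trans_exp (hdvd M hM') ?_⟩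
    rcases hN with rfl | rfl <;> rcases hM with rfl | rfl <;> exact Nat.lcm_dvd (by assumption) (by assumption)
  · rcases hN with rfl | rfl
    · exact ⟨_, Or.inr (Or.inr (Or.inl rfl)), dvd_trans_exp (hdvd 1 (degree_zero hh (by omega) 1)) (by simp)⟩
    · exact ⟨_, Or.inr (Or.inr (Or.inr rfl)), dvd_trans_exp (hdvd 1 (degree_zero hh (by omega) 1)) (by simp)⟩
  · rcases hN with rfl | rfl
    · exact ⟨_, Or.inl rfl, dvd_trans_exp (hdvd 1 (degree_zero hh (by omega) 1)) (by simp)⟩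
    · exact ⟨_, Or.inr (Or.inl rfl), dvd_trans_exp (hdvd 1 (degree_zero hh (by omega) 1)) (by simp)⟩
  · omega

/-- `N` divides one of the exponents `U2` when joined with a divisor of `q ^ 2 - 1`. -/
theorem degree_six (hp2 : p ≠ 2) {f : F[X]} (hf : Recip f) (hd : f.natDegree = 6) :
    ∃ N, U3 p (Fintype.card F) N ∧ f ∣ X ^ N - 1 := by
  obtain ⟨c1, c2, c3⟩ := clog_small p hp2
  obtain ⟨s1, s2⟩ := dvd_sq_sub_one (Fintype.card F)
  obtain ⟨d, μ, N, h, hd1, hμ, hdeg, hh, hN, hdvd, -⟩ := exists_block p hf (by omega)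
  have : d ≤ 3 := (Nat.le_mul_of_pos_right d hμ).trans (by omega)
  have : μ ≤ 3 := (Nat.le_mul_of_pos_left μ hd1).trans (by omega)
  obtain ⟨D, hD⟩ : ∃ D, D = Nat.lcm (Fintype.card F ^ 2 - 1) p := ⟨_, rfl⟩
  have dp : p ∣ D := hD ▸ Nat.dvd_lcm_right _ _
  have d1 : Fintype.card F - 1 ∣ D := s1.trans (hD ▸ Nat.dvd_lcm_left _ _)
  have d2 : Fintype.card F + 1 ∣ D := s2.trans (hD ▸ Nat.dvd_lcm_left _ _)
  have d3 : Fintype.card F ^ 2 - 1 ∣ D := hD ▸ Nat.dvd_lcm_left _ _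
  have hU : U3 p (Fintype.card F) D := Or.inr (Or.inr (Or.inr (Or.inr hD)))
  interval_cases d <;> interval_cases μ <;>
    first
    | omega
    | simp only [c1, c2, c3, pow_zero, pow_one, Nat.lcm_one_right] at hdvd hN
  · obtain ⟨M, hM, hM'⟩ := degree_four hp2 hh (by omega)
    rcases hM with rfl | rfl | rfl | rfl
    · rcases hN with rfl | rfl
      · exact ⟨_, Or.inr (Or.inr (Or.inl rfl)), Nat.lcm_comm _ _ ▸ hdvd _ hM'⟩
      · exact ⟨_, Or.inr (Or.inr (Or.inr (Or.inl rfl))), Nat.lcm_comm _ _ ▸ hdvd _ hM'⟩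
    all_goals
      refine ⟨D, hU, dvd_trans_exp (hdvd _ hM') ?_⟩
      rcases hN with rfl | rfl <;> simp only [Nat.lcm_dvd_iff, d1, d2, d3, dp, and_self]
  · obtain ⟨M, hM, hM'⟩ := degree_two hp2 hh (by omega)
    refine ⟨D, hU, dvd_trans_exp (hdvd _ hM') ?_⟩
    rcases hN with rfl | rfl <;> rcases hM with rfl | rfl <;> simp only [Nat.lcm_dvd_iff, d1, d2, dp, and_self]
  · refine ⟨D, hU, dvd_trans_exp (hdvd 1 (degree_zero hh (by omega) 1)) ?_⟩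
    rcases hN with rfl | rfl <;> simp only [Nat.lcm_dvd_iff, d1, d2, dp, one_dvd, and_self]
  · obtain ⟨M, hM, hM'⟩ := degree_two hp2 hh (by omega)
    rcases hN with rfl | rfl
    · rcases hM with rfl | rfl
      · exact ⟨_, Or.inr (Or.inr (Or.inl rfl)), hdvd _ hM'⟩
      · exact ⟨_, Or.inr (Or.inr (Or.inr (Or.inl rfl))), hdvd _ hM'⟩
    · refine ⟨D, hU, dvd_trans_exp (hdvd _ hM') ?_⟩
      rcases hM with rfl | rfl <;> simp only [Nat.lcm_dvd_iff, d1, d2, d3, and_self]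
  · have h1 := hdvd 1 (degree_zero hh (by omega) 1)
    rw [Nat.lcm_one_right] at h1
    rcases hN with rfl | rfl
    · exact ⟨_, Or.inl rfl, h1⟩
    · exact ⟨_, Or.inr (Or.inl rfl), h1⟩

/-- The exponents in degree eight: two special shapes, otherwise `Target`. -/
theorem degree_eight (hp2 : p ≠ 2) {f : F[X]} (hf : Recip f) (hd : f.natDegree = 8) :
    (∃ N, Target p (Fintype.card F) N ∧ f ∣ X ^ N - 1) ∨ IsPair f 4 ∨
      (Irreducible f ∧ f ∣ X ^ (Fintype.card F ^ 4 + 1) - 1) := by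
  obtain ⟨c1, c2, c3⟩ := clog_small p hp2
  have hq : Odd (Fintype.card F) := by
    obtain ⟨n, -, hn⟩ := FiniteField.card F p
    exact hn ▸ (hp.out.odd_of_ne_two hp2).pow
  obtain ⟨d, μ, N, h, hd1, hμ, hdeg, hh, hN, hdvd, hspec⟩ := exists_block p hf (by omega)
  have : d ≤ 4 := (Nat.le_mul_of_pos_right d hμ).trans (by omega)
  have : μ ≤ 4 := (Nat.le_mul_of_pos_left μ hd1).trans (by omega)
  obtain ⟨s1, s2⟩ := dvd_sq_sub_one (Fintype.card F)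
  have hD : ∀ {L}, L ∣ Nat.lcm (Fintype.card F ^ 2 - 1) p → Target p (Fintype.card F) L :=
    fun h => Or.inr (Or.inr (Or.inr (Or.inr (Or.inr (Or.inl h)))))
  have hT : ∀ {L}, L ∣ Nat.lcm (Fintype.card F ^ 2 - 1) (Fintype.card F ^ 2 + 1) → Target p (Fintype.card F) L :=
    Or.inl
  have hA : ∀ {L}, L ∣ Nat.lcm (Fintype.card F - 1) (Fintype.card F ^ 3 + 1) → Target p (Fintype.card F) L :=
    fun h => Or.inr (Or.inl h)
  have hB : ∀ {L}, L ∣ Nat.lcm (Fintype.card F ^ 3 - 1) (Fintype.card F + 1) → Target p (Fintype.card F) L :=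
    fun h => Or.inr (Or.inr (Or.inl h))
  have hCp : ∀ {L}, L ∣ Nat.lcm (Nat.lcm (Fintype.card F ^ 2 + 1) (Fintype.card F + 1)) p →
      Target p (Fintype.card F) L := fun h => Or.inr (Or.inr (Or.inr (Or.inl h)))
  have hCm : ∀ {L}, L ∣ Nat.lcm (Nat.lcm (Fintype.card F ^ 2 + 1) (Fintype.card F - 1)) p →
      Target p (Fintype.card F) L := fun h => Or.inr (Or.inr (Or.inr (Or.inr (Or.inl h))))
  have q3 : Fintype.card F + 1 ∣ Fintype.card F ^ 3 + 1 := by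
    have := (show Odd 3 by decide).nat_add_dvd_pow_add_pow (Fintype.card F) 1
    rwa [one_pow] at this
  have q3' : Fintype.card F - 1 ∣ Fintype.card F ^ 3 - 1 := Nat.sub_one_dvd_pow_sub_one _ 3
  have mD : ∀ {x}, x ∣ Fintype.card F ^ 2 - 1 → x ∣ Nat.lcm (Fintype.card F ^ 2 - 1) p := fun h =>
    h.trans (Nat.dvd_lcm_left _ _)
  have mDp : p ∣ Nat.lcm (Fintype.card F ^ 2 - 1) p := Nat.dvd_lcm_right _ _
  have l1 := @Nat.dvd_lcm_left
  have l2 := @Nat.dvd_lcm_right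
  interval_cases d <;> interval_cases μ <;>
    first
    | omega
    | simp only [c1, c2, c3, pow_zero, pow_one, Nat.lcm_one_right] at hdvd hN
  · obtain ⟨M, hM, hM'⟩ := degree_six hp2 hh (by omega)
    refine Or.inl ⟨_, ?_, hdvd M hM'⟩
    rcases hN with rfl | rfl <;> rcases hM with rfl | rfl | rfl | rfl | rfl
    · exact hA (Nat.lcm_dvd (q3.trans (l2 _ _)) (l2 _ _))
    · exact hB (Nat.lcm_dvd (l2 _ _) (l1 _ _))
    · exact hT (Nat.lcm_dvd (s2.trans (l1 _ _)) (Nat.lcm_dvd (l2 _ _) (s2.trans (l1 _ _))))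
    · exact hT (Nat.lcm_dvd (s2.trans (l1 _ _)) (Nat.lcm_dvd (l2 _ _) (s1.trans (l1 _ _))))
    · exact hD (Nat.lcm_dvd (mD s2) dvd_rfl)
    · exact hA (Nat.lcm_dvd (l1 _ _) (l2 _ _))
    · exact hB (Nat.lcm_dvd (q3'.trans (l1 _ _)) (l1 _ _))
    · exact hT (Nat.lcm_dvd (s1.trans (l1 _ _)) (Nat.lcm_dvd (l2 _ _) (s2.trans (l1 _ _))))
    · exact hT (Nat.lcm_dvd (s1.trans (l1 _ _)) (Nat.lcm_dvd (l2 _ _) (s1.trans (l1 _ _))))
    · exact hD (Nat.lcm_dvd (mD s1) dvd_rfl)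
  · obtain ⟨M, hM, hM'⟩ := degree_four hp2 hh (by omega)
    refine Or.inl ⟨_, ?_, hdvd M hM'⟩
    rcases hN with rfl | rfl <;> rcases hM with rfl | rfl | rfl | rfl
    · exact hCp (Nat.lcm_dvd (Nat.lcm_dvd ((l2 _ _).trans (l1 _ _)) (l2 _ _)) ((l1 _ _).trans (l1 _ _)))
    · exact hD (Nat.lcm_dvd (Nat.lcm_dvd (mD s2) mDp) (l1 _ _))
    · exact hD (Nat.lcm_dvd (Nat.lcm_dvd (mD s2) mDp) (Nat.lcm_dvd (mD s2) mDp))
    · exact hD (Nat.lcm_dvd (Nat.lcm_dvd (mD s2) mDp) (Nat.lcm_dvd (mD s1) mDp))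
    · exact hCm (Nat.lcm_dvd (Nat.lcm_dvd ((l2 _ _).trans (l1 _ _)) (l2 _ _)) ((l1 _ _).trans (l1 _ _)))
    · exact hD (Nat.lcm_dvd (Nat.lcm_dvd (mD s1) mDp) (l1 _ _))
    · exact hD (Nat.lcm_dvd (Nat.lcm_dvd (mD s1) mDp) (Nat.lcm_dvd (mD s2) mDp))
    · exact hD (Nat.lcm_dvd (Nat.lcm_dvd (mD s1) mDp) (Nat.lcm_dvd (mD s1) mDp))
  · obtain ⟨M, hM, hM'⟩ := degree_two hp2 hh (by omega)
    refine Or.inl ⟨_, hD ?_, hdvd M hM'⟩
    rcases hN with rfl | rfl <;> rcases hM with rfl | rfl <;>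
      exact Nat.lcm_dvd (Nat.lcm_dvd (mD (by assumption)) mDp) (mD (by assumption))
  · refine Or.inl ⟨_, Or.inr (Or.inr (Or.inr (Or.inr (Or.inr (Or.inr (Or.inl ?_)))))),
      hdvd 1 (degree_zero hh (by omega) 1)⟩
    obtain ⟨t1, t2⟩ := dvd_half_sq_sub_one hq
    rw [Nat.lcm_one_right]
    refine Nat.lcm_dvd ?_ ((pow_dvd_pow p (Nat.clog_mono_right p (by omega))).trans (l2 _ _))
    rcases hN with rfl | rfl
    exacts [t2.trans (l1 _ _), t1.trans (l1 _ _)]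
  · obtain ⟨M, hM, hM'⟩ := degree_four hp2 hh (by omega)
    refine Or.inl ⟨_, ?_, hdvd M hM'⟩
    rcases hN with rfl | rfl <;> rcases hM with rfl | rfl | rfl | rfl
    · exact hT (Nat.lcm_dvd (l2 _ _) (l2 _ _))
    · exact hT (Nat.lcm_dvd (l2 _ _) (l1 _ _))
    · exact hCp (Nat.lcm_dvd ((l1 _ _).trans (l1 _ _)) (Nat.lcm_dvd ((l2 _ _).trans (l1 _ _)) (l2 _ _)))
    · exact hCm (Nat.lcm_dvd ((l1 _ _).trans (l1 _ _)) (Nat.lcm_dvd ((l2 _ _).trans (l1 _ _)) (l2 _ _)))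
    · exact hT (Nat.lcm_dvd (l1 _ _) (l2 _ _))
    · exact hT (Nat.lcm_dvd (l1 _ _) (l1 _ _))
    · exact hD (Nat.lcm_dvd (l1 _ _) (Nat.lcm_dvd (mD s2) mDp))
    · exact hD (Nat.lcm_dvd (l1 _ _) (Nat.lcm_dvd (mD s1) mDp))
  · refine Or.inl ⟨_, ?_, hdvd 1 (degree_zero hh (by omega) 1)⟩
    rw [Nat.lcm_one_right]
    rcases hN with rfl | rfl
    · exact hCp (Nat.lcm_dvd ((l1 _ _).trans (l1 _ _)) (l2 _ _))
    · exact hD dvd_rfl
  · obtain ⟨M, hM, hM'⟩ := degree_two hp2 hh (by omega)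
    refine Or.inl ⟨_, ?_, hdvd M hM'⟩
    rcases hN with rfl | rfl <;> rcases hM with rfl | rfl
    · exact hA (Nat.lcm_dvd (l2 _ _) (q3.trans (l2 _ _)))
    · exact hA (Nat.lcm_dvd (l2 _ _) (l1 _ _))
    · exact hB (Nat.lcm_dvd (l1 _ _) (l2 _ _))
    · exact hB (Nat.lcm_dvd (l1 _ _) (q3'.trans (l1 _ _)))
  · have h1 := hdvd 1 (degree_zero hh (by omega) 1)
    rw [Nat.lcm_one_right] at h1
    rcases hspec rfl (by omega) with ⟨rfl, hirr⟩ | hpair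
    · exact Or.inr (Or.inr ⟨hirr, h1⟩)
    · exact Or.inr (Or.inl hpair)

end CfsgLib.KnownC.OrthNine
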