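import Cfsg.Agent.Lib.KnownC.OrthNineClassify

/-!
`Ω₉(q)` and `V ⋊ Ω₈⁻(q)` have the same element orders, `q` odd: the two inclusions, on isometry groups.
-/

set_option autoImplicit false
set_option linter.unusedSectionVars false

namespace CfsgLib.KnownC.OrthNine

open CfsgLib.Geom CfsgLib.Classical CfsgLib.KnownB.SpOrth CfsgLib.KnownC.OrthType
open QuadraticMap (polar)

universe u

variable {F : Type u} [Field F] [Fintype F] {p : ℕ} [hp : Fact p.Prime] [CharP F p] {a b : F}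

theorem finite_isoms {ι : Type} [Fintype ι] [DecidableEq ι] (Q : QuadraticForm F (ι → F)) :
    Finite (quadIsoms Q) :=
  Finite.of_injective (orEquiv Q) (orEquiv Q).injective

/-- The moved and fixed parts of the semisimple part of an element of `Ω`. -/
theorem exists_omega_split {ι : Type} [Fintype ι] [DecidableEq ι] {Q : QuadraticForm F (ι → F)}
    (hp2 : p ≠ 2) (hQ : ∀ x, (∀ y, polar Q x y = 0) → x = 0) {g : quadIsoms Q}
    (hg : g ∈ commutator (quadIsoms Q)) :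
    ∃ (e m c r : ℕ) (φ : (Fin (2 * c) → F) →ₗ[F] (ι → F)) (ψ : (Fin r → F) →ₗ[F] (ι → F))
      (x : quadIsoms (Q.comp φ)) (y : quadIsoms (Q.comp ψ)) (s : quadIsoms (Q.comp φ)),
      2 * c + r = Fintype.card ι ∧ Split Q φ ψ ∧ (∀ v, g.1 (φ v) = φ (x.1 v)) ∧ (∀ v, g.1 (ψ v) = ψ (y.1 v)) ∧
      orderOf g = p ^ e * m ∧ ¬ p ∣ m ∧ (∀ v, x.1 v = v → v = 0) ∧ y ^ p ^ e = 1 ∧
      x ∈ commutator (quadIsoms (Q.comp φ)) ∧ s ∈ commutator (quadIsoms (Q.comp φ)) ∧ orderOf s = m := by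
  have h2 := two_ne_zero_of_char (F := F) hp2
  have := finite_isoms Q
  obtain ⟨e, m, j, s, hord, hpm, hsj, hsm, hse, -⟩ := exists_parts (p := p) g
  have hmF : (m : F) ≠ 0 := fun h => hpm ((CharP.cast_eq_zero_iff F p m).1 h)
  obtain ⟨d, r, φ, ψ, hdr, S, hW, hX, hsplit⟩ :=
    exists_fix_split hQ s (hsm ▸ pow_orderOf_eq_one s) hmF
  have hsg : Commute s g := hsj ▸ (Commute.refl g).pow_left j
  obtain ⟨x, y, hx, hy⟩ := hsplit g hsg
  have hsφ : ∀ v, s.1 (φ v) = φ ((x ^ j).1 v) := fun v => by rw [hsj]; exact pow_intertwine φ hx j v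
  have hsψ : ∀ v, s.1 (ψ v) = ψ ((1 : quadIsoms (Q.comp ψ)).1 v) := fun v => hW v
  have hyp : y ^ p ^ e = 1 := Subtype.ext (LinearEquiv.ext fun v => S.inj₂ (by
    rw [← pow_intertwine ψ hy, hse, pow_intertwine ψ hsψ, one_pow]))
  have hxj : x ^ j ∈ commutator (quadIsoms (Q.comp φ)) :=
    ext_mem h2 S (hsj ▸ pow_mem hg j : s ∈ _) hsφ hsψ
  have hm : orderOf (x ^ j) = m := by
    rw [← hsm, S.orderOf_eq hsφ hsψ, orderOf_one, Nat.lcm_one_right]
  have hsfix : ∀ v, (x ^ j).1 v = v → v = 0 := fun v hv => hX v (by rw [hsφ, hv])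
  have hd : Even d := by
    have := even_of_no_fixed S.sep₁ h2 hxj hsfix
    rwa [Fintype.card_fin] at this
  obtain ⟨c, rfl⟩ := hd
  have hxc : x ∈ commutator (quadIsoms (Q.comp φ)) := by
    obtain ⟨E₁, E₂, hE⟩ := S.exists_glue
    have hyc : y ∈ commutator (quadIsoms (Q.comp ψ)) := by
      obtain ⟨i, -, hi⟩ := (Nat.dvd_prime_pow hp.out).1 (orderOf_dvd_of_pow_eq_one hyp)
      exact mem_of_odd S.sep₂ h2 (hi ▸ (hp.out.odd_of_ne_two hp2).pow)
    have hgE : g = E₁ x * E₂ y := S.ext_eq (fun v => by rw [hx, (hE x y).1]) fun v => by rw [hy, (hE x y).2]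
    have hE1 : E₁ x * E₂ 1 ∈ commutator (quadIsoms Q) := by
      rw [map_one, mul_one]
      have := mul_mem hg (inv_mem (map_comm E₂ hyc))
      rwa [hgE, mul_inv_cancel_right] at this
    exact ext_mem h2 S hE1 (hE x 1).1 (fun v => (hE x 1).2 v)
  have key : ∀ n, n = c + c → ∀ (φ : (Fin n → F) →ₗ[F] (ι → F)) (x s : quadIsoms (Q.comp φ)),
      n + r = Fintype.card ι → Split Q φ ψ → (∀ v, g.1 (φ v) = φ (x.1 v)) → (∀ v, x.1 v = v → v = 0) →
      x ∈ commutator (quadIsoms (Q.comp φ)) → s ∈ commutator (quadIsoms (Q.comp φ)) → orderOf s = m →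
      ∃ (φ : (Fin (2 * c) → F) →ₗ[F] (ι → F)) (x s : quadIsoms (Q.comp φ)),
      2 * c + r = Fintype.card ι ∧ Split Q φ ψ ∧ (∀ v, g.1 (φ v) = φ (x.1 v)) ∧ (∀ v, x.1 v = v → v = 0) ∧
      x ∈ commutator (quadIsoms (Q.comp φ)) ∧ s ∈ commutator (quadIsoms (Q.comp φ)) ∧ orderOf s = m := by
    intro n hn
    obtain rfl : n = 2 * c := by omega
    exact fun φ x s h₁ h₂ h₃ h₄ h₅ h₆ h₇ => ⟨φ, x, s, h₁, h₂, h₃, h₄, h₅, h₆, h₇⟩
  obtain ⟨φ', x', s', h₁, h₂, h₃, h₄, h₅, h₆, h₇⟩ := key _ rfl φ x (x ^ j) hdr S hx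
    (fun v hv => hsfix v (by
      have := smul_pow_apply x (c := (1 : F)) (by rw [one_smul]; exact hv) j
      rwa [one_pow, one_smul] at this)) hxc hxj hm
  exact ⟨e, m, c, r, φ', ψ, x', y, s', h₁, h₂, h₃, hy, hord, hpm, h₄, hyp, h₅, h₆, h₇⟩

variable (hab : ∀ z₁ z₂ : F, z₁ ^ 2 + a * z₁ * z₂ + b * z₂ ^ 2 = 0 → z₁ = 0 ∧ z₂ = 0)
include hab

theorem spec9_of_mem (hp2 : p ≠ 2) {g : quadIsoms (qfMinus 3 F a b)}
    (hg : g ∈ commutator (quadIsoms (qfMinus 3 F a b))) : Spec9 F (orderOf g) :=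
  (spec9_lcm (p := p) hp2 hab (qfMinus_sep 3 hab) (c := 4) (by simp) le_rfl hg).mono (Nat.dvd_lcm_left _ _)

theorem spec9_of_norm (hp2 : p ≠ 2) {g : quadIsoms (qfMinus 3 F a b)}
    (hg : g ∈ commutator (quadIsoms (qfMinus 3 F a b))) {v : (Fin 3 ⊕ Fin 3) ⊕ Fin 2 → F}
    (hv : (∑ i ∈ Finset.range (orderOf g), (g ^ i).1 v) ≠ 0) : Spec9 F (p * orderOf g) := by
  obtain ⟨e, m, c, r, φ, ψ, x, y, s, hdim, S, hx, hy, hord, hpm, hfix, hyp, -, hs, hsm⟩ :=
    exists_omega_split (p := p) hp2 (qfMinus_sep 3 hab) hg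
  simp only [Fintype.card_sum, Fintype.card_fin] at hdim
  have hgn := (S.pow_eq_one hx hy (orderOf g)).1 (pow_orderOf_eq_one g)
  have hxsum : ∀ w, (∑ i ∈ Finset.range (orderOf g), toEnd x ^ i) w = 0 := fun w => by
    have h := LinearMap.congr_fun (mul_geom_sum (toEnd x) (orderOf g)) w
    rw [← toEnd_pow, hgn.1, toEnd_one, sub_self, LinearMap.zero_apply, Module.End.mul_apply, LinearMap.sub_apply,
      Module.End.one_apply, sub_eq_zero] at h
    exact hfix _ h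
  have hype : toEnd y ^ p ^ e = 1 := by rw [← toEnd_pow, hyp, toEnd_one]
  have hne : (toEnd y - 1) ^ (p ^ e - 1) ≠ 0 := by
    intro h0
    refine hv ?_
    obtain ⟨w₁, w₂, rfl⟩ := S.span v
    have : ∀ i, (g ^ i).1 (φ w₁ + ψ w₂) = φ ((toEnd x ^ i) w₁) + ψ ((toEnd y ^ i) w₂) := fun i => by
      rw [map_add, pow_intertwine φ hx, pow_intertwine ψ hy, ← toEnd_pow, ← toEnd_pow]
      rfl
    rw [Finset.sum_congr rfl fun i _ => this i, Finset.sum_add_distrib, ← map_sum, ← map_sum,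
      ← LinearMap.sum_apply, ← LinearMap.sum_apply, hxsum, map_zero, zero_add, hord, sum_pow_mul hype,
      sum_pow_range p, h0, smul_zero, LinearMap.zero_apply, map_zero]
  have her : p ^ e ≤ r := by
    by_contra hlt
    have hr : (toEnd y - 1) ^ r = 0 := by
      have := pow_finrank_eq_zero (nilpotent_of_pow y hyp)
      rwa [Module.finrank_fin_fun] at this
    exact hne (pow_eq_zero_of_le (by omega) hr)
  have h := spec9_lcm (p := p) hp2 hab S.sep₁ (c := c) (by simp) (by omega) hs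
  refine h.mono ?_
  rw [hsm, hord, ← mul_assoc, ← pow_succ']
  have hcl : e + 1 ≤ Nat.clog p (9 - 2 * c) := by
    refine Nat.succ_le_of_lt ((Nat.lt_clog_iff_pow_lt hp.out.one_lt).2 ?_)
    omega
  exact ((Nat.Coprime.pow_left _ (hp.out.coprime_iff_not_dvd.2 hpm))).mul_dvd_of_dvd_of_dvd
    ((pow_dvd_pow p hcl).trans (Nat.dvd_lcm_right _ _)) (Nat.dvd_lcm_left _ _)

theorem specM_target (hp2 : p ≠ 2) {N : ℕ} (hN : Target p (Fintype.card F) N) : SpecM p a b N := by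
  rcases hN with h | h | h | h | h | h | h | h
  · exact (specM_sum (p := p) hp2 hab (i := 2) (l := 1) rfl (by norm_num) (by norm_num)).mono h
  · exact (specM_sum (p := p) hp2 hab (i := 1) (l := 2) rfl (by norm_num) (by norm_num)).mono (by simpa using h)
  · exact (specM_sum (p := p) hp2 hab (i := 3) (l := 0) rfl (by norm_num) (by norm_num)).mono (by simpa using h)
  · exact (specM_C (p := p) hp2 hab true).mono (by simpa using h)
  · exact (specM_C (p := p) hp2 hab false).mono (by simpa using h)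
  · exact (specM_D (p := p) hp2 hab).mono h
  · exact (specM_F (p := p) hp2 hab).mono h
  · exact (specM_G (p := p) hp2 hab).mono h

theorem specM_of_mem (hp2 : p ≠ 2) {g : quadIsoms (qfOdd 4 F)} (hg : g ∈ commutator (quadIsoms (qfOdd 4 F))) :
    SpecM p a b (orderOf g) := by
  obtain ⟨e, m, c, r, φ, ψ, x, y, s, hdim, S, hx, hy, hord, hpm, hfix, hyp, hxc, -, -⟩ :=
    exists_omega_split (p := p) hp2 (qfOdd_sep (two_ne_zero_of_char hp2) 4) hg
  simp only [Fintype.card_sum, Fintype.card_unit, Fintype.card_fin] at hdim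
  rw [S.orderOf_eq hx hy]
  have hyd : orderOf y ∣ p ^ Nat.clog p r := by
    refine orderOf_dvd_clog y ?_
    have := pow_finrank_eq_zero (nilpotent_of_pow y hyp)
    rwa [Module.finrank_fin_fun] at this
  obtain rfl : r = 9 - 2 * c := by omega
  rcases Nat.lt_or_ge c 4 with hc | hc
  · exact (specM_lcm (p := p) hp2 hab S.sep₁ (c := c) (by simp) (by omega) hxc).mono
      (Nat.lcm_dvd (Nat.dvd_lcm_left _ _) (hyd.trans (Nat.dvd_lcm_right _ _)))
  obtain rfl : c = 4 := by omega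
  have h0 : Nat.clog p (9 - 2 * 4) = 0 := Nat.clog_one_right p
  rw [h0, pow_zero, Nat.dvd_one] at hyd
  rw [hyd, Nat.lcm_one_right]
  rcases dichotomy ((qfOdd 4 F).comp φ) S.sep₁ (k := 4) (Module.finrank_fin_fun F) with hpl | ⟨l, hl, hm⟩
  · exact specM_target hab hp2 (classify_plus (p := p) hp2 S.sep₁ (Fintype.card_fin 8) hpl hxc hfix)
  · obtain rfl : l = 3 := by omega
    obtain ⟨E, hE⟩ := hm a b hab
    obtain ⟨C, -⟩ := exists_conj (Q := qfMinus 3 F a b) (R := (qfOdd 4 F).comp φ) E hE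
    have := SpecM.of_mem (p := p) (map_comm C.symm.toMonoidHom hxc)
    rwa [MulEquiv.coe_toMonoidHom, C.symm.orderOf_eq] at this

end CfsgLib.KnownC.OrthNine
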