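import Cfsg.Agent.Lib.KnownC.OrthNineBasic
import Cfsg.Agent.Lib.KnownC.OrthTypeTools

/-!
Element orders of `Ω₉(q)` and of `V ⋊ Ω₈⁻(q)` obtained from a non-degenerate subspace and a long unipotent
element on its complement.
-/

set_option autoImplicit false
set_option linter.unusedSectionVars false

namespace CfsgLib.KnownC.OrthNine

open CfsgLib.Geom CfsgLib.Classical CfsgLib.KnownB.SpOrth CfsgLib.KnownC.OrthType
open QuadraticMap (polar)
open Polynomial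

universe u

variable {F : Type u} [Field F] [Fintype F]

/-- `m` divides an element order of `Ω` of the nine-dimensional form. -/
def Spec9 (F : Type u) [Field F] (m : ℕ) : Prop :=
  ∃ g ∈ commutator (quadIsoms (qfOdd 4 F)), m ∣ orderOf g

/-- `m` divides an element order of `V ⋊ Ω` of the eight-dimensional minus form. -/
def SpecM (p : ℕ) (a b : F) (m : ℕ) : Prop :=
  ∃ g ∈ commutator (quadIsoms (qfMinus 3 F a b)), m ∣ orderOf g ∨
    ∃ v, (∑ i ∈ Finset.range (orderOf g), (g ^ i).1 v) ≠ 0 ∧ m ∣ p * orderOf g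

theorem two_ne_zero_of_char {p : ℕ} [hp : Fact p.Prime] [CharP F p] (hp2 : p ≠ 2) : (2 : F) ≠ 0 := fun h =>
  hp2 ((Nat.prime_dvd_prime_iff_eq hp.out Nat.prime_two).1
    ((CharP.cast_eq_zero_iff F p 2).1 (by exact_mod_cast h)))

theorem Spec9.mono {m n : ℕ} (h : Spec9 F n) (hmn : m ∣ n) : Spec9 F m :=
  let ⟨g, hg, hd⟩ := h
  ⟨g, hg, hmn.trans hd⟩

theorem SpecM.mono {p : ℕ} {a b : F} {m n : ℕ} (h : SpecM p a b n) (hmn : m ∣ n) : SpecM p a b m := by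
  obtain ⟨g, hg, hd | ⟨v, hv, hd⟩⟩ := h
  · exact ⟨g, hg, Or.inl (hmn.trans hd)⟩
  · exact ⟨g, hg, Or.inr ⟨v, hv, hmn.trans hd⟩⟩

section Nilpotent

variable {V : Type*} [AddCommGroup V] [Module F V] [FiniteDimensional F V]

/-- A nilpotent endomorphism vanishes in the power of the dimension. -/
theorem pow_finrank_eq_zero {N : Module.End F V} (h : IsNilpotent N) : N ^ Module.finrank F V = 0 := by
  have h1 := N.aeval_self_charpoly
  rwa [IsNilpotent.charpoly_eq_X_pow_finrank h, map_pow, aeval_X] at h1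

omit [Fintype F] [FiniteDimensional F V] in
/-- In characteristic `p` the sum of the first `p ^ e` powers is a power of `T - 1`. -/
theorem sum_pow_range (p : ℕ) [hp : Fact p.Prime] [CharP F p] (e : ℕ) (T : Module.End F V) :
    ∑ i ∈ Finset.range (p ^ e), T ^ i = (T - 1) ^ (p ^ e - 1) := by
  have h : (∑ i ∈ Finset.range (p ^ e), (X : F[X]) ^ i) = (X - 1) ^ (p ^ e - 1) := by
    refine mul_right_cancel₀ (show (X : F[X]) - 1 ≠ 0 from fun h => ?_)
      ((geom_sum_mul (X : F[X]) (p ^ e)).trans ?_)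
    · exact X_sub_C_ne_zero (1 : F) (by rw [map_one]; exact h)
    · rw [← pow_succ, Nat.sub_add_cancel (Nat.one_le_pow _ _ hp.out.pos), sub_pow_char_pow, one_pow]
  simpa [map_sum] using congrArg (aeval T) h

omit [Fintype F] [FiniteDimensional F V] in
theorem sum_pow_mul {T : Module.End F V} {k : ℕ} (hT : T ^ k = 1) (M : ℕ) :
    ∑ i ∈ Finset.range (k * M), T ^ i = M • ∑ i ∈ Finset.range k, T ^ i := by
  induction M with
  | zero => simp
  | succ M ih =>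
    rw [Nat.mul_succ, Finset.sum_range_add, ih, succ_nsmul]
    congr 1
    exact Finset.sum_congr rfl fun i _ => by rw [pow_add, pow_mul, hT, one_pow, one_mul]

/-- The exponent `e` of a unipotent element with `(T - 1) ^ j ≠ 0` is large. -/
theorem lt_of_unip (p : ℕ) [Fact p.Prime] [CharP F p] {T : Module.End F V} {e j : ℕ} (hT : T ^ p ^ e = 1)
    (hj : (T - 1) ^ j ≠ 0) : j < p ^ e := by
  by_contra hle
  refine hj (pow_eq_zero_of_le (not_lt.1 hle) ?_)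
  rcases subsingleton_or_nontrivial V with h | h
  · exact Subsingleton.elim _ _
  have : CharP (Module.End F V) p :=
    charP_of_injective_algebraMap (algebraMap F (Module.End F V)).injective p
  rw [sub_pow_char_pow_of_commute (p := p) e (Commute.one_right T), one_pow, hT, sub_self]

end Nilpotent

section Embed

variable {ι : Type} [Fintype ι] [DecidableEq ι]

theorem coe_pow_toLinearMap {V : Type*} [AddCommGroup V] [Module F V] {Q : QuadraticForm F V} (g : quadIsoms Q)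
    (n : ℕ) : ((g ^ n).1.toLinearMap : Module.End F V) = g.1.toLinearMap ^ n := by
  induction n with
  | zero => rfl
  | succ k ih => rw [pow_succ, pow_succ, ← ih]; rfl

theorem exists_order_pow {G : Type*} [Group G] (p : ℕ) [hp : Fact p.Prime] {R : G} {N : ℕ}
    (h : R ^ p ^ N = 1) : ∃ e, orderOf R = p ^ e := by
  obtain ⟨e, -, he⟩ := (Nat.dvd_prime_pow hp.out).1 (orderOf_dvd_of_pow_eq_one h)
  exact ⟨e, he⟩

/-- An element of `Ω` of a subspace and a long unipotent element of the complement. -/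
theorem embed_long {p : ℕ} [hp : Fact p.Prime] [CharP F p] (hp2 : p ≠ 2) {κ : Type} [Fintype κ] [DecidableEq κ]
    {Q : QuadraticForm F (ι → F)} (hQ : ∀ x, (∀ y, polar Q x y = 0) → x = 0)
    {Q₀ : QuadraticForm F (κ → F)} (h0 : ∀ x, (∀ y, polar Q₀ x y = 0) → x = 0)
    (φ : (κ → F) →ₗ[F] (ι → F)) (hφ : ∀ v, Q (φ v) = Q₀ v) {a : quadIsoms Q₀}
    (ha : a ∈ commutator (quadIsoms Q₀)) :
    ∃ r, Fintype.card κ + r = Fintype.card ι ∧ ∀ j, (Odd r ∧ j + 1 = r) ∨ (Even r ∧ j + 2 = r) →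
      ∃ g ∈ commutator (quadIsoms Q), ∃ e, j < p ^ e ∧ orderOf g = Nat.lcm (orderOf a) (p ^ e) ∧
        ∀ M, orderOf g = p ^ e * M → ¬ p ∣ M → j + 1 = p ^ e →
          ∃ v, (∑ i ∈ Finset.range (orderOf g), (g ^ i).1 v) ≠ 0 := by
  obtain rfl : Q.comp φ = Q₀ := QuadraticMap.ext hφ
  obtain ⟨r, hr, ψ, S⟩ := exists_perp_split hQ φ h0
  rw [Module.finrank_fintype_fun_eq_card] at hr
  refine ⟨r, hr, fun j hj => ?_⟩
  obtain ⟨R, N, hN, hj0⟩ := exists_long_unip (Q := Q.comp ψ) S.sep₂ p hp2 (j := j) (by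
    rw [Fintype.card_fin]; exact hj)
  obtain ⟨e, he⟩ := exists_order_pow p hN
  have hRc : R ∈ commutator (quadIsoms (Q.comp ψ)) :=
    mem_of_odd S.sep₂ (two_ne_zero_of_char hp2) (he ▸ (hp.out.odd_of_ne_two hp2).pow)
  have hRe : (R.1.toLinearMap : Module.End F (Fin r → F)) ^ p ^ e = 1 := by
    rw [← coe_pow_toLinearMap, ← he, pow_orderOf_eq_one]
    rfl
  obtain ⟨E₁, E₂, hE⟩ := S.exists_glue
  refine ⟨E₁ a * E₂ R, mul_mem (map_comm E₁ ha) (map_comm E₂ hRc), e,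
    lt_of_unip p hRe hj0, by rw [S.orderOf_eq (hE a R).1 (hE a R).2, he], fun M hM hpM hje => ?_⟩
  obtain ⟨w, hw⟩ : ∃ w, (((R.1.toLinearMap : Module.End F (Fin r → F)) - 1) ^ j) w ≠ 0 := by
    by_contra h
    push Not at h
    exact hj0 (LinearMap.ext fun w => by rw [h w]; rfl)
  refine ⟨ψ w, ?_⟩
  have hsum : (∑ i ∈ Finset.range (orderOf (E₁ a * E₂ R)), ((E₁ a * E₂ R) ^ i).1 (ψ w)) =
      ψ ((∑ i ∈ Finset.range (p ^ e * M), (R.1.toLinearMap : Module.End F (Fin r → F)) ^ i) w) := by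
    rw [hM, LinearMap.sum_apply, map_sum]
    refine Finset.sum_congr rfl fun i _ => ?_
    rw [pow_intertwine ψ (hE a R).2, ← coe_pow_toLinearMap]
    rfl
  rw [hsum, sum_pow_mul hRe, sum_pow_range p, ← hje, Nat.add_sub_cancel, LinearMap.smul_apply]
  intro h0'
  have h1 := S.inj₂ (h0'.trans (map_zero ψ).symm)
  rw [← Nat.cast_smul_eq_nsmul F] at h1
  exact hw ((smul_eq_zero.1 h1).resolve_left fun h => hpM ((CharP.cast_eq_zero_iff F p M).1 h))

/-- Even-dimensional spaces of dimension at most eight embed in the nine-dimensional one. -/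
theorem exists_embed_odd (h2 : (2 : F) ≠ 0) {a b : F}
    (hab : ∀ z₁ z₂ : F, z₁ ^ 2 + a * z₁ * z₂ + b * z₂ ^ 2 = 0 → z₁ = 0 ∧ z₂ = 0)
    (Q₀ : QuadraticForm F (ι → F)) (h0 : ∀ x, (∀ y, polar Q₀ x y = 0) → x = 0) {c : ℕ}
    (hc : Fintype.card ι = 2 * c) (hc4 : c ≤ 4) :
    ∃ φ : (ι → F) →ₗ[F] (Unit ⊕ (Fin 4 ⊕ Fin 4) → F), ∀ v, qfOdd 4 F (φ v) = Q₀ v := by
  rcases dichotomy Q₀ h0 (k := c) (by rw [Module.finrank_fintype_fun_eq_card, hc]) with ⟨e, he⟩ | ⟨l, rfl, h⟩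
  · obtain ⟨φ, hφ⟩ := embed_plus_odd (F := F) hc4
    exact ⟨φ ∘ₗ e.symm.toLinearMap, fun v => by
      rw [LinearMap.comp_apply, hφ, ← he, LinearEquiv.coe_coe, e.apply_symm_apply]⟩
  · obtain ⟨e, he⟩ := h a b hab
    obtain ⟨φ, hφ⟩ := embed_minus_odd h2 hc4 a b
    exact ⟨φ ∘ₗ e.symm.toLinearMap, fun v => by
      rw [LinearMap.comp_apply, hφ, ← he, LinearEquiv.coe_coe, e.apply_symm_apply]⟩

/-- Even-dimensional spaces of dimension at most six embed in the minus space of dimension eight. -/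
theorem exists_embed_minus {a b : F} (hab : ∀ z₁ z₂ : F, z₁ ^ 2 + a * z₁ * z₂ + b * z₂ ^ 2 = 0 → z₁ = 0 ∧ z₂ = 0)
    (Q₀ : QuadraticForm F (ι → F)) (h0 : ∀ x, (∀ y, polar Q₀ x y = 0) → x = 0) {c : ℕ}
    (hc : Fintype.card ι = 2 * c) (hc3 : c ≤ 3) :
    ∃ φ : (ι → F) →ₗ[F] ((Fin 3 ⊕ Fin 3) ⊕ Fin 2 → F), ∀ v, qfMinus 3 F a b (φ v) = Q₀ v := by
  rcases dichotomy Q₀ h0 (k := c) (by rw [Module.finrank_fintype_fun_eq_card, hc]) with ⟨e, he⟩ | ⟨l, rfl, h⟩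
  · obtain ⟨φ, hφ⟩ := embed_plus_minus (F := F) hc3 a b
    exact ⟨φ ∘ₗ e.symm.toLinearMap, fun v => by
      rw [LinearMap.comp_apply, hφ, ← he, LinearEquiv.coe_coe, e.apply_symm_apply]⟩
  · obtain ⟨e, he⟩ := h a b hab
    obtain ⟨φ, hφ⟩ := embed_minus_minus (F := F) (show l ≤ 3 by omega) a b
    exact ⟨φ ∘ₗ e.symm.toLinearMap, fun v => by
      rw [LinearMap.comp_apply, hφ, ← he, LinearEquiv.coe_coe, e.apply_symm_apply]⟩

variable {p : ℕ} [hp : Fact p.Prime] [CharP F p] {Q₀ : QuadraticForm F (ι → F)}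

/-- Orders in `Ω₉` from an element of `Ω` of an even-dimensional space. -/
theorem spec9_lcm (hp2 : p ≠ 2) {a b : F}
    (hab : ∀ z₁ z₂ : F, z₁ ^ 2 + a * z₁ * z₂ + b * z₂ ^ 2 = 0 → z₁ = 0 ∧ z₂ = 0)
    (h0 : ∀ x, (∀ y, polar Q₀ x y = 0) → x = 0) {c : ℕ} (hc : Fintype.card ι = 2 * c) (hc4 : c ≤ 4)
    {x : quadIsoms Q₀} (hx : x ∈ commutator (quadIsoms Q₀)) :
    Spec9 F (Nat.lcm (orderOf x) (p ^ Nat.clog p (9 - 2 * c))) := by
  obtain ⟨φ, hφ⟩ := exists_embed_odd (two_ne_zero_of_char hp2) hab Q₀ h0 hc hc4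
  obtain ⟨r, hr, h⟩ := embed_long (p := p) hp2 (qfOdd_sep (two_ne_zero_of_char hp2) 4) h0 φ hφ hx
  simp only [Fintype.card_sum, Fintype.card_unit, Fintype.card_fin] at hr
  obtain ⟨g, hg, e, he, hord, -⟩ := h (r - 1) (Or.inl ⟨⟨4 - c, by omega⟩, by omega⟩)
  refine ⟨g, hg, ?_⟩
  rw [hord]
  refine Nat.lcm_dvd (Nat.dvd_lcm_left _ _) ((?_ : _ ∣ p ^ e).trans (Nat.dvd_lcm_right _ _))
  exact pow_dvd_pow p (Nat.clog_le_of_le_pow (by omega))

/-- Orders in `V ⋊ Ω₈⁻` from an element of `Ω` of a space of dimension at most six. -/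
theorem specM_lcm (hp2 : p ≠ 2) {a b : F}
    (hab : ∀ z₁ z₂ : F, z₁ ^ 2 + a * z₁ * z₂ + b * z₂ ^ 2 = 0 → z₁ = 0 ∧ z₂ = 0)
    (h0 : ∀ x, (∀ y, polar Q₀ x y = 0) → x = 0) {c : ℕ} (hc : Fintype.card ι = 2 * c) (hc3 : c ≤ 3)
    {x : quadIsoms Q₀} (hx : x ∈ commutator (quadIsoms Q₀)) :
    SpecM p a b (Nat.lcm (orderOf x) (p ^ Nat.clog p (9 - 2 * c))) := by
  obtain ⟨φ, hφ⟩ := exists_embed_minus hab Q₀ h0 hc hc3
  obtain ⟨r, hr, h⟩ := embed_long (p := p) hp2 (qfMinus_sep 3 hab) h0 φ hφ hx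
  simp only [Fintype.card_sum, Fintype.card_fin] at hr
  obtain ⟨g, hg, e, he, hord, hnorm⟩ := h (r - 2) (Or.inr ⟨⟨4 - c, by omega⟩, by omega⟩)
  refine ⟨g, hg, ?_⟩
  by_cases hbig : 9 - 2 * c ≤ p ^ e
  · left
    rw [hord]
    exact Nat.lcm_dvd (Nat.dvd_lcm_left _ _) ((pow_dvd_pow p (Nat.clog_le_of_le_pow hbig)).trans (Nat.dvd_lcm_right _ _))
  have hje : r - 2 + 1 = p ^ e := by
    obtain ⟨t, ht⟩ := (hp.out.odd_of_ne_two hp2).pow (n := e)
    omega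
  have hcl : Nat.clog p (9 - 2 * c) ≤ e + 1 := by
    refine Nat.clog_le_of_le_pow ?_
    rw [pow_succ]
    have h3 : 3 ≤ p := by have := hp.out.two_le; omega
    have := Nat.mul_le_mul (le_refl (p ^ e)) h3
    have := Nat.one_le_pow e p hp.out.pos
    omega
  have hdvd : p ^ Nat.clog p (9 - 2 * c) ∣ p ^ (e + 1) := pow_dvd_pow p hcl
  obtain ⟨M, hM⟩ : p ^ e ∣ orderOf g := hord ▸ Nat.dvd_lcm_right _ _
  by_cases hpM : p ∣ M
  · left
    refine Nat.lcm_dvd (hord ▸ Nat.dvd_lcm_left _ _) (hdvd.trans ?_)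
    rw [hM, pow_succ]
    exact Nat.mul_dvd_mul_left _ hpM
  right
  obtain ⟨v, hv⟩ := hnorm M hM hpM hje
  refine ⟨v, hv, Nat.lcm_dvd (dvd_mul_of_dvd_right (hord ▸ Nat.dvd_lcm_left _ _) p) (hdvd.trans ?_)⟩
  rw [hM, pow_succ']
  exact Nat.mul_dvd_mul_left p (Dvd.intro M rfl)

end Embed

end CfsgLib.KnownC.OrthNine
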