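import Mathlib
import Cfsg.Agent.Lib.KnownC.OrthPrimeOrder
import Cfsg.Agent.Lib.KnownC.GUPrimeOrderClasses

set_option autoImplicit false
set_option linter.unusedSectionVars false

/-!
Classes of elements of odd prime order `r ≠ p` in the orthogonal groups.
-/

namespace CfsgLib.KnownC.OrthPrime

open Polynomial CfsgLib.Geom CfsgLib.Classical CfsgLib.KnownC.OrthType
open QuadraticMap (polar)
open scoped Polynomial Matrix

universe u v

theorem classes_congr {G H : Type*} [Group G] [Group H] (e : G ≃* H) (r : ℕ) :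
    Nat.card {c : ConjClasses G // ∃ g : G, ConjClasses.mk g = c ∧ orderOf g = r} =
      Nat.card {c : ConjClasses H // ∃ g : H, ConjClasses.mk g = c ∧ orderOf g = r} := by
  have hinj : Function.Injective (ConjClasses.map e.toMonoidHom) := fun a b => by
    induction a using Quotient.inductionOn with
    | _ a =>
    induction b using Quotient.inductionOn with
    | _ b =>
      intro h
      refine Quotient.sound (show IsConj a b from ?_)
      have h2 : IsConj (e a) (e b) := Quotient.exact h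
      have h3 := MonoidHom.map_isConj e.symm.toMonoidHom h2
      rw [MulEquiv.coe_toMonoidHom, e.symm_apply_apply, e.symm_apply_apply] at h3
      exact h3
  have hsurj : Function.Surjective (ConjClasses.map e.toMonoidHom) :=
    ConjClasses.map_surjective e.surjective
  refine Nat.card_congr ((Equiv.ofBijective _ ⟨hinj, hsurj⟩).subtypeEquiv fun c => ?_)
  constructor
  · rintro ⟨g, rfl, hg⟩
    exact ⟨e g, rfl, by rw [MulEquiv.orderOf_eq, hg]⟩
  · rintro ⟨h, hh, ho⟩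
    exact ⟨e.symm h, hinj (by rw [show ConjClasses.map e.toMonoidHom c = ConjClasses.mk h from hh.symm]
                              show ConjClasses.mk (e (e.symm h)) = _
                              rw [e.apply_symm_apply]), by rw [MulEquiv.orderOf_eq, ho]⟩

variable {F : Type u} [Field F] [Fintype F] {p : ℕ} [Fact p.Prime] [CharP F p]
  {V : Type v} [AddCommGroup V] [Module F V] [FiniteDimensional F V] {r : ℕ}

/-- The allowed characteristic polynomials. -/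
abbrev P (r n : ℕ) : Set F[X] := StarCount.polys (SemiPalin.tilde (RingHom.id F)) r n

include p in
/-- Classes with `g ^ r = 1` as polynomials, given the behaviour of the type. -/
theorem ncard_classes (hr : r.Prime) (hr2 : r ≠ 2) (hrp : r ≠ p) (Q : QuadraticForm F V)
    (hQ : ∀ x, (∀ y, polar Q x y = 0) → x = 0) (Good : Prop)
    (nec : ∀ g ∈ quadIsoms Q, g ^ r = 1 → ¬ g.toLinearMap.charpoly.IsRoot 1 → Good)
    (suf : Good → ∀ k, Module.finrank F V = 2 * k → ∀ (Q₀ : QuadraticForm F (Fin k ⊕ Fin k → F))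
      (A : (Fin k ⊕ Fin k → F) ≃ₗ[F] (Fin k ⊕ Fin k → F)), (∀ x, (∀ y, polar Q₀ x y = 0) → x = 0) →
      A ∈ quadIsoms Q₀ → A ^ r = 1 → ¬ A.toLinearMap.charpoly.IsRoot 1 →
      ∃ e : (Fin k ⊕ Fin k → F) ≃ₗ[F] V, ∀ v, Q (e v) = Q₀ v)
    (emb : ∀ k, 2 * k < Module.finrank F V → ∀ (Q₀ : QuadraticForm F (Fin k ⊕ Fin k → F)),
      (∀ x, (∀ y, polar Q₀ x y = 0) → x = 0) →
      ∃ φ : (Fin k ⊕ Fin k → F) →ₗ[F] V, ∀ v, Q (φ v) = Q₀ v) :
    {c : ConjClasses ↥(quadIsoms Q) | ∃ g : ↥(quadIsoms Q), ConjClasses.mk g = c ∧ g ^ r = 1}.ncard =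
      Nat.card {f : F[X] // f ∈ P r (Module.finrank F V) ∧ (f.IsRoot 1 ∨ Good)} := by
  classical
  let cp : ConjClasses ↥(quadIsoms Q) → F[X] :=
    Quotient.lift (fun g : ↥(quadIsoms Q) => (g : V ≃ₗ[F] V).toLinearMap.charpoly) fun a b h => by
      obtain ⟨x, hx⟩ := isConj_iff.1 (show IsConj a b from h)
      show (a : V ≃ₗ[F] V).toLinearMap.charpoly = (b : V ≃ₗ[F] V).toLinearMap.charpoly
      rw [← hx, ← (x : V ≃ₗ[F] V).charpoly_conj (a : V ≃ₗ[F] V).toLinearMap]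
      rfl
  rw [show Nat.card {f : F[X] // f ∈ P r (Module.finrank F V) ∧ (f.IsRoot 1 ∨ Good)} =
    {f : F[X] | f ∈ P r (Module.finrank F V) ∧ (f.IsRoot 1 ∨ Good)}.ncard from Nat.card_coe_set_eq _]
  refine Set.ncard_congr (fun c _ => cp c) ?_ ?_ ?_
  · rintro _ ⟨g, rfl, hg⟩
    have hg' : (g : V ≃ₗ[F] V) ^ r = 1 := by rw [← SubmonoidClass.coe_pow, hg]; rfl
    exact ⟨charpoly_mem Q hQ g.2 hg', or_iff_not_imp_left.2 (nec _ g.2 hg')⟩
  · rintro _ _ ⟨g, rfl, hg⟩ ⟨h, rfl, hh⟩ he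
    exact ConjClasses.mk_eq_mk_iff_isConj.2 (isConj_of_charpoly (p := p) hr hr2 hrp Q hQ g h hg hh he)
  · rintro f ⟨hf, hC⟩
    suffices h : ∃ g : V ≃ₗ[F] V, g ∈ quadIsoms Q ∧ g ^ r = 1 ∧ g.toLinearMap.charpoly = f by
      obtain ⟨g, hg, hgr, hgc⟩ := h
      exact ⟨ConjClasses.mk ⟨g, hg⟩, ⟨⟨g, hg⟩, rfl, Subtype.ext hgr⟩, hgc⟩
    obtain ⟨f₀, hf₀, hnd⟩ := f.exists_eq_pow_rootMultiplicity_mul_and_not_dvd hf.1.ne_zero 1
    set c := f.rootMultiplicity 1
    have hnr : ¬ f₀.IsRoot 1 := fun h => hnd (dvd_iff_isRoot.2 h)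
    have hf₀m : f₀.Monic := ((monic_X_sub_C 1).pow c).of_mul_monic_left (hf₀ ▸ hf.1)
    have hdeg : c + f₀.natDegree = Module.finrank F V := by
      have := congrArg natDegree hf₀
      rw [hf.2.2.1, ((monic_X_sub_C 1).pow c).natDegree_mul hf₀m, (monic_X_sub_C 1).natDegree_pow,
        natDegree_X_sub_C, mul_one] at this
      exact this.symm
    have hpow : SemiPalin.tilde (RingHom.id F) ((X - C 1) ^ c) = (X - C 1) ^ c := by
      induction c with
      | zero =>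
        rw [pow_zero, eq_id_tilde, coeff_one_zero, inv_one, map_one, one_mul, ← map_one C, SemiPalin.reverse_C]
      | succ c ih => rw [pow_succ, SemiPalin.tilde_mul, ih, SigmaFactors.tilde_X_sub_one]
    have hS₀ : SemiPalin.tilde (RingHom.id F) f₀ = f₀ := by
      have h := hf.2.1
      rw [hf₀, SemiPalin.tilde_mul, hpow] at h
      exact mul_left_cancel₀ ((monic_X_sub_C 1).pow c).ne_zero h
    have hmem₀ : f₀ ∈ P r f₀.natDegree := ⟨hf₀m, hS₀, rfl, fun R h1 h2 h3 =>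
      hf.2.2.2 R h1 h2 (hf₀ ▸ h3.trans (dvd_mul_left _ _))⟩
    obtain ⟨k, hk⟩ := (even_natDegree hr hr2 hmem₀ hnr).two_dvd
    obtain ⟨Q₀, A, hQ₀, hA, hAr, hAc⟩ := exists_model (p := p) hr hr2 hrp (k := k) (hk ▸ hmem₀) hnr
    rcases Nat.eq_zero_or_pos c with hc | hc
    · have hff : f = f₀ := by rw [hf₀, hc, pow_zero, one_mul]
      obtain ⟨e, he⟩ := suf (hC.resolve_left (hff ▸ hnr)) k (by omega) Q₀ A hQ₀ hA hAr (hAc ▸ hnr)
      obtain ⟨g, h1, h2, h3⟩ := transport e he hA hAr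
      exact ⟨g, h1, h2, by rw [h3, hAc, hff]⟩
    · obtain ⟨φ, hφ⟩ := emb k (by omega) Q₀ hQ₀
      obtain ⟨g, h1, h2, h3⟩ := exists_extension Q Q₀ hQ₀ φ hφ hA hAr
      refine ⟨g, h1, h2, ?_⟩
      rw [h3, hAc, show Module.finrank F V - Module.finrank F (Fin k ⊕ Fin k → F) = c by simp; omega, ← hf₀]

include p in
/-- Even `i`: the block count `i`, odd `i`: `2 i`. -/
theorem exists_blocks (hr : r.Prime) (hr2 : r ≠ 2) (hrp : r ≠ p) {q i t : ℕ} (hF : Fintype.card F = q)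
    (hi : i = orderOf (q : ZMod r)) (ht : t * i = r - 1) :
    (Even i → Nonempty (StarCount.Blocks (SemiPalin.tilde (RingHom.id F)) i t r)) ∧
      (Odd i → Nonempty (StarCount.Blocks (SemiPalin.tilde (RingHom.id F)) (2 * i) (t / 2) r) ∧
        ∀ P ∈ SympOrderR.factors F r, SemiPalin.tilde (RingHom.id F) P ≠ P) := by
  have hi' : i = orderOf (Fintype.card F : ZMod r) := by rw [hF, hi]
  have hipos := SympOrderR.i_pos (F := F) (p := p) hF hr hrp hi
  have htt : (r - 1) / i = t := by rw [← ht, Nat.mul_div_cancel _ hipos]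
  haveI : Fact r.Prime := ⟨hr⟩
  have h2 : (2 : ZMod r) ≠ 0 := fun h => hr2 ((Nat.prime_dvd_prime_iff_eq hr Nat.prime_two).1
    ((ZMod.natCast_eq_zero_iff 2 r).1 (by exact_mod_cast h)))
  refine ⟨fun hev => ?_, fun hodd => ?_⟩
  · refine htt ▸ SigmaFactors.blocks_fixed hr hrp hi' (RingHom.id F) (fun _ => rfl) (c := 0) (fun x => by simp) ?_
    refine ⟨i / 2, ?_⟩
    rw [pow_zero]
    obtain ⟨u, hu⟩ := hev
    have h1 : (Fintype.card F : ZMod r) ^ (i / 2) * (Fintype.card F : ZMod r) ^ (i / 2) = 1 := by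
      rw [← pow_add, show i / 2 + i / 2 = i by omega, hi', pow_orderOf_eq_one]
    refine (mul_self_eq_one_iff.1 h1).resolve_left fun h => ?_
    have := orderOf_le_of_pow_eq_one (by omega) h
    omega
  · have hno : ¬ ∃ j : ℕ, (Fintype.card F : ZMod r) ^ j = -((p : ZMod r) ^ 0) := by
      rintro ⟨j, hj⟩
      have h1 : ((Fintype.card F : ZMod r) ^ j) ^ i = 1 := by
        rw [← pow_mul, mul_comm, pow_mul, hi', pow_orderOf_eq_one, one_pow]
      rw [hj, pow_zero, hodd.neg_one_pow] at h1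
      exact h2 (by linear_combination -h1)
    refine ⟨htt ▸ SigmaFactors.blocks_pair hr hrp hi' (RingHom.id F) (fun _ => rfl) (c := 0) (fun x => by simp) hno,
      fun P hP he => hno ((SigmaFactors.tilde_fix_iff hr hrp hi' (RingHom.id F) (fun _ => rfl) (c := 0)
        (fun x => by simp) hP).1 he)⟩

include p in
/-- Counting with the top multiplicities possibly excluded. -/
theorem count_classes (hr : r.Prime) (hr2 : r ≠ 2) (hrp : r ≠ p) (Q : QuadraticForm F V)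
    (hQ : ∀ x, (∀ y, polar Q x y = 0) → x = 0) (Good : Prop) [Decidable Good] {n : ℕ}
    (hn : Module.finrank F V = n) {d k : ℕ}
    (D : StarCount.Blocks (SemiPalin.tilde (RingHom.id F)) d k r) (hk : 1 ≤ k)
    (nec : ∀ g ∈ quadIsoms Q, g ^ r = 1 → ¬ g.toLinearMap.charpoly.IsRoot 1 → Good)
    (suf : Good → ∀ k, Module.finrank F V = 2 * k → ∀ (Q₀ : QuadraticForm F (Fin k ⊕ Fin k → F))
      (A : (Fin k ⊕ Fin k → F) ≃ₗ[F] (Fin k ⊕ Fin k → F)), (∀ x, (∀ y, polar Q₀ x y = 0) → x = 0) →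
      A ∈ quadIsoms Q₀ → A ^ r = 1 → ¬ A.toLinearMap.charpoly.IsRoot 1 →
      ∃ e : (Fin k ⊕ Fin k → F) ≃ₗ[F] V, ∀ v, Q (e v) = Q₀ v)
    (emb : ∀ k, 2 * k < Module.finrank F V → ∀ (Q₀ : QuadraticForm F (Fin k ⊕ Fin k → F)),
      (∀ x, (∀ y, polar Q₀ x y = 0) → x = 0) →
      ∃ φ : (Fin k ⊕ Fin k → F) →ₗ[F] V, ∀ v, Q (φ v) = Q₀ v) :
    Nat.card {C : ConjClasses ↥(quadIsoms Q) // ∃ g : ↥(quadIsoms Q), ConjClasses.mk g = C ∧ orderOf g = r} =
      Nat.choose (n / d + k) k - 1 -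
        (if d ∣ n ∧ ¬ Good then Nat.choose (n / d + k - 1) (k - 1) else 0) := by
  classical
  rw [GUPrime.orderOf_eq_one_less hr, ncard_classes hr hr2 hrp Q hQ Good nec suf emb, hn,
    D.natCard_subtype n (fun f => f.IsRoot 1 ∨ Good) (fun a => (d ∣ n ∧ ¬ Good) → ∑ j, a j ≠ n / d)
      (fun a ha => by
        rw [D.isRoot_one_iff a ha]
        constructor
        · rintro (h | h) ⟨hdn, hng⟩ he
          · exact h (by rw [he, Nat.mul_div_cancel' hdn])
          · exact hng h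
        · intro h
          by_cases hg : Good
          · exact Or.inr hg
          · refine Or.inl fun he => h ⟨⟨∑ j, a j, he.symm⟩, hg⟩ ?_
            rw [← he, Nat.mul_div_cancel_left _ D.dpos]),
    StarCount.natCard_le_of_excluded]
  obtain ⟨k', rfl⟩ : ∃ k', k = k' + 1 := ⟨k - 1, by omega⟩
  rw [StarCount.natCard_eq, show n / d + (k' + 1) - 1 = n / d + k' by generalize n / d = N; omega, Nat.add_sub_cancel]
  omega

variable (q i t : ℕ) (hF : Fintype.card F = q) (hr : r.Prime) (hr2 : r ≠ 2) (hrp : r ≠ p)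
  (hi : i = orderOf (q : ZMod r)) (ht : t * i = r - 1)

include hF hr hr2 hrp hi ht in
theorem half_pow (hev : Even i) : (Fintype.card F : ZMod r) ≠ 1 ∧ (Fintype.card F : ZMod r) ^ (i / 2) = -1 := by
  haveI : Fact r.Prime := ⟨hr⟩
  have hipos := SympOrderR.i_pos (F := F) (p := p) hF hr hrp hi
  obtain ⟨u, hu⟩ := hev
  rw [hF]
  refine ⟨fun h => ?_, ?_⟩
  · rw [h, orderOf_one] at hi
    omega
  · have h1 : (q : ZMod r) ^ (i / 2) * (q : ZMod r) ^ (i / 2) = 1 := by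
      rw [← pow_add, show i / 2 + i / 2 = i by omega, hi, pow_orderOf_eq_one]
    refine (mul_self_eq_one_iff.1 h1).resolve_left fun h => ?_
    have := orderOf_le_of_pow_eq_one (by omega) h
    omega

include hF hr hr2 hrp hi ht in
/-- The type of a fixed-point-free isometry: dimension and sign. -/
theorem type_cases (Q : QuadraticForm F V) (hQ : ∀ x, (∀ y, polar Q x y = 0) → x = 0) {g : V ≃ₗ[F] V}
    (hg : g ∈ quadIsoms Q) (hgr : g ^ r = 1) (h1 : ¬ g.toLinearMap.charpoly.IsRoot 1) {m : ℕ} (hm : 1 ≤ m)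
    (hk : Module.finrank F V = 2 * m) :
    (Odd i → i ∣ m ∧ IsPlus Q m) ∧ (Even i → i ∣ 2 * m ∧ (IsPlus Q m ↔ Even (2 * m / i))) := by
  haveI : Fact r.Prime := ⟨hr⟩
  have hipos := SympOrderR.i_pos (F := F) (p := p) hF hr hrp hi
  obtain ⟨hbev, hbodd⟩ := exists_blocks (p := p) hr hr2 hrp hF hi ht
  have hmem := charpoly_mem Q hQ hg hgr
  rw [hk] at hmem
  have hdvd : ∀ {d k : ℕ}, StarCount.Blocks (SemiPalin.tilde (RingHom.id F)) d k r → d ∣ 2 * m := by
    intro d k D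
    obtain ⟨a, ha, hfa⟩ := D.exists_tuple (2 * m) hmem.1 hmem.2.1 hmem.2.2.1 hmem.2.2.2
    rw [hfa, D.isRoot_one_iff a ha, not_not] at h1
    exact ⟨_, h1.symm⟩
  refine ⟨fun hodd => ?_, fun hev => ?_⟩
  · obtain ⟨⟨D⟩, hne⟩ := hbodd hodd
    exact ⟨(Nat.mul_dvd_mul_iff_left two_pos).1 (hdvd D), plus_of_pairs (p := p) hr hr2 hrp Q hQ hg hgr h1 hne hk⟩
  · obtain ⟨D⟩ := hbev hev
    have hd := hdvd D
    refine ⟨hd, ?_⟩
    obtain ⟨hq1, hhalf⟩ := half_pow (p := p) q i t hF hr hr2 hrp hi ht hev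
    obtain ⟨hneg, hpos⟩ := type_of_no_fixed (p := p) hr hr2 hrp hq1 Q hQ hg hgr (no_fixed h1) hm hk
    have hpow : (Fintype.card F : ZMod r) ^ m = (-1) ^ (2 * m / i) := by
      rw [← hhalf, ← pow_mul]
      congr 1
      obtain ⟨u, hu⟩ := hev
      obtain ⟨w, hw⟩ := hd
      rw [hw, Nat.mul_div_cancel_left _ hipos, show i / 2 = u by omega]
      have : 2 * m = 2 * (u * w) := by rw [hw, hu]; ring
      omega
    rcases Nat.even_or_odd (2 * m / i) with hN | hN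
    · exact iff_of_true (hpos (by rw [hpow, hN.neg_one_pow])) hN
    · exact iff_of_false (hneg (by rw [hpow, hN.neg_one_pow])) (Nat.not_even_iff_odd.2 hN)

omit q i t in
theorem finrank_two (m : ℕ) : Module.finrank F (Fin m ⊕ Fin m → F) = 2 * m := by
  simp; omega

omit q i t in
theorem finrank_minus (l : ℕ) : Module.finrank F ((Fin l ⊕ Fin l) ⊕ Fin 2 → F) = 2 * (l + 1) := by
  simp; omega

include hF hr hr2 hrp hi ht in
theorem count_plus {m : ℕ} (hm : 1 ≤ m) :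
    Nat.card {C : ConjClasses ↥(Cfsg.isometryGroup F (Cfsg.quadFormPlus m F)) //
      ∃ g : ↥(Cfsg.isometryGroup F (Cfsg.quadFormPlus m F)), ConjClasses.mk g = C ∧ orderOf g = r} =
      if Odd i then Nat.choose (m / i + t / 2) (t / 2) - 1
      else Nat.choose (2 * m / i + t) t - 1 -
        (if i ∣ 2 * m ∧ Odd (2 * m / i) then Nat.choose (2 * m / i + t - 1) (t - 1) else 0) := by
  classical
  haveI : Fact r.Prime := ⟨hr⟩
  have hipos := SympOrderR.i_pos (F := F) (p := p) hF hr hrp hi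
  rw [show Cfsg.quadFormPlus m F = ⇑(qfPlus m F) from (funext fun v => qfPlus_apply m v).symm,
    ← classes_congr (orEquiv (qfPlus m F)) r]
  obtain ⟨hbev, hbodd⟩ := exists_blocks (p := p) hr hr2 hrp hF hi ht
  have hsep := qfPlus_sep (F := F) m
  have hPlus : IsPlus (qfPlus m F) m := ⟨LinearEquiv.refl F _, fun v => rfl⟩
  have emb : ∀ k, 2 * k < Module.finrank F (Fin m ⊕ Fin m → F) → ∀ (Q₀ : QuadraticForm F (Fin k ⊕ Fin k → F)),
      (∀ x, (∀ y, polar Q₀ x y = 0) → x = 0) →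
      ∃ φ : (Fin k ⊕ Fin k → F) →ₗ[F] (Fin m ⊕ Fin m → F), ∀ v, qfPlus m F (φ v) = Q₀ v := by
    intro k hk Q₀ hQ₀
    rw [finrank_two] at hk
    rcases dichotomy Q₀ hQ₀ (finrank_two k) with ⟨e, he⟩ | ⟨l, rfl, hM⟩
    · obtain ⟨φ, hφ⟩ := embed_plus_plus (F := F) (show k ≤ m by omega)
      exact ⟨φ ∘ₗ e.symm.toLinearMap, fun v => by
        rw [LinearMap.comp_apply, hφ, ← he]; exact congrArg Q₀ (e.apply_symm_apply v)⟩
    · obtain ⟨a, b, hab⟩ := exists_anisotropic_binary (F := F)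
      obtain ⟨e, he⟩ := hM a b hab
      obtain ⟨φ, hφ⟩ := embed_minus_plus (F := F) (show l + 2 ≤ m by omega) a b
      exact ⟨φ ∘ₗ e.symm.toLinearMap, fun v => by
        rw [LinearMap.comp_apply, hφ, ← he]; exact congrArg Q₀ (e.apply_symm_apply v)⟩
  have sufT : ∀ {k : ℕ} (Q₀ : QuadraticForm F (Fin k ⊕ Fin k → F)), IsPlus Q₀ k → k = m →
      ∃ e : (Fin k ⊕ Fin k → F) ≃ₗ[F] (Fin m ⊕ Fin m → F), ∀ v, qfPlus m F (e v) = Q₀ v := by
    rintro k Q₀ ⟨e, he⟩ rfl
    exact ⟨e.symm, fun v => by rw [← he, e.apply_symm_apply]⟩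
  have hkm : ∀ {k : ℕ}, Module.finrank F (Fin m ⊕ Fin m → F) = 2 * k → k = m := fun h => by
    rw [finrank_two] at h; omega
  split_ifs with hodd h2
  · obtain ⟨⟨D⟩, -⟩ := hbodd hodd
    have ht2 : 1 ≤ t / 2 := by
      have : Even (t * i) := by rw [ht]; exact (hr.odd_of_ne_two hr2).tsub_odd odd_one
      have := (Nat.even_mul.1 this).resolve_right (Nat.not_even_iff_odd.2 hodd)
      obtain ⟨u, hu⟩ := this
      have : t ≠ 0 := fun h => by rw [h, zero_mul] at ht; have := hr.two_le; omega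
      omega
    rw [count_classes hr hr2 hrp _ hsep True (finrank_two m) D ht2 (fun _ _ _ _ => trivial) (fun _ k hk Q₀ A hQ₀ hA hAr hA1 =>
      sufT Q₀ ((type_cases (p := p) q i t hF hr hr2 hrp hi ht Q₀ hQ₀ hA hAr hA1 (by have := hkm hk; omega) (finrank_two k)).1 hodd).2 (hkm hk)) emb]
    simp [Nat.mul_div_mul_left _ _ two_pos]
  all_goals
    have hev := Nat.not_odd_iff_even.1 hodd
    obtain ⟨D⟩ := hbev hev
    have ht1 : 1 ≤ t := Nat.pos_of_ne_zero fun h => by rw [h, zero_mul] at ht; have := hr.two_le; omega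
    rw [count_classes hr hr2 hrp _ hsep (Even (2 * m / i)) (finrank_two m) D ht1
      (fun g hg hgr h1 => ((type_cases (p := p) q i t hF hr hr2 hrp hi ht _ hsep hg hgr h1 hm (finrank_two m)).2 hev).2.1 hPlus)
      (fun hG k hk Q₀ A hQ₀ hA hAr hA1 => sufT Q₀
        (((type_cases (p := p) q i t hF hr hr2 hrp hi ht Q₀ hQ₀ hA hAr hA1 (by have := hkm hk; omega) (finrank_two k)).2 hev).2.2
          (by rw [hkm hk]; exact hG)) (hkm hk)) emb]
  · rw [if_pos ⟨h2.1, Nat.not_even_iff_odd.2 h2.2⟩]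
  · rw [if_neg fun h => h2 ⟨h.1, Nat.not_even_iff_odd.1 h.2⟩]

include hF hr hr2 hrp hi ht in
theorem count_minus {m : ℕ} (hm : 1 ≤ m) (a c : F)
    (hac : ∀ z₁ z₂ : F, z₁ ^ 2 + a * z₁ * z₂ + c * z₂ ^ 2 = 0 → z₁ = 0 ∧ z₂ = 0) :
    Nat.card {C : ConjClasses ↥(Cfsg.isometryGroup F (Cfsg.quadFormMinus (m - 1) F a c)) //
      ∃ g : ↥(Cfsg.isometryGroup F (Cfsg.quadFormMinus (m - 1) F a c)), ConjClasses.mk g = C ∧ orderOf g = r} =
      if Odd i then Nat.choose (m / i + t / 2) (t / 2) - 1 -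
        (if i ∣ m then Nat.choose (m / i + t / 2 - 1) (t / 2 - 1) else 0)
      else Nat.choose (2 * m / i + t) t - 1 -
        (if i ∣ 2 * m ∧ Even (2 * m / i) then Nat.choose (2 * m / i + t - 1) (t - 1) else 0) := by
  classical
  haveI : Fact r.Prime := ⟨hr⟩
  obtain ⟨l, rfl⟩ : ∃ l, m = l + 1 := ⟨m - 1, by omega⟩
  rw [Nat.add_sub_cancel, show Cfsg.quadFormMinus l F a c = ⇑(qfMinus l F a c) from (funext fun v => qfMinus_apply l a c v).symm,
    ← classes_congr (orEquiv (qfMinus l F a c)) r]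
  obtain ⟨hbev, hbodd⟩ := exists_blocks (p := p) hr hr2 hrp hF hi ht
  have hsep := qfMinus_sep (F := F) l hac
  have hMinus : IsMinus (qfMinus l F a c) l a c := ⟨LinearEquiv.refl F _, fun v => rfl⟩
  have hnP : ¬ IsPlus (qfMinus l F a c) (l + 1) := not_plus_of_minus hac hMinus
  have emb : ∀ k, 2 * k < Module.finrank F ((Fin l ⊕ Fin l) ⊕ Fin 2 → F) → ∀ (Q₀ : QuadraticForm F (Fin k ⊕ Fin k → F)),
      (∀ x, (∀ y, polar Q₀ x y = 0) → x = 0) →
      ∃ φ : (Fin k ⊕ Fin k → F) →ₗ[F] ((Fin l ⊕ Fin l) ⊕ Fin 2 → F), ∀ v, qfMinus l F a c (φ v) = Q₀ v := by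
    intro k hk Q₀ hQ₀
    rw [finrank_minus] at hk
    rcases dichotomy Q₀ hQ₀ (finrank_two k) with ⟨e, he⟩ | ⟨l', rfl, hM⟩
    · obtain ⟨φ, hφ⟩ := embed_plus_minus (F := F) (show k ≤ l by omega) a c
      exact ⟨φ ∘ₗ e.symm.toLinearMap, fun v => by
        rw [LinearMap.comp_apply, hφ, ← he]; exact congrArg Q₀ (e.apply_symm_apply v)⟩
    · obtain ⟨e, he⟩ := hM a c hac
      obtain ⟨φ, hφ⟩ := embed_minus_minus (F := F) (show l' ≤ l by omega) a c
      exact ⟨φ ∘ₗ e.symm.toLinearMap, fun v => by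
        rw [LinearMap.comp_apply, hφ, ← he]; exact congrArg Q₀ (e.apply_symm_apply v)⟩
  have sufT : ∀ {k : ℕ} (Q₀ : QuadraticForm F (Fin k ⊕ Fin k → F)), (∀ x, (∀ y, polar Q₀ x y = 0) → x = 0) →
      ¬ IsPlus Q₀ k → k = l + 1 →
      ∃ e : (Fin k ⊕ Fin k → F) ≃ₗ[F] ((Fin l ⊕ Fin l) ⊕ Fin 2 → F), ∀ v, qfMinus l F a c (e v) = Q₀ v := by
    rintro k Q₀ hQ₀ hP rfl
    rcases dichotomy Q₀ hQ₀ (finrank_two (l + 1)) with h | ⟨l', hl', hM⟩
    · exact absurd h hP
    · obtain rfl : l' = l := by omega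
      obtain ⟨e, he⟩ := hM a c hac
      exact ⟨e.symm, fun v => by rw [← he, e.apply_symm_apply]⟩
  have hkm : ∀ {k : ℕ}, Module.finrank F ((Fin l ⊕ Fin l) ⊕ Fin 2 → F) = 2 * k → k = l + 1 := fun h => by
    rw [finrank_minus] at h; omega
  by_cases hodd : Odd i
  · rw [if_pos hodd]
    obtain ⟨⟨D⟩, -⟩ := hbodd hodd
    have ht2 : 1 ≤ t / 2 := by
      have : Even (t * i) := by rw [ht]; exact (hr.odd_of_ne_two hr2).tsub_odd odd_one
      have := (Nat.even_mul.1 this).resolve_right (Nat.not_even_iff_odd.2 hodd)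
      obtain ⟨u, hu⟩ := this
      have : t ≠ 0 := fun h => by rw [h, zero_mul] at ht; have := hr.two_le; omega
      omega
    rw [count_classes hr hr2 hrp _ hsep False (finrank_minus l) D ht2
      (fun g hg hgr h1 => hnP ((type_cases (p := p) q i t hF hr hr2 hrp hi ht _ hsep hg hgr h1 hm (finrank_minus l)).1 hodd).2)
      (fun hG => hG.elim) emb]
    simp [Nat.mul_div_mul_left _ _ two_pos, Nat.mul_dvd_mul_iff_left]
  · rw [if_neg hodd]
    have hev := Nat.not_odd_iff_even.1 hodd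
    obtain ⟨D⟩ := hbev hev
    have ht1 : 1 ≤ t := Nat.pos_of_ne_zero fun h => by rw [h, zero_mul] at ht; have := hr.two_le; omega
    rw [count_classes hr hr2 hrp _ hsep (¬ Even (2 * (l + 1) / i)) (finrank_minus l) D ht1
      (fun g hg hgr h1 hN => hnP (((type_cases (p := p) q i t hF hr hr2 hrp hi ht _ hsep hg hgr h1 hm (finrank_minus l)).2 hev).2.2 hN))
      (fun hG k hk Q₀ A hQ₀ hA hAr hA1 => sufT Q₀ hQ₀
        (fun hP => hG (by
          have := ((type_cases (p := p) q i t hF hr hr2 hrp hi ht Q₀ hQ₀ hA hAr hA1 (by have := hkm hk; omega) (finrank_two k)).2 hev).2.1 hP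
          rwa [hkm hk] at this)) (hkm hk)) emb]
    simp

include hF hr hr2 hrp hi ht in
theorem count_odd (hq : Odd q) (m : ℕ) :
    Nat.card {C : ConjClasses ↥(Cfsg.isometryGroup F (Cfsg.quadFormOdd m F)) //
      ∃ g : ↥(Cfsg.isometryGroup F (Cfsg.quadFormOdd m F)), ConjClasses.mk g = C ∧ orderOf g = r} =
      if Odd i then Nat.choose (m / i + t / 2) (t / 2) - 1
      else Nat.choose ((2 * m + 1) / i + t) t - 1 := by
  classical
  haveI : Fact r.Prime := ⟨hr⟩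
  have h2 : (2 : F) ≠ 0 := two_ne_zero_of_odd (hF ▸ hq)
  rw [show Cfsg.quadFormOdd m F = ⇑(qfOdd m F) from (funext fun v => qfOdd_apply m v).symm,
    ← classes_congr (orEquiv (qfOdd m F)) r]
  obtain ⟨hbev, hbodd⟩ := exists_blocks (p := p) hr hr2 hrp hF hi ht
  have hsep := qfOdd_sep (F := F) h2 m
  have hfr : Module.finrank F (Unit ⊕ (Fin m ⊕ Fin m) → F) = 2 * m + 1 := by simp; omega
  have nec : ∀ g ∈ quadIsoms (qfOdd m F), g ^ r = 1 → ¬ g.toLinearMap.charpoly.IsRoot 1 → False := by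
    intro g hg hgr h1
    obtain ⟨u, hu⟩ := even_natDegree hr hr2 (charpoly_mem _ hsep hg hgr) h1
    omega
  have emb : ∀ k, 2 * k < Module.finrank F (Unit ⊕ (Fin m ⊕ Fin m) → F) → ∀ (Q₀ : QuadraticForm F (Fin k ⊕ Fin k → F)),
      (∀ x, (∀ y, polar Q₀ x y = 0) → x = 0) →
      ∃ φ : (Fin k ⊕ Fin k → F) →ₗ[F] (Unit ⊕ (Fin m ⊕ Fin m) → F), ∀ v, qfOdd m F (φ v) = Q₀ v := by
    intro k hk Q₀ hQ₀
    rw [hfr] at hk
    rcases dichotomy Q₀ hQ₀ (finrank_two k) with ⟨e, he⟩ | ⟨l, rfl, hM⟩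
    · obtain ⟨φ, hφ⟩ := embed_plus_odd (F := F) (show k ≤ m by omega)
      exact ⟨φ ∘ₗ e.symm.toLinearMap, fun v => by
        rw [LinearMap.comp_apply, hφ, ← he]; exact congrArg Q₀ (e.apply_symm_apply v)⟩
    · obtain ⟨a, b, hab⟩ := exists_anisotropic_binary (F := F)
      obtain ⟨e, he⟩ := hM a b hab
      obtain ⟨φ, hφ⟩ := embed_minus_odd (F := F) h2 (show l + 1 ≤ m by omega) a b
      exact ⟨φ ∘ₗ e.symm.toLinearMap, fun v => by
        rw [LinearMap.comp_apply, hφ, ← he]; exact congrArg Q₀ (e.apply_symm_apply v)⟩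
  by_cases hodd : Odd i
  · rw [if_pos hodd]
    obtain ⟨⟨D⟩, -⟩ := hbodd hodd
    have ht2 : 1 ≤ t / 2 := by
      have : Even (t * i) := by rw [ht]; exact (hr.odd_of_ne_two hr2).tsub_odd odd_one
      have := (Nat.even_mul.1 this).resolve_right (Nat.not_even_iff_odd.2 hodd)
      obtain ⟨u, hu⟩ := this
      have : t ≠ 0 := fun h => by rw [h, zero_mul] at ht; have := hr.two_le; omega
      omega
    rw [count_classes hr hr2 hrp _ hsep False hfr D ht2 nec (fun hG => hG.elim) emb, if_neg,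
      show (2 * m + 1) / (2 * i) = m / i by rw [← Nat.div_div_eq_div_mul]; congr 1; omega, Nat.sub_zero]
    rintro ⟨⟨w, hw⟩, -⟩
    rw [mul_assoc] at hw
    omega
  · rw [if_neg hodd]
    have hev := Nat.not_odd_iff_even.1 hodd
    obtain ⟨D⟩ := hbev hev
    have ht1 : 1 ≤ t := Nat.pos_of_ne_zero fun h => by rw [h, zero_mul] at ht; have := hr.two_le; omega
    rw [count_classes hr hr2 hrp _ hsep False hfr D ht1 nec (fun hG => hG.elim) emb, if_neg, Nat.sub_zero]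
    rintro ⟨⟨w, hw⟩, -⟩
    obtain ⟨u, hu⟩ := hev
    rw [hu, ← two_mul, mul_assoc] at hw
    omega

end CfsgLib.KnownC.OrthPrime
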