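import Mathlib
import Cfsg.Agent.Lib.KnownC.AutPOmegaEvenClass
import Cfsg.Agent.Lib.Geom.PlusTS

set_option autoImplicit false
set_option linter.unusedSectionVars false
set_option linter.style.haveILetI false

/-!
Quadratic forms over the field of two elements: the character sum `∑ (-1) ^ q v` decides the type.
-/

namespace CfsgLib.KnownC

open CfsgLib.Geom CfsgLib.Classical
open QuadraticMap (polar)

/-- The sign of an element of `ZMod 2`. -/
def sgn2 (x : ZMod 2) : ℤ := if x = 0 then 1 else -1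

theorem sgn2_add : ∀ x y : ZMod 2, sgn2 (x + y) = sgn2 x * sgn2 y := by decide

theorem sgn2_sum {κ : Type*} [DecidableEq κ] (s : Finset κ) (f : κ → ZMod 2) :
    sgn2 (∑ i ∈ s, f i) = ∏ i ∈ s, sgn2 (f i) := by
  induction s using Finset.induction_on with
  | empty => rfl
  | insert a s ha ih => rw [Finset.sum_insert ha, Finset.prod_insert ha, sgn2_add, ih]

/-- The character sum of a function with values in `ZMod 2`. -/
def csum {α : Type*} [Fintype α] (f : α → ZMod 2) : ℤ := ∑ v, sgn2 (f v)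

theorem csum_add_const {α : Type*} [Fintype α] (f : α → ZMod 2) (c : ZMod 2) :
    csum (fun v => f v + c) = sgn2 c * csum f := by
  simp only [csum, sgn2_add, Finset.mul_sum, mul_comm]

theorem csum_comp {α β : Type*} [Fintype α] [Fintype β] (e : α ≃ β) (f : β → ZMod 2) :
    csum (fun v => f (e v)) = csum f :=
  Equiv.sum_comp e fun v => sgn2 (f v)

theorem csum_plus (m : ℕ) : csum (Cfsg.quadFormPlus m (ZMod 2)) = 2 ^ m := by
  have h : csum (Cfsg.quadFormPlus m (ZMod 2)) =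
      ∑ z : Fin m → ZMod 2 × ZMod 2, ∏ i, sgn2 ((z i).1 * (z i).2) := by
    refine Fintype.sum_equiv ⟨fun v i => (v (.inl i), v (.inr i)),
      fun z => Sum.elim (fun i => (z i).1) fun i => (z i).2, fun v => funext fun k => by rcases k with i | i <;> rfl,
      fun z => rfl⟩ _ _ fun v => ?_
    rw [Cfsg.quadFormPlus, sgn2_sum]
    rfl
  rw [h, ← Fintype.prod_sum (fun _ (x : ZMod 2 × ZMod 2) => sgn2 (x.1 * x.2)),
    show (∑ x : ZMod 2 × ZMod 2, sgn2 (x.1 * x.2)) = 2 by decide, Finset.prod_const, Finset.card_univ,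
    Fintype.card_fin]

theorem csum_minus (k : ℕ) : csum (Cfsg.quadFormMinus k (ZMod 2) 1 1) = -2 ^ (k + 1) := by
  have h : csum (Cfsg.quadFormMinus k (ZMod 2) 1 1) = ∑ p : (Fin k ⊕ Fin k → ZMod 2) × (Fin 2 → ZMod 2),
      sgn2 (Cfsg.quadFormPlus k (ZMod 2) p.1) * sgn2 (p.2 0 ^ 2 + 1 * p.2 0 * p.2 1 + 1 * p.2 1 ^ 2) := by
    refine Fintype.sum_equiv (Equiv.sumArrowEquivProdArrow _ _ _) _ _ fun v => ?_
    rw [← sgn2_add]
    rfl
  rw [h, Fintype.sum_prod_type]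
  simp only
  rw [← Fintype.sum_mul_sum,
    show (∑ z : Fin 2 → ZMod 2, sgn2 (z 0 ^ 2 + 1 * z 0 * z 1 + 1 * z 1 ^ 2)) = -2 by decide,
    show (∑ v, sgn2 (Cfsg.quadFormPlus k (ZMod 2) v)) = 2 ^ k from csum_plus k]
  ring

section Lagrangian

variable {ι : Type} [Fintype ι] [DecidableEq ι]

/-- With a totally singular subspace of half dimension the character sum is the number of its vectors. -/
theorem csum_eq_card_of_maxTS (Q : QuadraticForm (ZMod 2) (ι → ZMod 2)) (hQ : Q.polarBilin.Nondegenerate)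
    {m : ℕ} (hdim : Fintype.card ι = 2 * m) (U : Submodule (ZMod 2) (ι → ZMod 2)) (hU : IsMaxTS Q m U) :
    csum (⇑Q) = 2 ^ m := by
  classical
  have hperp : tsPerp Q U = U :=
    tsPerp_maxTS Q hQ (by rw [Module.finrank_fintype_fun_eq_card, hdim]) hU
  have hcard : (Fintype.card U : ℤ) = 2 ^ m := by
    rw [Module.card_eq_pow_finrank (K := ZMod 2) (V := U), hU.1, ZMod.card]; simp
  have key : (Fintype.card U : ℤ) * csum (⇑Q) = (Fintype.card U : ℤ) * Fintype.card U := by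
    have h1 : (Fintype.card U : ℤ) * csum (⇑Q) = ∑ u : U, ∑ v, sgn2 (Q (v + u.1)) := by
      rw [Finset.sum_congr rfl fun (u : U) _ => show (∑ v, sgn2 (Q (v + u.1))) = csum (⇑Q) from
        Equiv.sum_comp (Equiv.addRight u.1) fun v => sgn2 (Q v), Finset.sum_const, Finset.card_univ, nsmul_eq_mul]
    rw [h1, Finset.sum_comm]
    have h2 : ∀ v, ∑ u : U, sgn2 (Q (v + u.1)) = if v ∈ U then (Fintype.card U : ℤ) else 0 := by
      intro v
      have h3 : ∀ u : U, sgn2 (Q (v + u.1)) = sgn2 (Q v) * sgn2 (polar Q v u.1) := fun u => by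
        rw [QuadraticMap.map_add Q, hU.2 _ u.2, add_zero, sgn2_add]
      simp only [h3, ← Finset.mul_sum]
      by_cases hv : v ∈ U
      · rw [if_pos hv, Finset.sum_congr rfl fun (u : U) _ => show sgn2 (polar Q v u.1) = 1 by
          rw [polar_eq_zero_of_ts Q hU.2 hv u.2]; rfl, hU.2 v hv]
        simp [sgn2]
      · rw [if_neg hv, mul_eq_zero]
        right
        obtain ⟨u₀, hu₀⟩ : ∃ u₀ : U, polar Q v u₀.1 ≠ 0 := by
          by_contra h
          push Not at h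
          refine hv (hperp ▸ mem_tsPerp.2 fun s hs => ?_)
          rw [QuadraticMap.polar_comm]; exact h ⟨s, hs⟩
        have h4 := Equiv.sum_comp (Equiv.addRight u₀) fun u : U => sgn2 (polar Q v u.1)
        simp only [Equiv.coe_addRight, Submodule.coe_add, QuadraticMap.polar_add_right, sgn2_add,
          ← Finset.sum_mul] at h4
        rw [show sgn2 (polar Q v u₀.1) = -1 from if_neg hu₀] at h4
        linarith
    simp only [h2]
    rw [← Finset.sum_filter, Finset.sum_const, nsmul_eq_mul]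
    congr 1
    rw [Fintype.card_subtype]
  rw [← hcard]
  exact mul_left_cancel₀ (by simp) key

end Lagrangian

section Forms

variable {m : ℕ}

local notation "Q₀" => Cfsg.quadFormPlus m (ZMod 2)

/-- The functions polarising to the polar form of `x y`. -/
def IsPolarised (q : (Fin m ⊕ Fin m → ZMod 2) → ZMod 2) : Prop :=
  ∀ u v, q (u + v) = q u + q v + (Q₀ (u + v) - Q₀ u - Q₀ v)

theorem polar_eq_fun (u v : Fin m ⊕ Fin m → ZMod 2) :
    polar (qfPlus m (ZMod 2)) u v = Q₀ (u + v) - Q₀ u - Q₀ v := by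
  simp only [QuadraticMap.polar, qfPlus_apply]

theorem exists_translate {q : (Fin m ⊕ Fin m → ZMod 2) → ZMod 2} (hq : IsPolarised q) :
    ∃ w, ∀ v, q v = Q₀ v + polar (qfPlus m (ZMod 2)) w v := by
  obtain ⟨φ, hφ⟩ : ∃ φ : (Fin m ⊕ Fin m → ZMod 2) →+ ZMod 2, ∀ v, φ v = q v - Q₀ v :=
    ⟨AddMonoidHom.mk' (fun v => q v - Q₀ v) fun u v => by rw [hq]; ring, fun _ => rfl⟩
  obtain ⟨w, hw⟩ : ∃ w, w = Sum.elim (fun i => φ (Pi.single (.inr i) 1)) (fun i => φ (Pi.single (.inl i) 1)) :=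
    ⟨_, rfl⟩
  refine ⟨w, fun v => ?_⟩
  have h : φ v = polar (qfPlus m (ZMod 2)) w v := by
    have h1 : φ.toZModLinearMap 2 = (qfPlus m (ZMod 2)).polarBilin w := by
      refine (Pi.basisFun (ZMod 2) _).ext fun k => ?_
      rw [Pi.basisFun_apply]
      show φ (Pi.single k 1) = polar (qfPlus m (ZMod 2)) w (Pi.single k 1)
      rcases k with i | i <;> simp [polar_qfPlus, hw, Pi.single_apply]
    exact LinearMap.congr_fun h1 v
  rw [← h, hφ]; ring

theorem isPolarised_translate (w : Fin m ⊕ Fin m → ZMod 2) :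
    IsPolarised fun v => Q₀ v + polar (qfPlus m (ZMod 2)) w v := fun u v => by
  simp only [QuadraticMap.polar_add_right]; ring

theorem csum_translate (w : Fin m ⊕ Fin m → ZMod 2) :
    csum (fun v => Q₀ v + polar (qfPlus m (ZMod 2)) w v) = sgn2 (Q₀ w) * 2 ^ m := by
  have h : (fun v => Q₀ v + polar (qfPlus m (ZMod 2)) w v) = fun v => Q₀ (v + w) + Q₀ w := by
    funext v
    rw [QuadraticMap.polar_comm, polar_eq_fun]
    have h2 : ∀ a b c : ZMod 2, a + (b - a - c) = b + c := by decide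
    exact h2 _ _ _
  rw [h, csum_add_const, show csum (fun v => Q₀ (v + w)) = csum Q₀ from csum_comp (Equiv.addRight w) Q₀, csum_plus]

theorem csum_of_plus {q : (Fin m ⊕ Fin m → ZMod 2) → ZMod 2}
    (h : ∃ g : (Fin m ⊕ Fin m → ZMod 2) ≃ₗ[ZMod 2] (Fin m ⊕ Fin m → ZMod 2), ∀ v, q v = Q₀ (g v)) :
    csum q = 2 ^ m := by
  obtain ⟨g, hg⟩ := h
  rw [show q = fun v => Q₀ (g.toEquiv v) from funext hg, csum_comp, csum_plus]

theorem csum_of_minus (hm : 1 ≤ m) {q : (Fin m ⊕ Fin m → ZMod 2) → ZMod 2}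
    (h : ∃ g : (Fin m ⊕ Fin m → ZMod 2) ≃ₗ[ZMod 2] ((Fin (m - 1) ⊕ Fin (m - 1)) ⊕ Fin 2 → ZMod 2),
      ∀ v, q v = Cfsg.quadFormMinus (m - 1) (ZMod 2) 1 1 (g v)) : csum q = -2 ^ m := by
  obtain ⟨g, hg⟩ := h
  rw [show q = fun v => Cfsg.quadFormMinus (m - 1) (ZMod 2) 1 1 (g.toEquiv v) from funext hg, csum_comp,
    csum_minus, Nat.sub_add_cancel hm]

/-- Adding a linear form `f(·, w)` with `q w = 0` gives an isometric form. -/
theorem exists_isometry_translate {q : (Fin m ⊕ Fin m → ZMod 2) → ZMod 2} (hq : IsPolarised q)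
    {w : Fin m ⊕ Fin m → ZMod 2} (hw : q w = 0) :
    ∃ g : (Fin m ⊕ Fin m → ZMod 2) ≃ₗ[ZMod 2] (Fin m ⊕ Fin m → ZMod 2),
      ∀ v, q v + polar (qfPlus m (ZMod 2)) v w = q (g v) := by
  obtain ⟨L, hL⟩ : ∃ L : (Fin m ⊕ Fin m → ZMod 2) →ₗ[ZMod 2] (Fin m ⊕ Fin m → ZMod 2),
      L = LinearMap.id + ((qfPlus m (ZMod 2)).polarBilin w).smulRight w := ⟨_, rfl⟩
  have hLv : ∀ v, L v = v + polar (qfPlus m (ZMod 2)) w v • w := fun v => by rw [hL]; rfl
  have h2 : ∀ c : ZMod 2, c + c = 0 := by decide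
  have hww : polar (qfPlus m (ZMod 2)) w w = 0 := by rw [polar_self_two, show (2 : ZMod 2) = 0 from rfl, zero_mul]
  have hinv : Function.Involutive L := fun v => by
    rw [hLv, hLv, QuadraticMap.polar_add_right, QuadraticMap.polar_smul_right, hww, smul_zero, add_zero,
      add_assoc, ← add_smul, h2, zero_smul, add_zero]
  refine ⟨LinearEquiv.ofInvolutive L hinv, fun v => ?_⟩
  rw [LinearEquiv.coe_ofInvolutive, hLv, QuadraticMap.polar_comm _ v w]
  have h01 : ∀ c : ZMod 2, c = 0 ∨ c = 1 := by decide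
  rcases h01 (polar (qfPlus m (ZMod 2)) w v) with h | h
  · rw [h, zero_smul, add_zero, add_zero]
  · rw [h, one_smul, hq, hw, ← polar_eq_fun, QuadraticMap.polar_comm, h, add_zero]

theorem translate_same_type_iff {q : (Fin m ⊕ Fin m → ZMod 2) → ZMod 2} (hq : IsPolarised q)
    (w : Fin m ⊕ Fin m → ZMod 2) :
    (∃ g : (Fin m ⊕ Fin m → ZMod 2) ≃ₗ[ZMod 2] (Fin m ⊕ Fin m → ZMod 2),
      ∀ v, q v + (Q₀ (v + w) - Q₀ v - Q₀ w) = q (g v)) ↔ q w = 0 := by
  refine ⟨fun ⟨g, hg⟩ => ?_, fun hw => ?_⟩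
  · obtain ⟨a, ha⟩ := exists_translate hq
    have h1 : csum q = sgn2 (Q₀ a) * 2 ^ m := by rw [funext ha, csum_translate]
    have h2 : csum (fun v => q (g.toEquiv v)) = sgn2 (Q₀ (a + w)) * 2 ^ m := by
      rw [← csum_translate, show (fun v => q (g.toEquiv v)) = fun v => q v + polar (qfPlus m (ZMod 2)) v w from
        funext fun v => by rw [polar_eq_fun]; exact (hg v).symm]
      refine congrArg csum (funext fun v => ?_)
      rw [ha, QuadraticMap.polar_add_left, QuadraticMap.polar_comm _ v w, add_assoc]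
    rw [csum_comp, h1] at h2
    have h4 : Q₀ (a + w) = Q₀ a + q w := by rw [ha w, polar_eq_fun]; ring
    have h5 : ∀ x y : ZMod 2, sgn2 x = sgn2 (x + y) → y = 0 := by decide
    exact h5 _ _ (by rw [← h4]; exact mul_right_cancel₀ (pow_ne_zero m two_ne_zero) h2)
  · obtain ⟨g, hg⟩ := exists_isometry_translate hq hw
    exact ⟨g, fun v => by rw [← polar_eq_fun]; exact hg v⟩

theorem plus_iff_translate {q : (Fin m ⊕ Fin m → ZMod 2) → ZMod 2} {w : Fin m ⊕ Fin m → ZMod 2}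
    (hw : ∀ v, q v = Q₀ v + polar (qfPlus m (ZMod 2)) w v) :
    (∃ g : (Fin m ⊕ Fin m → ZMod 2) ≃ₗ[ZMod 2] (Fin m ⊕ Fin m → ZMod 2), ∀ v, q v = Q₀ (g v)) ↔ Q₀ w = 0 := by
  refine ⟨fun h => ?_, fun h => ?_⟩
  · have h1 := csum_of_plus h
    rw [funext hw, csum_translate] at h1
    by_contra h0
    rw [show sgn2 (Q₀ w) = -1 from if_neg h0] at h1
    have := pow_pos (show (0 : ℤ) < 2 by norm_num) m
    linarith
  · obtain ⟨g, hg⟩ := exists_isometry_translate (q := Q₀) (fun u v => by ring) h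
    exact ⟨g, fun v => by rw [hw, QuadraticMap.polar_comm]; exact hg v⟩

theorem exists_type (hm : 1 ≤ m) {q : (Fin m ⊕ Fin m → ZMod 2) → ZMod 2} (hq : IsPolarised q) :
    (∃ g : (Fin m ⊕ Fin m → ZMod 2) ≃ₗ[ZMod 2] (Fin m ⊕ Fin m → ZMod 2), ∀ v, q v = Q₀ (g v)) ∨
      (∃ g : (Fin m ⊕ Fin m → ZMod 2) ≃ₗ[ZMod 2] ((Fin (m - 1) ⊕ Fin (m - 1)) ⊕ Fin 2 → ZMod 2),
        ∀ v, q v = Cfsg.quadFormMinus (m - 1) (ZMod 2) 1 1 (g v)) := by
  obtain ⟨w, hw⟩ := exists_translate hq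
  obtain ⟨R, hR⟩ : ∃ R : QuadraticForm (ZMod 2) (Fin m ⊕ Fin m → ZMod 2), ∀ v, R v = q v := by
    refine ⟨qfPlus m (ZMod 2) + QuadraticMap.linMulLin ((qfPlus m (ZMod 2)).polarBilin w)
      ((qfPlus m (ZMod 2)).polarBilin w), fun v => ?_⟩
    rw [QuadraticMap.add_apply, QuadraticMap.linMulLin_apply, hw, qfPlus_apply]
    have h2 : ∀ c : ZMod 2, c * c = c := by decide
    exact congrArg (Q₀ v + ·) (h2 _)
  have hpol : ∀ u v, polar R u v = polar (qfPlus m (ZMod 2)) u v := fun u v => by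
    rw [polar_eq_fun, QuadraticMap.polar, hR, hR, hR, hq u v]; ring
  rcases even_form_std m (Fin m ⊕ Fin m → ZMod 2) R
      (fun x hx => qfPlus_sep m x fun y => by rw [← hpol]; exact hx y) (by simp; omega) with
    ⟨e, he⟩ | ⟨k, a, b, c, rfl, hc, hab, e, he⟩
  · exact Or.inl ⟨e.symm, fun v => by rw [← qfPlus_apply, ← he, e.apply_symm_apply, hR]⟩
  · right
    have hc1 : ∀ x : ZMod 2, x ≠ 0 → x = 1 := by decide
    have ha : a = 1 ∧ b = 1 := by
      have hkey : ∀ a b : ZMod 2, (∀ z₁ z₂ : ZMod 2, z₁ ^ 2 + a * z₁ * z₂ + b * z₂ ^ 2 = 0 → z₁ = 0 ∧ z₂ = 0) →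
          a = 1 ∧ b = 1 := by decide
      exact hkey a b hab
    obtain ⟨rfl, rfl⟩ := ha
    exact ⟨e.symm, fun v => by
      show q v = Cfsg.quadFormMinus k (ZMod 2) 1 1 (e.symm v)
      have h5 := he (e.symm v)
      rw [e.apply_symm_apply, hR, hc1 c hc, one_mul] at h5
      rw [← qfMinus_apply]
      exact h5⟩

theorem card_zeros : Nat.card {w : Fin m ⊕ Fin m → ZMod 2 // Q₀ w = 0} * 2 = 2 ^ (2 * m) + 2 ^ m := by
  classical
  have h := csum_plus m
  simp only [csum, sgn2] at h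
  rw [Finset.sum_ite, Finset.sum_const, Finset.sum_const, nsmul_eq_mul, nsmul_eq_mul, mul_one, mul_neg,
    mul_one] at h
  have h2 := Finset.card_filter_add_card_filter_not (s := (Finset.univ : Finset (Fin m ⊕ Fin m → ZMod 2)))
    (fun w => Q₀ w = 0)
  rw [Finset.card_univ, Fintype.card_fun, ZMod.card, Fintype.card_sum, Fintype.card_fin, ← two_mul] at h2
  rw [Nat.card_eq_fintype_card, Fintype.card_subtype]
  zify at h2 ⊢
  linarith

theorem card_types (hm : 1 ≤ m) :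
    Nat.card {q : (Fin m ⊕ Fin m → ZMod 2) → ZMod 2 // IsPolarised q} = 2 ^ (2 * m) ∧
    Nat.card {q : (Fin m ⊕ Fin m → ZMod 2) → ZMod 2 // IsPolarised q ∧
      ∃ g : (Fin m ⊕ Fin m → ZMod 2) ≃ₗ[ZMod 2] (Fin m ⊕ Fin m → ZMod 2), ∀ v, q v = Q₀ (g v)} =
        2 ^ (2 * m - 1) + 2 ^ (m - 1) ∧
    Nat.card {q : (Fin m ⊕ Fin m → ZMod 2) → ZMod 2 // IsPolarised q ∧
      ∃ g : (Fin m ⊕ Fin m → ZMod 2) ≃ₗ[ZMod 2] ((Fin (m - 1) ⊕ Fin (m - 1)) ⊕ Fin 2 → ZMod 2),
        ∀ v, q v = Cfsg.quadFormMinus (m - 1) (ZMod 2) 1 1 (g v)} = 2 ^ (2 * m - 1) - 2 ^ (m - 1) := by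
  classical
  obtain ⟨T, hT⟩ : ∃ T : (Fin m ⊕ Fin m → ZMod 2) → (Fin m ⊕ Fin m → ZMod 2) → ZMod 2,
      ∀ w v, T w v = Q₀ v + polar (qfPlus m (ZMod 2)) w v := ⟨_, fun _ _ => rfl⟩
  have hTi : Function.Injective T := fun a b hab => sub_eq_zero.1 (qfPlus_sep m _ fun y => by
    have h1 := congrFun hab y
    rw [hT, hT, add_right_inj] at h1
    rw [QuadraticMap.polar_sub_left, h1, sub_self])
  have hTp : ∀ w, IsPolarised (T w) := fun w => by
    rw [funext (hT w)]; exact isPolarised_translate w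
  have hcount : ∀ (P : ((Fin m ⊕ Fin m → ZMod 2) → ZMod 2) → Prop) (R : (Fin m ⊕ Fin m → ZMod 2) → Prop),
      (∀ w, P (T w) ↔ R w) → Nat.card {q // IsPolarised q ∧ P q} = Nat.card {w // R w} := by
    intro P R h
    refine (Nat.card_eq_of_bijective (fun w : {w // R w} =>
      (⟨T w.1, hTp w.1, (h w.1).2 w.2⟩ : {q // IsPolarised q ∧ P q})) ⟨fun a b hab => ?_, fun q => ?_⟩).symm
    · exact Subtype.ext (hTi (congrArg Subtype.val hab))
    · obtain ⟨w, hw⟩ := exists_translate q.2.1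
      have hq : T w = q.1 := funext fun v => (hT w v).trans (hw v).symm
      exact ⟨⟨w, (h w).1 (hq ▸ q.2.2)⟩, Subtype.ext hq⟩
  have hall : Nat.card {w : Fin m ⊕ Fin m → ZMod 2 // Q₀ w = 0} +
      Nat.card {w : Fin m ⊕ Fin m → ZMod 2 // ¬ Q₀ w = 0} = 2 ^ (2 * m) := by
    rw [← Nat.card_sum, Nat.card_congr (Equiv.sumCompl fun w : Fin m ⊕ Fin m → ZMod 2 => Q₀ w = 0),
      Nat.card_eq_fintype_card, Fintype.card_fun, ZMod.card, Fintype.card_sum, Fintype.card_fin, ← two_mul]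
  have hz := card_zeros (m := m)
  have e1 : 2 ^ (2 * m) = 2 * 2 ^ (2 * m - 1) := by rw [← pow_succ', show 2 * m - 1 + 1 = 2 * m by omega]
  have e2 : 2 ^ m = 2 * 2 ^ (m - 1) := by rw [← pow_succ', show m - 1 + 1 = m by omega]
  refine ⟨?_, ?_, ?_⟩
  · rw [← hall, ← Nat.card_sum, Nat.card_congr (Equiv.sumCompl fun w : Fin m ⊕ Fin m → ZMod 2 => Q₀ w = 0)]
    rw [Nat.card_congr ((Equiv.refl _).subtypeEquiv (q := fun q => IsPolarised (m := m) q ∧ True) fun q => by simp),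
      hcount (fun _ => True) (fun _ => True) fun _ => Iff.rfl]
    exact Nat.card_congr (Equiv.subtypeUnivEquiv fun _ => trivial)
  · rw [hcount _ (fun w => Q₀ w = 0) fun w => plus_iff_translate (hT w)]
    omega
  · rw [hcount _ (fun w => ¬ Q₀ w = 0) fun w => ?_]
    · omega
    refine ⟨fun h h0 => ?_, fun h => ?_⟩
    · have h1 := csum_of_minus hm h
      rw [csum_of_plus ((plus_iff_translate (hT w)).2 h0)] at h1
      have := pow_pos (show (0 : ℤ) < 2 by norm_num) m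
      linarith
    · exact (exists_type hm (hTp w)).resolve_left fun hp => h ((plus_iff_translate (hT w)).1 hp)

end Forms

/-- The Witt indices of the two types. -/
theorem witt_index_two (m : ℕ) (hm : 1 ≤ m) (Qp : (Fin m ⊕ Fin m → ZMod 2) → ZMod 2)
    (hQp : Qp = ⇑(qfPlus m (ZMod 2))) (Qm : ((Fin (m - 1) ⊕ Fin (m - 1)) ⊕ Fin 2 → ZMod 2) → ZMod 2)
    (hQm : Qm = ⇑(qfMinus (m - 1) (ZMod 2) 1 1)) :
    (∃ U : Submodule (ZMod 2) (Fin m ⊕ Fin m → ZMod 2), (∀ u ∈ U, Qp u = 0) ∧ Module.finrank (ZMod 2) ↥U = m) ∧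
    (∀ U : Submodule (ZMod 2) (Fin m ⊕ Fin m → ZMod 2), (∀ u ∈ U, Qp u = 0) → Module.finrank (ZMod 2) ↥U ≤ m) ∧
    (∃ U : Submodule (ZMod 2) ((Fin (m - 1) ⊕ Fin (m - 1)) ⊕ Fin 2 → ZMod 2),
      (∀ u ∈ U, Qm u = 0) ∧ Module.finrank (ZMod 2) ↥U = m - 1) ∧
    (∀ U : Submodule (ZMod 2) ((Fin (m - 1) ⊕ Fin (m - 1)) ⊕ Fin 2 → ZMod 2),
      (∀ u ∈ U, Qm u = 0) → Module.finrank (ZMod 2) ↥U ≤ m - 1) := by
  subst hQp hQm
  have hab : ∀ z₁ z₂ : ZMod 2, z₁ ^ 2 + 1 * z₁ * z₂ + 1 * z₂ ^ 2 = 0 → z₁ = 0 ∧ z₂ = 0 := by decide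
  have hnd : ∀ {κ : Type} [Fintype κ] [DecidableEq κ] (Q : QuadraticForm (ZMod 2) (κ → ZMod 2)),
      (∀ x, (∀ y, polar Q x y = 0) → x = 0) → Q.polarBilin.Nondegenerate := fun Q hs =>
    ⟨fun x hx => hs x hx, fun y hy => hs y fun x => by rw [QuadraticMap.polar_comm]; exact hy x⟩
  obtain ⟨h1, h2⟩ := isMaxTS_coordTS (F := ZMod 2) m (fun _ => false)
  refine ⟨⟨coordTS m fun _ => false, fun u hu => by rw [qfPlus_apply, ← plusForm_coe]; exact h2 u hu, h1⟩,
    fun U hU => finrank_ts_le _ (hnd _ (qfPlus_sep m)) (by simp; omega) hU, ?_, fun U hU => ?_⟩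
  · obtain ⟨Lm, hLm⟩ : ∃ Lm : (Fin (m - 1) → ZMod 2) →ₗ[ZMod 2] ((Fin (m - 1) ⊕ Fin (m - 1)) ⊕ Fin 2 → ZMod 2),
        ∀ v, Lm v = Sum.elim (Sum.elim v fun _ => 0) fun _ => 0 :=
      ⟨{ toFun := fun v => Sum.elim (Sum.elim v fun _ => 0) fun _ => 0
         map_add' := fun u v => funext fun i => by rcases i with (i | i) | i <;> simp
         map_smul' := fun a v => funext fun i => by rcases i with (i | i) | i <;> simp }, fun _ => rfl⟩
    refine ⟨LinearMap.range Lm, ?_, ?_⟩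
    · rintro _ ⟨v, rfl⟩
      simp [hLm, qfMinus_apply, Cfsg.quadFormMinus]
    · rw [LinearMap.finrank_range_of_inj fun u v huv => funext fun i => by
        simpa [hLm] using congrFun huv (.inl (.inl i))]
      simp
  · by_contra hlt
    have hle := finrank_ts_le (qfMinus (m - 1) (ZMod 2) 1 1) (hnd _ (qfMinus_sep _ hab)) (m := m)
      (by simp; omega) hU
    have h3 := csum_eq_card_of_maxTS (qfMinus (m - 1) (ZMod 2) 1 1) (hnd _ (qfMinus_sep _ hab)) (m := m)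
      (by simp; omega) U ⟨by omega, hU⟩
    rw [show ⇑(qfMinus (m - 1) (ZMod 2) (1 : ZMod 2) 1) = Cfsg.quadFormMinus (m - 1) (ZMod 2) 1 1 from
      funext (qfMinus_apply _ _ _), csum_minus, Nat.sub_add_cancel hm] at h3
    have := pow_pos (show (0 : ℤ) < 2 by norm_num) m
    linarith

end CfsgLib.KnownC
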