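import Cfsg.Agent.Lib.KnownC.GLPrimeOrderClasses
import Cfsg.Agent.Lib.Geom.FiniteField

set_option autoImplicit false

/-!
Involution classes of `PGL_n(q)`, `q` odd.
-/

namespace CfsgLib.KnownC

open Polynomial CfsgLib.KnownB
open scoped MatrixGroups

variable {F : Type*} [Field F] [Fintype F] {n : ℕ}

/-- Existence of a semisimple matrix killed by a polynomial with given characteristic polynomial. -/
theorem exists_aeval_eq_zero_charpoly {A f : F[X]} (hA : A.coeff 0 ≠ 0) (hf : f.Monic)
    (hn : f.natDegree = n) (h : f ∣ A ^ n) :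
    ∃ g : GL (Fin n) F, aeval (g : Matrix (Fin n) (Fin n) F) A = 0 ∧
      (g : Matrix (Fin n) (Fin n) F).charpoly = f := by
  obtain ⟨p, hpc⟩ := CharP.exists F
  have : Fact p.Prime := ⟨CharP.char_is_prime F p⟩
  have h0 : f.coeff 0 ≠ 0 := by
    intro h0
    exact hA (Polynomial.X_dvd_iff.1 (Polynomial.prime_X.dvd_of_dvd_pow
      ((Polynomial.X_dvd_iff.2 h0).trans h)))
  obtain ⟨g, hg, hgc⟩ := SSClass.exists_gl p hf hn h0
  refine ⟨g, ?_, hgc⟩
  have hsq := ((SSClass.ss_iff_coprime p g).2 hg).isSemisimple.minpoly_squarefree
  rw [minpoly.algEquiv_eq] at hsq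
  have hd : minpoly F (g : Matrix (Fin n) (Fin n) F) ∣ A ^ n :=
    (Matrix.minpoly_dvd_charpoly _).trans (hgc ▸ h)
  exact aeval_eq_zero_of_dvd_aeval_eq_zero (hsq.isRadical n _ hd) (minpoly.aeval F _)

theorem isConj_of_charpoly_of_sq (h2 : (2 : F) ≠ 0) {g h : GL (Fin n) F} (c : Fˣ)
    (hg : g ^ 2 = Matrix.GeneralLinearGroup.scalar (Fin n) c)
    (hh : h ^ 2 = Matrix.GeneralLinearGroup.scalar (Fin n) c)
    (hc : (g : Matrix (Fin n) (Fin n) F).charpoly = (h : Matrix (Fin n) (Fin n) F).charpoly) :
    IsConj g h := by
  classical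
  obtain ⟨p, hpc⟩ := CharP.exists F
  have : Fact p.Prime := ⟨CharP.char_is_prime F p⟩
  obtain ⟨e, hp, hq⟩ := FiniteField.card F p
  have hcop : (2 * (Fintype.card F - 1)).Coprime p := by
    rw [Nat.coprime_comm, hp.coprime_iff_not_dvd, hp.dvd_mul]
    rintro (h' | h')
    · rw [(Nat.prime_dvd_prime_iff_eq hp Nat.prime_two).1 h'] at hpc
      exact h2 (by exact_mod_cast CharP.cast_eq_zero F 2)
    · have hd : p ∣ Fintype.card F := hq ▸ dvd_pow_self p e.ne_zero
      have hpos : 1 ≤ Fintype.card F := Fintype.card_pos
      have := Nat.dvd_sub hd h'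
      rw [show Fintype.card F - (Fintype.card F - 1) = 1 by omega] at this
      exact hp.one_lt.ne' (Nat.dvd_one.1 this)
  have key : ∀ x : GL (Fin n) F, x ^ 2 = Matrix.GeneralLinearGroup.scalar (Fin n) c →
      (orderOf x).Coprime p := fun x hx => by
    refine hcop.coprime_dvd_left (orderOf_dvd_of_pow_eq_one ?_)
    rw [pow_mul, hx, ← map_pow, ← Fintype.card_units, pow_card_eq_one, map_one]
  exact SSClass.gl_isConj_of_charpoly p (key g hg) (key h hh) hc

/-- The diagonal involution with `k` eigenvalues `-1`. -/
def signDiag (n : ℕ) (F : Type*) [Field F] (k : ℕ) : Fin n → F :=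
  fun i => if (i : ℕ) < k then -1 else 1

theorem card_roots_neg_signDiag (h2 : (2 : F) ≠ 0) {k : ℕ} (hk : k ≤ n) [DecidableEq F] :
    (Finset.univ.val.map (signDiag n F k)).count (-1) = k := by
  have hne : (1 : F) ≠ -1 := fun h => h2 (by
    rw [← one_add_one_eq_two]; nth_rw 1 [h]; exact neg_add_cancel 1)
  rw [Multiset.count_map, ← Finset.filter_val, ← Finset.card_def]
  rw [show Finset.univ.filter (fun i : Fin n => -1 = signDiag n F k i) =
      Finset.univ.filter (fun i : Fin n => (i : ℕ) < k) from Finset.filter_congr fun i _ => by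
    simp only [signDiag]
    split_ifs with h <;> simp [h, hne.symm]]
  rw [Fin.card_filter_val_lt, min_eq_right hk]

theorem charpoly_diag_signs (d : Fin n → F) :
    (Matrix.diagonal d).charpoly = (Finset.univ.val.map fun i => X - C (d i)).prod := by
  rw [Matrix.charpoly_diagonal]; rfl

theorem multiset_eq_of_diag_charpoly {d e : Fin n → F}
    (h : (Matrix.diagonal d).charpoly = (Matrix.diagonal e).charpoly) :
    Finset.univ.val.map d = Finset.univ.val.map e := by
  have key : ∀ v : Fin n → F, (Matrix.diagonal v).charpoly.roots = Finset.univ.val.map v := fun v => by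
    rw [charpoly_diag_signs, show (Finset.univ.val.map fun i => X - C (v i)) =
      (Finset.univ.val.map v).map fun a => X - C a by rw [Multiset.map_map]; rfl,
      roots_multiset_prod_X_sub_C]
  rw [← key, ← key, h]

theorem eq_of_irreducible_dvd_monic {P Q : F[X]} (hP : Irreducible P) (hPm : P.Monic)
    (hQ : Irreducible Q) (hQm : Q.Monic) (h : P ∣ Q) : P = Q :=
  eq_of_monic_of_associated hPm hQm (hP.associated_of_dvd hQ h)

theorem card_involution_classes_pgl (h2 : (2 : F) ≠ 0) (hn : 2 ≤ n) :
    Nat.card {C : ConjClasses (GL (Fin n) F ⧸ Subgroup.center (GL (Fin n) F)) //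
      ∃ g : GL (Fin n) F ⧸ Subgroup.center (GL (Fin n) F), ConjClasses.mk g = C ∧ orderOf g = 2} =
      n / 2 + (if Even n then 1 else 0) := by
  classical
  have hne : (1 : F) ≠ -1 := fun h => h2 (by
    rw [← one_add_one_eq_two]; nth_rw 1 [h]; exact neg_add_cancel 1)
  obtain ⟨μ, hμ⟩ : ∃ μ : F, ¬ IsSquare μ := FiniteField.exists_nonsquare (fun h => h2 (by
    have := CharP.cast_eq_zero F (ringChar F)
    rw [h] at this; exact_mod_cast this))
  have hμ0 : μ ≠ 0 := fun h => hμ (h ▸ IsSquare.zero)
  set Q : F[X] := X ^ 2 - C μ with hQdef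
  have hQm : Q.Monic := monic_X_pow_sub_C μ two_ne_zero
  have hQd : Q.natDegree = 2 := natDegree_X_pow_sub_C
  have hQi : Irreducible Q :=
    X_pow_sub_C_irreducible_of_prime Nat.prime_two fun b hb => hμ ⟨b, by rw [← hb, sq]⟩
  set sc := Matrix.GeneralLinearGroup.scalar (R := F) (Fin n) with hsc
  haveI : Nonempty (Fin n) := ⟨⟨0, by omega⟩⟩
  have hscv : ∀ s, ((sc s : GL (Fin n) F) : Matrix (Fin n) (Fin n) F) =
      Matrix.diagonal fun _ => (s : F) := fun s => by
    rw [hsc]; simp [Matrix.GeneralLinearGroup.scalar]
  have hscinj : Function.Injective sc := fun a b h => by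
    have := congrArg (fun x : GL (Fin n) F => (x : Matrix (Fin n) (Fin n) F)) h
    simp only [hscv] at this
    exact Units.ext (congrFun (Matrix.diagonal_injective this) ⟨0, by omega⟩)
  have hscc : ∀ (s : Fˣ) (x : GL (Fin n) F), sc s * x = x * sc s := fun s x => by
    have hmem : sc s ∈ Subgroup.center (GL (Fin n) F) := by
      rw [Matrix.GeneralLinearGroup.center_eq_range_scalar]; exact ⟨s, rfl⟩
    exact (Subgroup.mem_center_iff.1 hmem x).symm
  have hcent : ∀ z ∈ Subgroup.center (GL (Fin n) F), ∃ s, sc s = z := fun z hz => by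
    rw [Matrix.GeneralLinearGroup.center_eq_range_scalar] at hz; exact hz
  set π := QuotientGroup.mk' (Subgroup.center (GL (Fin n) F)) with hπ
  have hπsc : ∀ s, π (sc s) = 1 := fun s => by
    rw [hπ, QuotientGroup.mk'_apply, QuotientGroup.eq_one_iff,
      Matrix.GeneralLinearGroup.center_eq_range_scalar]
    exact ⟨s, rfl⟩
  have hπeq : ∀ x y, π x = π y → ∃ s, y = x * sc s := fun x y h => by
    obtain ⟨s, hs⟩ := hcent _ (QuotientGroup.eq.1 h)
    exact ⟨s, by rw [hs, mul_inv_cancel_left]⟩
  -- representatives
  have hD : ∀ k, ∃ g : GL (Fin n) F, (g : Matrix (Fin n) (Fin n) F) = Matrix.diagonal (signDiag n F k) ∧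
      g ^ 2 = sc 1 := by
    intro k
    have hsq : Matrix.diagonal (signDiag n F k) * Matrix.diagonal (signDiag n F k) = 1 := by
      rw [Matrix.diagonal_mul_diagonal, ← Matrix.diagonal_one]
      congr 1; funext i; simp only [signDiag]; split_ifs <;> simp
    refine ⟨⟨_, _, hsq, hsq⟩, rfl, ?_⟩
    rw [map_one, sq]
    exact Units.ext hsq
  choose D hDv hDsq using hD
  have hE : Even n → ∃ g : GL (Fin n) F, g ^ 2 = sc (Units.mk0 μ hμ0) ∧
      (g : Matrix (Fin n) (Fin n) F).charpoly = Q ^ (n / 2) := by
    intro he
    obtain ⟨g, hg, hgc⟩ := exists_aeval_eq_zero_charpoly (n := n) (A := Q) (f := Q ^ (n / 2))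
      (by simp [hQdef, coeff_X_pow, hμ0]) (hQm.pow _)
      (by rw [natDegree_pow, hQd]; obtain ⟨m, rfl⟩ := he; omega)
      (pow_dvd_pow _ (by omega))
    refine ⟨g, Units.ext ?_, hgc⟩
    rw [hQdef, map_sub, map_pow, aeval_X, aeval_C, sub_eq_zero] at hg
    rw [Units.val_pow_eq_pow_val, hg, hscv, Matrix.algebraMap_eq_diagonal]
    rfl
  -- two involutions with square `1` which are conjugate up to a scalar
  let ι := Fin (n / 2) ⊕ Fin (if Even n then 1 else 0)
  have hev : ∀ _ : Fin (if Even n then 1 else 0), Even n := fun x => by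
    by_contra h
    rw [if_neg h] at x
    exact x.elim0
  let rep : ι → GL (Fin n) F := fun o =>
    o.elim (fun k => D (k.1 + 1)) fun x => (hE (hev x)).choose
  have hrepE : ∀ x, (rep (.inr x)) ^ 2 = sc (Units.mk0 μ hμ0) := fun x => (hE (hev x)).choose_spec.1
  have hrepsq : ∀ o, ∃ c, rep o ^ 2 = sc c := by
    rintro (k | x)
    · exact ⟨1, hDsq _⟩
    · exact ⟨_, hrepE x⟩
  have hrepns : ∀ o, rep o ∉ Subgroup.center (GL (Fin n) F) := by
    intro o h
    obtain ⟨s, hs⟩ := hcent _ h
    rcases o with k | x
    · have h1 := congrArg (fun y : GL (Fin n) F => (y : Matrix (Fin n) (Fin n) F)) hs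
      simp only [hscv] at h1
      rw [show ((rep (.inl k) : GL (Fin n) F) : Matrix (Fin n) (Fin n) F) = _ from hDv _] at h1
      have ha := congrFun (Matrix.diagonal_injective h1) ⟨0, by omega⟩
      have hb := congrFun (Matrix.diagonal_injective h1) ⟨n - 1, by omega⟩
      simp only [signDiag] at ha hb
      rw [if_pos (Nat.succ_pos _)] at ha
      rw [if_neg (by have := k.2; omega)] at hb
      exact hne (hb.symm.trans ha)
    · have h1 := hrepE x
      rw [← hs, ← map_pow] at h1
      exact hμ ⟨(s : F), by
        rw [← sq]; exact (congrArg Units.val (hscinj h1)).symm⟩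
  have horder : ∀ o, orderOf (π (rep o)) = 2 := by
    intro o
    obtain ⟨c, hc⟩ := hrepsq o
    refine orderOf_eq_prime (by rw [← map_pow, hc, hπsc]) fun h => hrepns o ?_
    rwa [hπ, QuotientGroup.mk'_apply, QuotientGroup.eq_one_iff] at h
  let Φ : ι → {C : ConjClasses (GL (Fin n) F ⧸ Subgroup.center (GL (Fin n) F)) //
      ∃ g : GL (Fin n) F ⧸ Subgroup.center (GL (Fin n) F), ConjClasses.mk g = C ∧ orderOf g = 2} :=
    fun o => ⟨ConjClasses.mk (π (rep o)), π (rep o), rfl, horder o⟩
  have hsmul : ∀ (x : GL (Fin n) F) (s : Fˣ), ((x * sc s : GL (Fin n) F) : Matrix (Fin n) (Fin n) F) =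
      (x : Matrix (Fin n) (Fin n) F) * Matrix.diagonal fun _ => (s : F) := fun x s => by
    rw [Units.val_mul, hscv]
  have hΦ : Function.Bijective Φ := by
    constructor
    · intro a b h
      obtain ⟨y, hy⟩ := isConj_iff.1 (ConjClasses.mk_eq_mk_iff_isConj.1 (congrArg Subtype.val h))
      obtain ⟨x, rfl⟩ := QuotientGroup.mk'_surjective _ y
      rw [← map_inv, ← map_mul, ← map_mul] at hy
      obtain ⟨s, hs⟩ := hπeq _ _ hy
      obtain ⟨ca, hca⟩ := hrepsq a
      have hb2 : rep b ^ 2 = sc (ca * s ^ 2) := by
        rw [hs, (show Commute (x * rep a * x⁻¹) (sc s) from (hscc s _).symm).mul_pow, conj_pow, hca,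
          ← hscc, mul_inv_cancel_right, ← map_pow, ← map_mul]
      rcases a with k | u <;> rcases b with l | v
      · have h1 := hDsq (l.1 + 1)
        have hca1 : ca = 1 := hscinj (hca.symm.trans (hDsq _))
        rw [show rep (.inl l) = D (l.1 + 1) from rfl, h1, hca1, one_mul] at hb2
        have hs2 : (s : F) * s = 1 := by
          rw [← sq]; exact (congrArg Units.val (hscinj hb2)).symm
        have hcp := SSClass.charpoly_isConj (isConj_iff.2 ⟨x, rfl⟩ :
          IsConj (rep (.inl k) * sc s) (x * (rep (.inl k) * sc s) * x⁻¹))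
        rw [show x * (rep (.inl k) * sc s) * x⁻¹ = rep (.inl l) by
          rw [hs, ← mul_assoc, mul_assoc (x * rep (.inl k)), hscc, ← mul_assoc]] at hcp
        rw [hsmul, show ((rep (.inl k) : GL (Fin n) F) : Matrix (Fin n) (Fin n) F) = _ from hDv _,
          show ((rep (.inl l) : GL (Fin n) F) : Matrix (Fin n) (Fin n) F) = _ from hDv _,
          Matrix.diagonal_mul_diagonal] at hcp
        have hm := congrArg (fun m : Multiset F => m.count (-1)) (multiset_eq_of_diag_charpoly hcp)
        rw [card_roots_neg_signDiag h2 (by have := l.2; omega)] at hm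
        have hk2 := k.2
        have hl2 := l.2
        rcases mul_self_eq_one_iff.1 hs2 with hs1 | hs1
        · rw [hs1] at hm
          simp only [mul_one] at hm
          rw [card_roots_neg_signDiag h2 (by omega)] at hm
          exact congrArg Sum.inl (Fin.ext (by omega))
        · rw [hs1] at hm
          have e : (Finset.univ.val.map fun i => signDiag n F (k.1 + 1) i * -1).count (-1) =
              n - (k.1 + 1) := by
            rw [Multiset.count_map, ← Finset.filter_val, ← Finset.card_def,
              show Finset.univ.filter (fun i : Fin n => -1 = signDiag n F (k.1 + 1) i * -1) =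
                (Finset.univ.filter fun i : Fin n => (i : ℕ) < k.1 + 1)ᶜ by
                ext i
                by_cases h : (i : ℕ) < k.1 + 1
                · have h' : (i : ℕ) ≤ (k : ℕ) := by omega
                  simp [signDiag, h', hne]
                · have h' : ¬ (i : ℕ) ≤ (k : ℕ) := by omega
                  simp [signDiag, h']
                  omega,
              Finset.card_compl, Fin.card_filter_val_lt, Fintype.card_fin, min_eq_right (by omega)]
          rw [e] at hm
          exact congrArg Sum.inl (Fin.ext (by omega))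
      · exfalso
        have hca1 : ca = 1 := hscinj (hca.symm.trans (hDsq _))
        rw [hrepE v, hca1, one_mul] at hb2
        exact hμ ⟨(s : F), by rw [← sq]; exact congrArg Units.val (hscinj hb2)⟩
      · exfalso
        have hca1 : ca = Units.mk0 μ hμ0 := hscinj (hca.symm.trans (hrepE u))
        rw [show rep (.inl l) = D (l.1 + 1) from rfl, hDsq, hca1] at hb2
        have h3 : μ * (s : F) ^ 2 = 1 := (congrArg Units.val (hscinj hb2)).symm
        exact hμ ⟨((s : F))⁻¹, by rw [← sq, inv_pow]; exact eq_inv_of_mul_eq_one_left h3⟩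
      · refine congrArg Sum.inr (Fin.ext ?_)
        have h1 := u.2
        have h2' := v.2
        have e : (if Even n then 1 else 0) = 1 := if_pos (hev u)
        omega
    · rintro ⟨C, g', rfl, hg'⟩
      obtain ⟨g, rfl⟩ := QuotientGroup.mk'_surjective _ g'
      have hgc : g ∉ Subgroup.center (GL (Fin n) F) := fun h => by
        rw [show π g = 1 from (QuotientGroup.eq_one_iff g).2 h, orderOf_one] at hg'
        omega
      obtain ⟨c, hc⟩ := hcent (g ^ 2) ((QuotientGroup.eq_one_iff _).1 (by
        have := pow_orderOf_eq_one (π g)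
        rwa [hg', ← map_pow] at this))
      have hmk : ∀ (o : ι) (s : Fˣ), IsConj (rep o) (g * sc s) → ∃ a, Φ a = ⟨ConjClasses.mk (π g),
          π g, rfl, hg'⟩ := fun o s h => by
        refine ⟨o, Subtype.ext (ConjClasses.mk_eq_mk_iff_isConj.2 ?_)⟩
        have := π.map_isConj h
        rwa [map_mul π g, hπsc, mul_one] at this
      by_cases hsq : IsSquare (c : F)
      · obtain ⟨d, hd⟩ := hsq
        have hd0 : d ≠ 0 := fun h => c.ne_zero (by rw [hd, h, mul_zero])
        set g₁ := g * sc (Units.mk0 d hd0)⁻¹ with hg₁
        have hg₁2 : g₁ ^ 2 = sc 1 := by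
          rw [hg₁, (show Commute g (sc (Units.mk0 d hd0)⁻¹) from (hscc _ g).symm).mul_pow, ← hc,
            ← map_pow, ← map_mul]
          congr 1
          ext
          simp [hd, sq]
          field_simp
        have hg₁n : ∀ s, g₁ ≠ sc s := fun s h => hgc (by
          rw [show g = sc (s * Units.mk0 d hd0) by rw [map_mul, ← h, hg₁, mul_assoc, ← map_mul,
            inv_mul_cancel, map_one, mul_one], Matrix.GeneralLinearGroup.center_eq_range_scalar]
          exact ⟨_, rfl⟩)
        set f := (g₁ : Matrix (Fin n) (Fin n) F).charpoly with hf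
        set M := UniqueFactorizationMonoid.normalizedFactors f with hM
        have hfm : f.Monic := Matrix.charpoly_monic _
        have hmem : ∀ P ∈ M, P = X - C (1 : F) ∨ P = X - C (-1 : F) := by
          intro P hP
          have hPi := UniqueFactorizationMonoid.irreducible_of_normalized_factor _ hP
          have hPm : P.Monic := by
            rw [← UniqueFactorizationMonoid.normalize_normalized_factor _ hP]
            exact Polynomial.monic_normalize hPi.ne_zero
          have hdv := factor_dvd_of_pow_eq_one (r := 2) (hg₁2.trans (map_one sc)) hPi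
            (UniqueFactorizationMonoid.dvd_of_mem_normalizedFactors hP)
          rw [show (X ^ 2 - 1 : F[X]) = (X - C (1 : F)) * (X - C (-1 : F)) by
            rw [C_neg, C_1]; ring] at hdv
          exact (hPi.prime.dvd_or_dvd hdv).imp
            (eq_of_irreducible_dvd_monic hPi hPm (irreducible_X_sub_C _) (monic_X_sub_C _))
            (eq_of_irreducible_dvd_monic hPi hPm (irreducible_X_sub_C _) (monic_X_sub_C _))
        set R := M.map fun P => -P.coeff 0 with hR
        have hMR : M = R.map fun a => X - C a := by
          rw [hR, Multiset.map_map]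
          conv_lhs => rw [← Multiset.map_id M]
          refine Multiset.map_congr rfl fun P hP => ?_
          rcases hmem P hP with rfl | rfl <;> simp
        have hfR : f = (R.map fun a => X - C a).prod := by
          rw [← hMR]
          refine (eq_of_monic_of_associated ?_ hfm
            (UniqueFactorizationMonoid.prod_normalizedFactors hfm.ne_zero)).symm
          have := monic_multiset_prod_of_monic M id fun P hP => by
            rcases hmem P hP with rfl | rfl <;> exact monic_X_sub_C _
          rwa [Multiset.map_id] at this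
        have hRcard : R.card = n := by
          have := congrArg natDegree hfR
          rw [hf, Matrix.charpoly_natDegree_eq_dim, Fintype.card_fin,
            natDegree_multiset_prod_X_sub_C_eq_card] at this
          exact this.symm
        have hR1 : ∀ a ∈ R, a = 1 ∨ a = -1 := fun a ha => by
          obtain ⟨P, hP, rfl⟩ := Multiset.mem_map.1 ha
          rcases hmem P hP with rfl | rfl <;> simp
        set k := R.count (-1) with hk
        have hkn : k ≤ n := hRcard ▸ Multiset.count_le_card _ _
        have hdiag : ∀ (e : Fin n → F), (∀ i, e i = 1 ∨ e i = -1) →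
            (Finset.univ.val.map e).count (-1) = k → f = (Matrix.diagonal e).charpoly := by
          intro e he hek
          rw [charpoly_diag_signs, hfR, show (Finset.univ.val.map fun i => X - C (e i)) =
            (Finset.univ.val.map e).map fun a => X - C a by rw [Multiset.map_map]; rfl]
          congr 2
          refine Multiset.ext.2 fun a => ?_
          have split : ∀ T : Multiset F, (∀ b ∈ T, b = 1 ∨ b = -1) → T.count 1 + T.count (-1) = T.card := by
            intro T
            induction T using Multiset.induction_on with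
            | empty => simp
            | cons b T ih =>
              intro hT
              have := ih fun c hc => hT c (Multiset.mem_cons_of_mem hc)
              rcases hT b (Multiset.mem_cons_self b T) with rfl | rfl <;>
                simp [Multiset.count_cons, hne, hne.symm] <;> omega
          have he' : ∀ b ∈ Finset.univ.val.map e, b = 1 ∨ b = -1 := fun b hb => by
            obtain ⟨i, -, rfl⟩ := Multiset.mem_map.1 hb; exact he i
          have h1 := split _ hR1
          have h2' := split _ he'
          rw [Multiset.card_map] at h2'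
          simp only [Finset.card_val, Finset.card_univ, Fintype.card_fin] at h2'
          by_cases ha1 : a = 1
          · subst ha1; omega
          by_cases ha2 : a = -1
          · subst ha2; omega
          rw [Multiset.count_eq_zero.2 fun h => (hR1 a h).elim ha1 ha2,
            Multiset.count_eq_zero.2 fun h => (he' a h).elim ha1 ha2]
        have hsd : ∀ j, ∀ i, signDiag n F j i = 1 ∨ signDiag n F j i = -1 := fun j i => by
          simp only [signDiag]; split_ifs <;> simp
        have hbound0 : k ≠ 0 := fun hkj => by
          refine hg₁n 1 ?_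
          obtain ⟨x, hx⟩ := isConj_iff.1 (isConj_of_charpoly_of_sq h2 1 (hDsq 0) hg₁2 (by
            rw [hDv, ← hf, hdiag _ (hsd 0) (by rw [card_roots_neg_signDiag h2 (Nat.zero_le _), hkj])]))
          have hD0 : D 0 = sc 1 := Units.ext (by
            rw [hDv, hscv]; congr 1)
          rw [← hx, hD0, map_one, mul_one, mul_inv_cancel]
        have hboundn : k ≠ n := fun hkj => by
          refine hg₁n (-1) ?_
          obtain ⟨x, hx⟩ := isConj_iff.1 (isConj_of_charpoly_of_sq h2 1 (hDsq n) hg₁2 (by
            rw [hDv, ← hf, hdiag _ (hsd n) (by rw [card_roots_neg_signDiag h2 le_rfl, hkj])]))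
          have hD0 : D n = sc (-1) := Units.ext (by
            rw [hDv, hscv]; congr 1; funext i; simp [signDiag])
          rw [← hx, hD0, ← hscc, mul_inv_cancel_right]
        by_cases hk2 : k ≤ n / 2
        · have hk0 : k ≠ 0 := hbound0
          refine hmk (.inl ⟨k - 1, by omega⟩) (Units.mk0 d hd0)⁻¹ (isConj_of_charpoly_of_sq h2 1 ?_ hg₁2 ?_)
          · exact hDsq _
          · rw [show ((rep (.inl ⟨k - 1, _⟩) : GL (Fin n) F) : Matrix (Fin n) (Fin n) F) = _ from hDv _]
            refine (hdiag _ (hsd _) ?_).symm
            rw [card_roots_neg_signDiag h2 (by omega), Nat.sub_add_cancel (Nat.pos_of_ne_zero hk0)]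
        · have hkn' : k ≠ n := hboundn
          refine hmk (.inl ⟨n - k - 1, by omega⟩) ((Units.mk0 d hd0)⁻¹ * (-1))
            (isConj_of_charpoly_of_sq h2 1 ?_ ?_ ?_)
          · exact hDsq _
          · rw [map_mul, ← mul_assoc, ← hg₁,
              (show Commute g₁ (sc (-1)) from (hscc _ g₁).symm).mul_pow, hg₁2, ← map_pow, ← map_mul]
            congr 1; ext; simp
          · rw [show ((rep (.inl ⟨n - k - 1, _⟩) : GL (Fin n) F) : Matrix (Fin n) (Fin n) F) = _ from hDv _,
              map_mul, ← mul_assoc, ← hg₁, hsmul]
            -- negate the diagonal model of `g₁`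
            obtain ⟨x, hx⟩ := isConj_iff.1 (isConj_of_charpoly_of_sq h2 1 (hDsq k) hg₁2 (by
              rw [hDv, ← hf, hdiag _ (hsd k) (card_roots_neg_signDiag h2 hkn)]))
            have e1 : IsConj (D k * sc (-1)) (g₁ * sc (-1)) := isConj_iff.2 ⟨x, by
              rw [← hx, ← mul_assoc x, mul_assoc (x * D k), hscc, ← mul_assoc]⟩
            rw [← hsmul, ← SSClass.charpoly_isConj e1, hsmul, hDv, Matrix.diagonal_mul_diagonal]
            have e2 : (fun i => signDiag n F k i * ((-1 : Fˣ) : F)) = fun i => -signDiag n F k i := by
              funext i; simp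
            rw [e2, charpoly_diag_signs, charpoly_diag_signs]
            have hms : Finset.univ.val.map (signDiag n F (n - k - 1 + 1)) =
                Finset.univ.val.map fun i => -signDiag n F k i := by
              refine Eq.trans ?_ (congrArg (Multiset.map _) (Multiset.map_univ_val_equiv Fin.revPerm))
              rw [Multiset.map_map]
              refine Multiset.map_congr rfl fun i _ => ?_
              simp only [Function.comp_apply, signDiag, Fin.revPerm_apply, Fin.val_rev]
              have := i.2
              split_ifs with a b b <;> first | rfl | (exfalso; omega) | simp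
            have := congrArg (fun S : Multiset F => (S.map fun a => X - C a).prod) hms
            simpa [Multiset.map_map, Function.comp_def] using this
      · obtain ⟨d, hd⟩ : IsSquare ((c : F) * μ⁻¹) :=
          CfsgLib.Geom.isSquare_mul_of_not _ _ hsq fun h => hμ (isSquare_inv.1 h)
        have hd0 : d ≠ 0 := fun h => mul_ne_zero c.ne_zero (inv_ne_zero hμ0) (by rw [hd, h, mul_zero])
        set g₁ := g * sc (Units.mk0 d hd0)⁻¹ with hg₁
        have hg₁2 : g₁ ^ 2 = sc (Units.mk0 μ hμ0) := by
          rw [hg₁, (show Commute g (sc (Units.mk0 d hd0)⁻¹) from (hscc _ g).symm).mul_pow, ← hc,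
            ← map_pow, ← map_mul]
          congr 1
          ext
          simp only [Units.val_mul, Units.val_pow_eq_pow_val, Units.val_inv_eq_inv_val, Units.val_mk0]
          field_simp
          field_simp at hd
          linear_combination hd
        set f := (g₁ : Matrix (Fin n) (Fin n) F).charpoly with hf
        have hfm : f.Monic := Matrix.charpoly_monic _
        have hfQ : f = Q ^ (UniqueFactorizationMonoid.normalizedFactors f).card := by
          have hall : ∀ P ∈ UniqueFactorizationMonoid.normalizedFactors f, P = Q := by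
            intro P hP
            have hPi := UniqueFactorizationMonoid.irreducible_of_normalized_factor _ hP
            have hPm : P.Monic := by
              rw [← UniqueFactorizationMonoid.normalize_normalized_factor _ hP]
              exact Polynomial.monic_normalize hPi.ne_zero
            refine eq_of_irreducible_dvd_monic hPi hPm hQi hQm
              ((irreducible_dvd_minpoly_of_dvd_charpoly _ hPi
                (UniqueFactorizationMonoid.dvd_of_mem_normalizedFactors hP)).trans (minpoly.dvd F _ ?_))
            rw [hQdef, map_sub, map_pow, aeval_X, aeval_C, ← Units.val_pow_eq_pow_val, hg₁2, hscv,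
              Matrix.algebraMap_eq_diagonal]
            exact sub_self _
          conv_rhs => rw [← Multiset.prod_replicate, ← Multiset.eq_replicate_card.2 hall]
          refine (eq_of_monic_of_associated ?_ hfm
            (UniqueFactorizationMonoid.prod_normalizedFactors hfm.ne_zero)).symm
          have := monic_multiset_prod_of_monic (UniqueFactorizationMonoid.normalizedFactors f) id
            fun P hP => hall P hP ▸ hQm
          rwa [Multiset.map_id] at this
        have hdeg := congrArg natDegree hfQ
        rw [hf, Matrix.charpoly_natDegree_eq_dim, Fintype.card_fin, natDegree_pow, hQd] at hdeg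
        have he : Even n := ⟨(UniqueFactorizationMonoid.normalizedFactors f).card, by
          rw [← mul_two]; exact hdeg⟩
        refine hmk (.inr ⟨0, by rw [if_pos he]; exact one_pos⟩) (Units.mk0 d hd0)⁻¹
          (isConj_of_charpoly_of_sq h2 _ (hrepE _) hg₁2 ?_)
        rw [← hf, hfQ]
        refine Eq.trans (hE (hev ⟨0, by rw [if_pos he]; exact one_pos⟩)).choose_spec.2 ?_
        congr 1
        rw [← hf] at hdeg
        omega
  rw [← Nat.card_eq_of_bijective Φ hΦ, Nat.card_sum, Nat.card_fin, Nat.card_fin]

end CfsgLib.KnownC
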