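import Mathlib
import Cfsg.Agent.Lib.Chev.CoxeterExchange

/-!
The symmetric group as the Coxeter group of type `A_n`.
-/

set_option autoImplicit false

namespace CfsgLib.KnownC

open CfsgLib.Chev Equiv

variable {n : ℕ}

/-- The adjacent transposition `(i, i+1)`. -/
def adjSwap (i : Fin n) : Perm (Fin (n + 1)) := Equiv.swap i.castSucc i.succ

/-- The inversions of a permutation. -/
def invSet (π : Perm (Fin (n + 1))) : Finset (Fin (n + 1) × Fin (n + 1)) :=
  Finset.univ.filter fun p => p.1 < p.2 ∧ π p.2 < π p.1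

theorem adjSwap_mul_self (i : Fin n) : adjSwap i * adjSwap i = 1 := Equiv.swap_mul_self _ _

theorem adjSwap_lt_iff {i : Fin n} {x y : Fin (n + 1)}
    (h : ¬ (x = i.castSucc ∧ y = i.succ)) (h' : ¬ (x = i.succ ∧ y = i.castSucc)) :
    adjSwap i x < adjSwap i y ↔ x < y := by
  rcases x with ⟨x, hx⟩
  rcases y with ⟨y, hy⟩
  simp only [adjSwap, Equiv.swap_apply_def, Fin.ext_iff, Fin.val_castSucc, Fin.val_succ] at *
  split_ifs <;> simp only [Fin.lt_def, Fin.val_castSucc, Fin.val_succ] <;> omega

theorem invSet_adjSwap_mul {i : Fin n} {π : Perm (Fin (n + 1))}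
    (h : π.symm i.castSucc < π.symm i.succ) :
    (invSet (adjSwap i * π)).card = (invSet π).card + 1 := by
  classical
  have hnot : (π.symm i.castSucc, π.symm i.succ) ∉ invSet π := by
    simp [invSet, (Fin.castSucc_lt_succ (i := i)).le]
  rw [← Finset.card_insert_of_notMem hnot]
  congr 1
  ext ⟨a, b⟩
  have hm : ∀ (σ : Perm (Fin (n + 1))), (a, b) ∈ invSet σ ↔ a < b ∧ σ b < σ a := fun σ => by
    simp [invSet]
  rw [Finset.mem_insert, hm, hm, Equiv.Perm.mul_apply, Equiv.Perm.mul_apply, Prod.mk.injEq]
  by_cases hab : a = π.symm i.castSucc ∧ b = π.symm i.succ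
  · obtain ⟨rfl, rfl⟩ := hab
    simp [adjSwap, h]
  · simp only [hab, false_or]
    refine and_congr_right fun hlt => adjSwap_lt_iff ?_ ?_
    · rintro ⟨hb, ha⟩
      rw [← Equiv.eq_symm_apply] at ha hb
      rw [ha, hb] at hlt
      exact lt_asymm hlt h
    · rintro ⟨hb, ha⟩
      exact hab ⟨(Equiv.eq_symm_apply π).2 ha, (Equiv.eq_symm_apply π).2 hb⟩

theorem invSet_descent {i : Fin n} {π : Perm (Fin (n + 1))}
    (h : π.symm i.succ < π.symm i.castSucc) :
    (invSet (adjSwap i * π)).card + 1 = (invSet π).card := by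
  have h' : (adjSwap i * π).symm i.castSucc < (adjSwap i * π).symm i.succ := by
    show π.symm ((adjSwap i).symm i.castSucc) < π.symm ((adjSwap i).symm i.succ)
    simp [adjSwap, h]
  rw [← invSet_adjSwap_mul h', ← mul_assoc, adjSwap_mul_self, one_mul]

theorem card_invSet_le (l : List (Fin n)) : (invSet (wordVal adjSwap l)).card ≤ l.length := by
  induction l with
  | nil =>
    simp only [wordVal_nil, List.length_nil, Nat.le_zero, Finset.card_eq_zero, invSet,
      Equiv.Perm.one_apply, Finset.filter_eq_empty_iff]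
    intro p _ hp
    exact lt_asymm hp.1 hp.2
  | cons i l ih =>
    rw [wordVal_cons, List.length_cons]
    rcases lt_trichotomy ((wordVal adjSwap l).symm i.castSucc) ((wordVal adjSwap l).symm i.succ)
      with h | h | h
    · rw [invSet_adjSwap_mul h]; omega
    · exact absurd ((wordVal adjSwap l).symm.injective h) (Fin.castSucc_lt_succ).ne
    · have := invSet_descent h; omega

theorem exists_descent_of_ne_one {π : Perm (Fin (n + 1))} (h : π ≠ 1) :
    ∃ i : Fin n, π.symm i.succ < π.symm i.castSucc := by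
  by_contra hc
  push Not at hc
  refine h ?_
  have hmono : StrictMono π.symm := Fin.strictMono_iff_lt_succ.2 fun i =>
    lt_of_le_of_ne (hc i) fun e => (Fin.castSucc_lt_succ).ne (π.symm.injective e)
  have hid : ∀ x, π.symm x = x := fun x => by
    have := StrictMono.range_inj hmono strictMono_id
    rw [Set.range_id, π.symm.surjective.range_eq] at this
    exact congrFun (this.1 rfl) x
  refine Equiv.ext fun x => ?_
  have := hid (π x)
  rw [Equiv.symm_apply_apply] at this
  exact this.symm

theorem exists_word_card (k : ℕ) : ∀ π : Perm (Fin (n + 1)), (invSet π).card = k →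
    ∃ l : List (Fin n), wordVal adjSwap l = π ∧ l.length = k := by
  induction k with
  | zero =>
    intro π hπ
    refine ⟨[], ?_, rfl⟩
    rw [wordVal_nil]
    by_contra h
    obtain ⟨i, hi⟩ := exists_descent_of_ne_one (Ne.symm h)
    have := invSet_descent hi
    omega
  | succ k ih =>
    intro π hπ
    have h : π ≠ 1 := by
      rintro rfl
      have h0 := card_invSet_le ([] : List (Fin n))
      rw [wordVal_nil, List.length_nil] at h0
      omega
    obtain ⟨i, hi⟩ := exists_descent_of_ne_one h
    obtain ⟨l, hl, hlen⟩ := ih (adjSwap i * π) (by have := invSet_descent hi; omega)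
    exact ⟨i :: l, by rw [wordVal_cons, hl, ← mul_assoc, adjSwap_mul_self, one_mul], by simp [hlen]⟩

theorem isRed_iff (l : List (Fin n)) :
    IsRed adjSwap l ↔ (invSet (wordVal adjSwap l)).card = l.length := by
  constructor
  · intro h
    obtain ⟨m, hm, hlen⟩ := exists_word_card _ (wordVal adjSwap l) rfl
    have h1 := h m hm
    have h2 := card_invSet_le l
    omega
  · intro h m hm
    rw [← h, ← hm]
    exact card_invSet_le m

theorem exchange_adjSwap (i : Fin n) (l : List (Fin n)) (hl : IsRed adjSwap l)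
    (hil : ¬ IsRed adjSwap (i :: l)) :
    ∃ j < l.length, adjSwap i * wordVal adjSwap (l.take j) = wordVal adjSwap (l.take (j + 1)) := by
  set P : ℕ → Prop := fun j =>
    (wordVal adjSwap (l.take j)).symm i.succ < (wordVal adjSwap (l.take j)).symm i.castSucc with hP
  have hend : P l.length := by
    rw [hP]
    simp only [List.take_length]
    rcases lt_trichotomy ((wordVal adjSwap l).symm i.castSucc) ((wordVal adjSwap l).symm i.succ)
      with h | h | h
    · refine absurd ?_ hil
      rw [isRed_iff, wordVal_cons, invSet_adjSwap_mul h, (isRed_iff l).1 hl, List.length_cons]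
    · exact absurd ((wordVal adjSwap l).symm.injective h) (Fin.castSucc_lt_succ).ne
    · exact h
  have h0 : ¬ P 0 := by
    rw [hP]
    simp only [List.take_zero, wordVal_nil]
    exact fun h => lt_asymm h (show i.castSucc < i.succ from Fin.castSucc_lt_succ)
  classical
  obtain ⟨k, hk, hmin⟩ : ∃ k, P k ∧ ∀ j < k, ¬ P j :=
    ⟨Nat.find ⟨_, hend⟩, Nat.find_spec _, fun j hj => Nat.find_min _ hj⟩
  obtain ⟨j, rfl⟩ : ∃ j, k = j + 1 := ⟨k - 1, by
    rcases Nat.eq_zero_or_pos k with rfl | h
    · exact absurd hk h0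
    · omega⟩
  have hj : j < l.length := by
    by_contra hc
    rcases Nat.eq_zero_or_pos l.length with h | h
    · exact h0 (by rw [← h]; exact hend)
    · exact hmin l.length (by omega) hend
  refine ⟨j, hj, ?_⟩
  obtain ⟨π, hπ⟩ : ∃ π, π = wordVal adjSwap (l.take j) := ⟨_, rfl⟩
  have hsucc : wordVal adjSwap (l.take (j + 1)) = π * adjSwap (l[j]) := by
    rw [List.take_succ_eq_append_getElem hj, wordVal_append, ← hπ]
    simp [wordVal_cons, wordVal_nil]
  have hlo : ¬ π.symm i.succ < π.symm i.castSucc := hπ ▸ hmin j (by omega)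
  simp only [hP] at hk
  rw [hsucc] at hk
  replace hk : (adjSwap l[j]).symm (π.symm i.succ) < (adjSwap l[j]).symm (π.symm i.castSucc) := hk
  rw [adjSwap, Equiv.symm_swap, ← adjSwap] at hk
  have hflip : π.symm i.castSucc = (l[j]).castSucc ∧ π.symm i.succ = (l[j]).succ := by
    have hne : π.symm i.castSucc ≠ π.symm i.succ := fun e =>
      (Fin.castSucc_lt_succ).ne (π.symm.injective e)
    by_contra hc
    by_cases h2 : π.symm i.succ = (l[j]).castSucc ∧ π.symm i.castSucc = (l[j]).succ
    · exact hlo (by rw [h2.1, h2.2]; exact Fin.castSucc_lt_succ)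
    · rw [adjSwap_lt_iff h2 (fun e => hc ⟨e.2, e.1⟩)] at hk
      exact hlo hk
  rw [← hπ, hsucc]
  have hconj : adjSwap i = π * adjSwap (l[j]) * π⁻¹ := by
    rw [adjSwap, adjSwap, ← hflip.1, ← hflip.2, ← Equiv.swap_apply_apply]
    simp
  rw [hconj, inv_mul_cancel_right]

theorem exchangeData_adjSwap : ExchangeData (adjSwap (n := n)) where
  sq := adjSwap_mul_self
  ne_one i := fun h => (Fin.castSucc_lt_succ (i := i)).ne (by
    have := congrArg (fun π : Perm (Fin (n + 1)) => π i.castSucc) h
    simpa [adjSwap, eq_comm] using this)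
  inj i j h := by
    have h' := congrArg (fun π : Perm (Fin (n + 1)) => π i.castSucc) h
    simp only [adjSwap, Equiv.swap_apply_left] at h'
    rw [Equiv.swap_apply_def] at h'
    split_ifs at h' with h1 h2
    · exact Fin.castSucc_injective _ h1
    · simp only [Fin.ext_iff, Fin.val_castSucc, Fin.val_succ] at h' h2
      omega
    · simp only [Fin.ext_iff, Fin.val_castSucc, Fin.val_succ] at h'
      omega
  gen := by
    have h := Equiv.Perm.mclosure_swap_castSucc_succ n
    refine eq_top_iff.2 fun π _ => ?_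
    have hπ : π ∈ Submonoid.closure (Set.range fun i : Fin n => Equiv.swap i.castSucc i.succ) := by
      rw [h]; exact Submonoid.mem_top π
    exact Submonoid.closure_le.2 (Subgroup.subset_closure) hπ
  exchange := exchange_adjSwap

theorem orderOf_adjSwap_mul (i j : Fin n) :
    CoxeterMatrix.A n i j = orderOf (adjSwap i * adjSwap j) := by
  show (if i = j then 1 else if (j : ℕ) + 1 = i ∨ (i : ℕ) + 1 = j then 3 else 2) = _
  by_cases hij : i = j
  · rw [if_pos hij, hij, adjSwap_mul_self, orderOf_one]
  rw [if_neg hij]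
  have hd : ∀ {a b c d : Fin (n + 1)}, a ≠ c → a ≠ d → b ≠ c → b ≠ d → a ≠ b →
      orderOf (Equiv.swap a b * Equiv.swap c d) = 2 := by
    intro a b c d h1 h2 h3 h4 h5
    refine orderOf_eq_prime ?_ fun h => h5 ?_
    · have hc : Commute (Equiv.swap a b) (Equiv.swap c d) :=
        (Equiv.Perm.Disjoint.commute (fun x => by
          by_cases hx : x = a ∨ x = b
          · rcases hx with rfl | rfl
            · exact Or.inr (Equiv.swap_apply_of_ne_of_ne h1 h2)
            · exact Or.inr (Equiv.swap_apply_of_ne_of_ne h3 h4)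
          · push Not at hx
            exact Or.inl (Equiv.swap_apply_of_ne_of_ne hx.1 hx.2)))
      rw [hc.mul_pow, sq, sq, Equiv.swap_mul_self, Equiv.swap_mul_self, one_mul]
    · have := congrArg (fun π : Perm (Fin (n + 1)) => π a) h
      simpa [Equiv.swap_apply_of_ne_of_ne h1 h2, eq_comm] using this
  have h3 : ∀ {a b c : Fin (n + 1)}, a ≠ b → b ≠ c → a ≠ c →
      orderOf (Equiv.swap a b * Equiv.swap b c) = 3 := by
    intro a b c h1 h2 h3
    rw [Equiv.swap_comm a b]
    exact (Equiv.Perm.isThreeCycle_swap_mul_swap_same h1.symm h2 h3).orderOf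
  have hv : (i : ℕ) ≠ j := fun h => hij (Fin.ext h)
  split_ifs with h
  · rcases h with h | h
    · have e : j.succ = i.castSucc := Fin.ext (by simp; omega)
      rw [adjSwap, adjSwap, Equiv.swap_comm i.castSucc, Equiv.swap_comm j.castSucc, e]
      symm
      exact h3 (by simp [Fin.ext_iff]) (by simp [Fin.ext_iff]; omega) (by simp [Fin.ext_iff]; omega)
    · have e : i.succ = j.castSucc := Fin.ext (by simp; omega)
      rw [adjSwap, adjSwap, e]
      symm
      exact h3 (by simp [Fin.ext_iff]; omega) (by simp [Fin.ext_iff]) (by simp [Fin.ext_iff]; omega)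
  · symm
    apply hd <;> simp [Fin.ext_iff] <;> omega

theorem exists_coxeterSystem_perm (n : ℕ) :
    ∃ cs : CoxeterSystem (CoxeterMatrix.A n) (Perm (Fin (n + 1))),
      ∀ i : Fin n, cs.simple i = Equiv.swap i.castSucc i.succ := by
  obtain ⟨M, cs, hM, hs⟩ := (exchangeData_adjSwap (n := n)).exists_coxeterSystem
  obtain rfl : M = CoxeterMatrix.A n := CoxeterMatrix.ext (Matrix.ext fun i j => by
    rw [hM]; exact (orderOf_adjSwap_mul i j).symm)
  exact ⟨cs, hs⟩

end CfsgLib.KnownC
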