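import Cfsg.Agent.Lib.KnownC.GLPrimeOrderClasses
import Cfsg.Agent.Lib.Classical.SemiUnitary
import Cfsg.Prelude

set_option autoImplicit false

/-!
Classes of elements of prime order `r` in a projective group `H / Z(H)`, where `H ≤ GL_n(K)` contains
the monomial matrices with entries in a group `μ` of scalars of order divisible by `r`.
-/

namespace CfsgLib.KnownC.ProjPrime

open Polynomial Matrix
open scoped MatrixGroups

variable {K : Type*} [Field K] {n : ℕ}

/-- The monomial matrix sending `e_j` to `w j • e_(σ j)`. -/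
def mono (σ : Equiv.Perm (Fin n)) (w : Fin n → K) : Matrix (Fin n) (Fin n) K :=
  Matrix.of fun i j => if i = σ j then w j else 0

theorem mono_mul (σ τ : Equiv.Perm (Fin n)) (w v : Fin n → K) :
    mono σ w * mono τ v = mono (σ * τ) (fun j => w (τ j) * v j) := by
  ext i j
  simp only [mono, Matrix.mul_apply, Matrix.of_apply, Equiv.Perm.coe_mul, Function.comp_apply]
  rw [Finset.sum_eq_single (τ j) (fun b _ hb => by simp [hb]) (by simp), if_pos rfl]
  show (if i = σ (τ j) then w (τ j) else 0) * v j = if i = σ (τ j) then w (τ j) * v j else 0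
  rw [ite_mul, zero_mul]

theorem mono_one_diag (w : Fin n → K) : mono 1 w = Matrix.diagonal w := by
  ext i j
  rcases eq_or_ne i j with h | h
  · subst h; simp [mono]
  · simp [mono, h]

/-- Monomial matrices with unit entries in `GL_n`. -/
def monoGL (σ : Equiv.Perm (Fin n)) (w : Fin n → Kˣ) : GL (Fin n) K where
  val := mono σ fun j => (w j : K)
  inv := mono σ⁻¹ fun j => (((w (σ⁻¹ j))⁻¹ : Kˣ) : K)
  val_inv := by
    rw [mono_mul, mul_inv_cancel]
    simp only [Units.mul_inv]
    rw [mono_one_diag, Matrix.diagonal_one]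
  inv_val := by
    rw [mono_mul, inv_mul_cancel]
    simp only [Equiv.Perm.inv_def, Equiv.symm_apply_apply, Units.inv_mul]
    rw [mono_one_diag, Matrix.diagonal_one]

@[simp] theorem monoGL_val (σ : Equiv.Perm (Fin n)) (w : Fin n → Kˣ) :
    ((monoGL σ w : GL (Fin n) K) : Matrix (Fin n) (Fin n) K) = mono σ fun j => (w j : K) := rfl

theorem monoGL_mul (σ τ : Equiv.Perm (Fin n)) (w v : Fin n → Kˣ) :
    monoGL σ w * monoGL τ v = monoGL (σ * τ) (fun j => w (τ j) * v j) :=
  Units.ext (by rw [Units.val_mul, monoGL_val, monoGL_val, monoGL_val, mono_mul]; simp)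

theorem monoGL_pow (σ : Equiv.Perm (Fin n)) (w : Fin n → Kˣ) : ∀ k : ℕ,
    monoGL σ w ^ k = monoGL (σ ^ k) (fun j => ∏ l ∈ Finset.range k, w ((σ ^ l) j))
  | 0 => Units.ext (by simp [mono_one_diag])
  | k + 1 => by
    rw [pow_succ', monoGL_pow σ w k, monoGL_mul, ← pow_succ']
    congr 1
    funext j
    rw [Finset.prod_range_succ, mul_comm]

local notation "sc" => Matrix.GeneralLinearGroup.scalar (Fin n)

theorem sc_val (s : Kˣ) : ((sc s : GL (Fin n) K) : Matrix (Fin n) (Fin n) K) =
    Matrix.diagonal fun _ => (s : K) := by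
  simp [Matrix.GeneralLinearGroup.scalar]

theorem monoGL_const (s : Kˣ) : monoGL (1 : Equiv.Perm (Fin n)) (fun _ => s) = sc s :=
  Units.ext (by rw [monoGL_val, mono_one_diag, sc_val])

theorem sc_comm (s : Kˣ) (x : GL (Fin n) K) : sc s * x = x * sc s := by
  have hmem : sc s ∈ Subgroup.center (GL (Fin n) K) := by
    rw [Matrix.GeneralLinearGroup.center_eq_range_scalar]; exact ⟨s, rfl⟩
  exact (Subgroup.mem_center_iff.1 hmem x).symm

theorem sc_inj (hn : 0 < n) {a b : Kˣ} (h : sc a = sc b) : a = b := by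
  have h1 := congrArg (fun x : GL (Fin n) K => (x : Matrix (Fin n) (Fin n) K) ⟨0, hn⟩ ⟨0, hn⟩) h
  simp only [sc_val, Matrix.diagonal_apply_eq] at h1
  exact Units.ext h1

/-- The hypotheses on the group `H` and its group `μ` of scalars. -/
structure Setup (r : ℕ) (H : Subgroup (GL (Fin n) K)) (μ : Subgroup Kˣ) : Prop where
  prime : r.Prime
  two_le : 2 ≤ n
  dvd : r ∣ Nat.card μ
  mono_mem : ∀ (σ : Equiv.Perm (Fin n)) (w : Fin n → Kˣ), (∀ j, w j ∈ μ) → monoGL σ w ∈ H
  scal_mem : ∀ s : Kˣ, sc s ∈ H → s ∈ μ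
  root : ∀ x : Kˣ, x ^ r ∈ μ → ∃ y ∈ μ, y ^ r = x ^ r
  conj : ∀ c ∈ μ, ∀ g h : H, (g : GL (Fin n) K) ^ r = sc c → (h : GL (Fin n) K) ^ r = sc c →
    ((g : GL (Fin n) K) : Matrix (Fin n) (Fin n) K).charpoly =
      ((h : GL (Fin n) K) : Matrix (Fin n) (Fin n) K).charpoly → IsConj g h

variable {r : ℕ} {H : Subgroup (GL (Fin n) K)} {μ : Subgroup Kˣ}

theorem Setup.center_scalar (S : Setup r H μ) [Finite K] {x : H} (hx : x ∈ Subgroup.center H) :
    ∃ s ∈ μ, (x : GL (Fin n) K) = sc s := by
  haveI : Fact r.Prime := ⟨S.prime⟩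
  have hn := S.two_le
  obtain ⟨z, hz⟩ := exists_prime_orderOf_dvd_card' (G := μ) r S.dvd
  have hz1 : ((z : Kˣ) : K) ≠ 1 := fun h => by
    rw [show z = 1 from Subtype.ext (Units.ext h), orderOf_one] at hz
    exact S.prime.ne_one hz.symm
  have hc : ∀ (σ : Equiv.Perm (Fin n)) (w : Fin n → Kˣ), (∀ j, w j ∈ μ) →
      mono σ (fun j => (w j : K)) * ((x : GL (Fin n) K) : Matrix (Fin n) (Fin n) K) =
        ((x : GL (Fin n) K) : Matrix (Fin n) (Fin n) K) * mono σ (fun j => (w j : K)) := fun σ w hw =>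
    congrArg (fun y : H => ((y : GL (Fin n) K) : Matrix (Fin n) (Fin n) K))
      (Subgroup.mem_center_iff.1 hx ⟨monoGL σ w, S.mono_mem σ w hw⟩)
  set X := ((x : GL (Fin n) K) : Matrix (Fin n) (Fin n) K) with hX
  have hoff : ∀ i j, i ≠ j → X i j = 0 := by
    intro i j hij
    have h1 := congrFun (congrFun (hc 1 (fun k => if k = i then (z : Kˣ) else 1)
      (fun k => by split_ifs; exacts [z.2, μ.one_mem])) i) j
    rw [mono_one_diag, Matrix.diagonal_mul, Matrix.mul_diagonal, if_pos rfl, if_neg hij.symm,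
      Units.val_one, mul_one] at h1
    have h2 : (((z : Kˣ) : K) - 1) * X i j = 0 := by rw [sub_mul, one_mul, h1, sub_self]
    exact (mul_eq_zero.1 h2).resolve_left (sub_ne_zero.2 hz1)
  have hdiag : ∀ i j, X i i = X j j := by
    intro i j
    rcases eq_or_ne i j with h | h
    · rw [h]
    have h1 := congrFun (congrFun (hc (Equiv.swap i j) (fun _ => 1) (fun _ => μ.one_mem)) i) j
    simp only [Units.val_one, mono, Matrix.mul_apply, Matrix.of_apply, mul_ite, ite_mul, one_mul,
      zero_mul, mul_one, mul_zero] at h1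
    rw [Finset.sum_eq_single j (fun b _ hb => if_neg fun hib => hb
        ((Equiv.swap i j).injective (hib.symm.trans (Equiv.swap_apply_right i j).symm))) (by simp),
      if_pos (by rw [Equiv.swap_apply_right]),
      Finset.sum_eq_single i (fun b _ hb => if_neg fun hbi => hb (by
        rw [hbi, Equiv.swap_apply_right])) (by simp),
      if_pos (by rw [Equiv.swap_apply_right])] at h1
    exact h1.symm
  have hne : X ⟨0, by omega⟩ ⟨0, by omega⟩ ≠ 0 := by
    intro h0
    have : X = 0 := by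
      ext i j
      rcases eq_or_ne i j with h | h
      · rw [h, hdiag j ⟨0, by omega⟩, h0]; rfl
      · exact hoff i j h
    exact Matrix.GeneralLinearGroup.det_ne_zero (x : GL (Fin n) K) (by
      haveI hne' : Nonempty (Fin n) := ⟨⟨0, by omega⟩⟩
      rw [← hX, this, Matrix.det_zero])
  have hxs : (x : GL (Fin n) K) = sc (Units.mk0 _ hne) := by
    refine Units.ext ?_
    rw [← hX, sc_val]
    ext i j
    rcases eq_or_ne i j with h | h
    · subst h; rw [Matrix.diagonal_apply_eq, Units.val_mk0, hdiag i ⟨0, by omega⟩]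
    · rw [Matrix.diagonal_apply_ne _ h, hoff i j h]
  exact ⟨_, S.scal_mem _ (hxs ▸ x.2), hxs⟩

theorem Setup.sc_mem_H (S : Setup r H μ) {s : Kˣ} (hs : s ∈ μ) : sc s ∈ H := by
  rw [← monoGL_const]; exact S.mono_mem _ _ fun _ => hs

theorem Setup.sc_central (S : Setup r H μ) {s : Kˣ} (hs : s ∈ μ) :
    (⟨sc s, S.sc_mem_H hs⟩ : H) ∈ Subgroup.center H :=
  Subgroup.mem_center_iff.2 fun g => Subtype.ext (sc_comm s (g : GL (Fin n) K)).symm

theorem finite_vectors (r n : ℕ) [NeZero r] :
    Finite {a : ZMod r → ℕ // ∑ j, a j = n ∧ ∀ j, a j ≠ n} :=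
    Finite.of_injective (fun a (j : ZMod r) => (⟨a.1 j, Nat.lt_succ_of_le ((Finset.single_le_sum (fun i _ => Nat.zero_le (a.1 i))
      (Finset.mem_univ j)).trans a.2.1.le)⟩ : Fin (n + 1)))
      fun a b h => Subtype.ext (funext fun j => congrArg Fin.val (congrFun h j))

/-- Orbits of the rotations on functions of given sum without a full entry. -/
theorem card_orbits (r n : ℕ) [Fact r.Prime] (hn : 2 ≤ n)
    [AddAction (ZMod r) {a : ZMod r → ℕ // ∑ j, a j = n ∧ ∀ j, a j ≠ n}]
    (hact : ∀ (k : ZMod r) (a : {a : ZMod r → ℕ // ∑ j, a j = n ∧ ∀ j, a j ≠ n}) (j : ZMod r),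
      (k +ᵥ a).1 j = a.1 (j - k)) :
    Nat.card (AddAction.orbitRel.Quotient (ZMod r) {a : ZMod r → ℕ // ∑ j, a j = n ∧ ∀ j, a j ≠ n}) =
      (Nat.choose (n + r - 1) (r - 1) - r - (if r ∣ n then 1 else 0)) / r + (if r ∣ n then 1 else 0) := by
  classical
  have hr := (Fact.out : r.Prime)
  set e := if r ∣ n then 1 else 0 with he
  haveI := finite_vectors r n
  haveI := Fintype.ofFinite {a : ZMod r → ℕ // ∑ j, a j = n ∧ ∀ j, a j ≠ n}
  have hB := AddAction.sum_card_fixedBy_eq_card_orbits_mul_card_addGroup (ZMod r)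
    {a : ZMod r → ℕ // ∑ j, a j = n ∧ ∀ j, a j ≠ n}
  have h0 : Fintype.card (AddAction.fixedBy {a : ZMod r → ℕ // ∑ j, a j = n ∧ ∀ j, a j ≠ n} (0 : ZMod r)) =
      Nat.card {a : ZMod r → ℕ // ∑ j, a j = n ∧ ∀ j, a j ≠ n} := by
    rw [← Nat.card_eq_fintype_card]
    exact Nat.card_congr (Equiv.subtypeUnivEquiv fun a => by simp [AddAction.mem_fixedBy])
  have hk : ∀ k : ZMod r, k ≠ 0 →
      Fintype.card (AddAction.fixedBy {a : ZMod r → ℕ // ∑ j, a j = n ∧ ∀ j, a j ≠ n} k) = e := by
    intro k hk0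
    have hconst : ∀ a ∈ AddAction.fixedBy {a : ZMod r → ℕ // ∑ j, a j = n ∧ ∀ j, a j ≠ n} k,
        (∀ j, a.1 j = a.1 0) ∧ r * a.1 0 = n := by
      intro a ha
      rw [AddAction.mem_fixedBy] at ha
      have h1 : ∀ j, a.1 (j - k) = a.1 j := fun j => by rw [← hact, ha]
      have h2 : ∀ (m : ℕ) j, a.1 (j - (m : ZMod r) * k) = a.1 j := by
        intro m
        induction m with
        | zero => simp
        | succ m ih =>
          intro j
          rw [Nat.cast_succ, add_mul, one_mul, ← sub_sub, h1, ih]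
      have h3 : ∀ j, a.1 j = a.1 0 := fun j => by
        have := h2 ((j * k⁻¹).val) j
        rw [ZMod.natCast_zmod_val, mul_assoc, inv_mul_cancel₀ hk0, mul_one, sub_self] at this
        exact this.symm
      refine ⟨h3, ?_⟩
      have := a.2.1
      rw [Finset.sum_congr rfl (fun j _ => h3 j), Finset.sum_const, Finset.card_univ, ZMod.card,
        smul_eq_mul] at this
      exact this
    rw [← Nat.card_eq_fintype_card, he]
    split_ifs with hd
    · obtain ⟨m, hm⟩ := hd
      have hmn : m ≠ n := fun h => by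
        rw [h] at hm
        nlinarith [hr.two_le]
      let a0 : {a : ZMod r → ℕ // ∑ j, a j = n ∧ ∀ j, a j ≠ n} :=
        ⟨fun _ => m, by simp [Finset.sum_const, ZMod.card, hm], fun _ => hmn⟩
      rw [Nat.card_eq_one_iff_unique]
      refine ⟨⟨fun a b => Subtype.ext (Subtype.ext (funext fun j => ?_))⟩, ⟨⟨a0, ?_⟩⟩⟩
      · obtain ⟨ha, ha'⟩ := hconst _ a.2
        obtain ⟨hb, hb'⟩ := hconst _ b.2
        rw [ha, hb]
        exact Nat.eq_of_mul_eq_mul_left hr.pos (ha'.trans hb'.symm)
      · rw [AddAction.mem_fixedBy]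
        exact Subtype.ext (funext fun j => hact k a0 j)
    · rw [Nat.card_eq_zero]
      left
      exact ⟨fun a => hd ⟨a.1.1 0, ((hconst _ a.2).2).symm⟩⟩
  rw [← Finset.sum_erase_add _ _ (Finset.mem_univ (0 : ZMod r)),
    Finset.sum_congr rfl (fun k hk' => hk k (Finset.ne_of_mem_erase hk')), Finset.sum_const,
    Finset.card_erase_of_mem (Finset.mem_univ _), Finset.card_univ, ZMod.card, h0, smul_eq_mul] at hB
  have hall : Nat.card {a : ZMod r → ℕ // ∑ j, a j = n} = Nat.choose (n + r - 1) (r - 1) := by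
    rw [Nat.card_congr (Sym.equivNatSumOfFintype (ZMod r) n).symm, Nat.card_eq_fintype_card,
      Sym.card_sym_eq_choose, ZMod.card, add_comm r n]
    exact (Nat.choose_symm_of_eq_add (by have := hr.pos; omega)).symm
  have hsplit : Nat.card {a : ZMod r → ℕ // ∑ j, a j = n} =
      Nat.card {a : ZMod r → ℕ // ∑ j, a j = n ∧ ∀ j, a j ≠ n} + r := by
    have hsum : ∀ i : ZMod r, ∑ j, (Pi.single i n : ZMod r → ℕ) j = n := fun i => by simp
    let g : {a : ZMod r → ℕ // ∑ j, a j = n ∧ ∀ j, a j ≠ n} ⊕ ZMod r →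
        {a : ZMod r → ℕ // ∑ j, a j = n} :=
      Sum.elim (fun a => ⟨a.1, a.2.1⟩) fun i => ⟨Pi.single i n, hsum i⟩
    have hg : Function.Bijective g := by
      constructor
      · rintro (a | i) (b | j) h <;> simp only [g, Sum.elim_inl, Sum.elim_inr, Subtype.mk.injEq] at h
        · exact congrArg Sum.inl (Subtype.ext h)
        · exact absurd (by rw [h, Pi.single_eq_same]) (a.2.2 j)
        · exact absurd (by rw [← h, Pi.single_eq_same]) (b.2.2 i)
        · have h1 := congrFun h i
          rw [Pi.single_eq_same] at h1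
          by_contra hne
          rw [Pi.single_eq_of_ne (fun h' => hne (by rw [h']))] at h1
          omega
      · rintro ⟨a, ha⟩
        by_cases h : ∀ j, a j ≠ n
        · exact ⟨.inl ⟨a, ha, h⟩, rfl⟩
        · push Not at h
          obtain ⟨i, hi⟩ := h
          refine ⟨.inr i, Subtype.ext (funext fun j => ?_)⟩
          show (Pi.single i n : ZMod r → ℕ) j = a j
          rcases eq_or_ne j i with hji | hji
          · rw [hji, Pi.single_eq_same, hi]
          · rw [Pi.single_eq_of_ne hji]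
            have := Finset.add_sum_erase Finset.univ a (Finset.mem_univ i)
            rw [ha, hi] at this
            have h2 : ∑ l ∈ Finset.univ.erase i, a l = 0 := by omega
            exact ((Finset.sum_eq_zero_iff.1 h2) j (Finset.mem_erase.2 ⟨hji, Finset.mem_univ j⟩)).symm
    rw [← Nat.card_eq_of_bijective g hg, Nat.card_sum, Nat.card_zmod]
  rw [hall] at hsplit
  rw [← Nat.card_eq_fintype_card] at hB
  set O := Nat.card (Quotient (AddAction.orbitRel (ZMod r) {a : ZMod r → ℕ // ∑ j, a j = n ∧ ∀ j, a j ≠ n}))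
  set N := Nat.card {a : ZMod r → ℕ // ∑ j, a j = n ∧ ∀ j, a j ≠ n}
  show O = _
  have hce : ((n + r - 1).choose (r - 1) - r - e) = r * (O - e) := by
    have h1 : O * r = (r - 1) * e + N := hB.symm
    have h2 : (r - 1) * e + e = r * e := by
      rw [← Nat.succ_mul, Nat.succ_eq_add_one, Nat.sub_add_cancel hr.pos]
    rw [Nat.mul_sub, mul_comm r O]
    omega
  rw [hce, Nat.mul_div_cancel_left _ hr.pos]
  have : e ≤ O := by
    by_contra h
    push Not at h
    have hle : e ≤ 1 := by rw [he]; split_ifs <;> omega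
    have hO : O = 0 := by omega
    have hN : (r - 1) * e + N = 0 := by
      have h' : (r - 1) * e + N = O * r := hB
      rw [h', hO, zero_mul]
    have he1 : e = 1 := by omega
    rw [he1] at hN
    have := hr.two_le
    omega
  omega

theorem diag_roots {ι : Type*} [DecidableEq K] (s : Finset ι) (d : ι → K) :
    (∏ i ∈ s, (X - C (d i))).roots = s.val.map d := by
  rw [Finset.prod_eq_multiset_prod,
    show (s.val.map fun i => X - C (d i)) = (s.val.map d).map fun a => X - C a by
      rw [Multiset.map_map]; rfl, roots_multiset_prod_X_sub_C]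

theorem count [Finite K] (S : Setup r H μ) :
    Nat.card {C : ConjClasses (H ⧸ Subgroup.center H) //
      ∃ g : H ⧸ Subgroup.center H, ConjClasses.mk g = C ∧ orderOf g = r} =
      (Nat.choose (n + r - 1) (r - 1) - r - (if r ∣ n then 1 else 0)) / r +
        r * (if r ∣ n then 1 else 0) := by
  classical
  haveI : Fact r.Prime := ⟨S.prime⟩
  have hr := S.prime
  have hn := S.two_le
  have hn0 : 0 < n := by omega
  -- the roots of unity
  obtain ⟨z0, hz0⟩ := exists_prime_orderOf_dvd_card' (G := μ) r S.dvd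
  set z : Kˣ := (z0 : Kˣ) with hzdef
  have hz : orderOf z = r := by rw [hzdef, Subgroup.orderOf_coe, hz0]
  have hzr : z ^ r = 1 := hz ▸ pow_orderOf_eq_one z
  let e : ZMod r → Kˣ := fun j => z ^ j.val
  have heμ : ∀ j, e j ∈ μ := fun j => μ.pow_mem z0.2 _
  have headd : ∀ i j, e (i + j) = e i * e j := fun i j => by
    simp only [e, ZMod.val_add, ← pow_add]
    exact pow_eq_pow_iff_modEq.2 (hz.symm ▸ Nat.mod_modEq _ _)
  have heinj : Function.Injective e := fun i j h => by
    refine ZMod.val_injective r (pow_injOn_Iio_orderOf ?_ ?_ h) <;>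
      simp only [Set.mem_Iio, hz] <;> exact ZMod.val_lt _
  have her : ∀ j, e j ^ r = 1 := fun j => by
    rw [← pow_mul, mul_comm, pow_mul, hzr, one_pow]
  have heK : Function.Injective fun j => (e j : K) := Units.val_injective.comp heinj
  have hprim : IsPrimitiveRoot (z : K) r :=
    IsPrimitiveRoot.coe_units_iff.2 (hz ▸ IsPrimitiveRoot.orderOf z)
  have hroots : ∀ x : K, x ^ r = 1 → ∃ j, x = (e j : K) := fun x hx => by
    obtain ⟨i, hi, rfl⟩ := hprim.eq_pow_of_pow_eq_one hx
    exact ⟨(i : ZMod r), by simp [e, ZMod.val_natCast, Nat.mod_eq_of_lt hi]⟩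
  -- quotient map
  set π : H →* H ⧸ Subgroup.center H := QuotientGroup.mk' (Subgroup.center H) with hπ
  let scH : (s : Kˣ) → s ∈ μ → H := fun s hs => ⟨sc s, S.sc_mem_H hs⟩
  have hπsc : ∀ s hs, π (scH s hs) = 1 := fun s hs => (QuotientGroup.eq_one_iff _).2 (S.sc_central hs)
  have hπ1 : ∀ x, π x = 1 → ∃ s ∈ μ, (x : GL (Fin n) K) = sc s := fun x hx =>
    S.center_scalar ((QuotientGroup.eq_one_iff _).1 hx)
  have hrel : ∀ a b : H, IsConj (π a) (π b) → ∃ (x : H) (s : Kˣ), s ∈ μ ∧
      (b : GL (Fin n) K) = (x : GL (Fin n) K) * ((a : GL (Fin n) K) * sc s) * (x : GL (Fin n) K)⁻¹ := by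
    intro a b h
    obtain ⟨y, hy⟩ := isConj_iff.1 h
    obtain ⟨x, rfl⟩ := QuotientGroup.mk'_surjective _ y
    rw [← map_inv, ← map_mul, ← map_mul] at hy
    obtain ⟨s, hs, hsx⟩ := hπ1 ((x * a * x⁻¹)⁻¹ * b) (by rw [map_mul π, map_inv π, hy, inv_mul_cancel])
    refine ⟨x, s, hs, ?_⟩
    simp only [Subgroup.coe_mul, Subgroup.coe_inv] at hsx
    rw [inv_mul_eq_iff_eq_mul] at hsx
    rw [hsx, mul_assoc _ _ (sc s), ← sc_comm s ((x : GL (Fin n) K)⁻¹)]
    simp only [mul_assoc]
  have hpowrel : ∀ (x a : GL (Fin n) K) (s : Kˣ), (x * (a * sc s) * x⁻¹) ^ r =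
      x * (a ^ r * sc (s ^ r)) * x⁻¹ := fun x a s => by
    rw [conj_pow, (show Commute a (sc s) from (sc_comm s a).symm).mul_pow, map_pow]
  have hmk : ∀ (a g : H) (s : Kˣ) (hs : s ∈ μ), IsConj a (g * scH s hs) →
      ConjClasses.mk (π a) = ConjClasses.mk (π g) := fun a g s hs h => by
    refine ConjClasses.mk_eq_mk_iff_isConj.2 ?_
    have := π.map_isConj h
    rwa [map_mul π g, hπsc _ hs, mul_one] at this
  -- diagonal representatives
  have hrep : ∀ a : {a : ZMod r → ℕ // ∑ j, a j = n}, ∃ d : Fin n → ZMod r,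
      ∀ j, (Finset.univ.filter fun i => d i = j).card = a.1 j := by
    intro a
    obtain ⟨eq'⟩ : Nonempty (Fin n ≃ Σ j : ZMod r, Fin (a.1 j)) :=
      ⟨(Fintype.equivFinOfCardEq (by simp [a.2])).symm⟩
    refine ⟨fun i => (eq' i).1, fun j => ?_⟩
    rw [← Fintype.card_subtype]
    calc Fintype.card {i // (eq' i).1 = j}
        = Fintype.card {x : Σ j : ZMod r, Fin (a.1 j) // x.1 = j} :=
          Fintype.card_congr (eq'.subtypeEquiv fun i => Iff.rfl)
      _ = Fintype.card (Fin (a.1 j)) :=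
          Fintype.card_congr
          { toFun := fun x => x.2 ▸ x.1.2
            invFun := fun x => ⟨⟨j, x⟩, rfl⟩
            left_inv := by rintro ⟨⟨j', x⟩, rfl⟩; rfl
            right_inv := fun x => rfl }
      _ = a.1 j := Fintype.card_fin _
  choose d hd using hrep
  let Dd : (Fin n → ZMod r) → H := fun f =>
    ⟨monoGL 1 (fun i => e (f i)), S.mono_mem _ _ fun i => heμ _⟩
  have hDr : ∀ f, (Dd f : GL (Fin n) K) ^ r = sc 1 := fun f => by
    rw [monoGL_pow]
    simp only [one_pow, Equiv.Perm.one_apply, Finset.prod_const, Finset.card_range, her]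
    rw [monoGL_const]
  let cnt : (Fin n → ZMod r) → ZMod r → ℕ := fun f j => (Finset.univ.filter fun i => f i = j).card
  have hchar : ∀ f, ((Dd f : GL (Fin n) K) : Matrix (Fin n) (Fin n) K).charpoly =
      ∏ i, (X - C (e (f i) : K)) := fun f => by
    simp only [Dd, monoGL_val, mono_one_diag]
    exact Matrix.charpoly_diagonal _
  have hcnt : ∀ f j, (((Dd f : GL (Fin n) K) : Matrix (Fin n) (Fin n) K).charpoly.roots).count (e j : K) =
      cnt f j := fun f j => by
    rw [hchar, diag_roots, Multiset.count_map, ← Finset.filter_val, ← Finset.card_def]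
    exact congrArg Finset.card (Finset.filter_congr fun i _ =>
      ⟨fun h => (heK h).symm, fun h => by rw [h]⟩)
  have hDscale : ∀ f k, Dd f * scH (e k) (heμ k) = Dd (fun i => f i + k) := fun f k => by
    refine Subtype.ext ?_
    show monoGL 1 _ * sc (e k) = monoGL 1 _
    rw [← monoGL_const, monoGL_mul, one_mul]
    simp only [Equiv.Perm.one_apply, headd]
  -- every element with `g ^ r = 1` is conjugate to a diagonal one
  have hsplit1 : ∀ g : H, (g : GL (Fin n) K) ^ r = sc 1 →
      ∃ a : {a : ZMod r → ℕ // ∑ j, a j = n}, IsConj (Dd (d a)) g := by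
    intro g hg
    set f := ((g : GL (Fin n) K) : Matrix (Fin n) (Fin n) K).charpoly with hf
    have hfm : f.Monic := Matrix.charpoly_monic _
    have hfd : f.natDegree = n := by rw [hf, Matrix.charpoly_natDegree_eq_dim, Fintype.card_fin]
    haveI := Fintype.ofFinite K
    have hlin : ∀ P ∈ UniqueFactorizationMonoid.normalizedFactors f, ∃ j, P = X - C (e j : K) := by
      intro P hP
      have hPi := UniqueFactorizationMonoid.irreducible_of_normalized_factor _ hP
      have hPm : P.Monic := by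
        rw [← UniqueFactorizationMonoid.normalize_normalized_factor _ hP]
        exact Polynomial.monic_normalize hPi.ne_zero
      have hdv := factor_dvd_of_pow_eq_one (r := r) (g := (g : GL (Fin n) K)) (hg.trans (map_one _))
        hPi (UniqueFactorizationMonoid.dvd_of_mem_normalizedFactors hP)
      rw [X_pow_sub_one_eq_prod hr.pos hprim] at hdv
      obtain ⟨ζ, hζ, hdz⟩ := hPi.prime.exists_mem_finset_dvd hdv
      obtain ⟨j, rfl⟩ := hroots ζ ((Polynomial.mem_nthRootsFinset hr.pos 1).1 hζ)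
      exact ⟨j, eq_of_monic_of_associated hPm (monic_X_sub_C _)
        (hPi.associated_of_dvd (irreducible_X_sub_C _) hdz)⟩
    set R := (UniqueFactorizationMonoid.normalizedFactors f).map fun P => -P.coeff 0 with hR
    have hMR : UniqueFactorizationMonoid.normalizedFactors f = R.map fun a => X - C a := by
      rw [hR, Multiset.map_map]
      conv_lhs => rw [← Multiset.map_id (UniqueFactorizationMonoid.normalizedFactors f)]
      refine Multiset.map_congr rfl fun P hP => ?_
      obtain ⟨j, rfl⟩ := hlin P hP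
      simp
    have hfR : f = (R.map fun a => X - C a).prod := by
      have h1 := UniqueFactorizationMonoid.prod_normalizedFactors hfm.ne_zero
      rw [hMR] at h1
      exact (eq_of_monic_of_associated (monic_multiset_prod_of_monic _ _ fun a _ => monic_X_sub_C a)
        hfm h1).symm
    have hRc : R.card = n := by
      have := congrArg natDegree hfR
      rw [hfd, natDegree_multiset_prod_X_sub_C_eq_card] at this
      exact this.symm
    have hRmem : ∀ x ∈ R, ∃ j, x = (e j : K) := fun x hx => by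
      obtain ⟨P, hP, rfl⟩ := Multiset.mem_map.1 hx
      obtain ⟨j, rfl⟩ := hlin P hP
      exact ⟨j, by simp⟩
    have hsum : ∑ j, R.count (e j : K) = n := by
      rw [← hRc]
      refine Eq.trans ?_ (Multiset.sum_count_eq_card (s := Finset.univ.image fun j => (e j : K))
        fun x hx => by
          obtain ⟨j, rfl⟩ := hRmem x hx
          exact Finset.mem_image_of_mem _ (Finset.mem_univ j))
      exact (Finset.sum_image (f := fun x => R.count x) (g := fun j => (e j : K)) fun a _ b _ h => heK h).symm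
    refine ⟨⟨fun j => R.count (e j : K), hsum⟩, S.conj 1 μ.one_mem _ _ (hDr _) hg ?_⟩
    rw [← hf, hchar, hfR, Finset.prod_eq_multiset_prod,
      show (Finset.univ.val.map fun i => X - C (e (d ⟨_, hsum⟩ i) : K)) =
        (Finset.univ.val.map fun i => (e (d ⟨_, hsum⟩ i) : K)).map fun a => X - C a by
          rw [Multiset.map_map]; rfl]
    congr 2
    refine Multiset.ext.2 fun x => ?_
    by_cases hx : ∃ j, x = (e j : K)
    · obtain ⟨j, rfl⟩ := hx
      rw [Multiset.count_map, ← Finset.filter_val, ← Finset.card_def]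
      exact (congrArg Finset.card (Finset.filter_congr fun i _ =>
        ⟨fun h => (heK h).symm, fun h => by rw [h]⟩)).trans (hd ⟨_, hsum⟩ j)
    · rw [Multiset.count_eq_zero.2 fun h => hx (hRmem x h),
        Multiset.count_eq_zero.2 fun h => hx (by
          obtain ⟨i, -, rfl⟩ := Multiset.mem_map.1 h
          exact ⟨_, rfl⟩)]
  -- generator of the scalars
  obtain ⟨g0, hg0⟩ := IsCyclic.exists_generator (α := μ)
  have hg0o : orderOf g0 = Nat.card μ := orderOf_eq_card_of_forall_mem_zpowers hg0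
  have hnotpow : ∀ (k : ℕ) (s : Kˣ), s ∈ μ → (g0 : Kˣ) ^ k = s ^ r → r ∣ k := by
    intro k s hs h
    obtain ⟨m, hm⟩ := (mem_powers_iff_mem_zpowers).2 (hg0 ⟨s, hs⟩)
    have h2 : g0 ^ k = g0 ^ (m * r) := Subtype.ext (by
      rw [pow_mul, show g0 ^ m = ⟨s, hs⟩ from hm]; simpa using h)
    rw [pow_eq_pow_iff_modEq, hg0o] at h2
    exact (Nat.ModEq.dvd_iff h2 S.dvd).2 (dvd_mul_left r m)
  have hgen : ∀ c, c ∈ μ → ∃ m : ℕ, (g0 : Kˣ) ^ m = c := fun c hc => by
    obtain ⟨m, hm⟩ := (mem_powers_iff_mem_zpowers).2 (hg0 ⟨c, hc⟩)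
    exact ⟨m, by simpa using congrArg Subtype.val hm⟩
  -- twisted elements
  have hirr : ∀ k : ℕ, ¬ r ∣ k → Irreducible (X ^ r - C (((g0 : Kˣ) ^ k : Kˣ) : K)) := by
    intro k hk
    refine X_pow_sub_C_irreducible_of_prime hr fun b hb => hk ?_
    have hb0 : b ≠ 0 := fun h => by
      rw [h, zero_pow hr.ne_zero] at hb
      exact Units.ne_zero _ hb.symm
    have hbu : Units.mk0 b hb0 ^ r = (g0 : Kˣ) ^ k := Units.ext (by simpa using hb)
    obtain ⟨y, hy, hyr⟩ := S.root (Units.mk0 b hb0) (hbu ▸ μ.pow_mem g0.2 k)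
    exact hnotpow k y hy (hbu.symm.trans hyr.symm)
  have hBchar : ∀ k : ℕ, ¬ r ∣ k → ∀ g : H, (g : GL (Fin n) K) ^ r = sc ((g0 : Kˣ) ^ k) →
      r ∣ n ∧ ((g : GL (Fin n) K) : Matrix (Fin n) (Fin n) K).charpoly =
        (X ^ r - C (((g0 : Kˣ) ^ k : Kˣ) : K)) ^ (n / r) := by
    intro k hk g hg
    haveI := Fintype.ofFinite K
    set Q := X ^ r - C (((g0 : Kˣ) ^ k : Kˣ) : K) with hQ
    have hann : aeval ((g : GL (Fin n) K) : Matrix (Fin n) (Fin n) K) Q = 0 := by
      rw [hQ, map_sub, map_pow, aeval_X, aeval_C, ← Units.val_pow_eq_pow_val, hg, sc_val,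
        Matrix.algebraMap_eq_diagonal]
      exact sub_self _
    set f := ((g : GL (Fin n) K) : Matrix (Fin n) (Fin n) K).charpoly with hf
    have hfm : f.Monic := Matrix.charpoly_monic _
    have hQm : Q.Monic := monic_X_pow_sub_C _ hr.ne_zero
    have hall : ∀ P ∈ UniqueFactorizationMonoid.normalizedFactors f, P = Q := by
      intro P hP
      have hPi := UniqueFactorizationMonoid.irreducible_of_normalized_factor _ hP
      have hPm : P.Monic := by
        rw [← UniqueFactorizationMonoid.normalize_normalized_factor _ hP]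
        exact Polynomial.monic_normalize hPi.ne_zero
      exact eq_of_monic_of_associated hPm hQm (hPi.associated_of_dvd (hirr k hk)
        ((irreducible_dvd_minpoly_of_dvd_charpoly _ hPi
          (UniqueFactorizationMonoid.dvd_of_mem_normalizedFactors hP)).trans (minpoly.dvd K _ hann)))
    have hfQ : f = Q ^ (UniqueFactorizationMonoid.normalizedFactors f).card := by
      have h1 := UniqueFactorizationMonoid.prod_normalizedFactors hfm.ne_zero
      rw [Multiset.eq_replicate_card.2 hall, Multiset.prod_replicate] at h1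
      exact (eq_of_monic_of_associated (hQm.pow _) hfm h1).symm
    have hdeg := congrArg natDegree hfQ
    rw [hf, Matrix.charpoly_natDegree_eq_dim, Fintype.card_fin, natDegree_pow, hQ,
      natDegree_X_pow_sub_C] at hdeg
    refine ⟨⟨_, hdeg.trans (mul_comm _ _)⟩, ?_⟩
    rw [hfQ]
    congr 1
    rw [hdeg, Nat.mul_div_cancel _ hr.pos]
  have hBex : r ∣ n → ∀ k : ℕ, ∃ g : H, (g : GL (Fin n) K) ^ r = sc ((g0 : Kˣ) ^ k) := by
    rintro ⟨m, hm⟩ k
    obtain ⟨eq'⟩ : Nonempty (Fin n ≃ Fin m × ZMod r) :=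
      ⟨(Fintype.equivFinOfCardEq (by simp [hm, mul_comm])).symm⟩
    let σ : Equiv.Perm (Fin n) := eq'.symm.permCongr ((Equiv.refl (Fin m)).prodCongr (Equiv.addRight 1))
    let w : Fin n → Kˣ := fun i => if (eq' i).2 = 0 then (g0 : Kˣ) ^ k else 1
    refine ⟨⟨monoGL σ w, S.mono_mem σ w fun i => by
      simp only [w]; split_ifs; exacts [μ.pow_mem g0.2 k, μ.one_mem]⟩, ?_⟩
    have hσ : ∀ (l : ℕ) (i : Fin n), eq' ((σ ^ l) i) = ((eq' i).1, (eq' i).2 + (l : ZMod r)) := by
      intro l
      induction l with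
      | zero => intro i; simp
      | succ l ih =>
        intro i
        rw [pow_succ', Equiv.Perm.mul_apply]
        simp [σ, Equiv.permCongr_apply, ih, add_assoc]
    show monoGL σ w ^ r = _
    rw [monoGL_pow, show σ ^ r = 1 from Equiv.ext fun i => eq'.injective (by
      rw [hσ]; simp)]
    rw [← monoGL_const]
    congr 1
    funext i
    have hw : ∀ l : ℕ, w ((σ ^ l) i) =
        if (eq' i).2 + (l : ZMod r) = 0 then (g0 : Kˣ) ^ k else 1 := fun l => by
      simp only [w, hσ]
    simp only [hw]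
    rw [Finset.prod_eq_single (-(eq' i).2).val]
    · rw [if_pos (by rw [ZMod.natCast_zmod_val, add_neg_cancel])]
    · intro l hl hne
      rw [if_neg fun h => hne ?_]
      rw [← eq_neg_of_add_eq_zero_right h, ZMod.val_natCast, Nat.mod_eq_of_lt (Finset.mem_range.1 hl)]
    · intro h
      exact absurd (Finset.mem_range.2 (ZMod.val_lt _)) h
  -- the count
  let T := {a : ZMod r → ℕ // ∑ j, a j = n ∧ ∀ j, a j ≠ n}
  letI act : AddAction (ZMod r) T :=
    { vadd := fun k a => ⟨fun j => a.1 (j - k), by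
        exact (Fintype.sum_equiv (Equiv.subRight k) _ _ fun j => rfl).trans a.2.1, fun j => a.2.2 _⟩
      zero_vadd := fun a => Subtype.ext (funext fun j => by show a.1 (j - 0) = a.1 j; rw [sub_zero])
      add_vadd := fun k l a => Subtype.ext (funext fun j => by
        show a.1 (j - (k + l)) = a.1 (j - k - l); rw [sub_sub]) }
  have hact : ∀ (k : ZMod r) (a : T) j, (k +ᵥ a).1 j = a.1 (j - k) := fun k a j => rfl
  let DT : T → H := fun a => Dd (d ⟨a.1, a.2.1⟩)
  have hDTcnt : ∀ (a : T) j, cnt (d ⟨a.1, a.2.1⟩) j = a.1 j := fun a j => hd _ j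
  have hord : ∀ g : H, (∃ s ∈ μ, (g : GL (Fin n) K) ^ r = sc s) →
      (∀ s, (g : GL (Fin n) K) ≠ sc s) → orderOf (π g) = r := by
    intro g ⟨s, hs, hgs⟩ hns
    refine orderOf_eq_prime ?_ fun h => ?_
    · rw [← map_pow, show g ^ r = scH s hs from Subtype.ext (by simpa [scH] using hgs), hπsc _ hs]
    · obtain ⟨t, -, ht⟩ := hπ1 g h
      exact hns t ht
  have hDTns : ∀ (a : T) s, (DT a : GL (Fin n) K) ≠ sc s := by
    intro a s h
    have hi := congrArg (fun x : GL (Fin n) K => (x : Matrix (Fin n) (Fin n) K)) h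
    simp only [DT, Dd, monoGL_val, mono_one_diag, sc_val] at hi
    have h1 := Matrix.diagonal_injective hi
    have h2 : ∀ i, d ⟨a.1, a.2.1⟩ i = d ⟨a.1, a.2.1⟩ ⟨0, hn0⟩ := fun i =>
      heK ((congrFun h1 i).trans (congrFun h1 ⟨0, hn0⟩).symm)
    apply a.2.2 (d ⟨a.1, a.2.1⟩ ⟨0, hn0⟩)
    rw [← hDTcnt a]
    simp only [cnt]
    rw [Finset.filter_true_of_mem fun i _ => h2 i, Finset.card_univ, Fintype.card_fin]
  have horbit : ∀ (a b : T), ConjClasses.mk (π (DT a)) = ConjClasses.mk (π (DT b)) ↔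
      AddAction.orbitRel (ZMod r) T a b := by
    intro a b
    rw [AddAction.orbitRel_apply, AddAction.mem_orbit_symm, AddAction.mem_orbit_iff]
    constructor
    · intro h
      obtain ⟨x, s, hs, hx⟩ := hrel _ _ (ConjClasses.mk_eq_mk_iff_isConj.1 h)
      have hp := congrArg (· ^ r) hx
      simp only [hpowrel] at hp
      rw [hDr, hDr, map_one, one_mul, ← sc_comm, mul_inv_cancel_right, ← map_one (sc : Kˣ →* _)] at hp
      obtain ⟨k, hk⟩ := hroots (s : K) (by
        simpa using congrArg (fun u : Kˣ => (u : K)) (sc_inj hn0 hp).symm)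
      refine ⟨k, Subtype.ext (funext fun j => ?_)⟩
      have hc := CfsgLib.KnownB.SSClass.charpoly_isConj (isConj_iff.2 ⟨(x : GL (Fin n) K), hx.symm⟩ :
        IsConj ((DT a : GL (Fin n) K) * sc s) (DT b : GL (Fin n) K))
      rw [show s = e k from Units.ext hk,
        show (DT a : GL (Fin n) K) * sc (e k) = ((DT a * scH (e k) (heμ k) : H) : GL (Fin n) K) from rfl,
        hDscale] at hc
      simp only [DT] at hc
      rw [hact, ← hDTcnt a, ← hDTcnt b, ← hcnt (d ⟨b.1, b.2.1⟩), ← hc, hcnt]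
      exact congrArg Finset.card (Finset.filter_congr fun i _ => eq_sub_iff_add_eq)
    · rintro ⟨k, rfl⟩
      refine (hmk _ _ (e k) (heμ k) ?_).symm
      rw [hDscale]
      refine S.conj 1 μ.one_mem _ _ (hDr _) (hDr _) ?_
      rw [hchar, hchar, Finset.prod_eq_multiset_prod, Finset.prod_eq_multiset_prod,
        show ∀ f : Fin n → ZMod r, (Finset.univ.val.map fun i => X - C (e (f i) : K)) =
          (Finset.univ.val.map f).map fun j => X - C (e j : K) from fun f => by
            rw [Multiset.map_map]; rfl]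
      rw [show ∀ f : Fin n → ZMod r, (Finset.univ.val.map fun i => X - C (e (f i + k) : K)) =
          (Finset.univ.val.map fun i => f i + k).map fun j => X - C (e j : K) from fun f => by
            rw [Multiset.map_map]; rfl]
      congr 2
      refine Multiset.ext.2 fun j => ?_
      simp only [Multiset.count_map, ← Finset.filter_val, ← Finset.card_def]
      have h1 := hDTcnt (k +ᵥ a) j
      simp only [cnt, @eq_comm _ j] at h1 ⊢
      rw [h1, hact, ← hDTcnt a]
      exact congrArg Finset.card (Finset.filter_congr fun i _ => eq_sub_iff_add_eq)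
  let ι := Quotient (AddAction.orbitRel (ZMod r) T) ⊕ (PLift (r ∣ n) × Fin (r - 1))
  have hBg : ∀ v : PLift (r ∣ n) × Fin (r - 1),
      ∃ g : H, (g : GL (Fin n) K) ^ r = sc ((g0 : Kˣ) ^ (v.2.1 + 1)) := fun v => hBex v.1.down _
  choose E hE using hBg
  have hEns : ∀ v s, (E v : GL (Fin n) K) ≠ sc s := by
    intro v s h
    have h1 := hE v
    rw [h, ← map_pow] at h1
    have h2 := hnotpow _ s (S.scal_mem s (h ▸ (E v).2)) (sc_inj hn0 h1).symm
    have := v.2.2
    exact absurd (Nat.le_of_dvd (Nat.succ_pos _) h2) (by omega)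
  let Φ : ι → {C : ConjClasses (H ⧸ Subgroup.center H) //
      ∃ g : H ⧸ Subgroup.center H, ConjClasses.mk g = C ∧ orderOf g = r} :=
    Sum.elim (Quotient.lift (fun a => ⟨ConjClasses.mk (π (DT a)), π (DT a), rfl,
      hord _ ⟨1, μ.one_mem, hDr _⟩ (hDTns a)⟩) fun a b h => Subtype.ext ((horbit a b).2 h))
      fun v => ⟨ConjClasses.mk (π (E v)), π (E v), rfl,
        hord _ ⟨_, μ.pow_mem g0.2 _, hE v⟩ (hEns v)⟩
  have hcross : ∀ a v, ConjClasses.mk (π (DT a)) ≠ ConjClasses.mk (π (E v)) := by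
    intro a v h
    obtain ⟨x, s, hs, hx⟩ := hrel _ _ (ConjClasses.mk_eq_mk_iff_isConj.1 h)
    have hp := congrArg (· ^ r) hx
    simp only [hpowrel] at hp
    rw [hE, hDr, map_one, one_mul, ← sc_comm, mul_inv_cancel_right] at hp
    have := hnotpow _ s hs (sc_inj hn0 hp)
    have hv := v.2.2
    exact absurd (Nat.le_of_dvd (Nat.succ_pos _) this) (by omega)
  have hΦ : Function.Bijective Φ := by
    constructor
    · rintro (A | v) (B | u) h
      · induction A using Quotient.inductionOn with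
        | _ a =>
          induction B using Quotient.inductionOn with
          | _ b => exact congrArg Sum.inl (Quotient.sound ((horbit a b).1 (congrArg Subtype.val h)))
      · induction A using Quotient.inductionOn with
        | _ a => exact absurd (congrArg Subtype.val h) (hcross a u)
      · induction B using Quotient.inductionOn with
        | _ b => exact absurd (congrArg Subtype.val h).symm (hcross b v)
      · refine congrArg Sum.inr (Prod.ext (Subsingleton.elim _ _) (Fin.ext ?_))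
        obtain ⟨x, s, hs, hx⟩ := hrel _ _ (ConjClasses.mk_eq_mk_iff_isConj.1 (congrArg Subtype.val h))
        have hp := congrArg (· ^ r) hx
        simp only [hpowrel] at hp
        rw [hE, hE, ← map_mul, ← sc_comm, mul_inv_cancel_right] at hp
        obtain ⟨m, rfl⟩ := hgen s hs
        have h2 := sc_inj hn0 hp
        rw [← pow_mul, ← pow_add] at h2
        have h3 : g0 ^ (u.2.1 + 1) = g0 ^ (v.2.1 + 1 + m * r) := Subtype.ext (by simpa using h2)
        rw [pow_eq_pow_iff_modEq, hg0o] at h3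
        have h4 := h3.of_dvd S.dvd
        unfold Nat.ModEq at h4
        rw [Nat.add_mul_mod_self_right, Nat.mod_eq_of_lt (by have := u.2.2; omega),
          Nat.mod_eq_of_lt (by have := v.2.2; omega)] at h4
        omega
    · rintro ⟨C', g', rfl, hg'⟩
      obtain ⟨g, rfl⟩ := QuotientGroup.mk'_surjective _ g'
      obtain ⟨c, hc, hgc⟩ := hπ1 (g ^ r) (by rw [map_pow, ← hg', pow_orderOf_eq_one])
      rw [Subgroup.coe_pow] at hgc
      obtain ⟨m, rfl⟩ := hgen c hc
      have hsμ : ((g0 : Kˣ) ^ (m / r))⁻¹ ∈ μ := μ.inv_mem (μ.pow_mem g0.2 _)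
      set g1 : H := g * scH _ hsμ with hg1def
      have hg1 : (g1 : GL (Fin n) K) ^ r = sc ((g0 : Kˣ) ^ (m % r)) := by
        show ((g : GL (Fin n) K) * sc _) ^ r = _
        rw [(show Commute (g : GL (Fin n) K) (sc ((g0 : Kˣ) ^ (m / r))⁻¹) from
          (sc_comm _ _).symm).mul_pow, hgc, ← map_pow, ← map_mul]
        congr 1
        rw [inv_pow, ← pow_mul, mul_inv_eq_iff_eq_mul, ← pow_add, Nat.mod_add_div' m r]
      have hgns : ∀ s, (g1 : GL (Fin n) K) ≠ sc s := fun s h => by
        have hs : s ∈ μ := S.scal_mem s (h ▸ g1.2)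
        have h1 : π g = 1 := by
          have : π g1 = 1 := by rw [show g1 = scH s hs from Subtype.ext h, hπsc _ hs]
          rwa [hg1def, map_mul, hπsc _ hsμ, mul_one] at this
        rw [h1, orderOf_one] at hg'
        exact hr.ne_one hg'.symm
      rcases Nat.eq_zero_or_pos (m % r) with h0 | h0
      · rw [h0, pow_zero] at hg1
        obtain ⟨a, ha⟩ := hsplit1 g1 hg1
        have hT : ∀ j, a.1 j ≠ n := by
          intro j hj
          have hall : ∀ i, d a i = j := fun i => by
            have h1 := hd a j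
            rw [hj] at h1
            have h2 := Finset.card_eq_iff_eq_univ (Finset.univ.filter fun i => d a i = j) |>.1
              (h1.trans (Fintype.card_fin n).symm)
            have := Finset.mem_univ i
            rw [← h2] at this
            exact (Finset.mem_filter.1 this).2
          obtain ⟨x, hx⟩ := isConj_iff.1 ha
          refine hgns (e j) ?_
          rw [← hx]
          show (x : GL (Fin n) K) * monoGL 1 _ * (x : GL (Fin n) K)⁻¹ = _
          simp only [hall, monoGL_const]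
          rw [← sc_comm, mul_inv_cancel_right]
        exact ⟨.inl (Quotient.mk _ ⟨a.1, a.2, hT⟩), Subtype.ext (hmk _ g _ hsμ ha)⟩
      · have hlt := Nat.mod_lt m hr.pos
        have hnd : ¬ r ∣ m % r := fun h => absurd (Nat.le_of_dvd h0 h) (by omega)
        obtain ⟨hd', hchar1⟩ := hBchar _ hnd g1 hg1
        refine ⟨.inr (⟨hd'⟩, ⟨m % r - 1, by omega⟩), Subtype.ext (hmk _ g _ hsμ ?_)⟩
        have hEv := hE (⟨hd'⟩, ⟨m % r - 1, by omega⟩)
        simp only [Nat.sub_add_cancel h0] at hEv
        exact S.conj _ (μ.pow_mem g0.2 _) _ _ hEv hg1 ((hBchar _ hnd _ hEv).2.trans hchar1.symm)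
  haveI : Finite T := finite_vectors r n
  rw [← Nat.card_eq_of_bijective Φ hΦ, Nat.card_sum, Nat.card_prod, Nat.card_fin,
    card_orbits r n hn hact]
  by_cases hdn : r ∣ n
  · haveI : Unique (PLift (r ∣ n)) := ⟨⟨⟨hdn⟩⟩, fun _ => rfl⟩
    rw [if_pos hdn, Nat.card_unique, one_mul, mul_one, add_assoc, Nat.add_sub_cancel' hr.pos]
  · haveI : IsEmpty (PLift (r ∣ n)) := ⟨fun h => hdn h.down⟩
    simp [hdn]

end CfsgLib.KnownC.ProjPrime

namespace CfsgLib.KnownC.ProjPrime

open Polynomial Matrix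
open scoped MatrixGroups

variable {K : Type*} [Field K] [Fintype K] {n r : ℕ}

theorem isConj_gl_of_pow (hr : r.Prime) (hdvd : r ∣ Nat.card Kˣ) {c : Kˣ} {g h : GL (Fin n) K}
    (hg : g ^ r = Matrix.GeneralLinearGroup.scalar (Fin n) c)
    (hh : h ^ r = Matrix.GeneralLinearGroup.scalar (Fin n) c)
    (hc : (g : Matrix (Fin n) (Fin n) K).charpoly = (h : Matrix (Fin n) (Fin n) K).charpoly) :
    IsConj g h := by
  classical
  obtain ⟨p, hpc⟩ := CharP.exists K
  have : Fact p.Prime := ⟨CharP.char_is_prime K p⟩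
  obtain ⟨e, hp, hq⟩ := FiniteField.card K p
  have hpu : ¬ p ∣ Nat.card Kˣ := fun h => by
    rw [Nat.card_units, Nat.card_eq_fintype_card, hq] at h
    have h' := Nat.dvd_sub (dvd_pow_self p e.ne_zero) h
    have hpos : 1 ≤ p ^ (e : ℕ) := Nat.one_le_pow _ _ hp.pos
    rw [show p ^ (e : ℕ) - (p ^ (e : ℕ) - 1) = 1 by omega] at h'
    exact hp.one_lt.ne' (Nat.dvd_one.1 h')
  have hcop : (r * Nat.card Kˣ).Coprime p := by
    rw [Nat.coprime_comm, hp.coprime_iff_not_dvd, hp.dvd_mul]
    rintro (h' | h')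
    · exact hpu (((Nat.prime_dvd_prime_iff_eq hp hr).1 h') ▸ hdvd)
    · exact hpu h'
  have key : ∀ x : GL (Fin n) K, x ^ r = Matrix.GeneralLinearGroup.scalar (Fin n) c →
      (orderOf x).Coprime p := fun x hx => by
    refine hcop.coprime_dvd_left (orderOf_dvd_of_pow_eq_one ?_)
    rw [pow_mul, hx, ← map_pow, pow_card_eq_one', map_one]
  exact CfsgLib.KnownB.SSClass.gl_isConj_of_charpoly p (key g hg) (key h hh) hc

theorem count_pgl {q : ℕ} (hF : Fintype.card K = q) (hn : 2 ≤ n) (hr : r.Prime) (hrq : r ∣ q - 1) :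
    Nat.card {C : ConjClasses (GL (Fin n) K ⧸ Subgroup.center (GL (Fin n) K)) //
      ∃ g : GL (Fin n) K ⧸ Subgroup.center (GL (Fin n) K), ConjClasses.mk g = C ∧ orderOf g = r} =
      (Nat.choose (n + r - 1) (r - 1) - r - (if r ∣ n then 1 else 0)) / r +
        r * (if r ∣ n then 1 else 0) := by
  classical
  have hu : r ∣ Nat.card Kˣ := by rwa [Nat.card_units, Nat.card_eq_fintype_card, hF]
  have S : Setup (K := K) (n := n) r ⊤ ⊤ :=
    { prime := hr
      two_le := hn
      dvd := by rwa [Subgroup.card_top]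
      mono_mem := fun _ _ _ => Subgroup.mem_top _
      scal_mem := fun _ _ => Subgroup.mem_top _
      root := fun x _ => ⟨x, Subgroup.mem_top _, rfl⟩
      conj := fun c _ g h hg hh hc => by
        obtain ⟨x, hx⟩ := isConj_iff.1 (isConj_gl_of_pow hr hu hg hh hc)
        exact isConj_iff.2 ⟨⟨x, Subgroup.mem_top x⟩, Subtype.ext hx⟩ }
  let e : (⊤ : Subgroup (GL (Fin n) K)) ⧸ Subgroup.center (⊤ : Subgroup (GL (Fin n) K)) ≃*
      GL (Fin n) K ⧸ Subgroup.center (GL (Fin n) K) :=
    QuotientGroup.congr _ _ Subgroup.topEquiv (by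
      ext x
      simp only [Subgroup.mem_map, Subgroup.mem_center_iff]
      constructor
      · rintro ⟨y, hy, rfl⟩ z
        exact congrArg Subtype.val (hy ⟨z, Subgroup.mem_top z⟩)
      · intro hx
        exact ⟨⟨x, Subgroup.mem_top x⟩, fun z => Subtype.ext (hx z), rfl⟩)
  rw [← count S]
  refine (Nat.card_eq_of_bijective (fun C => ⟨ConjClasses.map e.toMonoidHom C.1, by
    obtain ⟨g, hg, ho⟩ := C.2
    exact ⟨e g, by rw [← hg]; rfl, by rw [e.orderOf_eq, ho]⟩⟩) ⟨?_, ?_⟩).symm
  · rintro ⟨C, g, rfl, hg⟩ ⟨D, g', rfl, hg'⟩ h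
    have h1 := ConjClasses.mk_eq_mk_iff_isConj.1 (congrArg Subtype.val h :
      ConjClasses.mk (e g) = ConjClasses.mk (e g'))
    have h2 := MonoidHom.map_isConj e.symm.toMonoidHom h1
    simp only [MulEquiv.coe_toMonoidHom, MulEquiv.symm_apply_apply] at h2
    exact Subtype.ext (ConjClasses.mk_eq_mk_iff_isConj.2 h2)
  · rintro ⟨C, g, rfl, hg⟩
    exact ⟨⟨ConjClasses.mk (e.symm g), e.symm g, rfl, by rw [e.symm.orderOf_eq, hg]⟩,
      Subtype.ext (by show ConjClasses.mk (e (e.symm g)) = _; rw [e.apply_symm_apply])⟩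

theorem count_pgu {q : ℕ} (hK : Fintype.card K = q ^ 2) (hn : 3 ≤ n) (hr : r.Prime) (hr2 : r ≠ 2)
    (hrq : r ∣ q + 1) :
    Nat.card {C : ConjClasses (↥(Cfsg.GU n K q) ⧸ Subgroup.center ↥(Cfsg.GU n K q)) //
      ∃ g : ↥(Cfsg.GU n K q) ⧸ Subgroup.center ↥(Cfsg.GU n K q), ConjClasses.mk g = C ∧ orderOf g = r} =
      (Nat.choose (n + r - 1) (r - 1) - r - (if r ∣ n then 1 else 0)) / r +
        r * (if r ∣ n then 1 else 0) := by
  classical
  have hucard := CfsgLib.Classical.units_card_sq (F := K) hK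
  have hu : r ∣ Nat.card Kˣ := by
    rw [hucard]; exact hrq.mul_left _
  have hμ : ∀ x : Kˣ, x ∈ (powMonoidHom (q + 1) : Kˣ →* Kˣ).ker ↔ x ^ (q + 1) = 1 := fun x => by
    rw [MonoidHom.mem_ker, powMonoidHom_apply]
  have hnorm : ∀ x : Kˣ, x ^ (q + 1) = 1 ↔
      (x : K) * CfsgLib.Classical.qFrob hK (x : K) = 1 := fun x => by
    rw [CfsgLib.Classical.qFrob_apply, ← pow_succ', ← Units.val_pow_eq_pow_val, Units.val_eq_one]
  have S : Setup (K := K) (n := n) r (Cfsg.GU n K q) (powMonoidHom (q + 1)).ker :=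
    { prime := hr
      two_le := by omega
      dvd := by
        haveI := Fact.mk hr
        obtain ⟨z, hz⟩ := exists_prime_orderOf_dvd_card' (G := Kˣ) r hu
        have hzμ : z ∈ (powMonoidHom (q + 1) : Kˣ →* Kˣ).ker :=
          (hμ z).2 (orderOf_dvd_iff_pow_eq_one.1 (hz ▸ hrq))
        rw [← hz, ← Subgroup.orderOf_mk z hzμ]
        exact orderOf_dvd_natCard _
      mono_mem := fun σ w hw => by
        rw [CfsgLib.Classical.SemiUnitary.mem_gu_iff hK]
        ext i j
        simp only [monoGL_val, mono, Matrix.mul_apply, Matrix.transpose_apply, Matrix.map_apply,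
          Matrix.of_apply]
        rw [Finset.sum_eq_single (σ i) (fun b _ hb => by simp [hb]) (by simp), if_pos rfl]
        rcases eq_or_ne i j with h | h
        · subst h
          rw [if_pos rfl, Matrix.one_apply_eq]
          exact (hnorm _).1 ((hμ _).1 (hw i))
        · rw [if_neg (fun h' => h (σ.injective h')), map_zero, mul_zero, Matrix.one_apply_ne h]
      scal_mem := fun s hs => by
        rw [CfsgLib.Classical.SemiUnitary.mem_gu_iff hK, sc_val, Matrix.diagonal_transpose,
          Matrix.diagonal_map (map_zero _), Matrix.diagonal_mul_diagonal] at hs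
        have h1 := congrFun (congrFun hs ⟨0, by omega⟩) ⟨0, by omega⟩
        rw [Matrix.diagonal_apply_eq, Matrix.one_apply_eq] at h1
        exact (hμ s).2 ((hnorm s).2 h1)
      root := fun x hx => by
        refine ⟨x, (hμ x).2 ?_, rfl⟩
        rw [hμ, ← pow_mul, mul_comm, pow_mul] at hx
        have h1 : (x ^ (q + 1)) ^ (q - 1) = 1 := by
          rw [← pow_mul, mul_comm, ← hucard, pow_card_eq_one']
        have hco : r.Coprime (q - 1) := by
          rw [hr.coprime_iff_not_dvd]
          intro h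
          have hq2 := CfsgLib.Classical.two_le_of_card_sq (F := K) hK
          have h' := Nat.dvd_sub hrq h
          rw [show q + 1 - (q - 1) = 2 by omega] at h'
          exact hr2 ((Nat.prime_dvd_prime_iff_eq hr Nat.prime_two).1 h')
        exact orderOf_eq_one_iff.1 (Nat.eq_one_of_dvd_coprimes hco
          (orderOf_dvd_of_pow_eq_one hx) (orderOf_dvd_of_pow_eq_one h1))
      conj := fun c _ g h hg hh hc =>
        (CfsgLib.Classical.SemiUnitary.isConj_iff_gl hK g h).2 (isConj_gl_of_pow hr hu hg hh hc) }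
  exact count S

end CfsgLib.KnownC.ProjPrime
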