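import Mathlib

set_option autoImplicit false

/-!
Invariant subspaces of a nilpotent matrix of corank one.
-/

namespace CfsgLib.KnownC

open Matrix

variable {ι F : Type*} [Fintype ι] [DecidableEq ι] [Field F]

theorem finrank_ker_pow_le (N : Matrix ι ι F) (hr : Fintype.card ι ≤ N.rank + 1) (k : ℕ) :
    Module.finrank F (LinearMap.ker (Matrix.mulVecLin (N ^ k))) ≤ k := by
  have h1 : Module.finrank F (LinearMap.ker N.mulVecLin) ≤ 1 := by
    have := N.mulVecLin.finrank_range_add_finrank_ker
    rw [Module.finrank_fintype_fun_eq_card] at this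
    have h2 : N.rank = Module.finrank F (LinearMap.range N.mulVecLin) := rfl
    omega
  induction k with
  | zero => simp
  | succ k ih =>
    let f : LinearMap.ker (Matrix.mulVecLin (N ^ (k + 1))) →ₗ[F]
        LinearMap.ker (Matrix.mulVecLin (N ^ k)) :=
      N.mulVecLin.restrict fun v hv => by
        rw [LinearMap.mem_ker, mulVecLin_apply] at hv ⊢
        rwa [mulVecLin_apply, mulVec_mulVec, ← pow_succ]
    have h3 := f.finrank_range_add_finrank_ker
    have h4 : Module.finrank F (LinearMap.range f) ≤ k := (Submodule.finrank_le _).trans ih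
    have h5 : Module.finrank F (LinearMap.ker f) ≤ 1 := by
      let g : LinearMap.ker f →ₗ[F] LinearMap.ker N.mulVecLin :=
        ((Submodule.subtype _).comp (Submodule.subtype _)).codRestrict _ fun v => by
          exact congrArg Subtype.val (LinearMap.mem_ker.1 v.2)
      refine (LinearMap.finrank_le_finrank_of_injective (f := g) fun a b h => ?_).trans h1
      exact Subtype.ext (Subtype.ext (congrArg Subtype.val h :))
    omega

/-- An invariant subspace is the kernel of a power. -/
theorem eq_ker_pow_of_invariant (N : Matrix ι ι F) (hr : Fintype.card ι ≤ N.rank + 1)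
    (hnil : IsNilpotent N) (W : Submodule F (ι → F)) (hW : ∀ v ∈ W, N *ᵥ v ∈ W) :
    W = LinearMap.ker (Matrix.mulVecLin (N ^ Module.finrank F W)) := by
  let f : W →ₗ[F] W := N.mulVecLin.restrict hW
  have hpow : ∀ k (v : W), ((f ^ k) v : ι → F) = (N ^ k) *ᵥ (v : ι → F) := by
    intro k
    induction k with
    | zero => intro v; simp
    | succ k ih =>
      intro v
      rw [pow_succ', Module.End.mul_apply, pow_succ', ← mulVec_mulVec, ← ih]
      rfl
  have hf : IsNilpotent f := by
    obtain ⟨k, hk⟩ := hnil
    exact ⟨k, LinearMap.ext fun v => Subtype.ext (by rw [hpow, hk, zero_mulVec]; rfl)⟩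
  have hz : f ^ Module.finrank F W = 0 := by
    have h1 := LinearMap.aeval_self_charpoly f
    rwa [LinearMap.charpoly_eq_X_pow_iff f |>.2 fun m => by
      obtain ⟨k, hk⟩ := hf
      exact ⟨k, by rw [hk]; rfl⟩, map_pow, Polynomial.aeval_X] at h1
  refine Submodule.eq_of_le_of_finrank_le (fun v hv => ?_) (finrank_ker_pow_le N hr _)
  rw [LinearMap.mem_ker, mulVecLin_apply]
  have := hpow (Module.finrank F W) ⟨v, hv⟩
  rw [hz] at this
  exact this.symm

end CfsgLib.KnownC
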