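import Cfsg.Agent.Lib.KnownC.RegularUnipotent

set_option autoImplicit false

/-!
Regular nilpotent matrices: cyclic vectors and their commutants.
-/

namespace CfsgLib.KnownC

open Matrix

variable {F : Type*} [Field F] {n : ℕ}

theorem exists_cyclic_vector (N : Matrix (Fin n) (Fin n) F) (hn : 1 ≤ n) (hr : N.rank = n - 1) :
    ∃ v, (N ^ (n - 1)) *ᵥ v ≠ 0 := by
  by_contra h
  simp only [not_exists, not_not] at h
  have h1 := finrank_ker_pow_le N (by rw [hr, Fintype.card_fin]; omega) (n - 1)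
  rw [show LinearMap.ker (Matrix.mulVecLin (N ^ (n - 1))) = ⊤ from eq_top_iff.2 fun v _ => h v,
    finrank_top, Module.finrank_fin_fun] at h1
  omega

/-- The basis `N^i v`. -/
theorem exists_cyclic_basis (N : Matrix (Fin n) (Fin n) F) (hn : 1 ≤ n) (hnil : N ^ n = 0)
    (hr : N.rank = n - 1) (v : Fin n → F) (hv : (N ^ (n - 1)) *ᵥ v ≠ 0) :
    ∃ b : Module.Basis (Fin n) F (Fin n → F), ∀ i : Fin n, b i = (N ^ (i : ℕ)) *ᵥ v := by
  classical
  haveI : Nonempty (Fin n) := ⟨⟨0, hn⟩⟩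
  have hli : LinearIndependent F fun i : Fin n => (N ^ (i : ℕ)) *ᵥ v := by
    rw [Fintype.linearIndependent_iff]
    intro c hc
    by_contra hne
    simp only [not_forall] at hne
    obtain ⟨i, hi, hmin⟩ : ∃ i : Fin n, c i ≠ 0 ∧ ∀ j < i, c j = 0 := by
      obtain ⟨i, hi, hmin⟩ := wellFounded_lt.has_min {i | c i ≠ 0} hne
      exact ⟨i, hi, fun j hj => not_not.1 fun h => hmin j h hj⟩
    have h0 := congrArg (fun x => (N ^ (n - 1 - (i : ℕ))) *ᵥ x) hc
    simp only [mulVec_sum, mulVec_smul, mulVec_zero, mulVec_mulVec, ← pow_add] at h0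
    rw [Finset.sum_eq_single i ?_ (fun h => absurd (Finset.mem_univ i) h),
      show n - 1 - (i : ℕ) + i = n - 1 by omega, smul_eq_zero] at h0
    · exact h0.elim hi hv
    · intro j _ hj
      rcases lt_or_gt_of_ne hj with h | h
      · rw [hmin j h, zero_smul]
      · have hlt : (i : ℕ) < j := h
        have hz : N ^ (n - 1 - (i : ℕ) + j) = 0 := by
          rw [show n - 1 - (i : ℕ) + j = n + ((j : ℕ) - i - 1) by omega, pow_add, hnil, zero_mul]
        rw [hz, zero_mulVec, smul_zero]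
  exact ⟨basisOfLinearIndependentOfCardEqFinrank hli (by simp), fun i => by
    rw [coe_basisOfLinearIndependentOfCardEqFinrank]⟩

/-- Commutants of a regular nilpotent matrix correspond to vectors. -/
theorem exists_commutant (N : Matrix (Fin n) (Fin n) F) (hn : 1 ≤ n) (hnil : N ^ n = 0)
    (hr : N.rank = n - 1) (v : Fin n → F) (hv : (N ^ (n - 1)) *ᵥ v ≠ 0) (w : Fin n → F) :
    ∃! A : Matrix (Fin n) (Fin n) F, A * N = N * A ∧ A *ᵥ v = w := by
  classical
  obtain ⟨b, hb⟩ := exists_cyclic_basis N hn hnil hr v hv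
  let f := b.constr (S := F) fun i : Fin n => (N ^ (i : ℕ)) *ᵥ w
  have hf : ∀ k : ℕ, f ((N ^ k) *ᵥ v) = (N ^ k) *ᵥ w := fun k => by
    rcases Nat.lt_or_ge k n with hk | hk
    · have := b.constr_basis (S := F) (fun i : Fin n => (N ^ (i : ℕ)) *ᵥ w) ⟨k, hk⟩
      rw [hb] at this
      exact this
    · obtain ⟨d, rfl⟩ := Nat.exists_eq_add_of_le hk
      rw [pow_add, hnil, zero_mul, zero_mulVec, zero_mulVec, map_zero]
  refine ⟨LinearMap.toMatrix' f, ⟨?_, ?_⟩, fun B ⟨hB, hBv⟩ => ?_⟩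
  · refine Matrix.toLin'.injective (b.ext fun i => ?_)
    rw [Matrix.toLin'_mul, Matrix.toLin'_mul, LinearMap.comp_apply, LinearMap.comp_apply,
      Matrix.toLin'_toMatrix', Matrix.toLin'_apply, Matrix.toLin'_apply, hb, mulVec_mulVec, ← pow_succ',
      hf, hf, mulVec_mulVec, ← pow_succ']
  · have := hf 0
    rw [pow_zero, one_mulVec, one_mulVec] at this
    rw [← Matrix.toLin'_apply, Matrix.toLin'_toMatrix', this]
  · refine Matrix.toLin'.injective (b.ext fun i => ?_)
    rw [Matrix.toLin'_apply, Matrix.toLin'_toMatrix', hb, hf, mulVec_mulVec,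
      (Commute.pow_right (show Commute B N from hB) (i : ℕ)).eq, ← mulVec_mulVec, hBv]

/-- A commutant is invertible unless it sends the cyclic vector into the kernel of `N^(n-1)`. -/
theorem commutant_isUnit_iff (N : Matrix (Fin n) (Fin n) F) (hn : 1 ≤ n) (hnil : N ^ n = 0)
    (hr : N.rank = n - 1) (v : Fin n → F) (hv : (N ^ (n - 1)) *ᵥ v ≠ 0)
    (A : Matrix (Fin n) (Fin n) F) (hA : A * N = N * A) :
    IsUnit A ↔ (N ^ (n - 1)) *ᵥ (A *ᵥ v) ≠ 0 := by
  classical
  have hcomm : (N ^ (n - 1)) *ᵥ (A *ᵥ v) = A *ᵥ ((N ^ (n - 1)) *ᵥ v) := by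
    rw [mulVec_mulVec, mulVec_mulVec, (Commute.pow_right (show Commute A N from hA) (n - 1)).eq]
  rw [hcomm]
  constructor
  · intro hu h0
    exact hv (Matrix.mulVec_injective_of_isUnit hu (h0.trans (mulVec_zero _).symm))
  · intro hne
    rw [← Matrix.mulVec_injective_iff_isUnit]
    refine (injective_iff_map_eq_zero (Matrix.mulVecLin A).toAddMonoidHom).2 fun x hx => ?_
    by_contra hx0
    set W := LinearMap.ker (Matrix.mulVecLin A) with hW
    have hxW : x ∈ W := hx
    have hinv : ∀ z ∈ W, N *ᵥ z ∈ W := fun z hz => by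
      show A *ᵥ (N *ᵥ z) = 0
      rw [mulVec_mulVec, hA, ← mulVec_mulVec, show A *ᵥ z = 0 from hz, mulVec_zero]
    have heq := eq_ker_pow_of_invariant N (by rw [hr, Fintype.card_fin]; omega) ⟨n, hnil⟩ W hinv
    have hd : Module.finrank F W ≠ 0 := fun h0 => hx0 (by
      have := Submodule.finrank_eq_zero.1 h0
      rw [this] at hxW; exact hxW)
    obtain ⟨d, hd'⟩ := Nat.exists_eq_succ_of_ne_zero hd
    refine hne (show (N ^ (n - 1)) *ᵥ v ∈ W from ?_)
    rw [heq, LinearMap.mem_ker, mulVecLin_apply, mulVec_mulVec, ← pow_add, hd',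
      show d + 1 + (n - 1) = n + d by omega, pow_add, hnil, zero_mul, zero_mulVec]

theorem card_ker_pow_pred [Fintype F] (N : Matrix (Fin n) (Fin n) F) (hn : 1 ≤ n) (hnil : N ^ n = 0)
    (hr : N.rank = n - 1) :
    Nat.card {w : Fin n → F // (N ^ (n - 1)) *ᵥ w = 0} = Fintype.card F ^ (n - 1) := by
  have h1 := finrank_ker_pow_le N (by rw [hr, Fintype.card_fin]; omega) (n - 1)
  have h2 : LinearMap.range N.mulVecLin ≤ LinearMap.ker (Matrix.mulVecLin (N ^ (n - 1))) := by
    rintro _ ⟨x, rfl⟩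
    rw [LinearMap.mem_ker, mulVecLin_apply, mulVecLin_apply, mulVec_mulVec, ← pow_succ,
      Nat.sub_add_cancel hn, hnil, zero_mulVec]
  have h3 := Submodule.finrank_mono h2
  have h4 : Module.finrank F (LinearMap.range N.mulVecLin) = n - 1 := hr
  have h5 : Module.finrank F (LinearMap.ker (Matrix.mulVecLin (N ^ (n - 1)))) = n - 1 := by omega
  conv_rhs => rw [← h5, ← Nat.card_eq_fintype_card, ← Module.natCard_eq_pow_finrank]
  rfl

theorem card_centralizer_regular [Fintype F] (u : GL (Fin n) F) (hn : 1 ≤ n)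
    (hnil : (u.1 - 1) ^ n = 0) (hr : (u.1 - 1).rank = n - 1) :
    Nat.card ↥(Subgroup.centralizer ({u} : Set (GL (Fin n) F))) =
      (Fintype.card F - 1) * Fintype.card F ^ (n - 1) := by
  classical
  set N := u.1 - 1 with hN
  obtain ⟨v, hv⟩ := exists_cyclic_vector N hn hr
  have hcomm : ∀ A : Matrix (Fin n) (Fin n) F, A * u.1 = u.1 * A ↔ A * N = N * A := fun A => by
    rw [hN, mul_sub, sub_mul, mul_one, one_mul, sub_left_inj]
  have hC : ∀ g : GL (Fin n) F, g ∈ Subgroup.centralizer ({u} : Set (GL (Fin n) F)) ↔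
      g.1 * N = N * g.1 := fun g => by
    rw [Subgroup.mem_centralizer_singleton_iff, ← hcomm, Units.ext_iff, Units.val_mul, Units.val_mul]
  let e : ↥(Subgroup.centralizer ({u} : Set (GL (Fin n) F))) →
      {w : Fin n → F // ¬(N ^ (n - 1)) *ᵥ w = 0} := fun g =>
    ⟨g.1.1 *ᵥ v, (commutant_isUnit_iff N hn hnil hr v hv g.1.1 ((hC g.1).1 g.2)).1 g.1.isUnit⟩
  have he : Function.Bijective e := by
    refine ⟨fun g h hgh => ?_, fun w => ?_⟩
    · obtain ⟨A, -, hAu⟩ := exists_commutant N hn hnil hr v hv (g.1.1 *ᵥ v)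
      exact Subtype.ext (Units.ext ((hAu _ ⟨(hC g.1).1 g.2, rfl⟩).trans
        (hAu _ ⟨(hC h.1).1 h.2, (congrArg Subtype.val hgh).symm⟩).symm))
    · obtain ⟨A, ⟨hA, hAv⟩, -⟩ := exists_commutant N hn hnil hr v hv w.1
      have hu : IsUnit A := (commutant_isUnit_iff N hn hnil hr v hv A hA).2 (by rw [hAv]; exact w.2)
      exact ⟨⟨hu.unit, (hC _).2 hA⟩, Subtype.ext hAv⟩
  rw [Nat.card_eq_of_bijective e he, Nat.card_eq_fintype_card, Fintype.card_subtype_compl,
    ← Nat.card_eq_fintype_card (α := {w : Fin n → F // (N ^ (n - 1)) *ᵥ w = 0}),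
    card_ker_pow_pred N hn hnil hr, Fintype.card_pi_const, Nat.sub_mul, one_mul,
    ← pow_succ', Nat.sub_add_cancel hn]

end CfsgLib.KnownC
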