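import Cfsg.Agent.Lib.KnownC.RegularUnipotentCentralizer

set_option autoImplicit false

/-!
Classes of regular unipotent elements in `GL_n` and `SL_n`.
-/

namespace CfsgLib.KnownC

open Matrix

variable {F : Type*} [Field F] {n : ℕ}

/-- The nilpotent shift. -/
def shiftMat (n : ℕ) (F : Type*) [Field F] : Matrix (Fin n) (Fin n) F :=
  Matrix.of fun i j => if (j : ℕ) = i + 1 then 1 else 0

theorem shiftMat_pow_mulVec (k : ℕ) (v : Fin n → F) (i : Fin n) :
    ((shiftMat n F) ^ k *ᵥ v) i = if h : (i : ℕ) + k < n then v ⟨i + k, h⟩ else 0 := by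
  induction k generalizing v with
  | zero => simp
  | succ k ih =>
    rw [pow_succ, ← mulVec_mulVec, ih]
    by_cases h : (i : ℕ) + k < n
    · rw [dif_pos h]
      by_cases h' : (i : ℕ) + (k + 1) < n
      · rw [dif_pos h', mulVec, dotProduct, Finset.sum_eq_single ⟨i + (k + 1), h'⟩]
        · simp [shiftMat, add_assoc]
        · intro j _ hj
          rw [shiftMat, Matrix.of_apply, if_neg fun e => hj (Fin.ext (by simpa [add_assoc] using e)),
            zero_mul]
        · intro hh; exact absurd (Finset.mem_univ _) hh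
      · rw [dif_neg h', mulVec, dotProduct]
        refine Finset.sum_eq_zero fun j _ => ?_
        rw [shiftMat, Matrix.of_apply, if_neg (by
          have := j.isLt
          show (j : ℕ) ≠ i + k + 1
          omega), zero_mul]
    · rw [dif_neg h, dif_neg (by omega)]

theorem shiftMat_regular (hn : 1 ≤ n) :
    (shiftMat n F) ^ n = 0 ∧ (shiftMat n F).rank = n - 1 := by
  refine ⟨Matrix.ext_iff_mulVec.2 fun v => ?_, ?_⟩
  · funext i
    rw [shiftMat_pow_mulVec, dif_neg (by omega), zero_mulVec]; rfl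
  have hker : LinearMap.ker (shiftMat n F).mulVecLin =
      Submodule.span F {(Pi.single ⟨0, hn⟩ 1 : Fin n → F)} := by
    refine le_antisymm (fun v hv => ?_) ?_
    · rw [Submodule.mem_span_singleton]
      refine ⟨v ⟨0, hn⟩, funext fun i => ?_⟩
      by_cases hi : (i : ℕ) = 0
      · have : i = ⟨0, hn⟩ := Fin.ext hi
        subst this; simp
      · have hlt : (i : ℕ) - 1 + 1 < n := by omega
        have h2 := shiftMat_pow_mulVec 1 v (⟨(i : ℕ) - 1, by omega⟩ : Fin n)
        rw [pow_one, dif_pos hlt, show shiftMat n F *ᵥ v = 0 from hv, Pi.zero_apply] at h2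
        have hi2 : (⟨(i : ℕ) - 1 + 1, hlt⟩ : Fin n) = i := Fin.ext (by show (i : ℕ) - 1 + 1 = i; omega)
        rw [hi2] at h2
        have hne : i ≠ ⟨0, hn⟩ := fun e => hi (congrArg Fin.val e)
        simp [hne, ← h2]
    · rw [Submodule.span_singleton_le_iff_mem, LinearMap.mem_ker, mulVecLin_apply]
      funext i
      simp [shiftMat]
  have h := (shiftMat n F).mulVecLin.finrank_range_add_finrank_ker
  rw [hker, finrank_span_singleton (Pi.single_ne_zero_iff.2 one_ne_zero), Module.finrank_fin_fun] at h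
  show Module.finrank F (LinearMap.range (shiftMat n F).mulVecLin) = n - 1
  omega

/-- Regular nilpotent matrices are similar. -/
theorem exists_conj_regular (hn : 1 ≤ n) (N N' : Matrix (Fin n) (Fin n) F) (hnil : N ^ n = 0)
    (hr : N.rank = n - 1) (hnil' : N' ^ n = 0) (hr' : N'.rank = n - 1) :
    ∃ g : GL (Fin n) F, g.1 * N = N' * g.1 := by
  classical
  obtain ⟨v, hv⟩ := exists_cyclic_vector N hn hr
  obtain ⟨v', hv'⟩ := exists_cyclic_vector N' hn hr'
  obtain ⟨b, hb⟩ := exists_cyclic_basis N hn hnil hr v hv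
  obtain ⟨b', hb'⟩ := exists_cyclic_basis N' hn hnil' hr' v' hv'
  let e := b.equiv b' (Equiv.refl _)
  have he : ∀ k : ℕ, e ((N ^ k) *ᵥ v) = (N' ^ k) *ᵥ v' := fun k => by
    rcases Nat.lt_or_ge k n with hk | hk
    · have := b.equiv_apply ⟨k, hk⟩ b' (Equiv.refl _)
      rw [hb, Equiv.refl_apply, hb'] at this
      exact this
    · obtain ⟨d, rfl⟩ := Nat.exists_eq_add_of_le hk
      rw [pow_add, pow_add, hnil, hnil', zero_mul, zero_mul, zero_mulVec, zero_mulVec, map_zero]
  have hu : IsUnit (LinearMap.toMatrix' e.toLinearMap) := by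
    rw [Matrix.isUnit_iff_isUnit_det, LinearMap.det_toMatrix']
    exact e.isUnit_det'
  refine ⟨hu.unit, Matrix.toLin'.injective (b.ext fun i => ?_)⟩
  show Matrix.toLin' (LinearMap.toMatrix' e.toLinearMap * N) (b i) =
    Matrix.toLin' (N' * LinearMap.toMatrix' e.toLinearMap) (b i)
  rw [Matrix.toLin'_mul, Matrix.toLin'_mul, LinearMap.comp_apply, LinearMap.comp_apply,
    Matrix.toLin'_toMatrix', Matrix.toLin'_apply, Matrix.toLin'_apply, hb, mulVec_mulVec, ← pow_succ']
  show e _ = N' *ᵥ e _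
  rw [he, he, mulVec_mulVec, ← pow_succ']

/-- Determinants in the centraliser of a regular nilpotent matrix are `n`-th powers. -/
theorem det_commutant (N : Matrix (Fin n) (Fin n) F) (hn : 1 ≤ n) (hnil : N ^ n = 0)
    (hr : N.rank = n - 1) (A : Matrix (Fin n) (Fin n) F) (hA : A * N = N * A) :
    ∃ c : F, A.det = c ^ n := by
  classical
  obtain ⟨v, hv⟩ := exists_cyclic_vector N hn hr
  obtain ⟨b, hb⟩ := exists_cyclic_basis N hn hnil hr v hv
  obtain ⟨c, hc⟩ : ∃ c : Fin n → F, A = ∑ i, c i • N ^ (i : ℕ) := by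
    refine ⟨b.repr (A *ᵥ v), (exists_commutant N hn hnil hr v hv (A *ᵥ v)).unique ⟨hA, rfl⟩ ⟨?_, ?_⟩⟩
    · rw [Finset.sum_mul, Finset.mul_sum]
      exact Finset.sum_congr rfl fun i _ => by rw [smul_mul_assoc, mul_smul_comm, ← pow_succ, ← pow_succ']
    · conv_rhs => rw [← b.sum_repr (A *ᵥ v)]
      rw [sum_mulVec]
      exact Finset.sum_congr rfl fun i _ => by rw [smul_mulVec, hb]
  refine ⟨c ⟨0, hn⟩, ?_⟩
  set c0 := c ⟨0, hn⟩ with hc0
  have hsplit : A - c0 • 1 = ∑ i ∈ Finset.univ.erase (⟨0, hn⟩ : Fin n), c i • N ^ (i : ℕ) := by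
    rw [hc, ← Finset.add_sum_erase _ _ (Finset.mem_univ (⟨0, hn⟩ : Fin n)), pow_zero, hc0,
      add_sub_cancel_left]
  have hnilA : IsNilpotent (A - c0 • 1) := by
    rw [hsplit]
    refine Commute.isNilpotent_sum (fun i hi => ?_) fun i j _ _ => ?_
    · obtain ⟨k, hk⟩ := Nat.exists_eq_succ_of_ne_zero
        (show (i : ℕ) ≠ 0 from fun e => (Finset.ne_of_mem_erase hi) (Fin.ext e))
      refine IsNilpotent.smul ?_ _
      exact ⟨n, by rw [hk, ← pow_mul, mul_comm, pow_mul, hnil, zero_pow (by omega)]⟩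
    · exact ((Commute.pow_pow_self N _ _).smul_left _).smul_right _
  have h1 := Matrix.isNilpotent_charpoly_sub_pow_of_isNilpotent hnilA.neg
  have hsc : -(A - c0 • 1) = Matrix.scalar (Fin n) c0 - A := by
    rw [neg_sub, scalar_apply, smul_one_eq_diagonal]
  have h3 : ((Matrix.scalar (Fin n) c0 - A).charpoly) = Polynomial.X ^ n := sub_eq_zero.1 (isNilpotent_iff_eq_zero.1 (by rw [← hsc]; simpa [hsc, Fintype.card_fin] using h1))
  have h4 := congrArg (Polynomial.eval c0) h3
  rw [Matrix.eval_charpoly, sub_sub_cancel, Polynomial.eval_pow, Polynomial.eval_X] at h4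
  exact h4

end CfsgLib.KnownC
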