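import Mathlib

set_option autoImplicit false

/-!
Elementary identities of abstract Shintani descent for an automorphism of a group.
-/

namespace CfsgLib.KnownC

variable {X : Type*} [Group X] (σ : MulAut X)

theorem mem_eqLocus_id_iff (τ : MulAut X) (x : X) :
    x ∈ (MulEquiv.toMonoidHom τ).eqLocus (MonoidHom.id X) ↔ τ x = x :=
  Iff.rfl

/-- Two Lang quotients agree iff the ratio is fixed. -/
theorem lang_eq_iff (x y : X) : x * (σ x)⁻¹ = y * (σ y)⁻¹ ↔ σ (y⁻¹ * x) = y⁻¹ * x := by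
  rw [map_mul, map_inv, mul_inv_eq_iff_eq_mul]
  constructor
  · intro h
    nth_rewrite 2 [h]
    group
  · intro h
    calc x = y * (y⁻¹ * x) := by group
      _ = y * ((σ y)⁻¹ * σ x) := by rw [h]
      _ = _ := by group

theorem mulAut_pow_succ' (n : ℕ) (x : X) : (σ ^ (n + 1)) x = (σ ^ n) (σ x) := by
  rw [pow_succ, MulAut.mul_apply]

theorem mulAut_pow_comm (n : ℕ) (x : X) : σ ((σ ^ n) x) = (σ ^ n) (σ x) := by
  rw [← MulAut.mul_apply, ← MulAut.mul_apply, ← pow_succ', pow_succ]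

theorem mulAut_pow_fixed {x : X} (h : σ x = x) (n : ℕ) : (σ ^ n) x = x := by
  induction n with
  | zero => simp
  | succ n ih => rw [mulAut_pow_succ', h, ih]

/-- The norm of a Lang quotient telescopes. -/
theorem lang_norm (a : X) (d : ℕ) :
    ((List.range d).map (fun i => (σ ^ i) (a * (σ a)⁻¹))).prod = a * ((σ ^ d) a)⁻¹ := by
  induction d with
  | zero => simp
  | succ d ih =>
    rw [List.range_succ, List.map_append, List.prod_append, ih, List.map_singleton, List.prod_singleton,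
      map_mul, map_inv, ← mulAut_pow_succ']
    group

/-- The Shintani image of a `σ^e`-fixed Lang quotient is `σ`-fixed. -/
theorem shintani_fixed (e : ℕ) (a : X) (hg : (σ ^ e) (a * (σ a)⁻¹) = a * (σ a)⁻¹) :
    σ (((σ ^ e) a)⁻¹ * a) = ((σ ^ e) a)⁻¹ * a := by
  have hlang : (σ ^ e) a * (σ ((σ ^ e) a))⁻¹ = a * (σ a)⁻¹ := by
    rw [mulAut_pow_comm, ← map_inv, ← map_mul, hg]
  have h := (lang_eq_iff σ _ _).1 hlang.symm
  exact h

/-- Conjugation by `a⁻¹` takes the twisted centralizer onto the centralizer of the Shintani image. -/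
theorem shintani_centralizer (e : ℕ) (a k : X) :
    ((σ ^ e) k = k ∧ k * (a * (σ a)⁻¹) * (σ k)⁻¹ = a * (σ a)⁻¹) ↔
      (σ (a⁻¹ * k * a) = a⁻¹ * k * a ∧
        (a⁻¹ * k * a) * (((σ ^ e) a)⁻¹ * a) = (((σ ^ e) a)⁻¹ * a) * (a⁻¹ * k * a)) := by
  have h1 : k * (a * (σ a)⁻¹) * (σ k)⁻¹ = a * (σ a)⁻¹ ↔ σ (a⁻¹ * k * a) = a⁻¹ * k * a := by
    have := lang_eq_iff σ (k * a) a
    rw [map_mul σ k a] at this
    rw [show k * (a * (σ a)⁻¹) * (σ k)⁻¹ = k * a * (σ k * σ a)⁻¹ by group, this]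
    simp [mul_assoc]
  have h2 : σ (a⁻¹ * k * a) = a⁻¹ * k * a →
      ((σ ^ e) k = k ↔
        (a⁻¹ * k * a) * (((σ ^ e) a)⁻¹ * a) = (((σ ^ e) a)⁻¹ * a) * (a⁻¹ * k * a)) := by
    intro hfix
    have h' := mulAut_pow_fixed σ hfix e
    rw [map_mul, map_mul, map_inv] at h'
    have hk : (σ ^ e) k = (σ ^ e) a * (a⁻¹ * k * a) * ((σ ^ e) a)⁻¹ := by rw [← h']; group
    rw [hk]
    constructor
    · intro h
      calc (a⁻¹ * k * a) * (((σ ^ e) a)⁻¹ * a)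
          = ((σ ^ e) a)⁻¹ * ((σ ^ e) a * (a⁻¹ * k * a) * ((σ ^ e) a)⁻¹) * a := by group
        _ = _ := by rw [h]; group
    · intro h
      calc (σ ^ e) a * (a⁻¹ * k * a) * ((σ ^ e) a)⁻¹
          = (σ ^ e) a * ((a⁻¹ * k * a) * (((σ ^ e) a)⁻¹ * a)) * a⁻¹ := by group
        _ = _ := by rw [h]; group
  exact ⟨fun ⟨hk, hkg⟩ => ⟨h1.1 hkg, (h2 (h1.1 hkg)).1 hk⟩, fun ⟨hh, hc⟩ => ⟨(h2 hh).2 hc, h1.2 hh⟩⟩

end CfsgLib.KnownC
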