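import Mathlib

/-!
The centraliser of an element of primitive prime order in `GL_n(q)`.
-/

set_option autoImplicit false

namespace CfsgLib.KnownC

open Polynomial Matrix
open scoped MatrixGroups

theorem centralizer_primitive_prime {F : Type*} [Field F] [Fintype F] {p q : ℕ} [Fact p.Prime]
    [CharP F p] (hF : Fintype.card F = q) {n r : ℕ} (hn : 1 ≤ n) (hr : r.Prime) (hrp : r ≠ p)
    (hi : orderOf (q : ZMod r) = n) (x : GL (Fin n) F) (hx : orderOf x = r) :
    IsCyclic ↥(Subgroup.centralizer ({x} : Set (GL (Fin n) F))) ∧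
      Nat.card ↥(Subgroup.centralizer ({x} : Set (GL (Fin n) F))) = q ^ n - 1 := by
  classical
  haveI : Fact r.Prime := ⟨hr⟩
  set M : Matrix (Fin n) (Fin n) F := (x : Matrix (Fin n) (Fin n) F) with hM
  have hrF : (r : F) ≠ 0 := fun h => hrp
    ((Nat.prime_dvd_prime_iff_eq (Fact.out : p.Prime) hr).1 ((CharP.cast_eq_zero_iff F p r).1 h)).symm
  obtain ⟨Φ, hΦ⟩ : ∃ Φ : F[X], Φ = ∑ i ∈ Finset.range r, X ^ i := ⟨_, rfl⟩
  have hfac : (X - C 1) * Φ = X ^ r - 1 := by
    rw [hΦ, map_one, mul_comm, geom_sum_mul]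
  have hΦ1 : Φ.eval 1 ≠ 0 := by
    rw [hΦ, eval_finsetSum]
    simpa using hrF
  have hMr : M ^ r = 1 := by
    rw [hM, ← Units.val_pow_eq_pow_val, ← hx, pow_orderOf_eq_one, Units.val_one]
  have hM1 : M ≠ 1 := fun h => by
    rw [show x = 1 from Units.ext h, orderOf_one] at hx
    exact hr.one_lt.ne hx
  have hdvd : minpoly F M ∣ (X - C 1) * Φ := by
    rw [hfac]
    exact minpoly.dvd F M (by simp [hMr])
  have hncop : ¬ IsCoprime (minpoly F M) Φ := fun h => hM1 (by
    have h' := minpoly.aeval F M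
    obtain ⟨c, hc⟩ := h.dvd_of_dvd_mul_right hdvd
    have h2 : aeval M (X - C 1 : F[X]) = 0 := by rw [hc, map_mul, h', zero_mul]
    rw [map_sub, aeval_X, aeval_C, map_one, sub_eq_zero] at h2
    exact h2)
  obtain ⟨f, hfirr, hfg, hfΦ⟩ : ∃ f : F[X], Irreducible f ∧ f ∣ minpoly F M ∧ f ∣ Φ := by
    have hg : ¬ IsUnit (EuclideanDomain.gcd (minpoly F M) Φ) := fun h =>
      hncop (EuclideanDomain.gcd_isUnit_iff.1 h)
    have hg0 : EuclideanDomain.gcd (minpoly F M) Φ ≠ 0 := fun h =>
      minpoly.ne_zero (Matrix.isIntegral M) (EuclideanDomain.gcd_eq_zero_iff.1 h).1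
    obtain ⟨f, hf, hfd⟩ := WfDvdMonoid.exists_irreducible_factor hg hg0
    exact ⟨f, hf, hfd.trans (EuclideanDomain.gcd_dvd_left _ _),
      hfd.trans (EuclideanDomain.gcd_dvd_right _ _)⟩
  have : Fact (Irreducible f) := ⟨hfirr⟩
  let pb := AdjoinRoot.powerBasis hfirr.ne_zero
  have : Module.Finite F (AdjoinRoot f) := pb.finite
  have : Finite (AdjoinRoot f) := Module.finite_of_finite F
  have hcardK : Nat.card (AdjoinRoot f) = q ^ f.natDegree := by
    rw [Module.natCard_eq_pow_finrank (K := F), Nat.card_eq_fintype_card, hF, pb.finrank,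
      AdjoinRoot.powerBasis_dim]
  obtain ⟨c, hc⟩ := hfΦ
  have hev : eval₂ (AdjoinRoot.of f) (AdjoinRoot.root f) Φ = 0 := by
    rw [hc, eval₂_mul, AdjoinRoot.eval₂_root, zero_mul]
  have hzr : AdjoinRoot.root f ^ r = 1 := by
    have h2 := congrArg (eval₂ (AdjoinRoot.of f) (AdjoinRoot.root f)) hfac
    rw [eval₂_mul, hev, mul_zero, eval₂_sub, eval₂_pow, eval₂_X, eval₂_one] at h2
    exact sub_eq_zero.1 h2.symm
  have hz1 : AdjoinRoot.root f ≠ 1 := by
    intro h
    rw [h] at hev
    have h3 : eval₂ (AdjoinRoot.of f) (AdjoinRoot.of f 1) Φ = AdjoinRoot.of f (Φ.eval 1) :=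
      eval₂_at_apply _ _
    rw [map_one, hev] at h3
    exact hΦ1 ((map_eq_zero (AdjoinRoot.of f)).1 h3.symm)
  have hdn : n ∣ f.natDegree := by
    have hz0 : AdjoinRoot.root f ≠ 0 := fun h => by
      rw [h, zero_pow hr.ne_zero] at hzr; exact zero_ne_one hzr
    have ho : orderOf (Units.mk0 _ hz0) = r := orderOf_eq_prime (Units.ext (by simpa using hzr))
      (fun h => hz1 (congrArg Units.val h))
    have hd := orderOf_dvd_natCard (Units.mk0 _ hz0)
    rw [ho, Nat.card_units, hcardK] at hd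
    rw [← hi, orderOf_dvd_iff_pow_eq_one]
    have h1 := (ZMod.natCast_eq_zero_iff (q ^ f.natDegree - 1) r).2 hd
    rw [Nat.cast_sub (Nat.one_le_pow _ _ (hF ▸ Fintype.card_pos)), Nat.cast_pow, Nat.cast_one,
      sub_eq_zero] at h1
    exact h1
  have hdeg : (minpoly F M).natDegree ≤ n := by
    have := natDegree_le_of_dvd (Matrix.minpoly_dvd_charpoly M) (Matrix.charpoly_monic M).ne_zero
    rwa [Matrix.charpoly_natDegree_eq_dim, Fintype.card_fin] at this
  have hfn : f.natDegree = n := by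
    have h1 := natDegree_le_of_dvd hfg (minpoly.ne_zero (Matrix.isIntegral M))
    have h2 := Nat.le_of_dvd hfirr.natDegree_pos hdn
    omega
  have hfM : aeval M f = 0 := by
    obtain ⟨d, hd⟩ := hfg
    have hd0 : d ≠ 0 := fun h => minpoly.ne_zero (Matrix.isIntegral M) (by rw [hd, h, mul_zero])
    have hdd : d.natDegree = 0 := by
      have := natDegree_mul hfirr.ne_zero hd0
      rw [← hd, hfn] at this
      omega
    obtain ⟨a, ha⟩ := natDegree_eq_zero.1 hdd
    have h0 := minpoly.aeval F M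
    rw [hd, map_mul, ← ha, aeval_C] at h0
    have ha0 : a ≠ 0 := fun h => hd0 (by rw [← ha, h, map_zero])
    rw [← Algebra.commutes, ← Algebra.smul_def, smul_eq_zero] at h0
    exact h0.resolve_left ha0
  let φ : AdjoinRoot f →ₐ[F] Matrix (Fin n) (Fin n) F :=
    Ideal.Quotient.liftₐ (Ideal.span {f}) (aeval M) fun a ha => by
      obtain ⟨b, rfl⟩ := Ideal.mem_span_singleton.1 ha
      rw [map_mul, hfM, zero_mul]
  haveI : Nonempty (Fin n) := ⟨⟨0, hn⟩⟩
  have hφinj : Function.Injective φ := φ.toRingHom.injective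
  have hφroot : φ (AdjoinRoot.root f) = M := aeval_X M
  have hcomm : ∀ g : Matrix (Fin n) (Fin n) F, g * M = M * g → ∀ a, g * φ a = φ a * g := by
    intro g hg a
    obtain ⟨P, rfl⟩ := AdjoinRoot.mk_surjective a
    have e : φ (AdjoinRoot.mk f P) = aeval M P := rfl
    rw [e]
    induction P using Polynomial.induction_on' with
    | add p r hp hr => rw [map_add, mul_add, add_mul, hp rfl, hr rfl]
    | monomial k c =>
      rw [aeval_monomial]
      exact ((Algebra.commute_algebraMap_right c g).mul_right ((show Commute g M from hg).pow_right k)).eq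
  obtain ⟨v, hv⟩ : ∃ v : Fin n → F, v ≠ 0 := exists_ne 0
  have hact_inj : ∀ a b, φ a *ᵥ v = φ b *ᵥ v → a = b := by
    intro a b h
    by_contra hab
    have hu : IsUnit (φ (a - b)) := (isUnit_iff_ne_zero.2 (sub_ne_zero.2 hab)).map φ
    refine hv (Matrix.mulVec_injective_of_isUnit hu ?_)
    simp only [map_sub, Matrix.sub_mulVec, h, sub_self, Matrix.mulVec_zero]
  have hsurj : ∀ w : Fin n → F, ∃ a, φ a *ᵥ v = w := by
    have : Fintype (AdjoinRoot f) := Fintype.ofFinite _
    have hb : Function.Bijective fun a => φ a *ᵥ v :=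
      (Fintype.bijective_iff_injective_and_card _).2 ⟨fun a b h => hact_inj a b h, by
        rw [← Nat.card_eq_fintype_card, hcardK, hfn, Fintype.card_fun, hF, Fintype.card_fin]⟩
    exact fun w => hb.2 w
  let Ψ : (AdjoinRoot f)ˣ →* Subgroup.centralizer ({x} : Set (GL (Fin n) F)) :=
    (Units.map φ.toMonoidHom).codRestrict _ fun a => Subgroup.mem_centralizer_singleton_iff.2
      (Units.ext (by
        show φ a * M = M * φ a
        rw [← hφroot, ← map_mul, ← map_mul, mul_comm]))
  have hΨ : Function.Bijective Ψ := by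
    refine ⟨fun a b h => Units.ext (hφinj (congrArg Units.val (congrArg Subtype.val h))), fun g => ?_⟩
    have hgM : ((g : GL (Fin n) F) : Matrix (Fin n) (Fin n) F) * M =
        M * ((g : GL (Fin n) F) : Matrix (Fin n) (Fin n) F) := by
      have := congrArg Units.val (Subgroup.mem_centralizer_singleton_iff.1 g.2)
      simpa using this
    obtain ⟨a, ha⟩ := hsurj (((g : GL (Fin n) F) : Matrix (Fin n) (Fin n) F) *ᵥ v)
    have heq : φ a = ((g : GL (Fin n) F) : Matrix (Fin n) (Fin n) F) := by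
      refine Matrix.ext_of_mulVec_single fun i => ?_
      obtain ⟨b, hb⟩ := hsurj (Pi.single i 1)
      rw [← hb, Matrix.mulVec_mulVec, Matrix.mulVec_mulVec, hcomm _ hgM b, ← map_mul, mul_comm a b,
        map_mul, ← Matrix.mulVec_mulVec, ← Matrix.mulVec_mulVec, ha]
    have ha0 : a ≠ 0 := fun h => (g : GL (Fin n) F).ne_zero (by rw [← heq, h, map_zero])
    exact ⟨Units.mk0 a ha0, Subtype.ext (Units.ext heq)⟩
  let e := MulEquiv.ofBijective Ψ hΨ
  refine ⟨e.isCyclic.1 inferInstance, ?_⟩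
  rw [← Nat.card_congr e.toEquiv, Nat.card_units, hcardK, hfn]

end CfsgLib.KnownC
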