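import Cfsg.Agent.Lib.KnownC.SpNilpModel

/-!
Every skew nilpotent map of a symplectic space over a finite field of odd order has a normal form.
-/

set_option autoImplicit false
set_option linter.unusedSectionVars false
set_option linter.unusedVariables false

namespace CfsgLib.KnownC.SpNilp

open Finset

variable {F : Type*} [Field F] {V : Type*} [AddCommGroup V] [Module F V]
  {ω : V →ₗ[F] V →ₗ[F] F} {N : Module.End F V} {ν : F}

/-- Nondegeneracy on a subspace. -/
def Sep (ω : V →ₗ[F] V →ₗ[F] F) (W : Submodule F V) : Prop :=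
  ∀ x ∈ W, (∀ y ∈ W, ω x y = 0) → x = 0

theorem anti (halt : ∀ v, ω v v = 0) (x y : V) : ω x y = -ω y x := by
  have h := halt (x + y)
  simp only [map_add, LinearMap.add_apply, halt] at h
  linear_combination h

theorem shift_form (hN : ∀ x y, ω (N x) y = -ω x (N y)) (k r : ℕ) (a b : V) :
    ω ((N ^ k) a) ((N ^ r) b) = (-1) ^ r * ω ((N ^ (k + r)) a) b := by
  have h := skew_pow hN r ((N ^ k) a) b
  rw [← Module.End.mul_apply, ← pow_add, add_comm r k] at h
  rw [h, ← mul_assoc, ← mul_pow, neg_one_mul, neg_neg, one_pow, one_mul]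

theorem swap_form (halt : ∀ v, ω v v = 0) (hN : ∀ x y, ω (N x) y = -ω x (N y)) (k : ℕ) (a b : V) :
    ω ((N ^ k) a) b = -((-1) ^ k * ω ((N ^ k) b) a) := by
  rw [anti halt ((N ^ k) a) b, skew_pow hN k b a, ← mul_assoc, ← mul_pow, neg_one_mul, neg_neg,
    one_pow, one_mul]

theorem self_even (h2 : (2 : F) ≠ 0) (halt : ∀ v, ω v v = 0)
    (hN : ∀ x y, ω (N x) y = -ω x (N y)) {k : ℕ} (hk : Even k) (z : V) :
    ω ((N ^ k) z) z = 0 := by
  have h := swap_form halt hN k z z
  rw [hk.neg_one_pow, one_mul] at h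
  exact (mul_eq_zero.1 (show (2 : F) * ω ((N ^ k) z) z = 0 by linear_combination h)).resolve_left h2

theorem perturb (hN : ∀ x y, ω (N x) y = -ω x (N y)) (z y : V) (c : F) (r k : ℕ) :
    ω ((N ^ k) (z + c • (N ^ r) y)) (z + c • (N ^ r) y) =
      ω ((N ^ k) z) z + c * ((-1) ^ r * ω ((N ^ (k + r)) z) y + ω ((N ^ (k + r)) y) z) +
        c * c * ((-1) ^ r * ω ((N ^ (k + r + r)) y) y) := by
  simp only [map_add, map_smul, LinearMap.add_apply, LinearMap.smul_apply, smul_eq_mul,
    ← Module.End.mul_apply, ← pow_add, shift_form hN]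
  ring

variable {W : Submodule F V}

theorem pow_mem (hW : ∀ v ∈ W, N v ∈ W) : ∀ (k : ℕ), ∀ v ∈ W, (N ^ k) v ∈ W := by
  intro k
  induction k with
  | zero => intro v hv; simpa using hv
  | succ k ih => intro v hv; rw [pow_succ, Module.End.mul_apply]; exact ih _ (hW v hv)

theorem kill {j : ℕ} (hj : ∀ y ∈ W, (N ^ j) y = 0) {v : V} (hv : v ∈ W) {k : ℕ} (hk : j ≤ k) :
    (N ^ k) v = 0 := pow_eq_zero_of_le (hj v hv) hk

/-- An even chain can be made to pair only in top degree. -/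
theorem norm_even (h2 : (2 : F) ≠ 0) (halt : ∀ v, ω v v = 0)
    (hN : ∀ x y, ω (N x) y = -ω x (N y)) (hW : ∀ v ∈ W, N v ∈ W) {j : ℕ} (he : Even j)
    (hj : ∀ y ∈ W, (N ^ j) y = 0) (hj1 : 1 ≤ j) {a : F} (ha : a ≠ 0) {z : V} (hz : z ∈ W)
    (hza : ω ((N ^ (j - 1)) z) z = a) :
    ∀ r : ℕ, ∃ z' ∈ W, ω ((N ^ (j - 1)) z') z' = a ∧
      ∀ k, k + 1 < j → j ≤ k + 1 + r → ω ((N ^ k) z') z' = 0 := by
  intro r
  induction r with
  | zero => exact ⟨z, hz, hza, fun k h1 h2 => by omega⟩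
  | succ r ih =>
    obtain ⟨z', hz', hza', hzero⟩ := ih
    rcases Nat.even_or_odd (r + 1) with hr | hr
    · set c : F := -ω ((N ^ (j - 1 - (r + 1))) z') z' / (2 * a) with hc
      refine ⟨z' + c • (N ^ (r + 1)) z', add_mem hz' (W.smul_mem _ (pow_mem hW _ _ hz')), ?_, ?_⟩
      · rw [perturb hN, hza', kill hj hz' (by omega : j ≤ j - 1 + (r + 1)),
          kill hj hz' (by omega : j ≤ j - 1 + (r + 1) + (r + 1))]
        simp
      · intro k hk1 hk2
        rw [perturb hN, kill hj hz' (by omega : j ≤ k + (r + 1) + (r + 1)), hr.neg_one_pow]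
        rcases Nat.lt_or_ge k (j - (r + 1)) with hlt | hge
        · have hk : k = j - 1 - (r + 1) := by omega
          rw [show k + (r + 1) = j - 1 by omega, hza']
          simp only [map_zero, LinearMap.zero_apply, mul_zero, add_zero, one_mul]
          rw [hc, ← hk]
          field_simp
          ring
        · rw [hzero k hk1 (by omega), kill hj hz' (by omega : j ≤ k + (r + 1))]
          simp
    · refine ⟨z', hz', hza', fun k hk1 hk2 => ?_⟩
      rcases Nat.lt_or_ge k (j - (r + 1)) with hlt | hge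
      · refine self_even h2 halt hN ?_ z'
        obtain ⟨a', rfl⟩ := he
        obtain ⟨b', hb'⟩ := hr
        exact ⟨a' - b' - 1, by omega⟩
      · exact hzero k hk1 (by omega)

/-- In an odd pair, a chain can be made totally isotropic. -/
theorem norm_odd (h2 : (2 : F) ≠ 0) (halt : ∀ v, ω v v = 0)
    (hN : ∀ x y, ω (N x) y = -ω x (N y)) (hW : ∀ v ∈ W, N v ∈ W) {j : ℕ} (ho : Odd j)
    (hj : ∀ y ∈ W, (N ^ j) y = 0) {b : F} (hb : b ≠ 0) {x y : V} (hx : x ∈ W)
    (hy : y ∈ W) (hxy : ω ((N ^ (j - 1)) x) y = b) :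
    ∀ r : ℕ, ∃ x' ∈ W, ω ((N ^ (j - 1)) x') y = b ∧
      ∀ k, k < j → j ≤ k + 1 + r → ω ((N ^ k) x') x' = 0 := by
  have hev : Even (j - 1) := by obtain ⟨c, hc'⟩ := ho; exact ⟨c, by omega⟩
  intro r
  induction r with
  | zero =>
    refine ⟨x, hx, hxy, fun k h1 h2' => ?_⟩
    rw [show k = j - 1 by omega]
    exact self_even h2 halt hN hev x
  | succ r ih =>
    obtain ⟨x', hx', hxy', hzero⟩ := ih
    rcases Nat.even_or_odd (r + 1) with hr | hr
    · refine ⟨x', hx', hxy', fun k hk1 hk2 => ?_⟩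
      rcases Nat.lt_or_ge k (j - (r + 1)) with hlt | hge
      · refine self_even h2 halt hN ?_ x'
        obtain ⟨a', rfl⟩ := ho
        obtain ⟨b', hb'⟩ := hr
        exact ⟨a' - b', by omega⟩
      · exact hzero k hk1 (by omega)
    · set c : F := ω ((N ^ (j - 1 - (r + 1))) x') x' / (2 * b) with hc
      refine ⟨x' + c • (N ^ (r + 1)) y, add_mem hx' (W.smul_mem _ (pow_mem hW _ _ hy)), ?_, ?_⟩
      · simp only [map_add, map_smul, LinearMap.add_apply, LinearMap.smul_apply,
          ← Module.End.mul_apply, ← pow_add, hxy']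
        rw [kill hj hy (by omega : j ≤ j - 1 + (r + 1))]
        simp
      · intro k hk1 hk2
        rw [perturb hN, kill hj hy (by omega : j ≤ k + (r + 1) + (r + 1)), hr.neg_one_pow]
        rcases Nat.lt_or_ge k (j - (r + 1)) with hlt | hge
        · have hyx : ω ((N ^ (j - 1)) y) x' = -b := by
            rw [swap_form halt hN, hev.neg_one_pow, one_mul, hxy']
          have hk : k = j - 1 - (r + 1) := by omega
          rw [show k + (r + 1) = j - 1 by omega, hxy', hyx]
          simp only [map_zero, LinearMap.zero_apply, mul_zero, add_zero]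
          rw [hc, ← hk]
          field_simp
          ring
        · rw [hzero k hk1 (by omega), kill hj hx' (by omega : j ≤ k + (r + 1)),
            kill hj hy (by omega : j ≤ k + (r + 1))]
          simp

/-- Two isotropic chains can be made dual. -/
theorem norm_cross (hN : ∀ x y, ω (N x) y = -ω x (N y)) (hW : ∀ v ∈ W, N v ∈ W) {j : ℕ}
    (hj : ∀ y ∈ W, (N ^ j) y = 0) {x y : V} (hx : x ∈ W) (hy : y ∈ W)
    (hxy : ω ((N ^ (j - 1)) x) y = 1) (hyy : ∀ k, ω ((N ^ k) y) y = 0) :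
    ∀ r : ℕ, ∃ y' ∈ W, ω ((N ^ (j - 1)) x) y' = 1 ∧ (∀ k, ω ((N ^ k) y') y' = 0) ∧
      ∀ k, k + 1 < j → j ≤ k + 1 + r → ω ((N ^ k) x) y' = 0 := by
  intro r
  induction r with
  | zero => exact ⟨y, hy, hxy, hyy, fun k h1 h2 => by omega⟩
  | succ r ih =>
    obtain ⟨y', hy', hxy', hyy', hzero⟩ := ih
    set c : F := -((-1) ^ (r + 1) * ω ((N ^ (j - 1 - (r + 1))) x) y') with hc
    refine ⟨y' + c • (N ^ (r + 1)) y', add_mem hy' (W.smul_mem _ (pow_mem hW _ _ hy')), ?_, ?_, ?_⟩
    · simp only [map_add, map_smul, shift_form hN, hxy']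
      rw [kill hj hx (by omega : j ≤ j - 1 + (r + 1))]
      simp
    · intro k
      rw [perturb hN, hyy', hyy', hyy']
      ring
    · intro k hk1 hk2
      simp only [map_add, map_smul, shift_form hN, smul_eq_mul]
      rcases Nat.lt_or_ge k (j - (r + 1)) with hlt | hge
      · have hk : k = j - 1 - (r + 1) := by omega
        rw [show k + (r + 1) = j - 1 by omega, hxy', hc, ← hk]
        have h1 : ((-1 : F) ^ (r + 1)) * (-1) ^ (r + 1) = 1 := by
          rw [← mul_pow, neg_one_mul, neg_neg, one_pow]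
        linear_combination -(ω ((N ^ k) x) y') * h1
      · rw [hzero k hk1 (by omega), kill hj hx (by omega : j ≤ k + (r + 1))]
        simp

/-! ### Assembling -/

variable {ι : Type*} [Fintype ι] [DecidableEq ι] {T : ι → ℕ × Bool}

/-- The complement of the span of a decomposition. -/
def Dec.orth {U : Submodule F V} (D : Dec ω N ν U T) (W : Submodule F V) : Submodule F V :=
  W ⊓ ⨅ u : Idx T, LinearMap.ker (ω.flip (D.bs u))

theorem Dec.mem_orth {U : Submodule F V} (D : Dec ω N ν U T) {v : V} :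
    v ∈ D.orth W ↔ v ∈ W ∧ ∀ y ∈ U, ω v y = 0 := by
  simp only [Dec.orth, Submodule.mem_inf, Submodule.mem_iInf, LinearMap.mem_ker, LinearMap.flip_apply]
  refine and_congr_right fun _ => ⟨fun h y hy => ?_, fun h u => h _ ?_⟩
  · obtain ⟨c, rfl⟩ := (SetLike.ext_iff.1 D.range_map y).2 hy
    simp [D.map_apply, h]
  · rw [← D.map_single]
    exact D.map_mem _

theorem Dec.le_of (D : Dec ω N ν W T) {W' : Submodule F V} (hW : ∀ v ∈ W', N v ∈ W')
    (hx : ∀ a, D.x a ∈ W') : W ≤ W' := by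
  rw [← D.span_eq, Submodule.span_le]
  rintro _ ⟨u, rfl⟩
  exact pow_mem hW _ _ (hx _)

theorem Dec.sup_orth {U : Submodule F V} (D : Dec ω N ν U T)
    (hN : ∀ x y, ω (N x) y = -ω x (N y)) (hν : ν ≠ 0) (hle : U ≤ W) :
    U ⊔ D.orth W = W := by
  refine le_antisymm (sup_le hle inf_le_left) fun v hv => ?_
  set c : Idx T → F := fun u => ω v (D.bs (dual u)) / wt ν u with hc
  have hmem : v - D.map c ∈ D.orth W := by
    refine Submodule.mem_inf.2 ⟨sub_mem hv (hle (D.map_mem _)), Submodule.mem_iInf _ |>.2 fun u => ?_⟩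
    rw [LinearMap.mem_ker, LinearMap.flip_apply, map_sub, LinearMap.sub_apply, ← dual_dual u,
      ← D.map_single (dual (dual u)), D.map_form hN, mform_apply,
      Finset.sum_eq_single (dual u) (fun b _ hb => by
        simp [show dual b ≠ dual (dual u) from dual_involutive.injective.ne hb]) (by simp),
      Pi.single_eq_same, mul_one, hc, div_mul_cancel₀ _ (wt_ne_zero hν _), D.map_single, sub_self]
  exact Submodule.mem_sup.2 ⟨D.map c, D.map_mem _, v - D.map c, hmem, by abel⟩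

theorem Dec.orth_invariant {U : Submodule F V} (D : Dec ω N ν U T)
    (hN : ∀ x y, ω (N x) y = -ω x (N y)) (hW : ∀ v ∈ W, N v ∈ W) :
    ∀ v ∈ D.orth W, N v ∈ D.orth W := by
  intro v hv
  rw [D.mem_orth] at hv ⊢
  refine ⟨hW v hv.1, fun y hy => ?_⟩
  rw [hN, hv.2 (N y) ?_, neg_zero]
  obtain ⟨c, rfl⟩ := (SetLike.ext_iff.1 D.range_map y).2 hy
  rw [D.map_shift]
  exact D.map_mem _

theorem Dec.orth_sep {U : Submodule F V} (D : Dec ω N ν U T)
    (hN : ∀ x y, ω (N x) y = -ω x (N y)) (hν : ν ≠ 0) (hle : U ≤ W) (hs : Sep ω W) :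
    Sep ω (D.orth W) := by
  intro x hx h
  refine hs x (D.mem_orth.1 hx).1 fun y hy => ?_
  rw [← D.sup_orth hN hν hle, Submodule.mem_sup] at hy
  obtain ⟨a, ha, b, hb, rfl⟩ := hy
  rw [map_add, (D.mem_orth.1 hx).2 a ha, h b hb, add_zero]

/-- Orthogonal decompositions combine. -/
def Dec.union {ι' : Type*} [Fintype ι'] [DecidableEq ι'] {T' : ι' → ℕ × Bool}
    {U U' : Submodule F V} (D : Dec ω N ν U T) (D' : Dec ω N ν U' T')
    (h : ∀ y ∈ U, ∀ v ∈ U', ω y v = 0) (h' : ∀ y ∈ U, ∀ v ∈ U', ω v y = 0) :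
    Dec ω N ν (U ⊔ U') (Sum.elim T T') where
  x a := match a with
    | ⟨Sum.inl i, s⟩ => D.x ⟨i, s⟩
    | ⟨Sum.inr i, s⟩ => D'.x ⟨i, s⟩
  pos i := by cases i <;> [exact D.pos _; exact D'.pos _]
  nil a := by
    rcases a with ⟨i | i, s⟩
    · exact D.nil ⟨i, s⟩
    · exact D'.nil ⟨i, s⟩
  gram a b k hk := by
    rcases a with ⟨i | i, s⟩ <;> rcases b with ⟨i' | i', s'⟩
    · rw [D.gram ⟨i, s⟩ ⟨i', s'⟩ k hk]
      refine if_congr (and_congr_right fun _ => ?_) rfl rfl
      simp only [par, Sum.inl.injEq, Sum.inr.injEq, Sigma.mk.injEq]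
      exact Sigma.mk.injEq _ _ _ _ ▸ Iff.rfl
    · rw [if_neg (fun e => Sum.inr_ne_inl (congrArg Sigma.fst e.2))]
      refine h _ ?_ _ ?_
      · exact (D.map_single ⟨⟨i, s⟩, ⟨k, hk⟩⟩).subst (motive := fun v => v ∈ U) (D.map_mem _)
      · have := (D'.map_single ⟨⟨i', s'⟩, ⟨0, D'.pos _⟩⟩).subst (motive := fun v => v ∈ U')
          (D'.map_mem _)
        simpa [Dec.bs] using this
    · rw [if_neg (fun e => Sum.inl_ne_inr (congrArg Sigma.fst e.2))]
      refine h' _ ?_ _ ?_
      · have := (D.map_single ⟨⟨i', s'⟩, ⟨0, D.pos _⟩⟩).subst (motive := fun v => v ∈ U)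
          (D.map_mem _)
        simpa [Dec.bs] using this
      · exact (D'.map_single ⟨⟨i, s⟩, ⟨k, hk⟩⟩).subst (motive := fun v => v ∈ U') (D'.map_mem _)
    · rw [D'.gram ⟨i, s⟩ ⟨i', s'⟩ k hk]
      refine if_congr (and_congr_right fun _ => ?_) rfl rfl
      simp only [par, Sum.inl.injEq, Sum.inr.injEq, Sigma.mk.injEq]
      exact Sigma.mk.injEq _ _ _ _ ▸ Iff.rfl
  span_eq := by
    conv_rhs => rw [← D.span_eq, ← D'.span_eq, ← Submodule.span_union]
    congr 1
    ext v
    constructor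
    · rintro ⟨⟨⟨i | i, s⟩, k⟩, rfl⟩
      · exact Or.inl ⟨⟨⟨i, s⟩, k⟩, rfl⟩
      · exact Or.inr ⟨⟨⟨i, s⟩, k⟩, rfl⟩
    · rintro (⟨⟨⟨i, s⟩, k⟩, rfl⟩ | ⟨⟨⟨i, s⟩, k⟩, rfl⟩)
      · exact ⟨⟨⟨Sum.inl i, s⟩, k⟩, rfl⟩
      · exact ⟨⟨⟨Sum.inr i, s⟩, k⟩, rfl⟩

/-- The normal form conditions on the types. -/
def Canon {ι : Type*} (T : ι → ℕ × Bool) : Prop :=
  (∀ i, (T i).2 = true → Even (T i).1) ∧ ∀ i i', (T i).2 = true → T i' = T i → i = i'

variable [Fintype F]

theorem exists_sq_add_sq (hodd : ringChar F ≠ 2) (c : F) : ∃ a b : F, a ^ 2 + b ^ 2 = c := by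
  classical
  open Polynomial in
  obtain ⟨a, b, h⟩ := FiniteField.exists_root_sum_quadratic (R := F) (f := X ^ 2) (g := X ^ 2 - C c)
    (degree_X_pow 2) (degree_X_pow_sub_C (by decide) _) (FiniteField.odd_card_of_char_ne_two hodd)
  refine ⟨a, b, ?_⟩
  simp at h
  linear_combination h

theorem exists_sq_mul {ν a : F} (hν : ¬IsSquare ν) (ha : ¬IsSquare a) : ∃ t : F, t * t * a = ν := by
  classical
  have hν0 : ν ≠ 0 := fun e => hν (e ▸ IsSquare.zero)
  have ha0 : a ≠ 0 := fun e => ha (e ▸ IsSquare.zero)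
  obtain ⟨s, hs⟩ : IsSquare (ν * a) := by
    rw [← quadraticChar_one_iff_isSquare (mul_ne_zero hν0 ha0), map_mul,
      quadraticChar_neg_one_iff_not_isSquare.2 hν, quadraticChar_neg_one_iff_not_isSquare.2 ha]
    norm_num
  refine ⟨s / a, ?_⟩
  field_simp
  linear_combination -hs

/-- A single even piece. -/
def evenPiece {j : ℕ} (he : Even j) (hj1 : 1 ≤ j) {b : Bool} {z : V}
    (hz : (N ^ j) z = 0) (htop : ω ((N ^ (j - 1)) z) z = if b then ν else 1)
    (hlow : ∀ k, k + 1 < j → ω ((N ^ k) z) z = 0) :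
    Dec ω N ν (Submodule.span F (Set.range fun u : Idx (fun _ : Fin 1 => (j, b)) =>
      (N ^ (u.2 : ℕ)) z)) (fun _ : Fin 1 => (j, b)) where
  x _ := z
  pos _ := hj1
  nil _ := hz
  gram a c k hk := by
    have hs : Subsingleton (Fin (mult j)) := by
      rw [mult, if_pos he]
      infer_instance
    have hc : c = par a := by
      obtain ⟨i, s⟩ := a
      obtain ⟨i', s'⟩ := c
      obtain rfl : i' = i := Subsingleton.elim _ _
      exact congrArg (Sigma.mk i') (hs.elim _ _)
    have hk' : k < j := hk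
    show ω ((N ^ k) z) z = if k + 1 = j ∧ c = par a then coef ν a else 0
    by_cases e : k + 1 = j
    · rw [if_pos ⟨e, hc⟩, show k = j - 1 by omega, htop, coef,
        if_pos (show Even ((fun _ : Fin 1 => (j, b)) a.1).1 from he)]
    · rw [if_neg fun h => e h.1, hlow k (by omega)]
  span_eq := rfl

/-- An odd pair. -/
def oddPiece (halt : ∀ v, ω v v = 0) (hN : ∀ x y, ω (N x) y = -ω x (N y)) {j : ℕ} (ho : Odd j)
    {x y : V} (hx : (N ^ j) x = 0) (hy : (N ^ j) y = 0) (hxy : ω ((N ^ (j - 1)) x) y = 1)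
    (hlow : ∀ k, k + 1 < j → ω ((N ^ k) x) y = 0) (hxx : ∀ k, k < j → ω ((N ^ k) x) x = 0)
    (hyy : ∀ k, k < j → ω ((N ^ k) y) y = 0) :
    Dec ω N ν (Submodule.span F (Set.range fun u : Idx (fun _ : Fin 1 => (j, false)) =>
      (N ^ (u.2 : ℕ)) (if (u.1.2 : ℕ) = 0 then x else y))) (fun _ : Fin 1 => (j, false)) where
  x a := if (a.2 : ℕ) = 0 then x else y
  pos _ := ho.pos
  nil a := by dsimp only; split_ifs <;> assumption
  gram a c k hk := by
    obtain ⟨i, s⟩ := a
    obtain ⟨i', s'⟩ := c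
    obtain rfl : i' = i := Subsingleton.elim _ _
    have hk' : k < j := hk
    have hne : ¬ Even j := Nat.not_even_iff_odd.2 ho
    have hm : mult j = 2 := if_neg hne
    have hs : (s : ℕ) < 2 := hm ▸ s.2
    have hs' : (s' : ℕ) < 2 := hm ▸ s'.2
    have hpar : (⟨i', s'⟩ : Slot (fun _ : Fin 1 => (j, false))) = par ⟨i', s⟩ ↔ (s' : ℕ) + s = 1 := by
      have hr : ((s.rev : Fin _) : ℕ) = 1 - (s : ℕ) := by
        rw [Fin.val_rev]
        show mult j - _ = _
        omega
      refine ⟨fun e => ?_, fun e => congrArg (Sigma.mk i') (Fin.ext ?_)⟩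
      · have : s' = s.rev := eq_of_heq (Sigma.mk.inj e).2
        rw [this, hr]; omega
      · rw [hr]; omega
    have hev : Even (j - 1) := by obtain ⟨c, hc'⟩ := ho; exact ⟨c, by omega⟩
    have hyx : ω ((N ^ (j - 1)) y) x = -1 := by
      rw [swap_form halt hN, hev.neg_one_pow, one_mul, hxy]
    show _ = if k + 1 = j ∧ _ then coef ν _ else 0
    rw [if_congr (and_congr_right fun _ => hpar) rfl rfl]
    simp only [coef, hne, if_false]
    obtain h | h : (s : ℕ) = 0 ∨ (s : ℕ) = 1 := by omega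
    all_goals obtain h' | h' : (s' : ℕ) = 0 ∨ (s' : ℕ) = 1 := by omega
    all_goals simp only [h, h', if_true, one_ne_zero, if_false, zero_add, add_zero]
    · rw [if_neg (by omega), hxx k hk']
    · by_cases e : k + 1 = j
      · rw [if_pos ⟨e, trivial⟩, show k = j - 1 by omega, hxy]
      · rw [if_neg fun h => e h.1, hlow k (by omega)]
    · by_cases e : k + 1 = j
      · rw [if_pos ⟨e, trivial⟩, show k = j - 1 by omega, hyx]
      · rw [if_neg fun h => e h.1, swap_form halt hN, hlow k (by omega), mul_zero, neg_zero]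
    · rw [if_neg (by omega), hyy k hk']
  span_eq := rfl

/-- A piece that can be split off, `ν` only if no other `ν` of that length can follow. -/
theorem exists_piece (hodd : ringChar F ≠ 2) (halt : ∀ v, ω v v = 0)
    (hN : ∀ x y, ω (N x) y = -ω x (N y)) (hν : ¬IsSquare ν) {D : ℕ} (hnil : N ^ D = 0)
    (hW : ∀ v ∈ W, N v ∈ W) (hs : Sep ω W) (hne : W ≠ ⊥) :
    ∃ (j : ℕ) (b : Bool) (U : Submodule F V) (E : Dec ω N ν U (fun _ : Fin 1 => (j, b))),
      U ≤ W ∧ (b = true → Even j ∧ ∀ v ∈ E.orth W, ω ((N ^ (j - 1)) v) v ≠ ν) := by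
  classical
  have h2 : (2 : F) ≠ 0 := Ring.two_ne_zero hodd
  have hν0 : ν ≠ 0 := fun e => hν (e ▸ IsSquare.zero)
  have hex : ∃ j, ∀ y ∈ W, (N ^ j) y = 0 := ⟨D, fun y _ => by rw [hnil, LinearMap.zero_apply]⟩
  set j := Nat.find hex with hjdef
  have hj : ∀ y ∈ W, (N ^ j) y = 0 := Nat.find_spec hex
  have hj1 : 1 ≤ j := by
    rcases Nat.eq_zero_or_pos j with h | h
    · refine absurd (eq_bot_iff.2 fun y hy => ?_) hne
      simpa [h] using hj y hy
    · exact h
  obtain ⟨x, hx, hx0⟩ : ∃ x ∈ W, (N ^ (j - 1)) x ≠ 0 := by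
    have := Nat.find_min hex (show j - 1 < j by omega)
    simpa using this
  obtain ⟨y, hy, hxy⟩ : ∃ y ∈ W, ω ((N ^ (j - 1)) x) y ≠ 0 := by
    by_contra h
    simp only [not_exists, not_and, not_not] at h
    exact hx0 (hs _ (pow_mem hW _ _ hx) h)
  rcases Nat.even_or_odd j with he | ho
  · have hsym : ω ((N ^ (j - 1)) y) x = ω ((N ^ (j - 1)) x) y := by
      have ho1 : Odd (j - 1) := by obtain ⟨c, hc⟩ := he; exact ⟨c - 1, by omega⟩
      rw [swap_form halt hN, ho1.neg_one_pow]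
      ring
    obtain ⟨z, hz, hz0⟩ : ∃ z ∈ W, ω ((N ^ (j - 1)) z) z ≠ 0 := by
      by_contra h
      simp only [not_exists, not_and, not_not] at h
      have h3 := h _ (add_mem hx hy)
      simp only [map_add, LinearMap.add_apply, h x hx, h y hy, hsym, zero_add, add_zero] at h3
      exact hxy ((mul_eq_zero.1 (show (2 : F) * ω ((N ^ (j - 1)) x) y = 0 by
        linear_combination h3)).resolve_left h2)
    by_cases h1 : ∃ z ∈ W, ω ((N ^ (j - 1)) z) z = 1
    · obtain ⟨z, hz, hz1⟩ := h1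
      obtain ⟨z', hz', htop, hlow⟩ := norm_even h2 halt hN hW he hj hj1 one_ne_zero hz hz1 j
      have E := evenPiece (ν := ν) (b := false) he hj1 (hj _ hz') htop
        (fun k hk => hlow k hk (by omega))
      refine ⟨j, false, _, E, ?_, fun h => Bool.noConfusion h⟩
      rw [Submodule.span_le]
      rintro _ ⟨u, rfl⟩
      exact pow_mem hW _ _ hz'
    · have hns : ¬IsSquare (ω ((N ^ (j - 1)) z) z) := by
        rintro ⟨s, hs'⟩
        have hs0 : s ≠ 0 := fun e => hz0 (by rw [hs', e, mul_zero])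
        refine h1 ⟨s⁻¹ • z, W.smul_mem _ hz, ?_⟩
        simp only [map_smul, LinearMap.smul_apply, smul_eq_mul, hs']
        field_simp
      obtain ⟨t, ht⟩ := exists_sq_mul hν hns
      have hzt : ω ((N ^ (j - 1)) (t • z)) (t • z) = ν := by
        simp only [map_smul, LinearMap.smul_apply, smul_eq_mul]
        linear_combination ht
      obtain ⟨z', hz', htop, hlow⟩ :=
        norm_even h2 halt hN hW he hj hj1 hν0 (W.smul_mem _ hz) hzt j
      refine ⟨j, true, _, evenPiece (ν := ν) (b := true) he hj1 (hj _ hz') htop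
        (fun k hk => hlow k hk (by omega)), ?_, fun _ => ⟨he, fun v hv hvν => ?_⟩⟩
      · rw [Submodule.span_le]
        rintro _ ⟨u, rfl⟩
        exact pow_mem hW _ _ hz'
      rw [Dec.mem_orth] at hv
      have hmz : ∀ k, k < j → ω v ((N ^ k) z') = 0 := fun k hk => hv.2 _ (Submodule.subset_span
        ⟨⟨⟨0, ⟨0, mult_pos _⟩⟩, ⟨k, hk⟩⟩, rfl⟩)
      obtain ⟨a, b, hab⟩ := exists_sq_add_sq hodd ν⁻¹
      refine h1 ⟨a • z' + b • v, add_mem (W.smul_mem _ hz') (W.smul_mem _ hv.1), ?_⟩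
      have c1 : ω ((N ^ (j - 1)) z') v = 0 := by
        rw [anti halt, hmz _ (by omega), neg_zero]
      have c2 : ω ((N ^ (j - 1)) v) z' = 0 := by rw [swap_form halt hN, c1, mul_zero, neg_zero]
      simp only [map_add, map_smul, LinearMap.add_apply, LinearMap.smul_apply, smul_eq_mul, htop,
        c1, c2, hvν, if_true]
      have h' : ν * ν⁻¹ = 1 := mul_inv_cancel₀ hν0
      linear_combination h' + ν * hab
  · set b := ω ((N ^ (j - 1)) x) y with hb
    have hxy1 : ω ((N ^ (j - 1)) x) (b⁻¹ • y) = 1 := by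
      rw [map_smul, smul_eq_mul, ← hb, inv_mul_cancel₀ hxy]
    obtain ⟨x', hx', hx'y, hxx⟩ :=
      norm_odd h2 halt hN hW ho hj one_ne_zero hx (W.smul_mem _ hy) hxy1 j
    have hev : Even (j - 1) := by obtain ⟨c, hc'⟩ := ho; exact ⟨c, by omega⟩
    have hyx : ω ((N ^ (j - 1)) (b⁻¹ • y)) x' = -1 := by
      rw [swap_form halt hN, hev.neg_one_pow, one_mul, hx'y]
    obtain ⟨y', hy', hy'x, hyy⟩ :=
      norm_odd h2 halt hN hW ho hj (neg_ne_zero.2 one_ne_zero) (W.smul_mem _ hy) hx' hyx j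
    have hx'y' : ω ((N ^ (j - 1)) x') y' = 1 := by
      rw [swap_form halt hN, hev.neg_one_pow, one_mul, hy'x, neg_neg]
    have hyall : ∀ k, ω ((N ^ k) y') y' = 0 := fun k => by
      rcases Nat.lt_or_ge k j with h | h
      · exact hyy k h (by omega)
      · rw [kill hj hy' h, map_zero, LinearMap.zero_apply]
    obtain ⟨y'', hy'', htop, hyy'', hlow⟩ := norm_cross hN hW hj hx' hy' hx'y' hyall j
    refine ⟨j, false, _, oddPiece (ν := ν) halt hN ho (hj _ hx') (hj _ hy'') htop
      (fun k hk => hlow k hk (by omega)) (fun k hk => hxx k hk (by omega)) (fun k _ => hyy'' k),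
      ?_, fun h => Bool.noConfusion h⟩
    rw [Submodule.span_le]
    rintro _ ⟨u, rfl⟩
    refine pow_mem hW _ _ ?_
    split_ifs <;> assumption

/-- Every invariant nondegenerate subspace has a normal form. -/
theorem exists_dec [FiniteDimensional F V] (hodd : ringChar F ≠ 2) (halt : ∀ v, ω v v = 0)
    (hN : ∀ x y, ω (N x) y = -ω x (N y)) (hν : ¬IsSquare ν) {D : ℕ} (hnil : N ^ D = 0) :
    ∀ (n : ℕ) (W : Submodule F V), Module.finrank F W ≤ n → (∀ v ∈ W, N v ∈ W) → Sep ω W →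
      ∃ (t : ℕ) (T : Fin t → ℕ × Bool), Nonempty (Dec ω N ν W T) ∧ Canon T := by
  classical
  have hν0 : ν ≠ 0 := fun e => hν (e ▸ IsSquare.zero)
  intro n
  induction n with
  | zero =>
    intro W hn hW hs
    refine ⟨0, Fin.elim0, ⟨⟨fun a => a.1.elim0, fun i => i.elim0, fun a => a.1.elim0,
      fun a => a.1.elim0, ?_⟩⟩, fun i => i.elim0, fun i => i.elim0⟩
    rw [Submodule.finrank_eq_zero.1 (Nat.le_zero.1 hn)]
    exact le_antisymm (Submodule.span_le.2 (by rintro _ ⟨u, rfl⟩; exact u.1.1.elim0)) bot_le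
  | succ n ih =>
    intro W hn hW hs
    by_cases hne : W = ⊥
    · exact ih W (by rw [hne]; simp) hW hs
    obtain ⟨j, b, U, E, hle, hb⟩ := exists_piece (ν := ν) hodd halt hN hν hnil hW hs hne
    have hlt : E.orth W < W := by
      refine lt_of_le_of_ne inf_le_left fun e => ?_
      set u : Idx (fun _ : Fin 1 => (j, b)) := ⟨⟨0, ⟨0, mult_pos _⟩⟩, ⟨0, E.pos 0⟩⟩ with hu
      have hmem : E.bs u ∈ E.orth W := by
        rw [e, ← E.map_single]
        exact hle (E.map_mem _)
      have h := (E.mem_orth.1 hmem).2 (E.bs (dual u)) (by rw [← E.map_single]; exact E.map_mem _)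
      rw [E.pair hN, if_pos rfl] at h
      exact wt_ne_zero hν0 u h
    obtain ⟨t, T, ⟨D'⟩, hc⟩ := ih (E.orth W)
      (by have := Submodule.finrank_lt_finrank_of_lt hlt; omega)
      (E.orth_invariant hN hW) (E.orth_sep hN hν0 hle hs)
    refine ⟨1 + t, Sum.elim (fun _ : Fin 1 => (j, b)) T ∘ finSumFinEquiv.symm, ⟨?_⟩, ?_⟩
    · rw [← E.sup_orth hN hν0 hle]
      exact (E.union D' (fun y hy v hv => by rw [anti halt, (E.mem_orth.1 hv).2 y hy, neg_zero])
        (fun y hy v hv => (E.mem_orth.1 hv).2 y hy)).reindex _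
    have hno : ∀ i, b = true → T i ≠ (j, b) := by
      intro i hbt e
      subst hbt
      have hTj : (T i).1 = j := congrArg Prod.fst e
      have he : Even (T i).1 := hTj ▸ (hb rfl).1
      set a : Slot T := ⟨i, ⟨0, mult_pos _⟩⟩ with ha
      have hva : ω ((N ^ (j - 1)) (D'.x a)) (D'.x a) = ν := by
        have hpa : par a = a := by
          refine congrArg (Sigma.mk i) (Fin.ext ?_)
          rw [Fin.val_rev]
          show mult (T i).1 - 1 = 0
          rw [mult, if_pos he]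
        have := D'.gram a a ((T i).1 - 1) (by have := D'.pos i; show _ < (T i).1; omega)
        rw [if_pos ⟨by have := D'.pos i; show _ = (T i).1; omega, hpa.symm⟩, coef,
          if_pos (show Even (T a.1).1 from he),
          if_pos (show (T a.1).2 = true from congrArg Prod.snd e), hTj] at this
        exact this
      refine (hb rfl).2 _ ?_ hva
      have hm := (D'.map_single ⟨a, ⟨0, D'.pos i⟩⟩).subst (motive := fun v => v ∈ E.orth W)
        (D'.map_mem _)
      simpa [Dec.bs] using hm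
    constructor
    · intro i hi
      simp only [Function.comp_apply] at hi ⊢
      rcases hx : finSumFinEquiv.symm i with i' | i' <;>
        simp only [hx, Sum.elim_inl, Sum.elim_inr] at hi ⊢
      · exact (hb hi).1
      · exact hc.1 i' hi
    · intro i i' hi hii
      refine finSumFinEquiv.symm.injective ?_
      simp only [Function.comp_apply] at hi hii
      rcases hx : finSumFinEquiv.symm i with i₁ | i₁ <;>
        rcases hx' : finSumFinEquiv.symm i' with i₂ | i₂ <;>
        simp only [hx, hx', Sum.elim_inl, Sum.elim_inr] at hi hii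
      · rw [Subsingleton.elim i₁ i₂]
      · exact absurd hii (hno i₂ hi)
      · refine absurd hii.symm (hno i₁ ?_)
        have := congrArg Prod.snd hii
        exact this.trans hi
      · rw [hc.2 i₁ i₂ hi hii]

end CfsgLib.KnownC.SpNilp
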