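import Cfsg.Agent.Lib.KnownC.SpNilpInvariant
import Cfsg.Agent.Lib.KnownC.SpNilpExists
import Cfsg.Agent.Lib.KnownC.JordanTypeClassical

/-!
Classes of elements of order `p` in `Sp_2m(q)`, `q` odd: signed partitions.
-/

set_option autoImplicit false
set_option linter.unusedSectionVars false
set_option linter.unusedVariables false

namespace CfsgLib.KnownC.SpNilp

open Finset Matrix
open scoped Classical

variable {F : Type*} [Field F] {p m : ℕ} [Fact p.Prime] [CharP F p]

local notation "Mm" => Matrix (Fin m ⊕ Fin m) (Fin m ⊕ Fin m) F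
local notation "Gm" => Matrix.symplecticGroup (Fin m) F

/-- The symplectic form. -/
def omega (F : Type*) [Field F] (m : ℕ) :
    (Fin m ⊕ Fin m → F) →ₗ[F] (Fin m ⊕ Fin m → F) →ₗ[F] F :=
  Matrix.toLinearMap₂' F (Matrix.J (Fin m) F)

theorem omega_apply (x y : Fin m ⊕ Fin m → F) :
    omega F m x y = x ⬝ᵥ Matrix.J (Fin m) F *ᵥ y := Matrix.toLinearMap₂'_apply' _ _ _

theorem omega_alt (v : Fin m ⊕ Fin m → F) : omega F m v v = 0 := by
  rw [omega_apply]; exact dot_J_self m v

theorem omega_sep (x : Fin m ⊕ Fin m → F) (h : ∀ y, omega F m x y = 0) : x = 0 :=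
  sep_of_isUnit (isUnit_matrix_J m) x fun y => by rw [← omega_apply]; exact h y

theorem omega_mul (M N : Mm) (x y : Fin m ⊕ Fin m → F) :
    omega F m (M *ᵥ x) (N *ᵥ y) = x ⬝ᵥ (Mᵀ * Matrix.J (Fin m) F * N) *ᵥ y := by
  rw [omega_apply, ← Matrix.vecMul_transpose, ← Matrix.dotProduct_mulVec]
  simp only [Matrix.mulVec_mulVec, ← Matrix.mul_assoc]

theorem mem_sp_iff (M : Mm) :
    M ∈ Gm ↔ ∀ x y, omega F m (M *ᵥ x) (M *ᵥ y) = omega F m x y := by
  rw [SymplecticGroup.mem_iff']
  refine ⟨fun h x y => by rw [omega_mul, h, omega_apply], fun h => matrix_eq_of_forall_dot fun u v => ?_⟩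
  rw [← omega_mul, h, omega_apply]

/-- A matrix as an endomorphism. -/
def endo (M : Mm) : Module.End F (Fin m ⊕ Fin m → F) := Matrix.toLinAlgEquiv' M

theorem endo_apply (M : Mm) (v : Fin m ⊕ Fin m → F) : endo M v = M *ᵥ v :=
  Matrix.toLinAlgEquiv'_apply M v

/-- The Cayley transform. -/
noncomputable def cay (A : Gm) : Mm := ((A : Mm) - 1) * ((A : Mm) + 1)⁻¹

/-- The nilpotent endomorphism of an element. -/
noncomputable def nil (A : Gm) : Module.End F (Fin m ⊕ Fin m → F) := endo (cay A)

theorem two_ne_zero' (hp : p ≠ 2) : (2 : F) ≠ 0 := fun h => hp <| by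
  have : ((2 : ℕ) : F) = 0 := by exact_mod_cast h
  exact (Nat.prime_dvd_prime_iff_eq Fact.out Nat.prime_two).1 ((CharP.cast_eq_zero_iff F p 2).1 this)

variable (p) in
theorem isUnit_one_sub (c : Mm) (hc : c ^ p = 0) : IsUnit (1 - c) :=
  IsNilpotent.isUnit_one_sub ⟨p, hc⟩

include p in
theorem isUnit_add_one' (hp : p ≠ 2) {A : Gm} (hA : A ^ p = 1) : IsUnit ((A : Mm) + 1) := by
  have hAm : ((A : Mm)) ^ p = 1 := by
    have := congrArg Subtype.val hA
    simpa using this
  have hnil : IsNilpotent ((A : Mm) - 1) := ⟨p, by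
    rcases isEmpty_or_nonempty (Fin m ⊕ Fin m) with h | h
    · exact Subsingleton.elim _ _
    · rw [sub_pow_char_of_commute _ (Commute.one_right _), hAm, one_pow, sub_self]⟩
  have h2 : IsUnit ((2 : F) • (1 : Mm)) :=
    ⟨⟨(2 : F) • 1, (2 : F)⁻¹ • 1, by simp [two_ne_zero' (F := F) hp, smul_smul],
      by simp [two_ne_zero' (F := F) hp, smul_smul]⟩, rfl⟩
  have h := hnil.isUnit_add_left_of_commute h2 ((Commute.one_right _).smul_right _)
  rwa [show (2 : F) • (1 : Mm) + ((A : Mm) - 1) = (A : Mm) + 1 by rw [two_smul]; abel] at h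

include p in
theorem cay_mul (hp : p ≠ 2) {A : Gm} (hA : A ^ p = 1) :
    cay A * ((A : Mm) + 1) = (A : Mm) - 1 := by
  rw [cay, Matrix.mul_assoc, Matrix.nonsing_inv_mul _ ((Matrix.isUnit_iff_isUnit_det _).1
    (isUnit_add_one' hp hA)), Matrix.mul_one]

include p in
theorem cay_pow (hp : p ≠ 2) {A : Gm} (hA : A ^ p = 1) : cay A ^ p = 0 := by
  rcases isEmpty_or_nonempty (Fin m ⊕ Fin m) with h | h
  · exact Subsingleton.elim _ _
  have hAm : ((A : Mm)) ^ p = 1 := by simpa using congrArg Subtype.val hA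
  have hz : ((A : Mm) - 1) ^ p = 0 := by
    rw [sub_pow_char_of_commute _ (Commute.one_right _), hAm, one_pow, sub_self]
  have hu := isUnit_add_one' hp hA
  have hc : Commute (cay A) ((A : Mm) + 1) := by
    have h1 : Commute ((A : Mm) - 1) ((A : Mm) + 1) :=
      ((Commute.refl _).add_right (Commute.one_right _)).sub_left (Commute.one_left _)
    refine hu.mul_right_cancel ?_ |> fun h => h
    rw [cay_mul hp hA, Matrix.mul_assoc, cay_mul hp hA, h1.eq]
  refine (hu.pow p).mul_left_eq_zero.1 ?_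
  rw [← hc.mul_pow, cay_mul hp hA, hz]

include p in
theorem mul_one_sub_cay (hp : p ≠ 2) {A : Gm} (hA : A ^ p = 1) :
    (A : Mm) * (1 - cay A) = 1 + cay A := by
  refine (isUnit_add_one' hp hA).mul_right_cancel ?_
  rw [Matrix.mul_assoc, Matrix.sub_mul, Matrix.one_mul, cay_mul hp hA, Matrix.add_mul, Matrix.one_mul,
    cay_mul hp hA, show (A : Mm) + 1 - ((A : Mm) - 1) = 2 • (1 : Mm) by rw [two_smul]; abel,
    mul_smul_comm, Matrix.mul_one, two_smul]
  abel

include p in
theorem cay_skew (hp : p ≠ 2) {A : Gm} (hA : A ^ p = 1) :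
    (cay A)ᵀ * Matrix.J (Fin m) F = -(Matrix.J (Fin m) F * cay A) := by
  have hJ := SymplecticGroup.mem_iff'.1 A.2
  have hu := isUnit_add_one' hp hA
  obtain ⟨B, hB⟩ : ∃ B, B = (A : Mm) + 1 := ⟨_, rfl⟩
  rw [← hB] at hu
  set J := Matrix.J (Fin m) F with hJdef
  have hcm : cay A * B = (A : Mm) - 1 := by rw [hB]; exact cay_mul hp hA
  have key : Bᵀ * ((cay A)ᵀ * J + J * cay A) * B = 0 := by
    rw [Matrix.mul_add, Matrix.add_mul, ← Matrix.mul_assoc Bᵀ, ← transpose_mul,
      hcm, Matrix.mul_assoc Bᵀ, Matrix.mul_assoc J, hcm, hB]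
    simp only [transpose_add, transpose_sub, transpose_one, Matrix.mul_add, Matrix.mul_sub,
      Matrix.add_mul, Matrix.sub_mul, Matrix.mul_one, Matrix.one_mul, ← Matrix.mul_assoc, hJ]
    abel
  have h1 := (hu.mul_left_eq_zero).1 key
  have h2 := (((Matrix.isUnit_transpose _).2 hu).mul_right_eq_zero).1 h1
  exact eq_neg_of_add_eq_zero_left h2

include p in
theorem nil_skew (hp : p ≠ 2) {A : Gm} (hA : A ^ p = 1) (x y : Fin m ⊕ Fin m → F) :
    omega F m (nil A x) y = -omega F m x (nil A y) := by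
  have h1 := omega_mul (cay A) 1 x y
  have h2 := omega_mul 1 (cay A) x y
  rw [Matrix.mul_one, Matrix.one_mulVec, cay_skew hp hA, Matrix.neg_mulVec, dotProduct_neg] at h1
  rw [transpose_one, Matrix.one_mul, Matrix.one_mulVec] at h2
  rw [nil, endo_apply, endo_apply, h1, h2]

include p in
theorem nil_pow (hp : p ≠ 2) {A : Gm} (hA : A ^ p = 1) : nil A ^ p = 0 := by
  show (Matrix.toLinAlgEquiv' (cay A)) ^ p = 0
  rw [← map_pow, cay_pow hp hA, map_zero]

include p in
/-- An intertwining isometry makes two elements conjugate. -/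
theorem isConj_of_isometry (hp : p ≠ 2) {A B : Gm} (hA : A ^ p = 1) (hB : B ^ p = 1)
    (g : (Fin m ⊕ Fin m → F) ≃ₗ[F] (Fin m ⊕ Fin m → F))
    (hg : ∀ x y, omega F m (g x) (g y) = omega F m x y) (hc : ∀ v, g (nil A v) = nil B (g v)) :
    IsConj A B := by
  set M : Mm := LinearMap.toMatrix' g.toLinearMap with hM
  have hMv : ∀ v, M *ᵥ v = g v := fun v => LinearMap.toMatrix'_mulVec g.toLinearMap v
  have hMs : M ∈ Gm := (mem_sp_iff M).2 fun x y => by rw [hMv, hMv, hg]
  have hMc : M * cay A = cay B * M := Matrix.toLin'.injective (LinearMap.ext fun v => by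
    rw [Matrix.toLin'_apply, Matrix.toLin'_apply, ← Matrix.mulVec_mulVec, ← Matrix.mulVec_mulVec,
      hMv, hMv]
    simpa only [nil, endo_apply] using hc v)
  refine isConj_iff.2 ⟨⟨M, hMs⟩, ?_⟩
  rw [mul_inv_eq_iff_eq_mul]
  refine Subtype.ext ((isUnit_one_sub p _ (cay_pow hp hA)).mul_right_cancel ?_)
  show M * (A : Mm) * (1 - cay A) = (B : Mm) * M * (1 - cay A)
  rw [Matrix.mul_assoc, mul_one_sub_cay hp hA, Matrix.mul_assoc, Matrix.mul_sub, Matrix.mul_one,
    Matrix.mul_add, Matrix.mul_one, hMc, show M - cay B * M = (1 - cay B) * M by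
      rw [Matrix.sub_mul, Matrix.one_mul],
    ← Matrix.mul_assoc, mul_one_sub_cay hp hB, Matrix.add_mul, Matrix.one_mul]

include p in
theorem exists_isometry_of_isConj (hp : p ≠ 2) {A B : Gm} (hA : A ^ p = 1) (hB : B ^ p = 1)
    (h : IsConj A B) : ∃ g : (Fin m ⊕ Fin m → F) ≃ₗ[F] (Fin m ⊕ Fin m → F),
      (∀ x y, omega F m (g x) (g y) = omega F m x y) ∧ ∀ v, g (nil A v) = nil B (g v) := by
  obtain ⟨M, hM⟩ := isConj_iff.1 h
  rw [mul_inv_eq_iff_eq_mul] at hM
  have hM' : (M : Mm) * (A : Mm) = (B : Mm) * (M : Mm) := congrArg Subtype.val hM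
  have hMi : (M : Mm) * ((M⁻¹ : Gm) : Mm) = 1 := congrArg Subtype.val (mul_inv_cancel M)
  have hiM : ((M⁻¹ : Gm) : Mm) * (M : Mm) = 1 := congrArg Subtype.val (inv_mul_cancel M)
  have hc : (M : Mm) * cay A = cay B * (M : Mm) := by
    refine (isUnit_add_one' hp hA).mul_right_cancel ?_
    rw [Matrix.mul_assoc, cay_mul hp hA, Matrix.mul_assoc (cay B),
      show (M : Mm) * ((A : Mm) + 1) = ((B : Mm) + 1) * (M : Mm) by
        rw [Matrix.mul_add, Matrix.add_mul, hM', Matrix.mul_one, Matrix.one_mul],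
      ← Matrix.mul_assoc, cay_mul hp hB, Matrix.mul_sub, Matrix.sub_mul, hM', Matrix.mul_one,
      Matrix.one_mul]
  refine ⟨LinearEquiv.ofLinear (Matrix.toLin' (M : Mm)) (Matrix.toLin' ((M⁻¹ : Gm) : Mm))
    (by rw [← Matrix.toLin'_mul, hMi, Matrix.toLin'_one])
    (by rw [← Matrix.toLin'_mul, hiM, Matrix.toLin'_one]), fun x y => ?_, fun v => ?_⟩
  · simp only [LinearEquiv.ofLinear_apply, Matrix.toLin'_apply]
    exact (mem_sp_iff _).1 M.2 x y
  · simp only [LinearEquiv.ofLinear_apply, Matrix.toLin'_apply, nil, endo_apply,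
      Matrix.mulVec_mulVec, hc]

/-! ### Types -/

variable {ι ι' : Type*} [Fintype ι] [DecidableEq ι] [Fintype ι'] [DecidableEq ι']

/-- The chain lengths. -/
def lengths (T : ι → ℕ × Bool) : Multiset ℕ :=
  (Finset.univ : Finset (Slot T)).val.map fun a => (T a.1).1

theorem count_lengths (T : ι → ℕ × Bool) (j : ℕ) : (lengths T).count j = (chains T j).card := by
  rw [lengths, Multiset.count_map, chains, Finset.card_def, Finset.filter_val]
  simp only [eq_comm]

theorem sum_lengths (T : ι → ℕ × Bool) : (lengths T).sum = Fintype.card (Idx T) := by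
  rw [Fintype.card_sigma, lengths]
  simp only [Fintype.card_fin]
  rfl

theorem chains_recover (T : ι → ℕ × Bool) {j : ℕ} (hj : 1 ≤ j) :
    (chains T j).card + (free T (j - 1)).card + (free T (j + 1)).card = 2 * (free T j).card := by
  rw [card_free, card_free, card_free, chains, Finset.card_filter, Finset.mul_sum,
    ← Finset.sum_add_distrib, ← Finset.sum_add_distrib]
  refine Finset.sum_congr rfl fun a _ => ?_
  split_ifs with h <;> omega

theorem chains_zero (T : ι → ℕ × Bool) (hpos : ∀ i, 1 ≤ (T i).1) : (chains T 0).card = 0 := by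
  rw [Finset.card_eq_zero, chains, Finset.filter_eq_empty_iff]
  intro a _
  have := hpos a.1
  omega

theorem card_pair (T : ι → ℕ × Bool) (j : ℕ) :
    (Finset.univ.filter fun i => T i = (j, true)).card +
      (Finset.univ.filter fun i => T i = (j, false)).card =
      (Finset.univ.filter fun i => (T i).1 = j).card := by
  rw [Finset.card_filter, Finset.card_filter, Finset.card_filter, ← Finset.sum_add_distrib]
  refine Finset.sum_congr rfl fun i _ => ?_
  rcases T i with ⟨a, b⟩
  cases b <;> by_cases h : a = j <;> simp [h]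

theorem Canon.card_true_le {T : ι → ℕ × Bool} (hc : Canon T) (j : ℕ) :
    (Finset.univ.filter fun i => T i = (j, true)).card ≤ 1 :=
  Finset.card_le_one.2 fun a ha b hb => by
    simp only [Finset.mem_filter, Finset.mem_univ, true_and] at ha hb
    exact hc.2 a b (congrArg Prod.snd ha) (hb.trans ha.symm)

/-- Canonical type families are determined by chain lengths and marked lengths. -/
theorem exists_type_equiv {T : ι → ℕ × Bool} {T' : ι' → ℕ × Bool} (hc : Canon T) (hc' : Canon T')
    (h1 : ∀ j, (chains T j).card = (chains T' j).card)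
    (h2 : ∀ j, (∃ i, T i = (j, true)) ↔ ∃ i, T' i = (j, true)) :
    ∃ e : ι' ≃ ι, T ∘ e = T' := by
  have htot : ∀ j, (Finset.univ.filter fun i => (T i).1 = j).card =
      (Finset.univ.filter fun i => (T' i).1 = j).card := fun j => by
    have := h1 j
    rw [card_chains, card_chains] at this
    exact Nat.eq_of_mul_eq_mul_left (mult_pos j) this
  have htrue : ∀ j, (Finset.univ.filter fun i => T i = (j, true)).card =
      (Finset.univ.filter fun i => T' i = (j, true)).card := fun j => by
    have a1 := hc.card_true_le j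
    have a2 := hc'.card_true_le j
    by_cases h : ∃ i, T i = (j, true)
    · obtain ⟨i, hi⟩ := h
      obtain ⟨i', hi'⟩ := (h2 j).1 ⟨i, hi⟩
      have b1 : 0 < (Finset.univ.filter fun i => T i = (j, true)).card :=
        Finset.card_pos.2 ⟨i, by simp [hi]⟩
      have b2 : 0 < (Finset.univ.filter fun i => T' i = (j, true)).card :=
        Finset.card_pos.2 ⟨i', by simp [hi']⟩
      omega
    · have h' := mt (h2 j).2 h
      simp only [not_exists] at h h'
      rw [Finset.card_eq_zero.2 (Finset.filter_eq_empty_iff.2 fun i _ => h i),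
        Finset.card_eq_zero.2 (Finset.filter_eq_empty_iff.2 fun i _ => h' i)]
  have hfib : ∀ t : ℕ × Bool, Fintype.card {i // T' i = t} = Fintype.card {i // T i = t} := by
    rintro ⟨j, b⟩
    rw [Fintype.card_subtype, Fintype.card_subtype]
    have c1 := card_pair T j
    have c2 := card_pair T' j
    have c3 := htot j
    have c4 := htrue j
    cases b <;> omega
  let e := Equiv.ofFiberEquiv (f := T') (g := T) fun t => Fintype.equivOfCardEq (hfib t)
  exact ⟨e, funext fun i => Equiv.ofFiberEquiv_map _ i⟩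

/-! ### Labels -/

/-- Signed partitions. -/
abbrev Lab (p m : ℕ) :=
  Σ μ : (Finset.univ.filter (fun μ : Nat.Partition (2 * m) =>
      (∀ a ∈ μ.parts, a ≤ p) ∧ ∀ j : ℕ, Odd j → Even (μ.parts.count j)) : Finset _),
    ((μ.1.parts.toFinset.filter (fun j : ℕ => Even j)).powerset : Finset (Finset ℕ))

/-- The multiplicity of a type. -/
def cnt (L : Lab p m) (t : ℕ × Bool) : ℕ :=
  if Even t.1 then
    (if t.1 ∈ L.2.1 then (if t.2 then 1 else L.1.1.parts.count t.1 - 1)
      else (if t.2 then 0 else L.1.1.parts.count t.1))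
  else (if t.2 then 0 else L.1.1.parts.count t.1 / 2)

/-- The pieces of a label. -/
abbrev Pieces (L : Lab p m) :=
  Σ t : (L.1.1.parts.toFinset ×ˢ (Finset.univ : Finset Bool) : Finset (ℕ × Bool)), Fin (cnt L t.1)

/-- The types of a label. -/
def typ (L : Lab p m) : Pieces L → ℕ × Bool := fun i => i.1.1

theorem typ_pos (L : Lab p m) (i : Pieces L) : 1 ≤ (typ L i).1 := by
  have h := (Finset.mem_product.1 i.1.2).1
  rw [Multiset.mem_toFinset] at h
  exact L.1.1.parts_pos h

theorem typ_le (L : Lab p m) (i : Pieces L) : (typ L i).1 ≤ p := by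
  have h := (Finset.mem_product.1 i.1.2).1
  rw [Multiset.mem_toFinset] at h
  exact (Finset.mem_filter.1 L.1.2).2.1 _ h

theorem card_typ (L : Lab p m) (t : ℕ × Bool) :
    (Finset.univ.filter fun i => typ L i = t).card =
      if t.1 ∈ L.1.1.parts then cnt L t else 0 := by
  split_ifs with h
  · have ht : t ∈ L.1.1.parts.toFinset ×ˢ (Finset.univ : Finset Bool) :=
      Finset.mem_product.2 ⟨Multiset.mem_toFinset.2 h, Finset.mem_univ _⟩
    have e : (Finset.univ.filter fun i => typ L i = t) =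
        (Finset.univ : Finset (Fin (cnt L t))).map
          ⟨fun k => (⟨⟨t, ht⟩, k⟩ : Pieces L), fun a b e => eq_of_heq (Sigma.mk.inj e).2⟩ := by
      ext i
      simp only [Finset.mem_filter, Finset.mem_univ, true_and, Finset.mem_map,
        Function.Embedding.coeFn_mk]
      constructor
      · intro e
        obtain ⟨⟨t', ht'⟩, k⟩ := i
        obtain rfl : t' = t := e
        exact ⟨k, rfl⟩
      · rintro ⟨k, rfl⟩
        rfl
    rw [e, Finset.card_map, Finset.card_univ, Fintype.card_fin]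
  · rw [Finset.card_eq_zero, Finset.filter_eq_empty_iff]
    rintro i - rfl
    exact h (Multiset.mem_toFinset.1 (Finset.mem_product.1 i.1.2).1)

theorem mem_label_iff (L : Lab p m) {j : ℕ} (hj : j ∈ L.2.1) : j ∈ L.1.1.parts ∧ Even j := by
  have := Finset.mem_powerset.1 L.2.2 hj
  rw [Finset.mem_filter, Multiset.mem_toFinset] at this
  exact this

theorem typ_true_iff (L : Lab p m) (j : ℕ) : (∃ i, typ L i = (j, true)) ↔ j ∈ L.2.1 := by
  have hc := card_typ L (j, true)
  constructor
  · rintro ⟨i, hi⟩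
    by_contra h
    have hpos : 0 < (Finset.univ.filter fun i => typ L i = (j, true)).card :=
      Finset.card_pos.2 ⟨i, by simp [hi]⟩
    rw [hc] at hpos
    simp [cnt, h] at hpos
  · intro h
    obtain ⟨h1, h2⟩ := mem_label_iff L h
    rw [if_pos h1, show cnt L (j, true) = 1 by simp [cnt, h, h2]] at hc
    obtain ⟨i, hi⟩ := Finset.card_pos.1 (hc ▸ one_pos)
    exact ⟨i, (Finset.mem_filter.1 hi).2⟩

theorem typ_canon (L : Lab p m) : Canon (typ L) := by
  constructor
  · intro i hi
    exact (mem_label_iff L ((typ_true_iff L _).1 ⟨i, Prod.ext rfl hi⟩)).2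
  · intro i i' hi hii
    obtain ⟨j, b⟩ : ℕ × Bool := typ L i
    have hle : (Finset.univ.filter fun x => typ L x = typ L i).card ≤ 1 := by
      rw [card_typ]
      split_ifs
      · rw [cnt]
        simp only [hi, if_true]
        split_ifs <;> omega
      · omega
    exact Finset.card_le_one.1 hle i (by simp) i' (by simp [hii])

theorem chains_typ (L : Lab p m) (j : ℕ) :
    (chains (typ L) j).card = L.1.1.parts.count j := by
  rw [card_chains, ← card_pair, card_typ, card_typ]
  dsimp only
  have hodd : Odd j → Even (L.1.1.parts.count j) := (Finset.mem_filter.1 L.1.2).2.2 j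
  by_cases h : j ∈ L.1.1.parts
  · rw [if_pos h, if_pos h]
    have hpos : 0 < L.1.1.parts.count j := Multiset.count_pos.2 h
    by_cases he : Even j
    · simp only [cnt, mult, he, if_true]
      split_ifs <;> simp at * <;> omega
    · simp only [cnt, mult, he, if_false]
      have := hodd (Nat.not_even_iff_odd.1 he)
      obtain ⟨c, hc⟩ := this
      simp
      omega
  · rw [if_neg h, if_neg h, Multiset.count_eq_zero.2 h]
    simp

theorem lengths_typ (L : Lab p m) : lengths (typ L) = L.1.1.parts := by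
  ext j
  rw [count_lengths, chains_typ]

variable [Fintype F]

include p in
/-- An element of every label. -/
theorem exists_element (hp : p ≠ 2) {ν : F} (hν : ν ≠ 0) (L : Lab p m) :
    ∃ A : Gm, A ^ p = 1 ∧ ∃ g : (Idx (typ L) → F) ≃ₗ[F] (Fin m ⊕ Fin m → F),
      (∀ x y, omega F m (g x) (g y) = mform ν x y) ∧ ∀ v, g (shift v) = nil A (g v) := by
  classical
  have h2 : (2 : F) ≠ 0 := two_ne_zero' hp
  have hdim : Module.finrank F (Idx (typ L) → F) = 2 * m := by
    rw [Module.finrank_fintype_fun_eq_card, ← sum_lengths, lengths_typ]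
    exact L.1.1.parts_sum
  obtain ⟨g, hg⟩ := CfsgLib.Geom.exists_symp_isometry (F := F) (2 * m) (mform (T := typ L) ν)
    (omega F m) (fun v => mform_self ν h2 v) (fun x hx => mform_sep hν x hx) omega_alt omega_sep
    hdim (by simp; omega)
  set c : Mm := LinearMap.toMatrix' ((g.toLinearMap ∘ₗ shift) ∘ₗ g.symm.toLinearMap) with hc
  have hcv : ∀ v, c *ᵥ (g v) = g (shift v) := fun v => by
    rw [hc, LinearMap.toMatrix'_mulVec]
    simp
  have hcpow : ∀ (i : ℕ) v, (c ^ i) *ᵥ (g v) = g ((shift ^ i) v) := by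
    intro i
    induction i with
    | zero => intro v; simp
    | succ i ih =>
      intro v
      rw [pow_succ', ← Matrix.mulVec_mulVec, ih, hcv, pow_succ', Module.End.mul_apply]
  have hcp : c ^ p = 0 := Matrix.toLin'.injective (LinearMap.ext fun v => by
    obtain ⟨w, rfl⟩ := g.surjective v
    rw [Matrix.toLin'_apply, hcpow, map_zero, LinearMap.zero_apply,
      (shift_ker_iff p w).2 (fun u hu => absurd ?_ hu), map_zero]
    simp only [free, Finset.mem_filter, Finset.mem_univ, true_and]
    have := typ_le L u.1.1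
    omega)
  have hskew : cᵀ * Matrix.J (Fin m) F + Matrix.J (Fin m) F * c = 0 :=
    matrix_eq_of_forall_dot fun x y => by
      obtain ⟨a, rfl⟩ := g.surjective x
      obtain ⟨b, rfl⟩ := g.surjective y
      have h1 := omega_mul c 1 (g a) (g b)
      have h2' := omega_mul 1 c (g a) (g b)
      rw [Matrix.one_mulVec, Matrix.mul_one, hcv, hg] at h1
      rw [Matrix.one_mulVec, transpose_one, Matrix.one_mul, hcv, hg] at h2'
      rw [Matrix.add_mulVec, dotProduct_add, ← h1, ← h2', mform_shift, neg_add_cancel,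
        Matrix.zero_mulVec, dotProduct_zero]
  have hu : IsUnit (1 - c) := isUnit_one_sub p c hcp
  have hud := (Matrix.isUnit_iff_isUnit_det _).1 hu
  obtain ⟨M, hM⟩ : ∃ M : Mm, M = (1 + c) * (1 - c)⁻¹ := ⟨_, rfl⟩
  have hMu : M * (1 - c) = 1 + c := by
    rw [hM, Matrix.mul_assoc, Matrix.nonsing_inv_mul _ hud, Matrix.mul_one]
  have hcomm : Commute (1 + c) (1 - c) :=
    ((Commute.one_right _).sub_right (Commute.one_left _)).add_left
      ((Commute.one_right _).sub_right (Commute.refl c))
  have hcommM : Commute M (1 - c) := by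
    refine hu.mul_right_cancel ?_
    rw [hMu, Matrix.mul_assoc, hMu, hcomm.eq]
  have hMs : M ∈ Gm := by
    rw [SymplecticGroup.mem_iff']
    refine ((Matrix.isUnit_transpose _).2 hu).mul_left_cancel (hu.mul_right_cancel ?_)
    rw [← Matrix.mul_assoc, ← Matrix.mul_assoc, ← transpose_mul, Matrix.mul_assoc _ M, hMu]
    have e : cᵀ * Matrix.J (Fin m) F = -(Matrix.J (Fin m) F * c) := eq_neg_of_add_eq_zero_left hskew
    simp only [transpose_add, transpose_sub, transpose_one, Matrix.mul_add, Matrix.mul_sub,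
      Matrix.add_mul, Matrix.sub_mul, Matrix.mul_one, Matrix.one_mul, e]
    abel
  have hMp : M ^ p = 1 := by
    rcases isEmpty_or_nonempty (Fin m ⊕ Fin m) with h | h
    · exact Subsingleton.elim _ _
    refine (hu.pow p).mul_right_cancel ?_
    rw [← hcommM.mul_pow, hMu, add_pow_char_of_commute _ (Commute.one_left _),
      sub_pow_char_of_commute _ (Commute.one_left _), hcp, one_pow, add_zero, sub_zero, one_mul]
  have hA : (⟨M, hMs⟩ : Gm) ^ p = 1 := Subtype.ext (by simpa using hMp)
  refine ⟨⟨M, hMs⟩, hA, g, hg, fun v => ?_⟩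
  have hcay : cay (⟨M, hMs⟩ : Gm) = c := by
    refine (isUnit_add_one' hp hA).mul_right_cancel ?_
    rw [cay_mul hp hA]
    show M - 1 = c * (M + 1)
    refine hu.mul_right_cancel ?_
    rw [Matrix.sub_mul, Matrix.one_mul, hMu, Matrix.mul_assoc, Matrix.add_mul, Matrix.one_mul, hMu,
      Matrix.mul_add, Matrix.mul_add, Matrix.mul_sub, Matrix.mul_one]
    abel
  rw [nil, endo_apply, hcay, hcv]

include p in
theorem label_injective (hp : p ≠ 2) {ν : F} (hν : ¬IsSquare ν) (elem : Lab p m → Gm)
    (h : ∀ L, elem L ^ p = 1 ∧ ∃ g : (Idx (typ L) → F) ≃ₗ[F] (Fin m ⊕ Fin m → F),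
      (∀ x y, omega F m (g x) (g y) = mform ν x y) ∧ ∀ v, g (shift v) = nil (elem L) (g v))
    (L L' : Lab p m) (hc : IsConj (elem L) (elem L')) : L = L' := by
  classical
  have hodd : ringChar F ≠ 2 := by rwa [ringChar.eq F p]
  obtain ⟨ψ, hψ⟩ := exists_primitive (F := F)
  obtain ⟨hA, g, hg, hgs⟩ := h L
  obtain ⟨hB, g', hg', hgs'⟩ := h L'
  obtain ⟨k, hk, hks⟩ := exists_isometry_of_isConj hp hA hB hc
  have hker : ∀ i, (free (typ L) i).card = (free (typ L') i).card := fun i => by
    have e : kerCard (shift (F := F) (T := typ L)) i = kerCard (shift (F := F) (T := typ L')) i :=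
      ((kerCard_congr g hgs i).trans (kerCard_congr k hks i)).trans (kerCard_congr g' hgs' i).symm
    rw [kerCard_model, kerCard_model] at e
    exact Nat.pow_right_injective Fintype.one_lt_card e
  have hch : ∀ j, (chains (typ L) j).card = (chains (typ L') j).card := fun j => by
    rcases Nat.eq_zero_or_pos j with rfl | hj
    · rw [chains_zero _ (typ_pos L), chains_zero _ (typ_pos L')]
    · have a1 := chains_recover (typ L) hj
      have a2 := chains_recover (typ L') hj
      rw [hker, hker, hker] at a1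
      omega
  have hlen : lengths (typ L) = lengths (typ L') := by
    ext j
    rw [count_lengths, count_lengths, hch]
  have hμ : L.1 = L'.1 :=
    Subtype.ext (Nat.Partition.ext ((lengths_typ L).symm.trans (hlen.trans (lengths_typ L'))))
  have hS : ∀ j, Even j → 1 ≤ j → (j ∈ L.2.1 ↔ j ∈ L'.2.1) := by
    intro j he hj
    have e : gsum ψ (mform (T := typ L) ν) shift j = gsum ψ (mform (T := typ L') ν) shift j :=
      ((gsum_congr ψ g hgs hg j).trans (gsum_congr ψ k hks hk j)).trans (gsum_congr ψ g' hgs' hg' j).symm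
    rw [gsum_model_eq hodd hν hψ (typ_pos L) he hj, gsum_model_eq hodd hν hψ (typ_pos L') he hj,
      hch, hker] at e
    have hK : qsum ψ (1 : F) ^ (chains (typ L') j).card *
        (Fintype.card F : ℂ) ^ ((free (typ L') j).card - (chains (typ L') j).card) ≠ 0 :=
      mul_ne_zero (pow_ne_zero _ (qsum_one_ne_zero hodd hψ))
        (pow_ne_zero _ (Nat.cast_ne_zero.2 Fintype.card_ne_zero))
    have e' := mul_right_cancel₀ hK e
    rw [← typ_true_iff L, ← typ_true_iff L']
    have a1 := (typ_canon L).card_true_le j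
    have a2 := (typ_canon L').card_true_le j
    have b1 : (∃ i, typ L i = (j, true)) ↔
        0 < (Finset.univ.filter fun i => typ L i = (j, true)).card := by
      simp [Finset.card_pos, Finset.Nonempty]
    have b2 : (∃ i, typ L' i = (j, true)) ↔
        0 < (Finset.univ.filter fun i => typ L' i = (j, true)).card := by
      simp [Finset.card_pos, Finset.Nonempty]
    rw [b1, b2]
    revert e' a1 a2
    generalize (Finset.univ.filter fun i => typ L i = (j, true)).card = x
    generalize (Finset.univ.filter fun i => typ L' i = (j, true)).card = y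
    intro e' a1 a2
    interval_cases x <;> interval_cases y <;> first | (simp; done) | (exfalso; norm_num at e')
  obtain ⟨μ, S⟩ := L
  obtain ⟨μ', S'⟩ := L'
  obtain rfl : μ = μ' := hμ
  refine congrArg (Sigma.mk μ) (Subtype.ext (Finset.ext fun j => ?_))
  constructor <;> intro hjm
  · have := mem_label_iff ⟨μ, S⟩ hjm
    exact (hS j this.2 (μ.1.parts_pos this.1)).1 hjm
  · have := mem_label_iff ⟨μ, S'⟩ hjm
    exact (hS j this.2 (μ.1.parts_pos this.1)).2 hjm

include p in
theorem exists_label (hp : p ≠ 2) {ν : F} (hν : ¬IsSquare ν) (elem : Lab p m → Gm)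
    (h : ∀ L, elem L ^ p = 1 ∧ ∃ g : (Idx (typ L) → F) ≃ₗ[F] (Fin m ⊕ Fin m → F),
      (∀ x y, omega F m (g x) (g y) = mform ν x y) ∧ ∀ v, g (shift v) = nil (elem L) (g v))
    (A : Gm) (hA : A ^ p = 1) : ∃ L, IsConj (elem L) A := by
  classical
  have hodd : ringChar F ≠ 2 := by rwa [ringChar.eq F p]
  have hν0 : ν ≠ 0 := fun e => hν (by rw [e]; exact IsSquare.zero)
  have hN := nil_skew hp hA
  obtain ⟨t, T, ⟨D⟩, hc⟩ := exists_dec (ν := ν) hodd omega_alt hN hν (nil_pow hp hA) _ ⊤ le_rfl
    (fun _ _ => trivial) (fun x _ hx => omega_sep x fun y => hx y trivial)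
  have hsum : (lengths T).sum = 2 * m := by
    rw [sum_lengths, ← Module.finrank_fintype_fun_eq_card F (η := Idx T),
      (D.equiv hN hν0).finrank_eq]
    simp
    omega
  have hle : ∀ i, (T i).1 ≤ p := by
    intro i
    by_contra hlt
    set u : Idx T := ⟨⟨i, ⟨0, mult_pos _⟩⟩, ⟨p, by show p < (T i).1; omega⟩⟩ with hu
    have h0 : D.map (Pi.single u 1) = 0 := by
      rw [D.map_single]
      show ((nil A) ^ p) _ = 0
      rw [nil_pow hp hA, LinearMap.zero_apply]
    have := congrFun (D.map_injective hN hν0 (h0.trans (map_zero _).symm)) u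
    simp at this
  have hmem : ∀ j ∈ lengths T, ∃ i, (T i).1 = j := fun j hj => by
    obtain ⟨a, -, rfl⟩ := Multiset.mem_map.1 hj
    exact ⟨a.1, rfl⟩
  let μ : Nat.Partition (2 * m) :=
    ⟨lengths T, fun {j} hj => by obtain ⟨i, rfl⟩ := hmem j hj; exact D.pos i, hsum⟩
  have hμ : μ ∈ Finset.univ.filter (fun μ : Nat.Partition (2 * m) =>
      (∀ a ∈ μ.parts, a ≤ p) ∧ ∀ j : ℕ, Odd j → Even (μ.parts.count j)) := by
    refine Finset.mem_filter.2 ⟨Finset.mem_univ _, fun a ha => ?_, fun j hj => ?_⟩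
    · obtain ⟨i, rfl⟩ := hmem a ha
      exact hle i
    · rw [count_lengths, card_chains, mult, if_neg (Nat.not_even_iff_odd.2 hj)]
      exact even_two_mul _
  let S : Finset ℕ := (μ.parts.toFinset.filter fun j => Even j).filter fun j => ∃ i, T i = (j, true)
  let L : Lab p m := ⟨⟨μ, hμ⟩, ⟨S, Finset.mem_powerset.2 (Finset.filter_subset _ _)⟩⟩
  obtain ⟨e, he⟩ := exists_type_equiv hc (typ_canon L) (fun j => by
    rw [chains_typ, ← count_lengths]) (fun j => by
    rw [typ_true_iff]
    simp only [L, S, Finset.mem_filter, Multiset.mem_toFinset]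
    refine ⟨fun ⟨i, hi⟩ => ⟨⟨?_, ?_⟩, i, hi⟩, fun h => h.2⟩
    · refine Multiset.mem_map.2 ⟨⟨i, ⟨0, mult_pos _⟩⟩, Finset.mem_univ _, ?_⟩
      show (T i).1 = j
      rw [hi]
    · have := hc.1 i (congrArg Prod.snd hi)
      rwa [hi] at this)
  obtain ⟨g, hg, hgs⟩ := (h L).2
  obtain ⟨k, hk, hks⟩ := exists_isometry D (modelDec (F := F) ν (typ_pos L)) e he hN
    (mform_shift ν) hν0
  exact ⟨L, (isConj_of_isometry hp hA (h L).1 (k.trans g)
    (fun x y => by rw [LinearEquiv.trans_apply, LinearEquiv.trans_apply, hg, hk])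
    (fun v => by rw [LinearEquiv.trans_apply, LinearEquiv.trans_apply, hks, hgs])).symm⟩

/-- Classes of elements of order `p` in the symplectic group. -/
theorem natCard_classes_order_p (hp : p ≠ 2) :
    Nat.card {C : ConjClasses ↥(Matrix.symplecticGroup (Fin m) F) //
        ∃ g : Matrix.symplecticGroup (Fin m) F, ConjClasses.mk g = C ∧ orderOf g = p} =
      (∑ μ ∈ Finset.univ.filter (fun μ : Nat.Partition (2 * m) =>
          (∀ a ∈ μ.parts, a ≤ p) ∧ ∀ j : ℕ, Odd j → Even (μ.parts.count j)),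
        2 ^ ((μ.parts.toFinset.filter (fun j : ℕ => Even j)).card)) - 1 := by
  classical
  have hodd : ringChar F ≠ 2 := by rwa [ringChar.eq F p]
  obtain ⟨ν, hν⟩ := FiniteField.exists_nonsquare hodd
  have hν0 : ν ≠ 0 := fun e => hν (by rw [e]; exact IsSquare.zero)
  choose elem helem using exists_element (F := F) (p := p) (m := m) hp hν0
  have hinj : Function.Injective fun L => ConjClasses.mk (elem L) := fun L L' e =>
    label_injective hp hν elem helem L L' (ConjClasses.mk_eq_mk_iff_isConj.1 e)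
  have hrange : Set.range (fun L => ConjClasses.mk (elem L)) =
      {C | ∃ g : Gm, ConjClasses.mk g = C ∧ g ^ p = 1} := by
    ext C
    constructor
    · rintro ⟨L, rfl⟩
      exact ⟨_, rfl, (helem L).1⟩
    · rintro ⟨g, rfl, hg⟩
      obtain ⟨L, hL⟩ := exists_label hp hν elem helem g hg
      exact ⟨L, ConjClasses.mk_eq_mk_iff_isConj.2 hL⟩
  have hset : {C : ConjClasses Gm | ∃ g : Gm, ConjClasses.mk g = C ∧ orderOf g = p} =
      Set.range (fun L => ConjClasses.mk (elem L)) \ {ConjClasses.mk 1} := by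
    rw [hrange]
    ext C
    constructor
    · rintro ⟨g, rfl, hg⟩
      refine ⟨⟨g, rfl, by rw [← hg]; exact pow_orderOf_eq_one g⟩, fun e => ?_⟩
      rw [Set.mem_singleton_iff, ConjClasses.mk_eq_mk_iff_isConj, isConj_one_left] at e
      rw [e, orderOf_one] at hg
      exact (Fact.out : p.Prime).one_lt.ne hg
    · rintro ⟨⟨g, rfl, hg⟩, hne⟩
      exact ⟨g, rfl, orderOf_eq_prime hg fun e => hne (by rw [e]; rfl)⟩
  have h1mem : ConjClasses.mk (1 : Gm) ∈ Set.range (fun L => ConjClasses.mk (elem L)) := by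
    rw [hrange]
    exact ⟨1, rfl, one_pow p⟩
  calc _ = ({C : ConjClasses Gm | ∃ g : Gm, ConjClasses.mk g = C ∧ orderOf g = p}).ncard :=
        Nat.card_coe_set_eq _
    _ = _ := by
      rw [hset, Set.ncard_diff_singleton_of_mem h1mem, ← Nat.card_coe_set_eq,
        Nat.card_range_of_injective hinj, Nat.card_eq_fintype_card, Fintype.card_sigma]
      simp only [Fintype.card_coe, Finset.card_powerset]
      rw [Finset.sum_coe_sort _ (fun μ : Nat.Partition (2 * m) =>
        2 ^ ((μ.parts.toFinset.filter (fun j : ℕ => Even j)).card))]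

end CfsgLib.KnownC.SpNilp
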