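import Cfsg.Agent.Lib.KnownC.SpNilpModel

/-!
Invariants separating the normal forms of skew nilpotent maps of a symplectic space: kernel sizes
and Gauss sums.
-/

set_option autoImplicit false
set_option linter.unusedSectionVars false
set_option linter.unusedVariables false

namespace CfsgLib.KnownC.SpNilp

open Finset

variable {F : Type*} [Field F]

/-! ### Quadratic Gauss sums -/

section Gauss

variable [Fintype F] [DecidableEq F]

/-- The quadratic Gauss sum. -/
noncomputable def qsum (ψ : AddChar F ℂ) (a : F) : ℂ := ∑ t : F, ψ (a * (t * t))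

theorem qsum_eq (hodd : ringChar F ≠ 2) {ψ : AddChar F ℂ} (hψ : ψ.IsPrimitive) {a : F} (ha : a ≠ 0) :
    qsum ψ a = (quadraticChar F a : ℂ) *
      gaussSum ((quadraticChar F).ringHomComp (Int.castRingHom ℂ)) ψ := by
  set χ := (quadraticChar F).ringHomComp (Int.castRingHom ℂ) with hχ
  have h0 : ∑ x : F, ψ (a * x) = 0 := by
    have h := AddChar.sum_mulShift (ψ := ψ) a hψ
    rw [if_neg ha, Nat.cast_zero] at h
    rw [← h]
    exact Finset.sum_congr rfl fun x _ => by rw [mul_comm]
  have h1 : qsum ψ a = ∑ x : F, ((quadraticChar F x : ℂ) + 1) * ψ (a * x) := by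
    rw [qsum, ← Finset.sum_fiberwise_of_maps_to (g := fun t : F => t * t)
      (fun t _ => Finset.mem_univ _)]
    refine Finset.sum_congr rfl fun x _ => ?_
    rw [Finset.sum_congr rfl (fun t ht => by rw [(Finset.mem_filter.1 ht).2] :
        ∀ t ∈ Finset.univ.filter (fun t : F => t * t = x), ψ (a * (t * t)) = ψ (a * x)),
      Finset.sum_const, nsmul_eq_mul]
    congr 1
    have h := quadraticChar_card_sqrts hodd x
    have hset : ({t : F | t ^ 2 = x}.toFinset) = Finset.univ.filter (fun t : F => t * t = x) := by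
      ext t; simp [sq]
    rw [hset] at h
    exact_mod_cast congrArg (fun z : ℤ => (z : ℂ)) h
  rw [h1]
  simp only [add_mul, one_mul, Finset.sum_add_distrib, h0, add_zero]
  have h2 : gaussSum χ (ψ.mulShift ((Units.mk0 a ha : Fˣ) : F)) = (quadraticChar F a : ℂ) * gaussSum χ ψ := by
    rw [gaussSum_mulShift_eq, show χ⁻¹ = χ from
      ((quadraticChar_isQuadratic F).comp (Int.castRingHom ℂ)).inv]
    rfl
  rw [← h2, gaussSum]
  rfl

theorem qsum_one_ne_zero (hodd : ringChar F ≠ 2) {ψ : AddChar F ℂ} (hψ : ψ.IsPrimitive) :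
    qsum ψ 1 ≠ 0 := by
  rw [qsum_eq hodd hψ one_ne_zero, map_one, Int.cast_one, one_mul]
  intro h
  have hq := (quadraticChar_isQuadratic F).comp (Int.castRingHom ℂ)
  have hne : (quadraticChar F).ringHomComp (Int.castRingHom ℂ) ≠ 1 :=
    (MulChar.ringHomComp_ne_one_iff (Int.cast_injective)).2 (quadraticChar_ne_one hodd)
  have := gaussSum_sq hne hq hψ
  rw [h, zero_pow (by norm_num)] at this
  rcases mul_eq_zero.1 this.symm with e | e
  · exact (IsUnit.map ((quadraticChar F).ringHomComp (Int.castRingHom ℂ))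
      (isUnit_one.neg)).ne_zero e
  · exact Fintype.card_ne_zero (by exact_mod_cast e)

theorem qsum_nonsquare (hodd : ringChar F ≠ 2) {ψ : AddChar F ℂ} (hψ : ψ.IsPrimitive) {ν : F}
    (hν : ¬IsSquare ν) : qsum ψ ν = -qsum ψ 1 := by
  rw [qsum_eq hodd hψ one_ne_zero, qsum_eq hodd hψ (fun e => hν (by rw [e]; exact IsSquare.zero)),
    quadraticChar_neg_one_iff_not_isSquare.2 hν, map_one]
  push_cast
  ring

theorem exists_primitive : ∃ ψ : AddChar F ℂ, ψ.IsPrimitive := by
  obtain ⟨ψ, hψ⟩ := (AddChar.exists_apply_ne_zero (a := (1 : F))).2 one_ne_zero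
  exact ⟨ψ, AddChar.IsPrimitive.of_ne_one fun e => hψ (by rw [e, AddChar.one_apply])⟩

end Gauss

/-! ### Invariants -/

section Inv

variable {V : Type*} [AddCommGroup V] [Module F V]

/-- The size of the kernel of a power. -/
noncomputable def kerCard (N : Module.End F V) (i : ℕ) : ℕ := Nat.card {v : V // (N ^ i) v = 0}

open scoped Classical in
/-- The Gauss sum of degree `j`. -/
noncomputable def gsum [Fintype V] (ψ : AddChar F ℂ) (ω : V →ₗ[F] V →ₗ[F] F) (N : Module.End F V)
    (j : ℕ) : ℂ :=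
  ∑ v : V, if (N ^ j) v = 0 then ψ (ω ((N ^ (j - 1)) v) v) else 0

variable {V' : Type*} [AddCommGroup V'] [Module F V'] {ω : V →ₗ[F] V →ₗ[F] F}
  {ω' : V' →ₗ[F] V' →ₗ[F] F} {N : Module.End F V} {N' : Module.End F V'}

theorem intertwine_pow (g : V ≃ₗ[F] V') (hg : ∀ v, g (N v) = N' (g v)) : ∀ (i : ℕ) (v : V),
    g ((N ^ i) v) = (N' ^ i) (g v) := by
  intro i
  induction i with
  | zero => intro v; simp
  | succ i ih => intro v; rw [pow_succ', pow_succ', Module.End.mul_apply, Module.End.mul_apply, hg, ih]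

theorem kerCard_congr (g : V ≃ₗ[F] V') (hg : ∀ v, g (N v) = N' (g v)) (i : ℕ) :
    kerCard N i = kerCard N' i :=
  Nat.card_congr (g.toEquiv.subtypeEquiv fun v => by
    show (N ^ i) v = 0 ↔ (N' ^ i) (g v) = 0
    rw [← intertwine_pow g hg, LinearEquiv.map_eq_zero_iff])

theorem gsum_congr [Fintype V] [Fintype V'] (ψ : AddChar F ℂ) (g : V ≃ₗ[F] V')
    (hg : ∀ v, g (N v) = N' (g v)) (hω : ∀ x y, ω' (g x) (g y) = ω x y) (j : ℕ) :
    gsum ψ ω N j = gsum ψ ω' N' j := by
  classical
  refine Fintype.sum_equiv g.toEquiv _ _ fun v => ?_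
  show _ = if (N' ^ j) (g v) = 0 then ψ (ω' ((N' ^ (j - 1)) (g v)) (g v)) else 0
  rw [← intertwine_pow g hg, ← intertwine_pow g hg, hω]
  exact if_congr (LinearEquiv.map_eq_zero_iff g).symm rfl rfl

variable {ι ι' : Type*} [Fintype ι] [DecidableEq ι] [Fintype ι'] [DecidableEq ι']
  {T : ι → ℕ × Bool} {T' : ι' → ℕ × Bool} {ν : F}

/-- Decompositions of equal type give an intertwining isometry. -/
theorem exists_isometry (D : Dec ω N ν ⊤ T) (D' : Dec ω' N' ν ⊤ T') (e : ι' ≃ ι) (he : T ∘ e = T')
    (hN : ∀ x y, ω (N x) y = -ω x (N y)) (hN' : ∀ x y, ω' (N' x) y = -ω' x (N' y)) (hν : ν ≠ 0) :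
    ∃ g : V ≃ₗ[F] V', (∀ x y, ω' (g x) (g y) = ω x y) ∧ ∀ v, g (N v) = N' (g v) := by
  subst he
  refine ⟨((D.reindex e).equiv hN hν).symm.trans (D'.equiv hN' hν), fun x y => ?_, fun v => ?_⟩
  · obtain ⟨a, rfl⟩ := ((D.reindex e).equiv hN hν).surjective x
    obtain ⟨b, rfl⟩ := ((D.reindex e).equiv hN hν).surjective y
    simp only [LinearEquiv.trans_apply, LinearEquiv.symm_apply_apply]
    show ω' (D'.map a) (D'.map b) = ω ((D.reindex e).map a) ((D.reindex e).map b)
    rw [D'.map_form hN', (D.reindex e).map_form hN]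
  · obtain ⟨a, rfl⟩ := ((D.reindex e).equiv hN hν).surjective v
    simp only [LinearEquiv.trans_apply, LinearEquiv.symm_apply_apply]
    rw [show N ((D.reindex e).equiv hN hν a) = (D.reindex e).equiv hN hν (shift a) from
      (D.reindex e).map_shift a, LinearEquiv.symm_apply_apply]
    exact (D'.map_shift a).symm

end Inv

/-! ### The invariants of the model -/

section Model

variable {ι : Type*} [Fintype ι] [DecidableEq ι] {T : ι → ℕ × Bool}

theorem addChar_sum {α : Type*} (ψ : AddChar F ℂ) (s : Finset α) (f : α → F) :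
    ψ (∑ x ∈ s, f x) = ∏ x ∈ s, ψ (f x) := by
  classical
  induction s using Finset.induction_on with
  | empty => simp [AddChar.map_zero_eq_one]
  | insert a t ha ih => rw [Finset.sum_insert ha, Finset.prod_insert ha, AddChar.map_add_eq_mul, ih]

/-- The coordinates free on the kernel of the `i`-th power. -/
def free (T : ι → ℕ × Bool) (i : ℕ) : Finset (Idx T) :=
  Finset.univ.filter fun u => (T u.1.1).1 ≤ (u.2 : ℕ) + i

theorem shift_ker_iff (i : ℕ) (v : Idx T → F) :
    ((shift (F := F)) ^ i) v = 0 ↔ ∀ u, u ∉ free T i → v u = 0 := by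
  constructor
  · intro h u hu
    obtain ⟨a, k⟩ := u
    have hk : (k : ℕ) + i < (T a.1).1 := by simpa [free] using hu
    have := congrFun h ⟨a, ⟨(k : ℕ) + i, hk⟩⟩
    rw [shift_pow_apply, dif_pos (by dsimp only; omega)] at this
    refine (congrArg v ((idx_eq_iff _ _).2 ?_)).trans this
    dsimp only
    omega
  · intro h
    funext u
    obtain ⟨a, k⟩ := u
    rw [shift_pow_apply]
    split_ifs with h1
    · exact h _ (by have := k.2; simp [free]; omega)
    · rfl

theorem card_free (i : ℕ) : (free T i).card = ∑ a : Slot T, min i (T a.1).1 := by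
  have h : free T i = (Finset.univ : Finset (Slot T)).sigma fun a =>
      Finset.univ.filter fun k : Fin (T a.1).1 => (T a.1).1 ≤ (k : ℕ) + i := by
    ext u; simp [free]
  rw [h, Finset.card_sigma]
  refine Finset.sum_congr rfl fun a _ => ?_
  generalize (T a.1).1 = J
  rw [show (Finset.univ.filter fun k : Fin J => J ≤ (k : ℕ) + i) =
      (Finset.univ.filter fun k : Fin J => (k : ℕ) < i).image Fin.rev by
    ext k
    simp only [Finset.mem_filter, Finset.mem_univ, true_and, Finset.mem_image]
    constructor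
    · intro hk
      exact ⟨k.rev, by rw [Fin.val_rev]; omega, Fin.rev_rev k⟩
    · rintro ⟨l, hl, rfl⟩
      rw [Fin.val_rev]; omega,
    Finset.card_image_of_injective _ Fin.rev_injective, Fin.card_filter_val_lt, min_comm]

theorem kerCard_model [Fintype F] (i : ℕ) :
    kerCard (shift (F := F) (T := T)) i = Fintype.card F ^ (free T i).card := by
  classical
  have e : {v : Idx T → F // ((shift (F := F)) ^ i) v = 0} ≃ ({u // u ∈ free T i} → F) :=
    { toFun := fun v u => v.1 u.1
      invFun := fun f => ⟨fun u => if h : u ∈ free T i then f ⟨u, h⟩ else 0,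
        (shift_ker_iff i _).2 fun u hu => dif_neg hu⟩
      left_inv := fun v => Subtype.ext (funext fun u => by
        by_cases h : u ∈ free T i
        · exact dif_pos h
        · exact (dif_neg h).trans ((shift_ker_iff i _).1 v.2 u h).symm)
      right_inv := fun f => funext fun u => dif_pos u.2 }
  rw [kerCard, Nat.card_congr e, Nat.card_fun, Nat.card_eq_fintype_card, Nat.card_eq_fintype_card,
    Fintype.card_coe]

/-- The chains of length `j`. -/
def chains (T : ι → ℕ × Bool) (j : ℕ) : Finset (Slot T) :=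
  Finset.univ.filter fun a => (T a.1).1 = j

theorem card_chains (j : ℕ) :
    (chains T j).card = mult j * (Finset.univ.filter fun i => (T i).1 = j).card := by
  have h : chains T j = (Finset.univ.filter fun i => (T i).1 = j).sigma fun _ => Finset.univ := by
    ext a; simp [chains]
  rw [h, Finset.card_sigma, Finset.sum_congr rfl (fun i hi => by
    rw [Finset.card_univ, Fintype.card_fin, (Finset.mem_filter.1 hi).2] :
      ∀ i ∈ Finset.univ.filter (fun i => (T i).1 = j),
        (Finset.univ : Finset (Fin (mult (T i).1))).card = mult j),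
    Finset.sum_const, smul_eq_mul, mul_comm]

/-- The bottom indices of the chains of length `j`. -/
def special (T : ι → ℕ × Bool) (j : ℕ) : Finset (Idx T) :=
  Finset.univ.filter fun u => (T u.1.1).1 = j ∧ (u.2 : ℕ) = 0

theorem special_subset (j : ℕ) : special T j ⊆ free T j := fun u hu => by
  simp [special, free] at hu ⊢
  omega

theorem card_special (hpos : ∀ i, 1 ≤ (T i).1) (j : ℕ) : (special T j).card = (chains T j).card :=
  Finset.card_bij' (fun u _ => u.1) (fun a _ => ⟨a, ⟨0, hpos _⟩⟩)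
    (fun u hu => by simp [special] at hu; simp [chains, hu.1])
    (fun a ha => by simp [chains] at ha; simp [special, ha])
    (fun u hu => by
      obtain ⟨a, k⟩ := u
      simp [special] at hu
      exact (idx_eq_iff _ _).2 hu.2.symm)
    (fun a _ => rfl)

theorem model_value (h2 : (2 : F) ≠ 0) (ν : F) {j : ℕ} (he : Even j) (hj : 1 ≤ j) (v : Idx T → F)
    (hv : ((shift (F := F)) ^ j) v = 0) :
    mform ν (((shift (F := F)) ^ (j - 1)) v) v =
      ∑ u, if u ∈ special T j then coef ν u.1 * (v u * v u) else 0 := by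
  have hk := (shift_ker_iff j v).1 hv
  rw [mform_apply, ← Equiv.sum_comp (dual_involutive.toPerm _)
    (fun u => ((shift (F := F)) ^ (j - 1)) v u * wt ν u * v (dual u))]
  refine Finset.sum_congr rfl fun u _ => ?_
  simp only [Function.Involutive.coe_toPerm, dual_dual]
  obtain ⟨a, k⟩ := u
  have hk2 := k.2
  by_cases hs : (⟨a, k⟩ : Idx T) ∈ special T j
  · rw [if_pos hs]
    obtain ⟨hJ, hk0⟩ : (T a.1).1 = j ∧ (k : ℕ) = 0 := by simpa [special] using hs
    have hpa : par a = a := by
      obtain ⟨i, s⟩ := a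
      refine congrArg (Sigma.mk i) (Fin.ext ?_)
      have hs' := s.2
      have hm : mult (T i).1 = 1 := by rw [mult, if_pos (by rw [hJ]; exact he)]
      rw [Fin.val_rev]
      dsimp only at hs' ⊢
      omega
    obtain ⟨y, hy, e⟩ : ∃ y : Fin (T (par a).1).1, (y : ℕ) = (T a.1).1 - ((k : ℕ) + 1) ∧
        dual (⟨a, k⟩ : Idx T) = ⟨par a, y⟩ := ⟨_, Fin.val_rev k, rfl⟩
    rw [wt_dual, e, shift_pow_apply, dif_pos (by omega), wt]
    dsimp only
    have hv' : ∀ (b : Slot T) (x : Fin (T b.1).1), b = a → (x : ℕ) = 0 → v ⟨b, x⟩ = v ⟨a, k⟩ := by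
      rintro b x rfl hx
      exact congrArg v ((idx_eq_iff _ _).2 (by omega))
    rw [hv' _ _ hpa (by dsimp only; omega), hk0, hJ,
      show j - 1 - 0 = j - 1 by omega]
    have ho : Odd (j - 1) := by obtain ⟨c, hc⟩ := he; exact ⟨c - 1, by omega⟩
    rw [ho.neg_one_pow]
    ring
  · rw [if_neg hs]
    by_cases h0 : v ⟨a, k⟩ = 0
    · simp [h0]
    have hf : (⟨a, k⟩ : Idx T) ∈ free T j := by by_contra h; exact h0 (hk _ h)
    have hJk : (T a.1).1 ≤ (k : ℕ) + j := by simpa [free] using hf
    obtain ⟨y, hy, e⟩ : ∃ y : Fin (T (par a).1).1, (y : ℕ) = (T a.1).1 - ((k : ℕ) + 1) ∧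
        dual (⟨a, k⟩ : Idx T) = ⟨par a, y⟩ := ⟨_, Fin.val_rev k, rfl⟩
    rw [e, shift_pow_apply]
    split_ifs with h1
    · by_cases h0' : v ⟨par a, ⟨(y : ℕ) - (j - 1), by omega⟩⟩ = 0
      · rw [h0', zero_mul, zero_mul]
      exfalso
      have hf' : (⟨par a, ⟨(y : ℕ) - (j - 1), by omega⟩⟩ : Idx T) ∈ free T j := by
        by_contra h
        exact h0' (hk _ h)
      have hJk' : (T a.1).1 ≤ (y : ℕ) - (j - 1) + j := (Finset.mem_filter.1 hf').2
      have hy2 : (y : ℕ) < (T a.1).1 := y.2
      clear h0' hf'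
      generalize (y : ℕ) = yv at h1 hy hy2 hJk'
      simp [special] at hs
      generalize (k : ℕ) = κ at hy hJk hk2 hs ⊢
      generalize (T a.1).1 = J at hy hy2 hJk hJk' hk2 hs ⊢
      by_cases hk0 : κ = 0
      · exact hs (by omega) hk0
      · omega
    · simp

theorem gsum_model [Fintype F] [DecidableEq F] (h2 : (2 : F) ≠ 0) (ν : F) (ψ : AddChar F ℂ) {j : ℕ}
    (he : Even j) (hj : 1 ≤ j) :
    gsum ψ (mform (T := T) ν) shift j = ∏ u : Idx T,
      if u ∈ special T j then qsum ψ (coef ν u.1) else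
        if u ∈ free T j then (Fintype.card F : ℂ) else 1 := by
  classical
  let h : Idx T → F → ℂ := fun u t => if u ∈ special T j then ψ (coef ν u.1 * (t * t)) else
    if u ∈ free T j then 1 else if t = 0 then 1 else 0
  have h1 : ∀ v : Idx T → F, (if ((shift (F := F)) ^ j) v = 0 then
      ψ (mform ν (((shift (F := F)) ^ (j - 1)) v) v) else 0) = ∏ u, h u (v u) := by
    intro v
    by_cases hv : ((shift (F := F)) ^ j) v = 0
    · rw [if_pos hv, model_value h2 ν he hj v hv, addChar_sum]
      refine Finset.prod_congr rfl fun u _ => ?_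
      simp only [h]
      by_cases hu : u ∈ special T j
      · rw [if_pos hu, if_pos hu]
      · rw [if_neg hu, if_neg hu, AddChar.map_zero_eq_one]
        by_cases hf : u ∈ free T j
        · rw [if_pos hf]
        · rw [if_neg hf, if_pos ((shift_ker_iff j v).1 hv u hf)]
    · rw [if_neg hv]
      rw [shift_ker_iff] at hv
      simp only [not_forall] at hv
      obtain ⟨u, hu, hu0⟩ := hv
      refine (Finset.prod_eq_zero (Finset.mem_univ u) ?_).symm
      simp only [h]
      rw [if_neg fun e => hu (special_subset j e), if_neg hu, if_neg hu0]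
  refine ((Finset.sum_congr rfl fun v _ => ?_ : _ = ∑ v : Idx T → F, ∏ u, h u (v u)).trans
    (Fintype.prod_sum h).symm).trans ?_
  · rw [← h1 v]
    split_ifs <;> rfl
  refine Finset.prod_congr rfl fun u _ => ?_
  simp only [h]
  split_ifs with hs hf
  · rfl
  · simp
  · simp

theorem gsum_model_eq [Fintype F] [DecidableEq F] (hodd : ringChar F ≠ 2) {ν : F} (hν : ¬IsSquare ν)
    {ψ : AddChar F ℂ} (hψ : ψ.IsPrimitive) (hpos : ∀ i, 1 ≤ (T i).1) {j : ℕ} (he : Even j)
    (hj : 1 ≤ j) :
    gsum ψ (mform (T := T) ν) shift j =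
      (-1) ^ (Finset.univ.filter fun i => T i = (j, true)).card *
        (qsum ψ 1 ^ (chains T j).card *
          (Fintype.card F : ℂ) ^ ((free T j).card - (chains T j).card)) := by
  have hsplit : ∀ u : Idx T, (if u ∈ special T j then qsum ψ (coef ν u.1) else
      if u ∈ free T j then (Fintype.card F : ℂ) else 1) =
      (if u ∈ special T j ∧ (T u.1.1).2 = true then (-1 : ℂ) else 1) *
        ((if u ∈ special T j then qsum ψ 1 else 1) *
          (if u ∈ free T j \ special T j then (Fintype.card F : ℂ) else 1)) := by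
    intro u
    by_cases hs : u ∈ special T j
    · have hev : Even (T u.1.1).1 := by
        rw [show (T u.1.1).1 = j by simp [special] at hs; exact hs.1]; exact he
      rw [if_pos hs, if_pos hs, if_neg (fun h => (Finset.mem_sdiff.1 h).2 hs), coef, if_pos hev]
      cases hb : (T u.1.1).2 <;> simp [hs, qsum_nonsquare hodd hψ hν]
    · rw [if_neg hs, if_neg hs, if_neg (fun h : u ∈ special T j ∧ (T u.1.1).2 = true => hs h.1),
        one_mul, one_mul]
      exact if_congr (by simp [hs]) rfl rfl
  rw [gsum_model (Ring.two_ne_zero hodd) ν ψ he hj, Finset.prod_congr rfl (fun u _ => hsplit u),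
    Finset.prod_mul_distrib, Finset.prod_mul_distrib, Finset.prod_ite, Finset.prod_ite,
    Finset.prod_ite]
  simp only [Finset.prod_const, Finset.prod_const_one, mul_one, one_pow, Finset.filter_mem_eq_inter,
    Finset.univ_inter, Finset.card_sdiff_of_subset (special_subset j), card_special hpos]
  congr 2
  refine Finset.card_bij (fun u _ => u.1.1) (fun u hu => ?_) (fun u hu u' hu' e => ?_) (fun i hi => ?_)
  · simp [special] at hu
    simp [Prod.ext_iff, hu]
  · obtain ⟨⟨i, s⟩, k⟩ := u
    obtain ⟨⟨i', s'⟩, k'⟩ := u'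
    simp [special] at hu hu'
    obtain rfl : i = i' := e
    have hm : mult (T i).1 = 1 := by rw [mult, if_pos (by rw [hu.1.1]; exact he)]
    obtain rfl : s = s' := Fin.ext (by have := s.2; have := s'.2; omega)
    exact (idx_eq_iff _ _).2 (by omega)
  · simp [Prod.ext_iff] at hi
    refine ⟨⟨⟨i, ⟨0, mult_pos _⟩⟩, ⟨0, hpos i⟩⟩, ?_, rfl⟩
    simp [special, hi]

end Model

end CfsgLib.KnownC.SpNilp
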