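import Mathlib

/-!
Normal forms of skew nilpotent maps of a symplectic space: the model and its comparison maps.
A piece is a type `(j, b)`: one chain of length `j` with value `1` or `ν` if `j` is even, a dual pair
of chains if `j` is odd.
-/

set_option autoImplicit false
set_option linter.unusedSectionVars false
set_option linter.unusedVariables false

namespace CfsgLib.KnownC.SpNilp

open Finset

variable {F : Type*} [Field F]

/-- The number of chains of a piece. -/
def mult (j : ℕ) : ℕ := if Even j then 1 else 2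

theorem mult_pos (j : ℕ) : 0 < mult j := by unfold mult; split <;> omega

variable {ι : Type*}

/-- The chains. -/
abbrev Slot (T : ι → ℕ × Bool) := Σ i : ι, Fin (mult (T i).1)

/-- The basis indices. -/
abbrev Idx (T : ι → ℕ × Bool) := Σ a : Slot T, Fin (T a.1).1

variable {T : ι → ℕ × Bool}

/-- The partner chain. -/
def par (a : Slot T) : Slot T := ⟨a.1, a.2.rev⟩

theorem par_par (a : Slot T) : par (par a) = a := by
  obtain ⟨i, s⟩ := a
  simp [par]

/-- The dual index. -/
def dual (u : Idx T) : Idx T := ⟨par u.1, u.2.rev⟩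

theorem dual_dual (u : Idx T) : dual (dual u) = u := by
  obtain ⟨⟨i, s⟩, k⟩ := u
  simp [dual, par]

theorem dual_involutive : Function.Involutive (dual (T := T)) := dual_dual

/-- The value of a chain against its partner. -/
def coef (ν : F) (a : Slot T) : F :=
  if Even (T a.1).1 then (if (T a.1).2 then ν else 1) else if (a.2 : ℕ) = 0 then 1 else -1

theorem coef_ne_zero {ν : F} (hν : ν ≠ 0) (a : Slot T) : coef ν a ≠ 0 := by
  unfold coef
  split_ifs <;> simp [hν]

theorem coef_par (ν : F) (a : Slot T) :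
    coef ν (par a) = (-1) ^ (T a.1).1 * coef ν a := by
  obtain ⟨i, s⟩ := a
  have hv : ((par ⟨i, s⟩ : Slot T).2 : ℕ) = mult (T i).1 - ((s : ℕ) + 1) := Fin.val_rev s
  rw [coef, coef]
  by_cases he : Even (T i).1
  · rw [if_pos (show Even (T (par ⟨i, s⟩ : Slot T).1).1 from he), if_pos he, he.neg_one_pow, one_mul]
    rfl
  · have hm : mult (T i).1 = 2 := if_neg he
    have hs : (s : ℕ) < 2 := hm ▸ s.2
    rw [if_neg (show ¬ Even (T (par ⟨i, s⟩ : Slot T).1).1 from he), if_neg he,
      (Nat.not_even_iff_odd.1 he).neg_one_pow, hv]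
    obtain h | h : (s : ℕ) = 0 ∨ (s : ℕ) = 1 := by omega
    all_goals simp [h, hm]

/-- The value of an index against its dual. -/
def wt (ν : F) (u : Idx T) : F := (-1) ^ ((T u.1.1).1 - 1 - (u.2 : ℕ)) * coef ν u.1

theorem wt_ne_zero {ν : F} (hν : ν ≠ 0) (u : Idx T) : wt ν u ≠ 0 :=
  mul_ne_zero (pow_ne_zero _ (neg_ne_zero.2 one_ne_zero)) (coef_ne_zero hν _)

theorem wt_dual (ν : F) (u : Idx T) : wt ν (dual u) = -wt ν u := by
  obtain ⟨a, k⟩ := u
  have hk := k.2
  show (-1 : F) ^ ((T a.1).1 - 1 - ((k.rev : Fin _) : ℕ)) * coef ν (par a) = _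
  rw [Fin.val_rev, coef_par, wt, ← mul_assoc, ← pow_add, neg_mul_eq_neg_mul]
  congr 1
  dsimp only
  generalize (k : ℕ) = κ at hk ⊢
  generalize (T a.1).1 = J at hk ⊢
  obtain ⟨c, rfl⟩ : ∃ c, J = κ + 1 + c := ⟨_, (Nat.add_sub_cancel' hk).symm⟩
  rw [show κ + 1 + c - 1 - (κ + 1 + c - (κ + 1)) + (κ + 1 + c) = 2 * κ + (c + 1) by omega,
    show κ + 1 + c - 1 - κ = c by omega, pow_add, pow_mul, neg_one_sq, one_pow, one_mul, pow_succ]
  ring

variable [Fintype ι] [DecidableEq ι]

/-- The model form. -/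
def mform (ν : F) : (Idx T → F) →ₗ[F] (Idx T → F) →ₗ[F] F :=
  LinearMap.mk₂ F (fun v v' => ∑ u, v u * wt ν u * v' (dual u))
    (fun a b c => by simp only [Pi.add_apply, add_mul, Finset.sum_add_distrib])
    (fun r a c => by simp only [Pi.smul_apply, smul_eq_mul, Finset.mul_sum, mul_assoc])
    (fun a b c => by simp only [Pi.add_apply, mul_add, Finset.sum_add_distrib])
    (fun r a c => by
      simp only [Pi.smul_apply, smul_eq_mul, Finset.mul_sum]
      exact Finset.sum_congr rfl fun u _ => by ring)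

theorem mform_apply (ν : F) (v v' : Idx T → F) :
    mform ν v v' = ∑ u, v u * wt ν u * v' (dual u) := rfl

theorem mform_single (ν : F) (u u' : Idx T) :
    mform ν (Pi.single u 1) (Pi.single u' 1) = if u' = dual u then wt ν u else 0 := by
  rw [mform_apply, Finset.sum_eq_single u (fun b _ hb => by simp [hb]) (by simp)]
  rcases eq_or_ne u' (dual u) with h | h
  · subst h; simp
  · simp [h, Ne.symm h]

theorem mform_self (ν : F) (h2 : (2 : F) ≠ 0) (v : Idx T → F) : mform ν v v = 0 := by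
  have h : mform ν v v = -mform ν v v := by
    rw [mform_apply]
    conv_lhs => rw [← Equiv.sum_comp (dual_involutive.toPerm _) (fun u => v u * wt ν u * v (dual u))]
    simp only [Function.Involutive.coe_toPerm, dual_dual, wt_dual]
    rw [← Finset.sum_neg_distrib]
    exact Finset.sum_congr rfl fun u _ => by ring
  refine (mul_eq_zero.1 (?_ : (2 : F) * mform ν v v = 0)).resolve_left h2
  linear_combination h

theorem mform_sep {ν : F} (hν : ν ≠ 0) (v : Idx T → F) (h : ∀ v', mform ν v v' = 0) : v = 0 := by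
  funext u
  have := h (Pi.single (dual u) 1)
  rw [mform_apply, Finset.sum_eq_single u (fun b _ hb => by
    simp [dual_involutive.injective.ne hb]) (by simp), Pi.single_eq_same, mul_one] at this
  exact (mul_eq_zero.1 this).resolve_right (wt_ne_zero hν u)

/-- The model shift. -/
def shift : Module.End F (Idx T → F) where
  toFun v u := if h : 0 < (u.2 : ℕ) then v ⟨u.1, ⟨(u.2 : ℕ) - 1, by omega⟩⟩ else 0
  map_add' v w := funext fun u => by dsimp; split_ifs <;> simp
  map_smul' r v := funext fun u => by dsimp; split_ifs <;> simp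

theorem idx_eq_iff {a : Slot T} (x y : Fin (T a.1).1) :
    (⟨a, x⟩ : Idx T) = ⟨a, y⟩ ↔ (x : ℕ) = y :=
  ⟨fun e => by
    have := eq_of_heq (Sigma.mk.inj e).2
    rw [this], fun e => by rw [Fin.ext e]⟩

theorem shift_pow_apply : ∀ (i : ℕ) (v : Idx T → F) (a : Slot T) (k : Fin (T a.1).1),
    ((shift (F := F)) ^ i) v ⟨a, k⟩ =
      if h : i ≤ (k : ℕ) then v ⟨a, ⟨(k : ℕ) - i, by omega⟩⟩ else 0 := by
  intro i
  induction i with
  | zero => intro v a k; simp
  | succ i ih =>
    intro v a k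
    rw [pow_succ', Module.End.mul_apply]
    show (if h : 0 < (k : ℕ) then ((shift (F := F)) ^ i) v ⟨a, ⟨(k : ℕ) - 1, _⟩⟩ else 0) = _
    split_ifs with h1 h2 h2
    · rw [ih, dif_pos (by dsimp only; omega)]
      congr 1
      exact (idx_eq_iff _ _).2 (by dsimp only; omega)
    · rw [ih, dif_neg (by dsimp only; omega)]
    · omega
    · rfl

theorem shift_pow_single (a : Slot T) (k : Fin (T a.1).1) (i : ℕ) :
    ((shift (F := F)) ^ i) (Pi.single ⟨a, k⟩ 1) =
      if h : (k : ℕ) + i < (T a.1).1 then Pi.single ⟨a, ⟨(k : ℕ) + i, h⟩⟩ 1 else 0 := by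
  funext u
  obtain ⟨b, l⟩ := u
  rw [shift_pow_apply]
  have hne : ∀ (x : Fin (T b.1).1) (y : Fin (T a.1).1), b ≠ a → (⟨b, x⟩ : Idx T) ≠ ⟨a, y⟩ :=
    fun x y h e => h (congrArg Sigma.fst e)
  rcases eq_or_ne b a with rfl | hb
  · have := l.2
    split_ifs with h1 h2 h2 <;> simp only [Pi.zero_apply, Pi.single_apply, idx_eq_iff]
    · exact if_congr (by omega) rfl rfl
    · exact if_neg (by omega)
    · exact (if_neg (by omega)).symm
  · split_ifs with h1 h2 h2 <;> simp [Pi.single_apply, hne _ _ hb]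

/-! ### Decompositions -/

variable {V : Type*} [AddCommGroup V] [Module F V]

/-- A decomposition of the subspace `W` into pieces of types `T`. -/
structure Dec (ω : V →ₗ[F] V →ₗ[F] F) (N : Module.End F V) (ν : F) (W : Submodule F V)
    (T : ι → ℕ × Bool) where
  x : Slot T → V
  pos : ∀ i, 1 ≤ (T i).1
  nil : ∀ a, (N ^ (T a.1).1) (x a) = 0
  gram : ∀ a b (k : ℕ), k < (T a.1).1 →
    ω ((N ^ k) (x a)) (x b) = if k + 1 = (T a.1).1 ∧ b = par a then coef ν a else 0
  span_eq : Submodule.span F (Set.range fun u : Idx T => (N ^ (u.2 : ℕ)) (x u.1)) = W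

variable {ω : V →ₗ[F] V →ₗ[F] F} {N : Module.End F V} {ν : F} {W : Submodule F V}

theorem skew_pow (hN : ∀ x y, ω (N x) y = -ω x (N y)) : ∀ (k : ℕ) (x y : V),
    ω ((N ^ k) x) y = (-1) ^ k * ω x ((N ^ k) y) := by
  intro k
  induction k with
  | zero => intro x y; simp
  | succ k ih =>
    intro x y
    rw [pow_succ, Module.End.mul_apply, ih (N x) y, hN, ← Module.End.mul_apply, ← pow_succ',
      pow_succ (-1 : F), pow_succ]
    ring

theorem pow_eq_zero_of_le {x : V} {j k : ℕ} (h : (N ^ j) x = 0) (hk : j ≤ k) : (N ^ k) x = 0 := by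
  obtain ⟨c, rfl⟩ := Nat.exists_eq_add_of_le hk
  rw [add_comm, pow_add, Module.End.mul_apply, h, map_zero]

/-- The vector of an index. -/
def Dec.bs (D : Dec ω N ν W T) (u : Idx T) : V := (N ^ (u.2 : ℕ)) (D.x u.1)

theorem Dec.pair (D : Dec ω N ν W T) (hN : ∀ x y, ω (N x) y = -ω x (N y)) (u v : Idx T) :
    ω (D.bs u) (D.bs v) = if v = dual u then wt ν u else 0 := by
  obtain ⟨a, k⟩ := u
  obtain ⟨b, l⟩ := v
  have hk := k.2
  have hl := l.2
  simp only [Dec.bs]
  have hsk := skew_pow hN (l : ℕ) ((N ^ (k : ℕ)) (D.x a)) (D.x b)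
  rw [← Module.End.mul_apply, ← pow_add] at hsk
  have hω : ω ((N ^ (k : ℕ)) (D.x a)) ((N ^ (l : ℕ)) (D.x b)) =
      (-1) ^ (l : ℕ) * ω ((N ^ ((l : ℕ) + (k : ℕ))) (D.x a)) (D.x b) := by
    rw [hsk, ← mul_assoc, ← mul_pow, neg_one_mul, neg_neg, one_pow, one_mul]
  rw [hω]
  have hdual : (⟨b, l⟩ : Idx T) = dual ⟨a, k⟩ ↔ b = par a ∧ (l : ℕ) + (k : ℕ) + 1 = (T a.1).1 := by
    constructor
    · intro e
      obtain ⟨rfl, e'⟩ := Sigma.mk.injEq _ _ _ _ ▸ e
      refine ⟨rfl, ?_⟩
      rw [eq_of_heq e', Fin.val_rev]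
      show (T a.1).1 - ((k : ℕ) + 1) + (k : ℕ) + 1 = _
      omega
    · rintro ⟨rfl, e⟩
      exact Sigma.ext rfl (heq_of_eq (Fin.ext (by
        show (l : ℕ) = ((k.rev : Fin _) : ℕ)
        rw [Fin.val_rev]; omega)))
  rcases Nat.lt_or_ge ((l : ℕ) + (k : ℕ)) (T a.1).1 with h | h
  · rw [D.gram a b _ h]
    by_cases hd : (⟨b, l⟩ : Idx T) = dual ⟨a, k⟩
    · rw [if_pos hd, if_pos ⟨(hdual.1 hd).2, (hdual.1 hd).1⟩, wt]
      obtain ⟨-, e⟩ := hdual.1 hd
      rw [show (T a.1).1 - 1 - (k : ℕ) = (l : ℕ) by omega]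
    · rw [if_neg hd, if_neg fun e => hd (hdual.2 ⟨e.2, e.1⟩), mul_zero]
  · rw [pow_eq_zero_of_le (D.nil a) h, map_zero, LinearMap.zero_apply, mul_zero,
      if_neg fun e => by have := (hdual.1 e).2; omega]

/-- The coordinate map. -/
def Dec.map (D : Dec ω N ν W T) : (Idx T → F) →ₗ[F] V := Fintype.linearCombination F D.bs

theorem Dec.map_apply (D : Dec ω N ν W T) (v : Idx T → F) : D.map v = ∑ u, v u • D.bs u := rfl

theorem Dec.map_single (D : Dec ω N ν W T) (u : Idx T) : D.map (Pi.single u 1) = D.bs u := by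
  rw [Dec.map_apply, Finset.sum_eq_single u (fun b _ hb => by simp [hb]) (by simp)]
  simp

theorem Dec.range_map (D : Dec ω N ν W T) : LinearMap.range D.map = W := by
  rw [Dec.map, Fintype.range_linearCombination]
  exact D.span_eq

theorem Dec.map_mem (D : Dec ω N ν W T) (v : Idx T → F) : D.map v ∈ W :=
  (SetLike.ext_iff.1 D.range_map (D.map v)).1 ⟨v, rfl⟩

theorem Dec.map_form (D : Dec ω N ν W T) (hN : ∀ x y, ω (N x) y = -ω x (N y)) (v v' : Idx T → F) :
    ω (D.map v) (D.map v') = mform ν v v' := by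
  rw [Dec.map_apply, Dec.map_apply, mform_apply]
  simp only [map_sum, map_smul, LinearMap.sum_apply, LinearMap.smul_apply, smul_eq_mul, D.pair hN,
    mul_ite, mul_zero]
  simp only [Finset.mul_sum, mul_ite, mul_zero]
  rw [Finset.sum_comm]
  exact Finset.sum_congr rfl fun u _ => by
    rw [Finset.sum_eq_single (dual u) (fun b _ hb => by simp [hb]) (by simp)]
    simp; ring

theorem Dec.map_injective (D : Dec ω N ν W T) (hN : ∀ x y, ω (N x) y = -ω x (N y)) (hν : ν ≠ 0) :
    Function.Injective D.map := by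
  rw [← LinearMap.ker_eq_bot, LinearMap.ker_eq_bot']
  intro v hv
  exact mform_sep hν v fun v' => by rw [← D.map_form hN, hv, map_zero, LinearMap.zero_apply]

theorem Dec.map_shift (D : Dec ω N ν W T) (v : Idx T → F) : N (D.map v) = D.map (shift v) := by
  refine LinearMap.congr_fun (f := N.comp D.map) (g := D.map.comp shift) ((Pi.basisFun F (Idx T)).ext
    fun u => ?_) v
  obtain ⟨a, k⟩ := u
  rw [Pi.basisFun_apply, LinearMap.comp_apply, LinearMap.comp_apply, D.map_single]
  have h := shift_pow_single (F := F) a k 1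
  rw [pow_one] at h
  rw [h]
  simp only [Dec.bs, ← Module.End.mul_apply, ← pow_succ']
  split_ifs with hlt
  · rw [D.map_single]; rfl
  · rw [map_zero]
    exact pow_eq_zero_of_le (D.nil a) (by omega)

theorem Dec.map_shift_pow (D : Dec ω N ν W T) : ∀ (i : ℕ) (v : Idx T → F),
    (N ^ i) (D.map v) = D.map ((shift ^ i) v) := by
  intro i
  induction i with
  | zero => intro v; simp
  | succ i ih =>
    intro v
    rw [pow_succ', Module.End.mul_apply, ih, D.map_shift, pow_succ', Module.End.mul_apply]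

/-- A decomposition of the whole space gives an equivalence with the model. -/
noncomputable def Dec.equiv (D : Dec ω N ν ⊤ T) (hN : ∀ x y, ω (N x) y = -ω x (N y)) (hν : ν ≠ 0) :
    (Idx T → F) ≃ₗ[F] V :=
  LinearEquiv.ofBijective D.map ⟨D.map_injective hN hν, LinearMap.range_eq_top.1 D.range_map⟩

/-- Transport of a decomposition along a bijection of the pieces. -/
def Dec.reindex {ι' : Type*} [Fintype ι'] [DecidableEq ι'] (D : Dec ω N ν W T) (e : ι' ≃ ι) :
    Dec ω N ν W (T ∘ e) where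
  x a := D.x ⟨e a.1, a.2⟩
  pos i := D.pos _
  nil a := D.nil ⟨e a.1, a.2⟩
  gram a b k hk := by
    rw [D.gram ⟨e a.1, a.2⟩ ⟨e b.1, b.2⟩ k hk]
    obtain ⟨i, s⟩ := a
    obtain ⟨i', s'⟩ := b
    refine if_congr (and_congr_right fun _ => ?_) rfl rfl
    simp only [par, Sigma.mk.injEq, e.injective.eq_iff]
  span_eq := by
    refine (congrArg _ ?_).trans D.span_eq
    ext v
    constructor
    · rintro ⟨⟨⟨i, s⟩, k⟩, rfl⟩
      exact ⟨⟨⟨e i, s⟩, k⟩, rfl⟩
    · rintro ⟨⟨⟨i, s⟩, k⟩, rfl⟩
      obtain ⟨i, rfl⟩ := e.surjective i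
      exact ⟨⟨⟨i, s⟩, k⟩, rfl⟩

theorem mform_shift (ν : F) (v v' : Idx T → F) :
    mform ν (shift v) v' = -mform ν v (shift v') := by
  refine LinearMap.congr_fun₂ (f := (mform ν).comp shift) (g := -(mform ν).compl₂ shift) ?_ v v'
  refine (Pi.basisFun F (Idx T)).ext fun u => (Pi.basisFun F (Idx T)).ext fun u' => ?_
  obtain ⟨a, k⟩ := u
  obtain ⟨b, l⟩ := u'
  simp only [Pi.basisFun_apply, LinearMap.comp_apply, LinearMap.neg_apply, LinearMap.compl₂_apply]
  have h := shift_pow_single (F := F) a k 1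
  have h' := shift_pow_single (F := F) b l 1
  rw [pow_one] at h h'
  rw [h, h']
  have hk := k.2
  have hl := l.2
  by_cases hb : b = par a
  · subst hb
    have hl' : (l : ℕ) < (T a.1).1 := hl
    have key : ∀ (x : Fin (T a.1).1) (y : Fin (T (par a).1).1),
        mform ν (Pi.single ⟨a, x⟩ 1) (Pi.single ⟨par a, y⟩ 1) =
          if (x : ℕ) + (y : ℕ) + 1 = (T a.1).1 then (-1) ^ (y : ℕ) * coef ν a else 0 := by
      intro x y
      have hx := x.2
      have hy : (y : ℕ) < (T a.1).1 := y.2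
      have hiff : (⟨par a, y⟩ : Idx T) = dual ⟨a, x⟩ ↔ (x : ℕ) + (y : ℕ) + 1 = (T a.1).1 := by
        refine (idx_eq_iff (a := par a) y (x.rev : Fin (T a.1).1)).trans ?_
        show (y : ℕ) = ((x.rev : Fin _) : ℕ) ↔ _
        rw [Fin.val_rev]
        omega
      rw [mform_single]
      by_cases e : (x : ℕ) + (y : ℕ) + 1 = (T a.1).1
      · rw [if_pos (hiff.2 e), if_pos e, wt]
        dsimp only
        rw [show (T a.1).1 - 1 - (x : ℕ) = (y : ℕ) by omega]
      · rw [if_neg (mt hiff.1 e), if_neg e]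
    split_ifs with h1 h2 h2
    · rw [key, key]
      dsimp only
      by_cases e : (k : ℕ) + 1 + (l : ℕ) + 1 = (T a.1).1
      · rw [if_pos e, if_pos (by omega), pow_succ]
        ring
      · rw [if_neg e, if_neg (by omega), neg_zero]
    · rw [key, map_zero, neg_zero]
      dsimp only
      have h2' : ¬ (l : ℕ) + 1 < (T a.1).1 := h2
      exact if_neg (by omega)
    · rw [key, map_zero, LinearMap.zero_apply]
      dsimp only
      rw [if_neg (by omega), neg_zero]
    · simp
  · have hne : ∀ (x : Fin (T a.1).1) (y : Fin (T b.1).1),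
        mform ν (Pi.single ⟨a, x⟩ 1) (Pi.single ⟨b, y⟩ 1) = 0 := fun x y => by
      rw [mform_single, if_neg fun e => hb (congrArg Sigma.fst e :)]
    split_ifs <;> simp [hne]

/-- The standard decomposition of the model. -/
def modelDec (ν : F) (hpos : ∀ i, 1 ≤ (T i).1) :
    Dec (mform (T := T) ν) shift ν ⊤ T where
  x a := Pi.single ⟨a, ⟨0, hpos a.1⟩⟩ 1
  pos := hpos
  nil a := by
    rw [shift_pow_single, dif_neg (by simp)]
  gram a b k hk := by
    rw [shift_pow_single, dif_pos (by simpa using hk), mform_single]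
    have hiff : ∀ (x : Fin (T a.1).1) (y : Fin (T b.1).1), (x : ℕ) = k → (y : ℕ) = 0 →
        ((⟨b, y⟩ : Idx T) = dual ⟨a, x⟩ ↔ k + 1 = (T a.1).1 ∧ b = par a) := by
      intro x y hx hy
      have hx' := x.2
      constructor
      · intro e
        obtain rfl : b = par a := congrArg Sigma.fst e
        have he := (idx_eq_iff (a := par a) y (x.rev : Fin (T a.1).1)).1 e
        rw [Fin.val_rev] at he
        exact ⟨by omega, rfl⟩
      · rintro ⟨e, rfl⟩
        refine (idx_eq_iff (a := par a) y (x.rev : Fin (T a.1).1)).2 ?_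
        rw [Fin.val_rev]
        omega
    by_cases e : k + 1 = (T a.1).1 ∧ b = par a
    · rw [if_pos ((hiff _ _ (Nat.zero_add k) rfl).2 e), if_pos e, wt]
      dsimp only
      rw [show (T a.1).1 - 1 - (0 + k) = 0 by omega, pow_zero, one_mul]
    · rw [if_neg (mt (hiff _ _ (Nat.zero_add k) rfl).1 e), if_neg e]
  span_eq := by
    rw [eq_top_iff, ← (Pi.basisFun F (Idx T)).span_eq]
    refine Submodule.span_mono ?_
    rintro _ ⟨⟨a, k⟩, rfl⟩
    refine ⟨⟨a, k⟩, ?_⟩
    dsimp only
    rw [shift_pow_single, dif_pos (by simp), Pi.basisFun_apply]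
    congr 1
    exact Sigma.ext rfl (heq_of_eq (Fin.ext (by simp)))

end CfsgLib.KnownC.SpNilp
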