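import Mathlib

set_option autoImplicit false

/-!
Element orders of finite direct powers.
-/

namespace CfsgLib.KnownC

/-- Every divisor of an element order is an element order. -/
theorem mem_range_orderOf_of_dvd {G : Type*} [Group G] (x : G) (hx : orderOf x ≠ 0) {d : ℕ}
    (h : d ∣ orderOf x) : d ∈ Set.range (orderOf : G → ℕ) :=
  ⟨x ^ (orderOf x / d), orderOf_pow_orderOf_div hx h⟩

/-- The order of a tuple divides `o` iff every component's order does. -/
theorem orderOf_pi_dvd_iff {ι : Type*} {L : ι → Type*} [∀ i, Group (L i)] (z : ∀ i, L i) (o : ℕ) :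
    orderOf z ∣ o ↔ ∀ i, orderOf (z i) ∣ o := by
  simp only [orderOf_dvd_iff_pow_eq_one, funext_iff, Pi.pow_apply, Pi.one_apply]

/-- If some `k₀`-tuple has order divisible by the orders of all elements, then all the direct powers with
`k ≥ k₀` factors have the same element orders. -/
theorem range_orderOf_pi_eq {L : Type*} [Group L] [Finite L] {k₀ k : ℕ} (hk : k₀ ≤ k)
    (x : Fin k₀ → L) (hx : ∀ y : L, orderOf y ∣ orderOf x) :
    Set.range (orderOf : (Fin k → L) → ℕ) = Set.range (orderOf : (Fin k₀ → L) → ℕ) := by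
  refine Set.Subset.antisymm ?_ ?_
  · rintro _ ⟨z, rfl⟩
    refine mem_range_orderOf_of_dvd x (orderOf_pos x).ne' ?_
    exact (orderOf_pi_dvd_iff z _).2 fun i => hx (z i)
  · rintro _ ⟨z, rfl⟩
    refine ⟨fun i => if h : (i : ℕ) < k₀ then z ⟨i, h⟩ else 1, ?_⟩
    refine Nat.dvd_antisymm ((orderOf_pi_dvd_iff _ _).2 fun i => ?_) ((orderOf_pi_dvd_iff _ _).2 fun j => ?_)
    · split_ifs with h
      · exact (orderOf_pi_dvd_iff z _).1 dvd_rfl ⟨i, h⟩
      · simp
    · have hj := (orderOf_pi_dvd_iff (fun i : Fin k => if h : (i : ℕ) < k₀ then z ⟨i, h⟩ else 1) _).1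
        dvd_rfl ⟨j, j.2.trans_le hk⟩
      simpa using hj

end CfsgLib.KnownC
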