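import Cfsg.Agent.Lib.KnownC.StModule

/-!
Chambers as flags, their position against a chain, and alternating sums over an apartment.
-/

set_option autoImplicit false
set_option linter.unusedSectionVars false

namespace CfsgLib.KnownC.Steinberg

open Module

variable {K V : Type*} [Field K] [AddCommGroup V] [Module K V]

/-- A flag of admissible subspaces of dimensions `0..m`. -/
@[ext] structure Flag (TS : Submodule K V → Prop) (m : ℕ) where
  /-- the members -/
  F : ℕ → Submodule K V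
  finrank_eq : ∀ i, i ≤ m → finrank K (F i) = i
  ts : ∀ i, i ≤ m → TS (F i)
  mono : ∀ i, i < m → F i ≤ F (i + 1)
  above : ∀ i, m < i → F i = ⊤

variable {TS : Submodule K V → Prop} {m : ℕ}

instance [Finite V] : Finite (Flag TS m) :=
  Finite.of_injective (fun c : Flag TS m => fun i : Fin (m + 1) => c.F i) fun c d h => by
    ext1
    funext i
    by_cases hi : i ≤ m
    · exact congrFun h ⟨i, by omega⟩
    · rw [c.above i (by omega), d.above i (by omega)]

theorem Flag.zero [FiniteDimensional K V] (c : Flag TS m) : c.F 0 = ⊥ :=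
  Submodule.finrank_eq_zero.1 (c.finrank_eq 0 m.zero_le)

theorem Flag.le_of_le (c : Flag TS m) {i j : ℕ} (hij : i ≤ j) (hj : j ≤ m) : c.F i ≤ c.F j := by
  induction j, hij using Nat.le_induction with
  | base => exact le_rfl
  | succ j _ ih => exact (ih (by omega)).trans (c.mono j (by omega))

theorem Flag.ext_le {c d : Flag TS m} (h : ∀ i, i ≤ m → c.F i = d.F i) : c = d := by
  ext1
  funext i
  by_cases hi : i ≤ m
  · exact h i hi
  · rw [c.above i (by omega), d.above i (by omega)]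

/-- The image of a flag under a linear automorphism preserving admissibility. -/
def Flag.map (a : V ≃ₗ[K] V) (ha : ∀ W, TS W → TS (W.map a.toLinearMap)) (c : Flag TS m) :
    Flag TS m where
  F i := (c.F i).map a.toLinearMap
  finrank_eq i hi := by rw [LinearEquiv.finrank_map_eq a (c.F i), c.finrank_eq i hi]
  ts i hi := ha _ (c.ts i hi)
  mono i hi := Submodule.map_mono (c.mono i hi)
  above i hi := by rw [c.above i hi, Submodule.map_top, LinearEquiv.range]

theorem Flag.map_F (a : V ≃ₗ[K] V) (ha : ∀ W, TS W → TS (W.map a.toLinearMap)) (c : Flag TS m) (i : ℕ) :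
    (c.map a ha).F i = (c.F i).map a.toLinearMap := rfl

/-- Panels. -/
def pan (r : ℕ) (i : {i // 1 ≤ i ∧ i ≤ r}) (c : Flag TS m) : Set (Flag TS m) :=
  {d | ∀ j, j ≠ i.1 → d.F j = c.F j}

theorem mem_pan_self {r : ℕ} (i : {i // 1 ≤ i ∧ i ≤ r}) (c : Flag TS m) : c ∈ pan r i c :=
  fun _ _ => rfl

theorem map_mem_pan_iff {r : ℕ} (a : V ≃ₗ[K] V) (ha : ∀ W, TS W → TS (W.map a.toLinearMap))
    (i : {i // 1 ≤ i ∧ i ≤ r}) (c d : Flag TS m) :
    d.map a ha ∈ pan r i (c.map a ha) ↔ d ∈ pan r i c :=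
  forall₂_congr fun _ _ => (Submodule.map_injective_of_injective a.injective).eq_iff

/-- A chain to measure flags against. -/
structure Chain (TS : Submodule K V → Prop) where
  /-- the members -/
  G : ℕ → Submodule K V
  /-- the length -/
  L : ℕ
  zero : G 0 = ⊥
  top : G L = ⊤
  mono : ∀ j, G j ≤ G (j + 1)
  step : ∀ j, j < L → ∀ W, TS W → ∃ φ : V →ₗ[K] K, ∀ x ∈ W, x ∈ G (j + 1) → φ x = 0 → x ∈ G j

variable (Gc : Chain TS)

theorem Chain.mono' {i j : ℕ} (h : i ≤ j) : Gc.G i ≤ Gc.G j := monotone_nat_of_le_succ Gc.mono h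

/-- The flags in general position. -/
def Opp (c : Flag TS m) : Prop := ∀ i, i ≤ m → c.F i ⊓ Gc.G (Gc.L - i) = ⊥

/-- Minus the total intersection number. -/
noncomputable def rho (c : Flag TS m) : ℤ :=
  -∑ i ∈ Finset.range (m + 1), ∑ j ∈ Finset.range (Gc.L + 1), (finrank K ↥(c.F i ⊓ Gc.G j) : ℤ)

/-- The first place where `W` leaves `U`. -/
noncomputable def piv (U W : Submodule K V) : ℕ := sInf {j | ¬ W ⊓ Gc.G j ≤ U}

theorem piv_spec {U W : Submodule K V} (h : ¬ W ≤ U) :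
    ¬ W ⊓ Gc.G (piv Gc U W) ≤ U ∧ 1 ≤ piv Gc U W ∧ piv Gc U W ≤ Gc.L := by
  have hL : Gc.L ∈ {j | ¬ W ⊓ Gc.G j ≤ U} := by
    show ¬ W ⊓ Gc.G Gc.L ≤ U
    rwa [Gc.top, inf_top_eq]
  have h1 : ¬ W ⊓ Gc.G (piv Gc U W) ≤ U := Nat.sInf_mem ⟨Gc.L, hL⟩
  refine ⟨h1, ?_, Nat.sInf_le hL⟩
  by_contra h0
  rw [show piv Gc U W = 0 by omega, Gc.zero, inf_bot_eq] at h1
  exact h1 bot_le

theorem piv_le {U W : Submodule K V} {j : ℕ} (h : ¬ W ⊓ Gc.G j ≤ U) : piv Gc U W ≤ j := Nat.sInf_le h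

theorem le_of_lt_piv {U W : Submodule K V} {j : ℕ} (h : j < piv Gc U W) : W ⊓ Gc.G j ≤ U :=
  by_contra fun h' => (piv_le Gc h').not_gt h

theorem finrank_inf_le_add_one [FiniteDimensional K V] {U W H : Submodule K V} (hUW : U ≤ W)
    (h1 : finrank K W = finrank K U + 1) : finrank K ↥(W ⊓ H) ≤ finrank K ↥(U ⊓ H) + 1 := by
  have h2 := Submodule.finrank_sup_add_finrank_inf_eq U (W ⊓ H)
  rw [← inf_assoc, inf_eq_left.2 hUW] at h2
  have h3 := Submodule.finrank_mono (sup_le hUW inf_le_left : U ⊔ W ⊓ H ≤ W)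
  omega

/-- Comparison of two flags in a panel. -/
theorem rho_lt [FiniteDimensional K V] {r : ℕ} (i : {i // 1 ≤ i ∧ i ≤ r}) (hr : r ≤ m) {c d : Flag TS m}
    (hd : d ∈ pan r i c) {j₀ : ℕ} (hj₀ : j₀ ≤ Gc.L)
    (hlow : ∀ j, j < j₀ → d.F i ⊓ Gc.G j ≤ c.F (i - 1))
    (hat : d.F i ⊓ Gc.G j₀ ≤ c.F (i - 1))
    (hc : ∀ j, j₀ ≤ j → ¬ c.F i ⊓ Gc.G j ≤ c.F (i - 1)) : rho Gc c < rho Gc d := by
  obtain ⟨i, hi1, hir⟩ := i
  simp only at hlow hat hc
  replace hd : ∀ j, j ≠ i → d.F j = c.F j := hd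
  have him : i ≤ m := hir.trans hr
  have hdU : c.F (i - 1) ≤ d.F i := by
    rw [← hd (i - 1) (by omega)]
    exact d.le_of_le (by omega) him
  have hcU : c.F (i - 1) ≤ c.F i := c.le_of_le (by omega) him
  have hfd : finrank K (d.F i) = finrank K (c.F (i - 1)) + 1 := by
    rw [d.finrank_eq i him, c.finrank_eq (i - 1) (by omega)]; omega
  have hle : ∀ j, finrank K ↥(d.F i ⊓ Gc.G j) ≤ finrank K ↥(c.F i ⊓ Gc.G j) := by
    intro j
    by_cases hj : j < j₀
    · refine Submodule.finrank_mono (le_inf ((hlow j hj).trans hcU) inf_le_right)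
    · refine (finrank_inf_le_add_one hdU hfd).trans ?_
      refine Submodule.finrank_lt_finrank_of_lt (lt_of_le_of_ne (inf_le_inf_right _ hcU) fun e => ?_)
      exact hc j (by omega) (e ▸ inf_le_left)
  have hlt : finrank K ↥(d.F i ⊓ Gc.G j₀) < finrank K ↥(c.F i ⊓ Gc.G j₀) := by
    refine lt_of_le_of_lt (Submodule.finrank_mono (le_inf hat inf_le_right)) ?_
    refine Submodule.finrank_lt_finrank_of_lt (lt_of_le_of_ne (inf_le_inf_right _ hcU) fun e => ?_)
    exact hc j₀ le_rfl (e ▸ inf_le_left)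
  rw [rho, rho, neg_lt_neg_iff]
  refine Finset.sum_lt_sum (fun k _ => ?_) ⟨i, Finset.mem_range.2 (by omega), ?_⟩
  · by_cases hk : k = i
    · subst hk
      exact Finset.sum_le_sum fun j _ => by exact_mod_cast hle j
    · rw [hd k hk]
  · exact Finset.sum_lt_sum (fun j _ => by exact_mod_cast hle j)
      ⟨j₀, Finset.mem_range.2 (by omega), by exact_mod_cast hlt⟩

/-- A flag not in general position lies in a panel all whose other members are in a more general one. -/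
theorem exists_better [FiniteDimensional K V] {r lo : ℕ} (hr : r ≤ m) (hrm : m ≤ r + 1)
    (hL : Gc.L = lo + m)
    (hlast : r < m → lo = 0)
    (htop : r = m → ∀ c d : Flag TS m, (∀ j, j ≠ m → d.F j = c.F j) →
      ∀ x ∈ c.F m, x ∈ Gc.G lo → x ∉ c.F (m - 1) → ∀ y ∈ d.F m, y ∈ Gc.G lo → y ∈ c.F m)
    (c : Flag TS m) (hc : ¬ Opp Gc c) :
    ∃ i : {i // 1 ≤ i ∧ i ≤ r}, c ∈ pan r i c ∧ ∀ d ∈ pan r i c, d ≠ c → rho Gc c < rho Gc d := by
  classical
  have hnle : ∀ i, 1 ≤ i → i ≤ m → ¬ c.F i ≤ c.F (i - 1) := fun i h1 h2 h => by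
    have := Submodule.finrank_mono h
    rw [c.finrank_eq i h2, c.finrank_eq (i - 1) (by omega)] at this
    omega
  have hne : ∀ i, 1 ≤ i → i ≤ m → ∀ d : Flag TS m, (∀ j, j ≠ i → d.F j = c.F j) → d ≠ c →
      ∀ x, x ∈ d.F i → x ∈ c.F i → x ∈ c.F (i - 1) := by
    intro i h1 h2 d hd hdc x hxd hxc
    by_contra hx
    apply hdc
    refine Flag.ext_le fun j _ => ?_
    by_cases hji : j = i
    swap
    · exact hd j hji
    rw [hji]
    have hU : c.F (i - 1) ≤ d.F i ⊓ c.F i := le_inf (by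
      rw [← hd (i - 1) (by omega)]; exact d.le_of_le (by omega) h2) (c.le_of_le (by omega) h2)
    have hlt : finrank K (c.F (i - 1)) < finrank K ↥(d.F i ⊓ c.F i) :=
      Submodule.finrank_lt_finrank_of_lt (lt_of_le_of_ne hU fun e => hx (e ▸ ⟨hxd, hxc⟩))
    rw [c.finrank_eq (i - 1) (by omega)] at hlt
    have e1 : d.F i ⊓ c.F i = d.F i := Submodule.eq_of_le_of_finrank_le inf_le_left (by
      rw [d.finrank_eq i h2]; omega)
    exact Submodule.eq_of_le_of_finrank_le (inf_eq_left.1 e1) (by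
      rw [d.finrank_eq i h2, c.finrank_eq i h2])
  by_contra hall
  apply hc
  have hdec : ∀ i, 1 ≤ i → i < m →
      piv Gc (c.F i) (c.F (i + 1)) < piv Gc (c.F (i - 1)) (c.F i) := by
    intro i h1 h2
    have hn2 : ¬ c.F (i + 1) ≤ c.F (i - 1) := fun h => hnle i h1 h2.le ((c.mono i h2).trans h)
    obtain ⟨hj1, hj2, hj3⟩ := piv_spec Gc hn2
    have hnotle : ¬ c.F (i + 1) ⊓ Gc.G (piv Gc (c.F (i - 1)) (c.F (i + 1))) ≤ c.F i := by
      intro h
      refine hall ⟨⟨i, h1, by omega⟩, mem_pan_self _ c, fun d hd hdc =>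
        rho_lt Gc _ hr hd hj3 (fun j hj => ?_) ?_ (fun j hj => ?_)⟩
      · refine le_trans (inf_le_inf_right _ ?_) (le_of_lt_piv Gc hj)
        rw [← hd (i + 1) (by show i + 1 ≠ i; omega)]
        exact d.mono i h2
      · intro x hx
        refine hne i h1 h2.le d hd hdc x hx.1 (h ⟨?_, hx.2⟩)
        rw [← hd (i + 1) (by show i + 1 ≠ i; omega)]
        exact d.mono i h2 hx.1
      · intro hle
        exact hj1 fun x hx => hle ⟨h hx, Gc.mono' hj hx.2⟩
    refine lt_of_le_of_lt (piv_le Gc hnotle) ?_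
    by_contra hge
    push_neg at hge
    obtain ⟨hp1, -, -⟩ := piv_spec Gc (hnle i h1 h2.le)
    obtain ⟨x, hx, hxU⟩ := SetLike.not_le_iff_exists.1 hp1
    obtain ⟨y, hy, hyU⟩ := SetLike.not_le_iff_exists.1 hnotle
    obtain ⟨j, hj⟩ : ∃ j, piv Gc (c.F (i - 1)) (c.F (i + 1)) = j + 1 := ⟨_, (Nat.sub_add_cancel hj2).symm⟩
    obtain ⟨φ, hφ⟩ := Gc.step j (by omega) (c.F (i + 1)) (c.ts (i + 1) h2)
    have hlow : c.F (i + 1) ⊓ Gc.G j ≤ c.F (i - 1) := le_of_lt_piv Gc (by omega)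
    have hxm : x ∈ c.F (i + 1) ∧ x ∈ Gc.G (j + 1) :=
      ⟨c.mono i h2 hx.1, Gc.mono' (by omega) hx.2⟩
    rw [hj] at hy
    have hx0 : φ x ≠ 0 := fun e => hxU (hlow ⟨hxm.1, hφ x hxm.1 hxm.2 e⟩)
    have hz : φ x • y - φ y • x ∈ c.F (i - 1) :=
      hlow ⟨Submodule.sub_mem _ (Submodule.smul_mem _ _ hy.1) (Submodule.smul_mem _ _ hxm.1),
        hφ _ (Submodule.sub_mem _ (Submodule.smul_mem _ _ hy.1) (Submodule.smul_mem _ _ hxm.1))
          (Submodule.sub_mem _ (Submodule.smul_mem _ _ hy.2) (Submodule.smul_mem _ _ hxm.2))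
          (by simp [mul_comm])⟩
    apply hyU
    have h5 : φ x • y ∈ c.F i := by
      have := Submodule.add_mem _ (c.le_of_le (by omega) h2.le hz) (Submodule.smul_mem _ (φ y) hx.1)
      rwa [sub_add_cancel] at this
    exact (Submodule.smul_mem_iff _ hx0).1 h5
  have hpm : 1 ≤ m → lo < piv Gc (c.F (m - 1)) (c.F m) := by
    intro h1
    obtain ⟨hp1, hp2, hp3⟩ := piv_spec Gc (hnle m h1 le_rfl)
    rcases Nat.lt_or_ge r m with hlt | hge
    · rw [hlast hlt]; omega
    have hrm' : r = m := by omega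
    by_contra hle
    push_neg at hle
    obtain ⟨x, hx, hxU⟩ := SetLike.not_le_iff_exists.1 hp1
    have hxlo := Gc.mono' hle hx.2
    refine hall ⟨⟨m, h1, by omega⟩, mem_pan_self _ c, fun d hd hdc =>
      rho_lt Gc _ hr hd hp3 (fun j hj => ?_) ?_ (fun j hj hle' => hp1 ((inf_le_inf_left _ (Gc.mono' hj)).trans hle'))⟩
    · intro y hy
      have hyc := htop hrm' c d hd x hx.1 hxlo hxU y hy.1 (Gc.mono' (by omega) hy.2)
      exact le_of_lt_piv Gc hj ⟨hyc, hy.2⟩
    · intro y hy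
      exact hne m h1 le_rfl d hd hdc y hy.1 (htop hrm' c d hd x hx.1 hxlo hxU y hy.1 (Gc.mono' hle hy.2))
  -- the pivots are forced
  have hlb : ∀ k i, i + k = m → 1 ≤ i → lo + k < piv Gc (c.F (i - 1)) (c.F i) := by
    intro k
    induction k with
    | zero => intro i hi h1; obtain rfl : i = m := by omega
              simpa using hpm h1
    | succ k ih =>
      intro i hi h1
      have h2 := hdec i h1 (by omega)
      have h3 := ih (i + 1) (by omega) (by omega)
      rw [Nat.add_sub_cancel] at h3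
      omega
  intro i hi
  induction i with
  | zero => rw [c.zero, bot_inf_eq]
  | succ i ih =>
    have h := hlb (m - (i + 1)) (i + 1) (by omega) (by omega)
    rw [Nat.add_sub_cancel] at h
    have h1 : c.F (i + 1) ⊓ Gc.G (Gc.L - (i + 1)) ≤ c.F i := le_of_lt_piv Gc (by omega)
    refine le_bot_iff.1 (le_trans (le_inf h1 (inf_le_right.trans (Gc.mono' (i := Gc.L - (i + 1)) (j := Gc.L - i) (by omega)))) ?_)
    rw [ih (by omega)]

/-- An alternating sum over an apartment has vanishing panel sums. -/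
theorem cycle_sum [Fintype (Flag TS m)] {W : Type*} [Fintype W] {r : ℕ} (fl : W → Flag TS m)
    (hfl : Function.Injective fl) (sgn : W → ℂ) (τ : {i // 1 ≤ i ∧ i ≤ r} → W → W)
    (hτ : ∀ i w w', fl w' ∈ pan r i (fl w) ↔ w' = w ∨ w' = τ i w)
    (hne : ∀ i w, τ i w ≠ w) (hsgn : ∀ i w, sgn (τ i w) = -sgn w)
    (i : {i // 1 ≤ i ∧ i ≤ r}) (c : Flag TS m) :
    ∑ d, Set.indicator (pan r i c) (Function.extend fl sgn 0) d = 0 := by
  classical
  have hsupp : ∀ d, (∀ w, fl w ≠ d) → Function.extend fl sgn 0 d = 0 := fun d hd =>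
    Function.extend_apply' _ _ _ fun ⟨w, hw⟩ => hd w hw
  by_cases hex : ∃ w, fl w ∈ pan r i c
  swap
  · push_neg at hex
    refine Finset.sum_eq_zero fun d _ => ?_
    by_cases hd : d ∈ pan r i c
    · rw [Set.indicator_of_mem hd]
      exact hsupp d fun w hw => hex w (hw ▸ hd)
    · rw [Set.indicator_of_notMem hd]
  obtain ⟨w, hw⟩ := hex
  have hpan : ∀ d, d ∈ pan r i c ↔ d ∈ pan r i (fl w) := fun d =>
    forall₂_congr fun j hj => by rw [hw j hj]
  have hτw : fl (τ i w) ∈ pan r i c := (hpan _).2 ((hτ i w _).2 (Or.inr rfl))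
  rw [Finset.sum_eq_add_of_mem (fl w) (fl (τ i w)) (Finset.mem_univ _) (Finset.mem_univ _)
    (fun e => hne i w (hfl e).symm), Set.indicator_of_mem hw, Set.indicator_of_mem hτw,
    hfl.extend_apply, hfl.extend_apply, hsgn, add_neg_cancel]
  intro d _ hd
  by_cases hdp : d ∈ pan r i c
  · rw [Set.indicator_of_mem hdp]
    refine hsupp d fun w' hw' => ?_
    subst hw'
    rcases (hτ i w w').1 ((hpan _).1 hdp) with rfl | rfl
    · exact hd.1 rfl
    · exact hd.2 rfl
  · rw [Set.indicator_of_notMem hdp]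

end CfsgLib.KnownC.Steinberg
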