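import Cfsg.Prelude.Def_Characters
import Cfsg.Agent.Lib.Char.Basic

/-!
An irreducible character vanishing off the identity of a subgroup, from a chamber system: functions
on chambers with vanishing panel sums.
-/

set_option autoImplicit false
set_option linter.unusedSectionVars false

namespace CfsgLib.KnownC.Steinberg

open Module

variable {G C I : Type*} [Group G] [MulAction G C] [Fintype C]

/-- The translation representation on functions. -/
def funRep (G C : Type*) [Group G] [MulAction G C] : Representation ℂ G (C → ℂ) where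
  toFun g :=
    { toFun := fun f c => f (g⁻¹ • c)
      map_add' := fun _ _ => rfl
      map_smul' := fun _ _ => rfl }
  map_one' := by ext f c; simp
  map_mul' g h := by ext f c; simp [mul_smul]

theorem funRep_apply (g : G) (f : C → ℂ) (c : C) : funRep G C g f c = f (g⁻¹ • c) := rfl

/-- The functions with vanishing sum over every panel. -/
noncomputable def stSub (pan : I → C → Set C) : Submodule ℂ (C → ℂ) where
  carrier := {f | ∀ i c, ∑ d, Set.indicator (pan i c) f d = 0}
  zero_mem' := fun i c => by simp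
  add_mem' := fun {f g} hf hg i c => by
    rw [Set.indicator_add']
    simp only [Pi.add_apply, Finset.sum_add_distrib, hf i c, hg i c, add_zero]
  smul_mem' := fun r f hf i c => by
    have : ∀ d, Set.indicator (pan i c) (r • f) d = r * Set.indicator (pan i c) f d := fun d => by
      by_cases hd : d ∈ pan i c <;> simp [hd]
    simp only [this, ← Finset.mul_sum, hf i c, mul_zero]

theorem mem_stSub {pan : I → C → Set C} {f : C → ℂ} :
    f ∈ stSub pan ↔ ∀ i c, ∑ d, Set.indicator (pan i c) f d = 0 := Iff.rfl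

theorem funRep_mem {pan : I → C → Set C}
    (hpan : ∀ (g : G) i c d, g • d ∈ pan i (g • c) ↔ d ∈ pan i c) (g : G) {f : C → ℂ}
    (hf : f ∈ stSub pan) : funRep G C g f ∈ stSub pan := by
  intro i c
  rw [← hf i (g⁻¹ • c)]
  refine Fintype.sum_equiv (MulAction.toPerm g⁻¹) _ _ fun d => ?_
  have h := hpan g⁻¹ i c d
  rw [MulAction.toPerm_apply]
  by_cases hd : d ∈ pan i c
  · rw [Set.indicator_of_mem hd, Set.indicator_of_mem (h.2 hd), funRep_apply]
  · rw [Set.indicator_of_notMem hd, Set.indicator_of_notMem fun h' => hd (h.1 h')]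

/-- A function with vanishing panel sums is determined by its values on `O`. -/
theorem eq_zero_of_restrict {pan : I → C → Set C} {O : Set C} (ρ : C → ℤ)
    (himp : ∀ c ∉ O, ∃ i, c ∈ pan i c ∧ ∀ d ∈ pan i c, d ≠ c → ρ c < ρ d) {f : C → ℂ}
    (hf : f ∈ stSub pan) (h0 : ∀ c ∈ O, f c = 0) : f = 0 := by
  classical
  by_contra hne
  obtain ⟨c₀, hc₀⟩ := Function.ne_iff.1 hne
  obtain ⟨c, hc, hmax⟩ := Finset.exists_max_image (Finset.univ.filter fun c => f c ≠ 0) ρ
    ⟨c₀, Finset.mem_filter.2 ⟨Finset.mem_univ _, hc₀⟩⟩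
  rw [Finset.mem_filter] at hc
  obtain ⟨i, hi, hbet⟩ := himp c fun hO => hc.2 (h0 c hO)
  refine hc.2 ?_
  rw [← hf i c, Finset.sum_eq_single c, Set.indicator_of_mem hi]
  · intro d _ hd
    by_cases hdp : d ∈ pan i c
    · rw [Set.indicator_of_mem hdp]
      by_contra hd0
      have := hmax d (Finset.mem_filter.2 ⟨Finset.mem_univ _, hd0⟩)
      have := hbet d hdp hd
      omega
    · rw [Set.indicator_of_notMem hdp]
  · simp

/-- The character of the module of functions with vanishing panel sums. -/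
theorem exists_irr [Finite G] (pan : I → C → Set C)
    (hpan : ∀ (g : G) i c d, g • d ∈ pan i (g • c) ↔ d ∈ pan i c) (U : Subgroup G) (d₀ : C) (O : Set C)
    (hO : ∀ c, c ∈ O ↔ ∃ u ∈ U, u • d₀ = c) (hfree : ∀ u ∈ U, u • d₀ = d₀ → u = 1) (ρ : C → ℤ)
    (himp : ∀ c ∉ O, ∃ i, c ∈ pan i c ∧ ∀ d ∈ pan i c, d ≠ c → ρ c < ρ d)
    (e : C → ℂ) (he : ∀ i c, ∑ d, Set.indicator (pan i c) e d = 0) (he1 : e d₀ = 1)
    (he0 : ∀ c ∈ O, c ≠ d₀ → e c = 0)
    (hfix : ∀ c : C, ∃ g : G, ∀ u ∈ U, u • g • c = g • c) :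
    ∃ χ : G → ℂ, Cfsg.IsIrrCharacter G χ ∧ χ 1 = Nat.card U ∧ ∀ x ∈ U, x ≠ 1 → χ x = 0 := by
  classical
  letI := Fintype.ofFinite G
  have hpmem : ∀ g (f : C → ℂ), f ∈ stSub pan → funRep G C g f ∈ stSub pan := fun g f hf =>
    funRep_mem hpan g hf
  let σ : Representation ℂ G (stSub pan) :=
    { toFun := fun g => (funRep G C g).restrict (hpmem g)
      map_one' := LinearMap.ext fun f => Subtype.ext (by simp)
      map_mul' := fun g h => LinearMap.ext fun f => Subtype.ext (by simp) }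
  -- restriction to the free orbit
  let res : stSub pan →ₗ[ℂ] (U → ℂ) :=
    { toFun := fun f u => f.1 ((u : G) • d₀)
      map_add' := fun _ _ => rfl
      map_smul' := fun _ _ => rfl }
  have hinj : Function.Injective res := by
    refine (injective_iff_map_eq_zero res).2 fun f hf => Subtype.ext (eq_zero_of_restrict ρ himp f.2 ?_)
    intro c hc
    obtain ⟨u, hu, rfl⟩ := (hO c).1 hc
    exact congrFun hf ⟨u, hu⟩
  have heq : ∀ u w : U, (u : G) • d₀ = (w : G) • d₀ → u = w := fun u w h => by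
    have h2 := hfree ((w : G)⁻¹ * u) (U.mul_mem (U.inv_mem w.2) u.2)
      (by rw [mul_smul, h, inv_smul_smul])
    exact Subtype.ext (inv_mul_eq_one.1 h2).symm
  have hsurj : Function.Surjective res := by
    intro a
    refine ⟨∑ u : U, a u • σ (u : G) ⟨e, fun i c => he i c⟩, funext fun w => ?_⟩
    rw [map_sum, Finset.sum_apply, Finset.sum_eq_single w ?_ (by simp)]
    · show a w * funRep G C (w : G) e ((w : G) • d₀) = a w
      rw [funRep_apply, inv_smul_smul, he1, mul_one]
    · intro u _ hu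
      show a u * funRep G C (u : G) e ((w : G) • d₀) = 0
      rw [funRep_apply, he0, mul_zero]
      · exact (hO _).2 ⟨(u : G)⁻¹ * w, U.mul_mem (U.inv_mem u.2) w.2, by rw [mul_smul]⟩
      · intro h
        apply hu
        refine heq u w ?_
        conv_lhs => rw [← h, smul_inv_smul]
  let E : stSub pan ≃ₗ[ℂ] (U → ℂ) := LinearEquiv.ofBijective res ⟨hinj, hsurj⟩
  have hchar : ∀ x ∈ U, σ.character x = if x = 1 then (Nat.card U : ℂ) else 0 := by
    intro x hx
    have hconj : E.conj (σ x) = LinearMap.funLeft ℂ ℂ fun u : U => ⟨x, hx⟩⁻¹ * u := by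
      refine LinearMap.ext fun a => funext fun u => ?_
      rw [LinearEquiv.conj_apply_apply]
      obtain ⟨f, rfl⟩ := E.surjective a
      rw [LinearEquiv.symm_apply_apply]
      show f.1 (x⁻¹ • (u : G) • d₀) = f.1 ((((⟨x, hx⟩ : U)⁻¹ * u : U) : G) • d₀)
      rw [Subgroup.coe_mul, mul_smul, Subgroup.coe_inv]
    rw [Representation.character, ← LinearMap.trace_conj' (σ x) E, hconj,
      LinearMap.trace_eq_matrix_trace ℂ (Pi.basisFun ℂ U), Matrix.trace]
    have hdiag : ∀ u : U, Matrix.diag (LinearMap.toMatrix (Pi.basisFun ℂ U) (Pi.basisFun ℂ U)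
        (LinearMap.funLeft ℂ ℂ fun u : U => ⟨x, hx⟩⁻¹ * u)) u = if x = 1 then 1 else 0 := fun u => by
      rw [Matrix.diag_apply, LinearMap.toMatrix_apply]
      simp only [Pi.basisFun_repr, Pi.basisFun_apply, LinearMap.funLeft_apply, Pi.single_apply]
      refine if_congr ?_ rfl rfl
      rw [mul_eq_right, inv_eq_one]
      exact ⟨fun h => congrArg Subtype.val h, fun h => Subtype.ext h⟩
    rw [Finset.sum_congr rfl fun u _ => hdiag u]
    by_cases hx1 : x = 1 <;> simp [hx1, Nat.card_eq_fintype_card]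
  -- the vectors fixed by `U` form a line
  obtain ⟨f₀, hf₀⟩ : ∃ f₀, res f₀ = fun _ => 1 := hsurj _
  have hline : ∀ f : stSub pan, (∀ u ∈ U, σ u f = f) → f = res f 1 • f₀ := by
    intro f hf
    apply hinj
    rw [map_smul, hf₀]
    funext w
    show f.1 ((w : G) • d₀) = res f 1 * 1
    conv_lhs => rw [← hf w w.2]
    show f.1 ((w : G)⁻¹ • (w : G) • d₀) = f.1 (((1 : U) : G) • d₀) * 1
    rw [inv_smul_smul, OneMemClass.coe_one, one_smul, mul_one]
  -- a nonzero invariant subspace has a nonzero vector fixed by `U`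
  have hfixed : ∀ M : Subrepresentation σ, M.toSubmodule ≠ ⊥ →
      ∃ π : (C → ℂ) →ₗ[ℂ] stSub pan, (∀ v, π v ∈ M.toSubmodule) ∧ (∀ f ∈ M.toSubmodule, π f.1 = f) ∧
        (∀ g v, π (funRep G C g v) = σ g (π v)) := by
    intro M _
    let S : Submodule ℂ (C → ℂ) := M.toSubmodule.map (stSub pan).subtype
    obtain ⟨T, hT⟩ := Submodule.exists_isCompl S
    let p₀ : (C → ℂ) →ₗ[ℂ] stSub pan :=
      (M.toSubmodule.subtype).comp ((Submodule.equivMapOfInjective (stSub pan).subtype
        (Submodule.injective_subtype _) M.toSubmodule).symm.toLinearMap.comp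
          (Submodule.projectionOnto S T hT))
    have hp₀ : ∀ v, p₀ v ∈ M.toSubmodule := fun v => Subtype.prop _
    have hp₀' : ∀ f ∈ M.toSubmodule, p₀ f.1 = f := fun f hf => by
      have h1 : (f : C → ℂ) ∈ S := ⟨f, hf, rfl⟩
      show M.toSubmodule.subtype ((Submodule.equivMapOfInjective (stSub pan).subtype
        (Submodule.injective_subtype _) M.toSubmodule).symm (Submodule.projectionOnto S T hT (f : C → ℂ))) = f
      rw [show Submodule.projectionOnto S T hT (f : C → ℂ) = ⟨_, h1⟩ from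
        Submodule.projectionOnto_apply_left hT ⟨_, h1⟩]
      have h2 : (Submodule.equivMapOfInjective (stSub pan).subtype (Submodule.injective_subtype _)
          M.toSubmodule) ⟨f, hf⟩ = ⟨_, h1⟩ := Subtype.ext rfl
      rw [← h2, LinearEquiv.symm_apply_apply]
      rfl
    refine ⟨((Fintype.card G : ℂ)⁻¹) • ∑ g : G, (σ g⁻¹).comp (p₀.comp (funRep G C g)), fun v => ?_,
      fun f hf => ?_, fun h v => ?_⟩
    · simp only [LinearMap.smul_apply, LinearMap.coe_sum, Finset.sum_apply, LinearMap.comp_apply]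
      exact M.toSubmodule.smul_mem _ (M.toSubmodule.sum_mem fun g _ => M.apply_mem_toSubmodule _ (hp₀ _))
    · simp only [LinearMap.smul_apply, LinearMap.coe_sum, Finset.sum_apply, LinearMap.comp_apply]
      rw [Finset.sum_congr rfl fun g _ => (show σ g⁻¹ (p₀ (funRep G C g f.1)) = f from by
        rw [show funRep G C g f.1 = (σ g f).1 from rfl, hp₀' _ (M.apply_mem_toSubmodule g hf),
          ← Module.End.mul_apply, ← map_mul, inv_mul_cancel, map_one, Module.End.one_apply])]
      rw [Finset.sum_const, Finset.card_univ, ← Nat.cast_smul_eq_nsmul ℂ, smul_smul,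
        inv_mul_cancel₀ (Nat.cast_ne_zero.2 Fintype.card_ne_zero), one_smul]
    · simp only [LinearMap.smul_apply, LinearMap.coe_sum, Finset.sum_apply, LinearMap.comp_apply]
      rw [map_smul, map_sum]
      congr 1
      refine Fintype.sum_equiv (Equiv.mulRight h) _ _ fun g => ?_
      rw [← Module.End.mul_apply (σ h), ← map_mul, Equiv.coe_mulRight, mul_inv_rev, mul_inv_cancel_left,
        map_mul, Module.End.mul_apply]
  have hmemf₀ : ∀ M : Subrepresentation σ, M.toSubmodule ≠ ⊥ → f₀ ∈ M.toSubmodule := by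
    intro M hM
    obtain ⟨π, hπM, hπid, hπeq⟩ := hfixed M hM
    obtain ⟨f, hf, hfne⟩ := (Submodule.ne_bot_iff _).1 hM
    obtain ⟨c, hc⟩ : ∃ c, π (Pi.single c 1) ≠ 0 := by
      by_contra hall
      push_neg at hall
      apply hfne
      rw [← hπid f hf]
      have : π = 0 := (Pi.basisFun ℂ C).ext fun c => by
        rw [Pi.basisFun_apply]; exact hall c
      rw [this]; rfl
    obtain ⟨g, hg⟩ := hfix c
    have hsg : ∀ (h : G) (d : C), funRep G C h (Pi.single d 1) = Pi.single (h • d) 1 := fun h d => by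
      funext y
      rw [funRep_apply]
      simp only [Pi.single_apply, inv_smul_eq_iff]
    have hne : π (Pi.single (g • c) 1) ≠ 0 := fun h0 => hc (by
      have h := hπeq g⁻¹ (Pi.single (g • c) 1)
      rwa [hsg, inv_smul_smul, h0, map_zero] at h)
    have hU : ∀ u ∈ U, σ u (π (Pi.single (g • c) 1)) = π (Pi.single (g • c) 1) := fun u hu => by
      rw [← hπeq, hsg, hg u hu]
    have h := hline _ hU
    have hscal : res (π (Pi.single (g • c) 1)) 1 ≠ 0 := fun h0 => hne (by rw [h, h0, zero_smul])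
    have hm := hπM (Pi.single (g • c) 1)
    rw [h] at hm
    exact (Submodule.smul_mem_iff _ hscal).1 hm
  have hf₀ne : f₀ ≠ 0 := fun h0 => by
    have := congrFun hf₀ 1
    rw [h0, map_zero] at this
    simp at this
  haveI hirr : σ.IsIrreducible :=
    { exists_pair_ne := ⟨⊥, ⊤, fun hbt => hf₀ne (by
        have h1 : (⊥ : Submodule ℂ (stSub pan)) = ⊤ := congrArg Subrepresentation.toSubmodule hbt
        exact (Submodule.mem_bot ℂ).1 (h1 ▸ Submodule.mem_top))⟩
      eq_bot_or_eq_top := fun M => by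
        by_cases hM : M.toSubmodule = ⊥
        · exact Or.inl (Subrepresentation.toSubmodule_injective hM)
        right
        refine Subrepresentation.toSubmodule_injective (eq_top_iff.2 fun f _ => ?_)
        obtain ⟨π, hπM, hπid, hπeq⟩ := hfixed M hM
        let K : Subrepresentation σ := ⟨LinearMap.ker (π.comp (stSub pan).subtype), fun g v hv => by
          rw [LinearMap.mem_ker, LinearMap.comp_apply] at hv ⊢
          show π (funRep G C g v.1) = 0
          rw [hπeq, show π v.1 = 0 from hv, map_zero]⟩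
        have hK : K.toSubmodule = ⊥ := by
          by_contra hK
          have h1 : π f₀.1 = 0 := hmemf₀ K hK
          rw [hπid f₀ (hmemf₀ M hM)] at h1
          exact hf₀ne h1
        have h2 : f - π f.1 ∈ K.toSubmodule := by
          show π (f - π f.1).1 = 0
          rw [Submodule.coe_sub, map_sub, hπid _ (hπM _), sub_self]
        rw [hK, Submodule.mem_bot, sub_eq_zero] at h2
        rw [h2]
        exact hπM _ }
  refine ⟨σ.character, CfsgLib.Char.isIrrCharacter_of_rep σ, ?_, fun x hx hx1 => ?_⟩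
  · rw [hchar 1 U.one_mem, if_pos rfl]
  · rw [hchar x hx, if_neg hx1]

/-- From one Sylow subgroup to all. -/
theorem forall_sylow {p : ℕ} [Fact p.Prime] [Finite G] (P₀ : Sylow p G) {χ : G → ℂ}
    (hχ : Cfsg.IsIrrCharacter G χ) (h1 : χ 1 = Nat.card P₀)
    (h0 : ∀ x ∈ (P₀ : Subgroup G), x ≠ 1 → χ x = 0) (P : Sylow p G) :
    χ 1 = Nat.card P ∧ ∀ x : G, x ∈ P → x ≠ 1 → χ x = 0 := by
  obtain ⟨g, rfl⟩ := MulAction.exists_smul_eq G P₀ P
  refine ⟨by rw [h1, Nat.card_congr (Sylow.equiv P₀ (g • P₀)).toEquiv], fun x hx hx1 => ?_⟩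
  rw [← SetLike.mem_coe, Sylow.coe_smul] at hx
  obtain ⟨y, hy, rfl⟩ := hx
  show χ (g * y * g⁻¹) = 0
  rw [CfsgLib.Char.isClassFunction_isConj (CfsgLib.Char.irr_isClassFunction hχ) (b := y)
    (isConj_iff.2 ⟨g⁻¹, by group⟩)]
  refine h0 y hy fun h => hx1 ?_
  show g * y * g⁻¹ = 1
  rw [h, mul_one, mul_inv_cancel]

end CfsgLib.KnownC.Steinberg

namespace CfsgLib.KnownC.Steinberg

variable {G C I : Type*} [Group G] [MulAction G C] [Fintype C]

/-- The version for a quotient by a normal subgroup acting trivially. -/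
theorem exists_irr_quot [Finite G] {p : ℕ} [Fact p.Prime] (N : Subgroup G) [N.Normal]
    (hN : ∀ z ∈ N, ∀ c : C, z • c = c) (pan : I → C → Set C)
    (hpan : ∀ (g : G) i c d, g • d ∈ pan i (g • c) ↔ d ∈ pan i c) (U : Sylow p G) (d₀ : C) (O : Set C)
    (hO : ∀ c, c ∈ O ↔ ∃ u ∈ (U : Subgroup G), u • d₀ = c)
    (hfree : ∀ u ∈ (U : Subgroup G), u • d₀ = d₀ → u = 1) (ρ : C → ℤ)
    (himp : ∀ c ∉ O, ∃ i, c ∈ pan i c ∧ ∀ d ∈ pan i c, d ≠ c → ρ c < ρ d)
    (e : C → ℂ) (he : ∀ i c, ∑ d, Set.indicator (pan i c) e d = 0) (he1 : e d₀ = 1)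
    (he0 : ∀ c ∈ O, c ≠ d₀ → e c = 0)
    (hfix : ∀ c : C, ∃ g : G, ∀ u ∈ (U : Subgroup G), u • g • c = g • c) :
    ∃ χ : G ⧸ N → ℂ, Cfsg.IsIrrCharacter (G ⧸ N) χ ∧ ∀ P : Sylow p (G ⧸ N),
      χ 1 = Nat.card P ∧ ∀ x : G ⧸ N, x ∈ P → x ≠ 1 → χ x = 0 := by
  letI : MulAction (G ⧸ N) C := MulAction.compHom C (QuotientGroup.lift N (MulAction.toPermHom G C)
    fun z hz => by
      rw [MonoidHom.mem_ker]
      exact Equiv.ext fun c => hN z hz c)
  have hmk : ∀ (g : G) (c : C), (QuotientGroup.mk g : G ⧸ N) • c = g • c := fun g c => rfl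
  let Q : Sylow p (G ⧸ N) := U.mapSurjective (QuotientGroup.mk'_surjective N)
  have hQ : ∀ x : G ⧸ N, x ∈ (Q : Subgroup (G ⧸ N)) ↔
      ∃ u ∈ (U : Subgroup G), (QuotientGroup.mk u : G ⧸ N) = x := fun x => Iff.rfl
  obtain ⟨χ, h1, h2, h3⟩ := exists_irr (G := G ⧸ N) pan
    (fun g i c d => by
      obtain ⟨g, rfl⟩ := QuotientGroup.mk_surjective g
      rw [hmk, hmk]; exact hpan g i c d)
    (Q : Subgroup (G ⧸ N)) d₀ O
    (fun c => by
      refine (hO c).trans ⟨fun ⟨u, hu, h⟩ => ⟨_, (hQ _).2 ⟨u, hu, rfl⟩, (hmk u d₀).trans h⟩, ?_⟩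
      rintro ⟨x, hx, h⟩
      obtain ⟨u, hu, rfl⟩ := (hQ x).1 hx
      exact ⟨u, hu, (hmk u d₀).symm.trans h⟩)
    (fun x hx h => by
      obtain ⟨u, hu, rfl⟩ := (hQ x).1 hx
      rw [hfree u hu ((hmk u d₀).symm.trans h), QuotientGroup.mk_one])
    ρ himp e he he1 he0
    (fun c => by
      obtain ⟨g, hg⟩ := hfix c
      refine ⟨QuotientGroup.mk g, fun x hx => ?_⟩
      obtain ⟨u, hu, rfl⟩ := (hQ x).1 hx
      rw [hmk, hmk]; exact hg u hu)
  exact ⟨χ, h1, forall_sylow Q h1 h2 h3⟩

/-- The trivial character serves when the Sylow subgroups are trivial. -/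
theorem exists_irr_trivial {p : ℕ} [Fact p.Prime] {H : Type*} [Group H] [Finite H] (h : ¬ p ∣ Nat.card H) :
    ∃ χ : H → ℂ, Cfsg.IsIrrCharacter H χ ∧ ∀ P : Sylow p H,
      χ 1 = Nat.card P ∧ ∀ x : H, x ∈ P → x ≠ 1 → χ x = 0 := by
  refine ⟨_, CfsgLib.Char.isIrrCharacter_one, fun P => ?_⟩
  have hP : Nat.card P = 1 := by
    rw [P.card_eq_multiplicity, Nat.factorization_eq_zero_of_not_dvd h, pow_zero]
  refine ⟨by rw [hP, Nat.cast_one], fun x hx hx1 => absurd ?_ hx1⟩
  have : (P : Subgroup H) = ⊥ := Subgroup.card_eq_one.1 hP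
  rw [← Subgroup.mem_bot, ← this]
  exact hx

end CfsgLib.KnownC.Steinberg
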