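import Cfsg.Agent.Lib.KnownC.StModule
import Cfsg.Agent.Lib.KnownC.PlusFourTwo

/-!
The character for `Ω⁺_4(2)`: the character of degree two of a quotient isomorphic to `S_3`.
-/

set_option autoImplicit false
set_option linter.unusedSectionVars false

namespace CfsgLib.KnownC.Steinberg.PlusFour

open Matrix CfsgLib.Classical CfsgLib.Geom
open scoped MatrixGroups

variable {F : Type*} [Field F] [Fintype F]

theorem sl_two_equiv_perm (hF : Fintype.card F = 2) : Nonempty (SL(2, F) ≃* Equiv.Perm (Fin 3)) := by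
  classical
  have hc : Fintype.card {v : Fin 2 → F // v ≠ 0} = 3 := by
    rw [Fintype.card_subtype_compl, Fintype.card_subtype_eq, Fintype.card_fun, hF, Fintype.card_fin]; rfl
  let act : SL(2, F) →* Equiv.Perm {v : Fin 2 → F // v ≠ 0} :=
    { toFun := fun g =>
        { toFun := fun v => ⟨(g : Matrix (Fin 2) (Fin 2) F) *ᵥ v.1, fun h => v.2 (by
            have h' := congrArg (fun w => ((g⁻¹ : SL(2, F)) : Matrix (Fin 2) (Fin 2) F) *ᵥ w) h
            simp only [Matrix.mulVec_mulVec, ← Matrix.SpecialLinearGroup.coe_mul, inv_mul_cancel,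
              Matrix.SpecialLinearGroup.coe_one, Matrix.one_mulVec, Matrix.mulVec_zero] at h'
            exact h')⟩
          invFun := fun v => ⟨((g⁻¹ : SL(2, F)) : Matrix (Fin 2) (Fin 2) F) *ᵥ v.1, fun h => v.2 (by
            have h' := congrArg (fun w => (g : Matrix (Fin 2) (Fin 2) F) *ᵥ w) h
            simp only [Matrix.mulVec_mulVec, ← Matrix.SpecialLinearGroup.coe_mul, mul_inv_cancel,
              Matrix.SpecialLinearGroup.coe_one, Matrix.one_mulVec, Matrix.mulVec_zero] at h'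
            exact h')⟩
          left_inv := fun v => Subtype.ext (by
            simp only [Matrix.mulVec_mulVec, ← Matrix.SpecialLinearGroup.coe_mul, inv_mul_cancel,
              Matrix.SpecialLinearGroup.coe_one, Matrix.one_mulVec])
          right_inv := fun v => Subtype.ext (by
            simp only [Matrix.mulVec_mulVec, ← Matrix.SpecialLinearGroup.coe_mul, mul_inv_cancel,
              Matrix.SpecialLinearGroup.coe_one, Matrix.one_mulVec]) }
      map_one' := Equiv.ext fun v => Subtype.ext (by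
        show ((1 : SL(2, F)) : Matrix (Fin 2) (Fin 2) F) *ᵥ v.1 = v.1
        rw [Matrix.SpecialLinearGroup.coe_one, Matrix.one_mulVec])
      map_mul' := fun a b => Equiv.ext fun v => Subtype.ext (by
        show ((a * b : SL(2, F)) : Matrix (Fin 2) (Fin 2) F) *ᵥ v.1 = _
        rw [Matrix.SpecialLinearGroup.coe_mul, ← Matrix.mulVec_mulVec]
        rfl) }
  have hinj : Function.Injective act := fun a b h => Subtype.ext (Matrix.ext_of_mulVec_single fun i => by
    exact congrArg Subtype.val (Equiv.congr_fun h ⟨Pi.single i 1, by simp⟩))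
  let f : SL(2, F) →* Equiv.Perm (Fin 3) :=
    ((Fintype.equivFinOfCardEq hc).permCongrHom).toMonoidHom.comp act
  refine ⟨MulEquiv.ofBijective f ((Nat.bijective_iff_injective_and_card _).2
    ⟨((Fintype.equivFinOfCardEq hc).permCongrHom).injective.comp hinj, ?_⟩)⟩
  rw [card_sl_two_eq, Nat.card_perm, Nat.card_fin, hF]
  rfl

/-- A character vanishing on involutions from a quotient isomorphic to `S_3` by a kernel of odd order. -/
theorem exists_of_perm_three {G : Type*} [Group G] [Finite G] (π : G →* Equiv.Perm (Fin 3))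
    (hs : Function.Surjective π) (hk : ¬ 2 ∣ Nat.card π.ker) :
    ∃ χ : G → ℂ, Cfsg.IsIrrCharacter G χ ∧
      ∀ P : Sylow 2 G, χ 1 = Nat.card P ∧ ∀ x : G, x ∈ P → x ≠ 1 → χ x = 0 := by
  classical
  haveI : Fact (Nat.Prime 2) := ⟨Nat.prime_two⟩
  letI : MulAction G (Fin 3) := MulAction.compHom _ π
  let P : Sylow 2 G := default
  let R : Sylow 2 (Equiv.Perm (Fin 3)) := P.mapSurjective hs
  have hR : Nat.card R = 2 := by
    rw [R.card_eq_multiplicity, Nat.card_perm, Nat.card_fin, show Nat.factorial 3 = 2 * 3 from rfl,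
      Nat.factorization_mul two_ne_zero three_ne_zero, Finsupp.add_apply, Nat.prime_two.factorization_self,
      Nat.factorization_eq_zero_of_not_dvd (by norm_num)]
    rfl
  have hbot : ∀ u ∈ (P : Subgroup G), π u = 1 → u = 1 := by
    intro u hu hu1
    obtain ⟨k, hk2⟩ := P.isPGroup' ⟨u, hu⟩
    have hpow : u ^ 2 ^ k = 1 := congrArg Subtype.val hk2
    have ho : orderOf (⟨u, MonoidHom.mem_ker.2 hu1⟩ : π.ker) ∣ Nat.card π.ker := orderOf_dvd_natCard _
    rw [Subgroup.orderOf_mk] at ho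
    refine orderOf_eq_one_iff.1 (Nat.dvd_one.1 ?_)
    have h1 : Nat.Coprime (2 ^ k) (Nat.card π.ker) :=
      Nat.Coprime.pow_left k (Nat.prime_two.coprime_iff_not_dvd.2 hk)
    rw [← h1.gcd_eq_one]
    exact Nat.dvd_gcd (orderOf_dvd_of_pow_eq_one hpow) ho
  obtain ⟨σ, hσ, hσ1⟩ := ((R : Subgroup (Equiv.Perm (Fin 3))).bot_or_exists_ne_one).resolve_left fun h => by
    have : Nat.card R = 1 := Subgroup.card_eq_one.2 h
    omega
  have hR2 : ∀ τ ∈ (R : Subgroup (Equiv.Perm (Fin 3))), τ = 1 ∨ τ = σ := by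
    intro τ hτ
    by_contra hne
    push_neg at hne
    haveI := Fintype.ofFinite (R : Subgroup (Equiv.Perm (Fin 3)))
    have h3 : ({⟨1, one_mem _⟩, ⟨σ, hσ⟩, ⟨τ, hτ⟩} : Finset (R : Subgroup (Equiv.Perm (Fin 3)))).card = 3 :=
      Finset.card_eq_three.2 ⟨_, _, _, fun h => hσ1 (congrArg Subtype.val h).symm,
        fun h => hne.1 (congrArg Subtype.val h).symm, fun h => hne.2 (congrArg Subtype.val h).symm, rfl⟩
    have := Finset.card_le_univ ({⟨1, one_mem _⟩, ⟨σ, hσ⟩, ⟨τ, hτ⟩} : Finset (R : Subgroup (Equiv.Perm (Fin 3))))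
    rw [← Nat.card_eq_fintype_card] at this
    have : Nat.card R = Nat.card (R : Subgroup (Equiv.Perm (Fin 3))) := rfl
    omega
  have hσσ : σ * σ = 1 := by
    rcases hR2 (σ * σ) (mul_mem hσ hσ) with h | h
    · exact h
    · exact absurd (mul_eq_left.1 h) hσ1
  have hperm : ∀ s : Equiv.Perm (Fin 3), s * s = 1 → s ≠ 1 →
      ∃ i j k : Fin 3, s i = j ∧ s j = i ∧ s k = k ∧ i ≠ j ∧ i ≠ k ∧ j ≠ k := by decide
  obtain ⟨i, j, k, hij, hji, hkk, nij, nik, njk⟩ := hperm σ hσσ hσ1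
  have hall : ∀ x : Fin 3, x = i ∨ x = j ∨ x = k := by
    have h3 : ∀ a b c : Fin 3, a ≠ b → a ≠ c → b ≠ c → ∀ x, x = a ∨ x = b ∨ x = c := by decide
    exact h3 i j k nij nik njk
  obtain ⟨u₀, hu₀, hu₀σ⟩ : ∃ u ∈ (P : Subgroup G), π u = σ := hσ
  have hact : ∀ u ∈ (P : Subgroup G), ∀ x : Fin 3, u • x = x ∨ u • x = σ x := by
    intro u hu x
    rcases hR2 (π u) ⟨u, hu, rfl⟩ with h | h
    · exact Or.inl (show π u x = x by rw [h]; rfl)
    · exact Or.inr (show π u x = σ x by rw [h])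
  obtain ⟨χ, h1, h2, h3⟩ := exists_irr (G := G) (fun (_ : Unit) (_ : Fin 3) => Set.univ)
    (fun _ _ _ _ => Iff.rfl) (P : Subgroup G) i {i, j}
    (fun c => by
      constructor
      · rintro (rfl | rfl)
        · exact ⟨1, one_mem _, one_smul _ _⟩
        · exact ⟨u₀, hu₀, by show π u₀ i = c; rw [hu₀σ, hij]⟩
      · rintro ⟨u, hu, rfl⟩
        rcases hact u hu i with h | h <;> rw [h]
        exacts [Or.inl rfl, Or.inr hij])
    (fun u hu h => by
      refine hbot u hu ?_
      rcases hR2 (π u) ⟨u, hu, rfl⟩ with h' | h'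
      · exact h'
      · exfalso
        have : σ i = i := by rw [← h']; exact h
        exact nij (this.symm.trans hij))
    (fun c => if c = k then 0 else 1)
    (fun c hc => by
      have hck : c = k := by
        rcases hall c with h | h | h
        · exact absurd (Or.inl h) hc
        · exact absurd (Or.inr h) hc
        · exact h
      refine ⟨(), Set.mem_univ _, fun d _ hd => ?_⟩
      subst hck
      rw [if_pos rfl, if_neg hd]
      norm_num)
    (Pi.single i 1 - Pi.single k 1)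
    (fun _ _ => by simp [Finset.sum_sub_distrib])
    (by simp [nik])
    (fun c hc hci => by
      rcases hc with rfl | rfl
      · exact absurd rfl hci
      · simp [nij.symm, njk])
    (fun c => by
      obtain ⟨g, hg⟩ := hs (Equiv.swap c k)
      refine ⟨g, fun u hu => ?_⟩
      have hgc : g • c = k := by show π g c = k; rw [hg, Equiv.swap_apply_left]
      rw [hgc]
      rcases hact u hu k with h | h
      exacts [h, h.trans hkk])
  exact ⟨χ, h1, forall_sylow P h1 h2 h3⟩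

theorem exists_steinberg (hF : Fintype.card F = 2) :
    ∃ χ : Cfsg.POmega F (Cfsg.quadFormPlus 2 F) → ℂ,
      Cfsg.IsIrrCharacter (Cfsg.POmega F (Cfsg.quadFormPlus 2 F)) χ ∧
      ∀ P : Sylow 2 (Cfsg.POmega F (Cfsg.quadFormPlus 2 F)), χ 1 = Nat.card P ∧
        ∀ x : Cfsg.POmega F (Cfsg.quadFormPlus 2 F), x ∈ P → x ≠ 1 → χ x = 0 := by
  classical
  rw [← qfPlus_coe]
  set Q := qfPlus 2 F
  obtain ⟨e⟩ := sl_two_equiv_perm hF
  haveI : Finite ((Fin 2 ⊕ Fin 2 → F) ≃ₗ[F] (Fin 2 ⊕ Fin 2 → F)) :=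
    Finite.of_injective (fun e => (e : (Fin 2 ⊕ Fin 2 → F) → (Fin 2 ⊕ Fin 2 → F))) DFunLike.coe_injective
  let Ψ : SL(2, F) × SL(2, F) →* quadIsoms Q := slTwoPlus
  have hcen : ∀ g : SL(2, F), g ∈ Subgroup.center SL(2, F) → g = 1 := by
    intro g hg
    have hz := card_center_sl (ι := Fin 2) (F := F)
    rw [Fintype.card_fin, hF] at hz
    have : Subgroup.center SL(2, F) = ⊥ := Subgroup.card_eq_one.1 (hz.trans (by norm_num))
    rwa [this, Subgroup.mem_bot] at hg
  have hinj : Function.Injective Ψ := by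
    refine (injective_iff_map_eq_one _).2 fun g hg => ?_
    have hfix : ∀ M : Matrix (Fin 2) (Fin 2) F,
        (g.1 : Matrix (Fin 2) (Fin 2) F) * M = M * (g.2 : Matrix (Fin 2) (Fin 2) F) := by
      intro M
      have h : mMat ((slTwoPlus g).1 (mCoord M)) = M := by
        rw [show slTwoPlus g = (1 : quadIsoms Q) from hg]; exact mMat_coord M
      rw [slTwoPlus_apply, mMat_coord, mMat_coord] at h
      conv_rhs => rw [← h]
      rw [mul_assoc, mul_assoc, ← Matrix.SpecialLinearGroup.coe_mul, inv_mul_cancel,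
        Matrix.SpecialLinearGroup.coe_one, mul_one]
    have he : g.2 = g.1 := Subtype.ext (by simpa using (hfix 1).symm)
    have hg1 : g.1 = 1 := by
      refine hcen _ (mem_center_of_eq_smul (scalar_of_commute_singles ?_ ?_))
      · have := hfix !![0, 1; 0, 0]; rwa [he] at this
      · have := hfix !![0, 0; 1, 0]; rwa [he] at this
    exact Prod.ext hg1 (he.trans hg1)
  have hO : Nat.card (quadIsoms Q) = 72 := by
    rw [card_qfPlus_isoms 1, hF]; rfl
  have hS : Nat.card SL(2, F) = 6 := by rw [card_sl_two_eq, hF]; rfl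
  have hidx : Ψ.range.index = 2 := by
    have h1 := Subgroup.card_mul_index Ψ.range
    rw [hO, ← Nat.card_congr (MonoidHom.ofInjective hinj).toEquiv, Nat.card_prod, hS] at h1
    omega
  let τ : quadIsoms Q := transposeIsom F
  obtain ⟨T, hT⟩ : ∃ T : SL(2, F) → SL(2, F), ∀ a,
      (T a : Matrix (Fin 2) (Fin 2) F) = (a : Matrix (Fin 2) (Fin 2) F)ᵀ :=
    ⟨fun a => ⟨(a : Matrix (Fin 2) (Fin 2) F)ᵀ, by rw [Matrix.det_transpose, a.det_coe]⟩, fun a => rfl⟩
  have hTmul : ∀ a b, T (a * b) = T b * T a := fun a b => Subtype.ext (by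
    rw [Matrix.SpecialLinearGroup.coe_mul, hT, hT, hT, Matrix.SpecialLinearGroup.coe_mul, Matrix.transpose_mul])
  obtain ⟨θ, hθ⟩ : ∃ θ : SL(2, F) →* SL(2, F), ∀ a,
      (((θ a)⁻¹ : SL(2, F)) : Matrix (Fin 2) (Fin 2) F) = (a : Matrix (Fin 2) (Fin 2) F)ᵀ :=
    ⟨MonoidHom.mk' (fun a => (T a)⁻¹) (fun a b => by rw [hTmul]; exact _root_.mul_inv_rev _ _),
      fun a => by rw [MonoidHom.mk'_apply, inv_inv, hT]⟩
  have hθinj : Function.Injective θ := fun a b h => by
    refine Subtype.ext (Matrix.transpose_injective ?_)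
    rw [← hθ, ← hθ, h]
  have hconj : ∀ p : SL(2, F) × SL(2, F), τ * Ψ p = Ψ (θ p.2, θ p.1) * τ := fun p => by
    refine Subtype.ext (LinearEquiv.ext fun v => ?_)
    show mCoord (mMat ((slTwoPlus p).1 v))ᵀ = (slTwoPlus (θ p.2, θ p.1)).1 (mCoord (mMat v)ᵀ)
    rw [slTwoPlus_apply, slTwoPlus_apply, mMat_coord, mMat_coord]
    simp only [hθ, Matrix.transpose_mul]
    congr 1
    have h2 := congrArg Matrix.transpose (hθ p.2⁻¹)
    rw [map_inv, inv_inv, Matrix.transpose_transpose] at h2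
    rw [← h2, Matrix.transpose_transpose, mul_assoc]
  let ε : SL(2, F) →* ℤˣ := Equiv.Perm.sign.comp e.toMonoidHom
  have hεs : Function.Surjective ε := fun u => by
    obtain ⟨s, rfl⟩ := Equiv.Perm.sign_surjective (Fin 3) u
    exact ⟨e.symm s, by simp [ε]⟩
  have hεθ : ∀ a, ε (θ a) = ε a := by
    have h : Function.Surjective ((ε.comp θ).comp e.symm.toMonoidHom) :=
      (hεs.comp (Finite.injective_iff_surjective.1 hθinj)).comp e.symm.surjective
    have := Equiv.Perm.eq_sign_of_surjective_hom h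
    intro a
    have h2 := DFunLike.congr_fun this (e a)
    simpa [ε] using h2
  let δ : SL(2, F) × SL(2, F) →* ℤˣ := (ε.comp (MonoidHom.fst _ _)) * (ε.comp (MonoidHom.snd _ _))
  let N : Subgroup (quadIsoms Q) := δ.ker.map Ψ
  have hτnot : τ ∉ Ψ.range := by
    rintro ⟨p, hp⟩
    obtain ⟨a, ha⟩ := hεs (-1)
    have h := hconj (a, 1)
    rw [← hp, ← map_mul, ← map_mul] at h
    have h' := congrArg Prod.snd (hinj h)
    simp only [Prod.snd_mul, mul_one] at h'
    have h2 : θ a = θ 1 := by rw [map_one]; exact mul_eq_right.1 h'.symm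
    rw [hθinj h2, map_one] at ha
    exact absurd ha (by decide)
  have hcover : ∀ x : quadIsoms Q, x ∈ Ψ.range ∨ ∃ p, x = τ * Ψ p := fun x => by
    by_cases hx : x ∈ Ψ.range
    · exact Or.inl hx
    · have h1 : τ⁻¹ * x ∈ Ψ.range := (Subgroup.mul_mem_iff_of_index_two hidx).2
        (by simp only [inv_mem_iff]; exact iff_of_false hτnot hx)
      obtain ⟨p, hp⟩ := h1
      exact Or.inr ⟨p, by rw [hp, mul_inv_cancel_left]⟩
  haveI hN : N.Normal := ⟨by
    rintro _ ⟨p, hp, rfl⟩ x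
    have hΨ : ∀ r, Ψ r * Ψ p * (Ψ r)⁻¹ ∈ N := fun r => ⟨r * p * r⁻¹, δ.normal_ker.conj_mem p hp r, by
      simp [map_mul]⟩
    rcases hcover x with ⟨r, rfl⟩ | ⟨r, rfl⟩
    · exact hΨ r
    · obtain ⟨p', hp', hp'e⟩ := hΨ r
      refine ⟨(θ p'.2, θ p'.1), ?_, ?_⟩
      · rw [SetLike.mem_coe, MonoidHom.mem_ker] at hp' ⊢
        show ε (θ p'.2) * ε (θ p'.1) = 1
        rw [hεθ, hεθ, mul_comm]; exact hp'
      · rw [eq_mul_inv_iff_mul_eq, show (τ * Ψ r) = τ * Ψ r from rfl]
        calc Ψ (θ p'.2, θ p'.1) * (τ * Ψ r) = (Ψ (θ p'.2, θ p'.1) * τ) * Ψ r := (mul_assoc _ _ _).symm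
          _ = τ * Ψ p' * Ψ r := by rw [hconj]
          _ = τ * Ψ r * Ψ p := by rw [hp'e]; group⟩
  have hδ : Nat.card δ.ker = 18 := by
    have h1 := Subgroup.card_mul_index δ.ker
    have hsurj : Function.Surjective δ := fun u => by
      obtain ⟨a, ha⟩ := hεs u
      exact ⟨(a, 1), by show ε a * ε 1 = u; rw [ha, map_one, mul_one]⟩
    rw [Subgroup.index_ker, MonoidHom.range_eq_top.2 hsurj, Subgroup.card_top, Nat.card_prod, hS,
      Nat.card_eq_fintype_card (α := ℤˣ), Fintype.card_units_int] at h1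
    omega
  have hle : commutator (quadIsoms Q) ≤ N := by
    haveI : Fact (Nat.Prime 2) := ⟨Nat.prime_two⟩
    have h1 := Subgroup.card_mul_index N
    rw [hO, Subgroup.card_map_of_injective hinj, hδ] at h1
    have h4 : Nat.card (quadIsoms Q ⧸ N) = 2 ^ 2 := by
      rw [← Subgroup.index_eq_card]; omega
    haveI := IsPGroup.isMulCommutative_of_card_eq_prime_sq h4
    rw [commutator_def, Subgroup.commutator_le]
    intro x _ y _
    rw [← QuotientGroup.eq_one_iff, commutatorElement_def]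
    simp only [QuotientGroup.mk_mul, QuotientGroup.mk_inv]
    rw [mul_comm' (x : quadIsoms Q ⧸ N) y]
    group
  -- the first coordinate
  have hrange : commutator (quadIsoms Q) ≤ Ψ.range := hle.trans (by rintro _ ⟨p, -, rfl⟩; exact ⟨p, rfl⟩)
  let π₀ : ↥(commutator (quadIsoms Q)) →* SL(2, F) × SL(2, F) :=
    (MonoidHom.ofInjective hinj).symm.toMonoidHom.comp (Subgroup.inclusion hrange)
  have hπ₀ : ∀ x, Ψ (π₀ x) = x.1 := fun x => by
    show Ψ ((MonoidHom.ofInjective hinj).symm _) = _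
    rw [MonoidHom.apply_ofInjective_symm]
    rfl
  let π₁ : ↥(commutator (quadIsoms Q)) →* Equiv.Perm (Fin 3) :=
    e.toMonoidHom.comp ((MonoidHom.fst _ _).comp π₀)
  have hs₁ : Function.Surjective π₁ := fun s => by
    obtain ⟨a, rfl⟩ := e.surjective s
    refine ⟨⟨Ψ (a, 1) * τ * (Ψ (a, 1))⁻¹ * τ⁻¹, Subgroup.commutator_mem_commutator (Subgroup.mem_top _)
      (Subgroup.mem_top _)⟩, congrArg e ?_⟩
    have hval : π₀ ⟨Ψ (a, 1) * τ * (Ψ (a, 1))⁻¹ * τ⁻¹, Subgroup.commutator_mem_commutator (Subgroup.mem_top _)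
        (Subgroup.mem_top _)⟩ = (a, 1) * (θ (1 : SL(2, F))⁻¹, θ a⁻¹) := hinj (by
      rw [hπ₀, map_mul]
      show Ψ (a, 1) * τ * (Ψ (a, 1))⁻¹ * τ⁻¹ = _
      rw [mul_assoc, mul_assoc]
      congr 1
      rw [← mul_assoc, mul_inv_eq_iff_eq_mul, ← map_inv Ψ]
      exact hconj (a⁻¹, (1 : SL(2, F))⁻¹))
    show ((MonoidHom.fst _ _) (π₀ _)) = a
    rw [hval]
    simp
  have hk₁ : ¬ 2 ∣ Nat.card π₁.ker := by
    intro h2
    haveI : Fact (Nat.Prime 2) := ⟨Nat.prime_two⟩
    obtain ⟨x, hx⟩ := exists_prime_orderOf_dvd_card' (G := π₁.ker) 2 h2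
    have h1 : π₀ x.1 = (1, (π₀ x.1).2) := Prod.ext (e.injective (by
      have := x.2
      rw [MonoidHom.mem_ker] at this
      simpa [π₁] using this)) rfl
    obtain ⟨p, hp, hpe⟩ := hle x.1.2
    rw [← hπ₀ x.1] at hpe
    obtain rfl := hinj hpe
    rw [SetLike.mem_coe, MonoidHom.mem_ker] at hp
    rw [h1] at hp
    change ε 1 * ε (π₀ x.1).2 = 1 at hp
    rw [map_one, one_mul] at hp
    have hsq : x ^ 2 = 1 := (congrArg (x ^ ·) hx.symm).trans (pow_orderOf_eq_one x)
    have h3 : e (π₀ x.1).2 ^ 2 = 1 := by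
      rw [← map_pow e, ← Prod.pow_snd, ← map_pow π₀, show (x.1 : ↥(commutator (quadIsoms Q))) ^ 2 = 1 from
        congrArg Subtype.val hsq, map_one]
      exact map_one e
    have hdec : ∀ s : Equiv.Perm (Fin 3), s ^ 2 = 1 → Equiv.Perm.sign s = 1 → s = 1 := by decide
    have h5 : (π₀ x.1).2 = 1 := e.injective ((hdec _ h3 hp).trans (map_one e).symm)
    have h6 : x.1 = 1 := Subtype.ext (by rw [← hπ₀, h1, h5, ← Prod.one_eq_mk, map_one]; rfl)
    have : x = 1 := Subtype.ext h6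
    rw [this, orderOf_one] at hx
    omega
  -- the centre
  let G₀ := ↥(Cfsg.Omega F (⇑Q))
  let ι₀ : G₀ →* ↥(commutator (quadIsoms Q)) := (omegaEquiv Q).symm.toMonoidHom
  have hZ : Subgroup.center G₀ ≤ (π₁.comp ι₀).ker := by
    intro z hz
    rw [MonoidHom.mem_ker]
    have h3 : ∀ s : Equiv.Perm (Fin 3), (∀ t, t * s = s * t) → s = 1 := by decide
    refine h3 _ fun t => ?_
    obtain ⟨y, rfl⟩ := (hs₁.comp (omegaEquiv Q).symm.surjective) t
    show (π₁.comp ι₀) y * _ = _
    rw [← map_mul, Subgroup.mem_center_iff.1 hz y, map_mul]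
    rfl
  let π : Cfsg.POmega F (⇑Q) →* Equiv.Perm (Fin 3) := QuotientGroup.lift _ (π₁.comp ι₀) hZ
  have hsπ : Function.Surjective π := fun s => by
    obtain ⟨y, rfl⟩ := (hs₁.comp (omegaEquiv Q).symm.surjective) s
    exact ⟨QuotientGroup.mk y, rfl⟩
  refine exists_of_perm_three π hsπ fun h2 => hk₁ ?_
  have hG : Nat.card G₀ = Nat.card π₁.ker * 6 := by
    rw [Nat.card_congr (omegaEquiv Q).symm.toEquiv, ← Subgroup.card_mul_index π₁.ker, Subgroup.index_ker,
      MonoidHom.range_eq_top.2 hs₁, Subgroup.card_top, Nat.card_perm, Nat.card_fin]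
    rfl
  have hP : Nat.card (Cfsg.POmega F (⇑Q)) = Nat.card π.ker * 6 := by
    rw [← Subgroup.card_mul_index π.ker, Subgroup.index_ker, MonoidHom.range_eq_top.2 hsπ,
      Subgroup.card_top, Nat.card_perm, Nat.card_fin]
    rfl
  have hdvd : Nat.card (Cfsg.POmega F (⇑Q)) ∣ Nat.card G₀ := Subgroup.card_quotient_dvd_card _
  rw [hG, hP] at hdvd
  exact h2.trans (Nat.dvd_of_mul_dvd_mul_right (by norm_num) hdvd)

end CfsgLib.KnownC.Steinberg.PlusFour
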