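import Cfsg.Agent.Lib.KnownC.StFlag

/-!
The character for the classical groups of a polar space: maximal flags of totally singular subspaces.
-/

set_option autoImplicit false
set_option linter.unusedSectionVars false

namespace CfsgLib.KnownC.Steinberg

open Module
open scoped Pointwise

/-- A group of isometries of a polar space with a frame, containing the moves along the frame. -/
structure Polar (K V Γ : Type*) [Field K] [AddCommGroup V] [Module K V] [Group Γ] (σ : K →+* K)
    (m : ℕ) where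
  /-- the form -/
  B : V →ₛₗ[σ] V →ₗ[K] K
  /-- its symmetry -/
  ε : K
  ε_ne : ε ≠ 0
  swap : ∀ u v, B v u = ε * σ (B u v)
  sep : ∀ x, (∀ y, B x y = 0) → x = 0
  /-- the singular vectors -/
  S : V → Prop
  S_zero : S 0
  S_self : ∀ v, S v → B v v = 0
  S_smul : ∀ (a : K) v, S v → S (a • v)
  S_add : ∀ u v, S u → S v → B u v = 0 → S (u + v)
  /-- all isometries -/
  A : Subgroup (V ≃ₗ[K] V)
  A_B : ∀ g ∈ A, ∀ u v, B (g u) (g v) = B u v
  A_S : ∀ g ∈ A, ∀ v, S v → S (g v)
  /-- the group -/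
  φ : Γ →* (V ≃ₗ[K] V)
  φ_inj : Function.Injective φ
  φ_mem : ∀ g, φ g ∈ A
  φ_norm : ∀ h ∈ A, ∀ g, ∃ g', φ g' = h * φ g * h⁻¹
  /-- the frame -/
  e : Fin m → V
  /-- the opposite half of the frame -/
  f : Fin m → V
  S_e : ∀ i, S (e i)
  S_f : ∀ i, S (f i)
  B_ee : ∀ i j, B (e i) (e j) = 0
  B_ff : ∀ i j, B (f i) (f j) = 0
  B_ef : ∀ i j, B (e i) (f j) = if i = j then 1 else 0
  aniso : ∀ x, (∀ i, B (e i) x = 0) → S x → x ∈ Submodule.span K (Set.range e)
  witt : ∀ (k : ℕ) (h : k ≤ m) (v : Fin k → V), LinearIndependent K v → (∀ i, S (v i)) →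
    (∀ i j, B (v i) (v j) = 0) → ∃ g ∈ A, ∀ i, g (e (Fin.castLE h i)) = v i
  move : ∀ (k : Fin m) (v : V), S v → B (e k) v = 1 → ∃ g : Γ, φ g (e k) = e k ∧ φ g (f k) = v ∧
    ∀ x, φ g x - x - B (e k) x • (v - f k) ∈ Submodule.span K {e k}
  /-- singular points on a line through `e k` -/
  c : ℕ
  count : ∀ (k : Fin m) (u : V), B (e k) u = 0 → B (f k) u = 0 →
    Nat.card {t : K // S (f k + u + t • e k)} = c

namespace Polar

variable {K V Γ : Type*} [Field K] [AddCommGroup V] [Module K V] [Group Γ] {σ : K →+* K} {m : ℕ}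
variable (P : Polar K V Γ σ m)

theorem B_zero_comm {u v : V} (h : P.B u v = 0) : P.B v u = 0 := by
  rw [P.swap, h, map_zero, mul_zero]

theorem B_fe (i j : Fin m) : P.B (P.f j) (P.e i) = if i = j then P.ε else 0 := by
  rw [P.swap, P.B_ef]
  split_ifs <;> simp

theorem φ_B (g : Γ) (u v : V) : P.B (P.φ g u) (P.φ g v) = P.B u v := P.A_B _ (P.φ_mem g) u v

theorem φ_mul_apply (g h : Γ) (x : V) : P.φ (g * h) x = P.φ g (P.φ h x) := by
  rw [map_mul]; rfl

theorem φ_inv_apply (g : Γ) (x : V) : P.φ g⁻¹ (P.φ g x) = x := by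
  rw [← φ_mul_apply, inv_mul_cancel, map_one]; rfl

theorem φ_apply_inv (g : Γ) (x : V) : P.φ g (P.φ g⁻¹ x) = x := by
  rw [← φ_mul_apply, mul_inv_cancel, map_one]; rfl

/-- Totally singular subspaces. -/
def TS (W : Submodule K V) : Prop := ∀ x ∈ W, P.S x ∧ ∀ y ∈ W, P.B x y = 0

theorem ts_span {ι : Type*} (v : ι → V) (hS : ∀ i, P.S (v i)) (hB : ∀ i j, P.B (v i) (v j) = 0) :
    P.TS (Submodule.span K (Set.range v)) := by
  have hB' : ∀ x ∈ Submodule.span K (Set.range v), ∀ y ∈ Submodule.span K (Set.range v),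
      P.B x y = 0 := by
    intro x hx y hy
    induction hx using Submodule.span_induction with
    | zero => simp
    | add a b _ _ iha ihb => rw [map_add, LinearMap.add_apply, iha, ihb, add_zero]
    | smul r a _ iha => rw [map_smulₛₗ, LinearMap.smul_apply, iha, smul_zero]
    | mem a ha =>
      obtain ⟨i, rfl⟩ := ha
      induction hy using Submodule.span_induction with
      | zero => simp
      | add a b _ _ iha ihb => rw [map_add, iha, ihb, add_zero]
      | smul r a _ iha => rw [map_smul, iha, smul_zero]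
      | mem b hb => obtain ⟨j, rfl⟩ := hb; exact hB i j
  intro x hx
  refine ⟨?_, hB' x hx⟩
  induction hx using Submodule.span_induction with
  | zero => exact P.S_zero
  | add a b ha hb iha ihb => exact P.S_add a b iha ihb (hB' a ha b hb)
  | smul r a _ iha => exact P.S_smul r a iha
  | mem a ha => obtain ⟨i, rfl⟩ := ha; exact hS i

theorem ts_map {a : V ≃ₗ[K] V} (ha : a ∈ P.A) {W : Submodule K V} (hW : P.TS W) :
    P.TS (W.map a.toLinearMap) := by
  rintro _ ⟨x, hx, rfl⟩
  refine ⟨P.A_S a ha x (hW x hx).1, ?_⟩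
  rintro _ ⟨y, hy, rfl⟩
  exact (P.A_B a ha x y).trans ((hW x hx).2 y hy)

/-- The chambers. -/
abbrev Fl := Flag P.TS m

noncomputable instance instAction : MulAction Γ P.Fl where
  smul g c := c.map (P.φ g) fun _ => P.ts_map (P.φ_mem g)
  one_smul c := Flag.ext (funext fun i => by
    show (c.F i).map _ = c.F i
    rw [map_one]; exact Submodule.map_id _)
  mul_smul g h c := Flag.ext (funext fun i => by
    show (c.F i).map _ = ((c.F i).map _).map _
    rw [map_mul, ← Submodule.map_comp]; rfl)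

theorem smul_F (g : Γ) (c : P.Fl) (i : ℕ) : (g • c).F i = (c.F i).map (P.φ g).toLinearMap := rfl

/-- The frame vectors. -/
def z (j : Fin m) (b : Bool) : V := if b then P.e j else P.f j

theorem S_z (j : Fin m) (b : Bool) : P.S (P.z j b) := by
  cases b
  exacts [P.S_f j, P.S_e j]

theorem B_z (j l : Fin m) (b b' : Bool) :
    P.B (P.z j b) (P.z l b') = 0 ↔ ¬ (j = l ∧ b ≠ b') := by
  cases b <;> cases b' <;> simp [z, P.B_ee, P.B_ff, P.B_ef, P.B_fe, P.ε_ne, eq_comm]

/-- The places of an apartment. -/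
abbrev W := Equiv.Perm (Fin m) × (Fin m → Bool)

/-- The vector at place `k`. -/
def av (w : W (m := m)) (k : Fin m) : V := P.z (w.1 k) (w.2 (w.1 k))

theorem sum_av_coeff (w : W (m := m)) (a : Fin m → K) (l : Fin m) :
    P.B (P.z (w.1 l) (!w.2 (w.1 l))) (∑ k, a k • P.av w k) =
      a l * P.B (P.z (w.1 l) (!w.2 (w.1 l))) (P.av w l) := by
  rw [map_sum, Finset.sum_eq_single l ?_ (by simp), map_smul, smul_eq_mul]
  intro k _ hk
  rw [map_smul, show P.B (P.z (w.1 l) (!w.2 (w.1 l))) (P.av w k) = 0 from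
    (P.B_z _ _ _ _).2 (fun h => hk (w.1.injective h.1).symm), smul_zero]

theorem av_li (w : W (m := m)) : LinearIndependent K (P.av w) := by
  rw [Fintype.linearIndependent_iff]
  intro a ha l
  have h := P.sum_av_coeff w a l
  rw [ha, map_zero] at h
  refine (mul_eq_zero.1 h.symm).resolve_right fun h0 => (P.B_z _ _ _ _).1 h0 ⟨rfl, ?_⟩
  cases w.2 (w.1 l) <;> simp

theorem B_av (w : W (m := m)) (k l : Fin m) : P.B (P.av w k) (P.av w l) = 0 :=
  (P.B_z _ _ _ _).2 fun h => h.2 (by rw [h.1])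

/-- The span of the first `i` vectors of a family. -/
def first (v : Fin m → V) (i : ℕ) : Submodule K V :=
  Submodule.span K (Set.range fun k : {k : Fin m // k.val < i} => v k.1)

theorem mem_first (v : Fin m → V) {i : ℕ} {k : Fin m} (hk : k.val < i) : v k ∈ first (K := K) v i :=
  Submodule.subset_span ⟨⟨k, hk⟩, rfl⟩

theorem first_mono (v : Fin m → V) {i j : ℕ} (h : i ≤ j) : first (K := K) v i ≤ first v j :=
  Submodule.span_le.2 (by rintro _ ⟨k, rfl⟩; exact mem_first v (k.2.trans_le h))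

theorem first_zero (v : Fin m → V) : first (K := K) v 0 = ⊥ :=
  Submodule.span_eq_bot.2 (by rintro _ ⟨k, rfl⟩; exact absurd k.2 (by omega))

theorem first_le (v : Fin m → V) {i : ℕ} {W' : Submodule K V}
    (h : ∀ k : Fin m, k.val < i → v k ∈ W') : first v i ≤ W' :=
  Submodule.span_le.2 (by rintro _ ⟨k, rfl⟩; exact h k.1 k.2)

theorem exists_coeff (v : Fin m → V) {i : ℕ} {x : V} (hx : x ∈ first (K := K) v i) :
    ∃ a : Fin m → K, (∀ k : Fin m, i ≤ k.val → a k = 0) ∧ ∑ k, a k • v k = x := by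
  induction hx using Submodule.span_induction with
  | zero => exact ⟨0, by simp, by simp⟩
  | add y y' _ _ ihy ihy' =>
    obtain ⟨a, ha, rfl⟩ := ihy
    obtain ⟨b, hb, rfl⟩ := ihy'
    exact ⟨a + b, fun k hk => by simp [ha k hk, hb k hk], by simp [add_smul, Finset.sum_add_distrib]⟩
  | smul r y _ ihy =>
    obtain ⟨a, ha, rfl⟩ := ihy
    exact ⟨r • a, fun k hk => by simp [ha k hk], by simp [Finset.smul_sum, smul_smul]⟩
  | mem y hy =>
    obtain ⟨⟨l, hl⟩, rfl⟩ := hy
    exact ⟨Pi.single l 1, fun k hk => Pi.single_eq_of_ne (by rintro rfl; omega) _, by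
      simp [Pi.single_apply, ite_smul]⟩

theorem finrank_first {v : Fin m → V} (hv : LinearIndependent K v) {i : ℕ} (hi : i ≤ m) :
    finrank K (first (K := K) v i) = i := by
  have hli := hv.comp (Subtype.val : {k : Fin m // k.val < i} → Fin m) Subtype.val_injective
  refine (finrank_span_eq_card hli).trans ?_
  refine (Fintype.card_congr (β := Fin i)
    { toFun := fun k => ⟨k.1.val, k.2⟩
      invFun := fun k => ⟨⟨k.val, by omega⟩, k.2⟩
      left_inv := fun k => rfl
      right_inv := fun k => rfl }).trans (Fintype.card_fin i)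

/-- The chamber at a place of the apartment. -/
def chamber (w : W (m := m)) : P.Fl where
  F i := if i ≤ m then first (K := K) (P.av w) i else ⊤
  finrank_eq i hi := by rw [if_pos hi]; exact finrank_first (K := K) (P.av_li w) hi
  ts i hi := by
    rw [if_pos hi]
    exact P.ts_span _ (fun k => P.S_z _ _) fun k l => P.B_av w k.1 l.1
  mono i hi := by rw [if_pos hi.le, if_pos (Nat.succ_le_of_lt hi)]; exact first_mono _ i.le_succ
  above i hi := if_neg (by omega)

theorem chamber_F (w : W (m := m)) {i : ℕ} (hi : i ≤ m) : (P.chamber w).F i = first (K := K) (P.av w) i :=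
  if_pos hi

theorem z_mem_chamber (w : W (m := m)) {i : ℕ} (hi : i ≤ m) (j : Fin m) (b : Bool) :
    P.z j b ∈ (P.chamber w).F i ↔ (w.1.symm j).val < i ∧ b = w.2 j := by
  rw [P.chamber_F w hi]
  constructor
  · intro h
    obtain ⟨a, ha, hsum⟩ := exists_coeff _ h
    have hc := P.sum_av_coeff w a (w.1.symm j)
    rw [hsum, Equiv.apply_symm_apply] at hc
    by_cases hb : b = w.2 j
    · refine ⟨?_, hb⟩
      by_contra hlt
      rw [ha _ (by omega), zero_mul] at hc
      exact (P.B_z _ _ _ _).1 hc ⟨rfl, by rw [hb]; cases w.2 j <;> simp⟩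
    · exfalso
      have hb' : (!w.2 j) = b := by revert hb; cases b <;> cases w.2 j <;> simp
      rw [hb'] at hc
      have h0 : P.B (P.z j b) (P.z j b) = 0 := (P.B_z _ _ _ _).2 (by simp)
      rw [h0] at hc
      have hne : P.B (P.z j b) (P.av w (w.1.symm j)) ≠ 0 := fun h0' => (P.B_z _ _ _ _).1 h0'
        ⟨(Equiv.apply_symm_apply _ _).symm, by rw [Equiv.apply_symm_apply]; exact hb⟩
      have ha0 := (mul_eq_zero.1 hc.symm).resolve_right hne
      -- `z j b` is then a combination of vectors pairing to zero with its partner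
      have hc' : P.B (P.z j (!b)) (∑ k, a k • P.av w k) = 0 := by
        rw [map_sum]
        refine Finset.sum_eq_zero fun k _ => ?_
        rw [map_smul]
        by_cases hk : k = w.1.symm j
        · rw [hk, ha0, zero_smul]
        · rw [show P.B (P.z j (!b)) (P.av w k) = 0 from
            (P.B_z _ _ _ _).2 fun h => hk (by rw [h.1, Equiv.symm_apply_apply]), smul_zero]
      rw [hsum] at hc'
      exact (P.B_z _ _ _ _).1 hc' ⟨rfl, by cases b <;> simp⟩
  · rintro ⟨hlt, rfl⟩
    have h := mem_first (K := K) (P.av w) hlt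
    rwa [av, Equiv.apply_symm_apply] at h

/-- The opposite chamber. -/
def dOpp : W (m := m) := (1, fun _ => false)

/-- The standard chamber. -/
def dStd : W (m := m) := (1, fun _ => true)

theorem av_dOpp : P.av (dOpp (m := m)) = P.f := funext fun k => by simp [av, dOpp, z]

theorem av_dStd : P.av (dStd (m := m)) = P.e := funext fun k => by simp [av, dStd, z]

/-- The vectors orthogonal to the first `i` frame vectors. -/
def perpE (i : ℕ) : Submodule K V where
  carrier := {x | ∀ l : Fin m, l.val < i → P.B (P.e l) x = 0}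
  zero_mem' := fun _ _ => map_zero _
  add_mem' := fun hx hy l hl => by rw [map_add, hx l hl, hy l hl, add_zero]
  smul_mem' := fun r x hx l hl => by rw [map_smul, hx l hl, smul_zero]

theorem mem_perpE {i : ℕ} {x : V} :
    x ∈ P.perpE i ↔ ∀ l : Fin m, l.val < i → P.B (P.e l) x = 0 := Iff.rfl

theorem first_e_le_perpE (i j : ℕ) : first (K := K) P.e i ≤ P.perpE j :=
  first_le _ fun k _ l _ => P.B_ee l k

theorem range_e_eq : Submodule.span K (Set.range P.e) = first (K := K) P.e m :=
  le_antisymm (Submodule.span_le.2 (by rintro _ ⟨k, rfl⟩; exact mem_first _ k.2))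
    (Submodule.span_mono (by rintro _ ⟨k, rfl⟩; exact ⟨k.1, rfl⟩))

/-- The chain of the standard chamber. -/
def chain (hm : 1 ≤ m) : Chain P.TS where
  G j := if j ≤ m then first (K := K) P.e j else P.perpE (2 * m - j)
  L := 2 * m
  zero := by rw [if_pos (Nat.zero_le _), first_zero]
  top := by
    rw [if_neg (by omega), Nat.sub_self]
    exact eq_top_iff.2 fun x _ l hl => absurd hl (by omega)
  mono j := by
    by_cases h1 : j + 1 ≤ m
    · rw [if_pos (by omega : j ≤ m), if_pos h1]; exact first_mono _ j.le_succ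
    by_cases h2 : j ≤ m
    · rw [if_pos h2, if_neg h1]; exact P.first_e_le_perpE _ _
    · rw [if_neg h2, if_neg h1]
      exact fun x hx l hl => hx l (by omega)
  step j hj W' hW := by
    by_cases h1 : j + 1 ≤ m
    · refine ⟨P.B (P.f ⟨j, h1⟩), fun x _ hx h0 => ?_⟩
      rw [if_pos h1] at hx
      rw [if_pos (by omega : j ≤ m)]
      obtain ⟨a, ha, rfl⟩ := exists_coeff _ hx
      have hj0 : a ⟨j, h1⟩ = 0 := by
        rw [map_sum, Finset.sum_eq_single ⟨j, h1⟩ ?_ (by simp), map_smul, P.B_fe, if_pos rfl,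
          smul_eq_mul, mul_eq_zero] at h0
        · exact h0.resolve_right P.ε_ne
        · intro k _ hk; rw [map_smul, P.B_fe, if_neg hk, smul_zero]
      refine Submodule.sum_mem _ fun k _ => ?_
      rcases lt_trichotomy k.val j with hk | hk | hk
      · exact Submodule.smul_mem _ _ (mem_first _ hk)
      · rw [show k = ⟨j, h1⟩ from Fin.ext hk, hj0, zero_smul]; exact zero_mem _
      · rw [ha k (by omega), zero_smul]; exact zero_mem _
    · refine ⟨P.B (P.e ⟨2 * m - (j + 1), by omega⟩), fun x hxW hx h0 => ?_⟩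
      rw [if_neg h1] at hx
      have hx' : ∀ l : Fin m, l.val < 2 * m - j → P.B (P.e l) x = 0 := fun l hl => by
        rcases Nat.lt_or_ge l.val (2 * m - (j + 1)) with h | h
        · exact hx l h
        · rw [show l = ⟨2 * m - (j + 1), by omega⟩ from Fin.ext (by show l.val = 2 * m - (j + 1); omega)]; exact h0
      by_cases h2 : j ≤ m
      · rw [if_pos h2, show j = m by omega, ← P.range_e_eq]
        exact P.aniso x (fun l => hx' l (by omega)) (hW x hxW).1
      · rw [if_neg h2]; exact hx'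

theorem chain_G_le (hm : 1 ≤ m) {i : ℕ} : (P.chain hm).G ((P.chain hm).L - i) ≤ P.perpE i := by
  show (if 2 * m - i ≤ m then first (K := K) P.e (2 * m - i) else P.perpE (2 * m - (2 * m - i))) ≤ _
  split_ifs with h
  · exact P.first_e_le_perpE _ _
  · rw [show 2 * m - (2 * m - i) = i by omega]

theorem mem_chain_G (hm : 1 ≤ m) {i : ℕ} (hi : i ≤ m) {x : V} (hS : P.S x) (hx : x ∈ P.perpE i) :
    x ∈ (P.chain hm).G ((P.chain hm).L - i) := by
  show x ∈ (if 2 * m - i ≤ m then first (K := K) P.e (2 * m - i) else P.perpE (2 * m - (2 * m - i)))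
  split_ifs with h
  · rw [show 2 * m - i = m by omega, ← P.range_e_eq]
    exact P.aniso x (fun l => hx l (by omega)) hS
  · rwa [show 2 * m - (2 * m - i) = i by omega]

/-- Every flag is the image of the standard one. -/
theorem exists_transport [FiniteDimensional K V] (c : P.Fl) :
    ∃ h ∈ P.A, ∀ i, i ≤ m → (first (K := K) P.e i).map (h : V ≃ₗ[K] V).toLinearMap = c.F i := by
  have hex : ∀ k : Fin m, ∃ v, v ∈ c.F (k.val + 1) ∧ v ∉ c.F k.val := fun k => by
    refine SetLike.not_le_iff_exists.1 fun h => ?_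
    have := Submodule.finrank_mono h
    rw [c.finrank_eq _ (by omega), c.finrank_eq _ (by omega)] at this
    omega
  choose v hv1 hv2 using hex
  have hli : LinearIndependent K v := by
    classical
    rw [Fintype.linearIndependent_iff]
    intro g hg
    by_contra hne2
    push_neg at hne2
    obtain ⟨k, hk, hmax⟩ := Finset.exists_max_image (Finset.univ.filter fun k => g k ≠ 0) Fin.val
      ⟨hne2.choose, Finset.mem_filter.2 ⟨Finset.mem_univ _, hne2.choose_spec⟩⟩
    rw [Finset.mem_filter] at hk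
    refine hv2 k ((Submodule.smul_mem_iff _ hk.2).1 ?_)
    rw [← Finset.add_sum_erase _ _ (Finset.mem_univ k)] at hg
    rw [eq_neg_of_add_eq_zero_left hg]
    refine Submodule.neg_mem _ (Submodule.sum_mem _ fun l hl => ?_)
    by_cases hgl : g l = 0
    · rw [hgl, zero_smul]; exact zero_mem _
    · have := hmax l (Finset.mem_filter.2 ⟨Finset.mem_univ _, hgl⟩)
      have := Fin.val_ne_of_ne (Finset.ne_of_mem_erase hl)
      exact Submodule.smul_mem _ _ (c.le_of_le (by omega) (by omega) (hv1 l))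
  have hm' : ∀ k, v k ∈ c.F m := fun k => c.le_of_le (by omega) le_rfl (hv1 k)
  obtain ⟨h, hA, hh⟩ := P.witt m le_rfl v hli (fun k => (c.ts m le_rfl _ (hm' k)).1)
    (fun k l => (c.ts m le_rfl _ (hm' k)).2 _ (hm' l))
  refine ⟨h, hA, fun i hi => Submodule.eq_of_le_of_finrank_le ?_ ?_⟩
  · rw [first, Submodule.map_span, Submodule.span_le]
    rintro _ ⟨_, ⟨k, rfl⟩, rfl⟩
    show h (P.e k.1) ∈ c.F i
    rw [show P.e k.1 = P.e (Fin.castLE le_rfl k.1) from rfl, hh]
    exact c.le_of_le (by omega) hi (hv1 k.1)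
  · rw [c.finrank_eq i hi]
    have := finrank_first (K := K) (P.av_li dStd) hi
    rw [av_dStd] at this
    exact le_of_eq (this.symm.trans (LinearEquiv.finrank_map_eq h _).symm)

/-- The unipotent radical of the stabiliser of the standard chamber, as a predicate. -/
def IsU (g : Γ) : Prop :=
  (∀ k : Fin m, P.φ g (P.e k) - P.e k ∈ first (K := K) P.e k.val) ∧
    ∀ x, (∀ i, P.B (P.e i) x = 0) → P.φ g x - x ∈ first (K := K) P.e m

theorem IsU.map_first {g : Γ} (hg : P.IsU g) [FiniteDimensional K V] (i : ℕ) :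
    (first (K := K) P.e i).map (P.φ g).toLinearMap = first (K := K) P.e i := by
  refine Submodule.eq_of_le_of_finrank_le ?_ (LinearEquiv.finrank_map_eq _ _).ge
  rw [first, Submodule.map_span, Submodule.span_le]
  rintro _ ⟨_, ⟨k, rfl⟩, rfl⟩
  show P.φ g (P.e k.1) ∈ first (K := K) P.e i
  rw [← sub_add_cancel (P.φ g (P.e k.1)) (P.e k.1)]
  exact Submodule.add_mem _ (first_mono _ k.2.le (hg.1 k.1)) (mem_first _ k.2)

theorem IsU.map_first_inv {g : Γ} (hg : P.IsU g) [FiniteDimensional K V] {i : ℕ} {x : V}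
    (hx : x ∈ first (K := K) P.e i) : P.φ g⁻¹ x ∈ first (K := K) P.e i := by
  rw [← hg.map_first P i] at hx
  obtain ⟨y, hy, rfl⟩ := hx
  show P.φ g⁻¹ (P.φ g y) ∈ _
  rwa [φ_inv_apply]

theorem IsU.perp_mem {g : Γ} (hg : P.IsU g) [FiniteDimensional K V] {i : ℕ} {x : V}
    (hx : x ∈ P.perpE i) : P.φ g x ∈ P.perpE i ∧ P.φ g⁻¹ x ∈ P.perpE i := by
  have key : ∀ h : Γ, (∀ y ∈ first (K := K) P.e i, P.φ h⁻¹ y ∈ first (K := K) P.e i) → P.φ h x ∈ P.perpE i := by
    intro h hh l hl
    rw [← φ_B P h⁻¹, φ_inv_apply]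
    obtain ⟨a, ha, hsum⟩ := exists_coeff _ (hh _ (mem_first (K := K) P.e hl))
    rw [← hsum, map_sum, LinearMap.coe_sum, Finset.sum_apply]
    refine Finset.sum_eq_zero fun k _ => ?_
    rw [map_smulₛₗ, LinearMap.smul_apply]
    rcases Nat.lt_or_ge k.val i with hk | hk
    · rw [hx k hk, smul_zero]
    · rw [ha k hk, map_zero, zero_smul]
  refine ⟨key g fun y hy => hg.map_first_inv P hy, key g⁻¹ fun y hy => ?_⟩
  rw [inv_inv]
  exact (hg.map_first P i).le ⟨y, hy, rfl⟩

/-- The unipotent radical. -/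
def U [FiniteDimensional K V] : Subgroup Γ where
  carrier := {g | P.IsU g}
  one_mem' := ⟨fun k => by simp, fun x _ => by simp⟩
  mul_mem' := by
    intro g h hg hh
    refine ⟨fun k => ?_, fun x hx => ?_⟩
    · rw [φ_mul_apply, show P.φ g (P.φ h (P.e k)) - P.e k =
        P.φ g (P.φ h (P.e k) - P.e k) + (P.φ g (P.e k) - P.e k) by rw [map_sub]; abel]
      exact Submodule.add_mem _ ((hg.map_first P _).le ⟨_, hh.1 k, rfl⟩) (hg.1 k)
    · rw [φ_mul_apply, show P.φ g (P.φ h x) - x = P.φ g (P.φ h x - x) + (P.φ g x - x) by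
        rw [map_sub]; abel]
      exact Submodule.add_mem _ ((hg.map_first P _).le ⟨_, hh.2 x hx, rfl⟩) (hg.2 x hx)
  inv_mem' := by
    intro g hg
    refine ⟨fun k => ?_, fun x hx => ?_⟩
    · rw [show P.φ g⁻¹ (P.e k) - P.e k = -P.φ g⁻¹ (P.φ g (P.e k) - P.e k) by
        rw [map_sub, φ_inv_apply]; abel]
      exact Submodule.neg_mem _ (hg.map_first_inv P (hg.1 k))
    · rw [show P.φ g⁻¹ x - x = -P.φ g⁻¹ (P.φ g x - x) by rw [map_sub, φ_inv_apply]; abel]
      exact Submodule.neg_mem _ (hg.map_first_inv P (hg.2 x hx))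

variable [FiniteDimensional K V]

/-- The elements of the radical fixing the first `k` pairs. -/
def Uk (k : ℕ) : Subgroup Γ where
  carrier := {g | g ∈ P.U ∧ ∀ j : Fin m, j.val < k → P.φ g (P.e j) = P.e j ∧ P.φ g (P.f j) = P.f j}
  one_mem' := ⟨P.U.one_mem, fun j _ => by simp⟩
  mul_mem' := fun {g h} hg hh => ⟨P.U.mul_mem hg.1 hh.1, fun j hj =>
    ⟨by rw [φ_mul_apply, (hh.2 j hj).1, (hg.2 j hj).1],
      by rw [φ_mul_apply, (hh.2 j hj).2, (hg.2 j hj).2]⟩⟩
  inv_mem' := fun {g} hg => ⟨P.U.inv_mem hg.1, fun j hj =>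
    ⟨by conv_lhs => rw [← (hg.2 j hj).1, φ_inv_apply],
      by conv_lhs => rw [← (hg.2 j hj).2, φ_inv_apply]⟩⟩

theorem Uk_zero : P.Uk 0 = P.U :=
  le_antisymm (fun _ h => h.1) fun _ h => ⟨h, fun _ hj => absurd hj (by omega)⟩

theorem mem_Uk_succ {k : Fin m} {g : Γ} : g ∈ P.Uk (k.val + 1) ↔
    g ∈ P.Uk k.val ∧ P.φ g (P.e k) = P.e k ∧ P.φ g (P.f k) = P.f k := by
  refine ⟨fun h => ⟨⟨h.1, fun j hj => h.2 j (by omega)⟩, h.2 k (by omega)⟩, ?_⟩
  rintro ⟨⟨hU, h⟩, hk⟩
  refine ⟨hU, fun j hj => ?_⟩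
  rcases Nat.lt_or_ge j.val k.val with h' | h'
  · exact h j h'
  · rw [show j = k from Fin.ext (by omega)]; exact hk

theorem Uk_fix_e {k : Fin m} {g : Γ} (hg : g ∈ P.Uk k.val) : P.φ g (P.e k) = P.e k := by
  obtain ⟨a, ha, hsum⟩ := exists_coeff _ (hg.1.1 k)
  rw [← sub_eq_zero, ← hsum]
  refine Finset.sum_eq_zero fun l _ => ?_
  rcases Nat.lt_or_ge l.val k.val with hl | hl
  · have h := congrArg (P.B (P.f l)) hsum
    rw [map_sum, Finset.sum_eq_single l ?_ (by simp), map_smul, P.B_fe, if_pos rfl, map_sub] at h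
    · conv_rhs at h => rw [← (hg.2 l hl).2]
      rw [φ_B, (hg.2 l hl).2, sub_self, smul_eq_mul, mul_eq_zero] at h
      rw [h.resolve_right P.ε_ne, zero_smul]
    · intro j _ hj; rw [map_smul, P.B_fe, if_neg hj, smul_zero]
  · rw [ha l hl, zero_smul]

theorem Uk_top : P.Uk m = ⊥ := by
  rw [Subgroup.eq_bot_iff_forall]
  intro g hg
  refine P.φ_inj (LinearEquiv.ext fun x => ?_)
  rw [map_one]
  show P.φ g x = x
  -- split off the frame
  let y := x - ∑ i, P.B (P.e i) x • P.f i
  have hy : ∀ i, P.B (P.e i) y = 0 := fun i => by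
    show P.B (P.e i) (x - _) = 0
    rw [map_sub, map_sum, Finset.sum_eq_single i ?_ (by simp), map_smul, P.B_ef, if_pos rfl]
    · simp
    · intro j _ hj; rw [map_smul, P.B_ef, if_neg hj.symm, smul_zero]
  have hxy : x = y + ∑ i, P.B (P.e i) x • P.f i := (sub_add_cancel _ _).symm
  suffices hgy : P.φ g y = y by
    rw [hxy, map_add, hgy, map_sum]
    congr 1
    exact Finset.sum_congr rfl fun i _ => by rw [map_smul, (hg.2 i i.2).2]
  obtain ⟨a, -, hsum⟩ := exists_coeff _ (hg.1.2 y hy)
  rw [← sub_eq_zero, ← hsum]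
  refine Finset.sum_eq_zero fun l _ => ?_
  have h := congrArg (P.B (P.f l)) hsum
  rw [map_sum, Finset.sum_eq_single l ?_ (by simp), map_smul, P.B_fe, if_pos rfl, map_sub] at h
  · conv_rhs at h => rw [← (hg.2 l l.2).2]
    rw [φ_B, (hg.2 l l.2).2, sub_self, smul_eq_mul, mul_eq_zero] at h
    rw [h.resolve_right P.ε_ne, zero_smul]
  · intro j _ hj; rw [map_smul, P.B_fe, if_neg hj, smul_zero]

/-- The orbit of `f k` in the stabiliser of the earlier pairs. -/
def InO (k : Fin m) (v : V) : Prop :=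
  P.S v ∧ P.B (P.e k) v = 1 ∧ ∀ j : Fin m, j.val < k.val → P.B (P.e j) v = 0 ∧ P.B (P.f j) v = 0

theorem inO_apply {k : Fin m} {g : Γ} (hg : g ∈ P.Uk k.val) : P.InO k (P.φ g (P.f k)) := by
  refine ⟨P.A_S _ (P.φ_mem g) _ (P.S_f k), ?_, fun j hj => ⟨?_, ?_⟩⟩
  · conv_lhs => rw [← P.Uk_fix_e hg, φ_B, P.B_ef, if_pos rfl]
  · conv_lhs => rw [← (hg.2 j hj).1, φ_B, P.B_ef, if_neg (Fin.ne_of_val_ne hj.ne)]
  · conv_lhs => rw [← (hg.2 j hj).2, φ_B, P.B_ff]

theorem exists_move {k : Fin m} {v : V} (hv : P.InO k v) :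
    ∃ g ∈ P.Uk k.val, P.φ g (P.f k) = v := by
  obtain ⟨g, hge, hgf, hg⟩ := P.move k v hv.1 hv.2.1
  refine ⟨g, ?_, hgf⟩
  have hperp : ∀ x, P.B (P.e k) x = 0 → P.φ g x - x ∈ Submodule.span K {P.e k} := fun x hx => by
    have := hg x
    rwa [hx, zero_smul, sub_zero] at this
  have hfix : ∀ x, P.B (P.e k) x = 0 → P.B x (P.f k) = 0 → P.B x v = 0 → P.φ g x = x := by
    intro x h1 h2 h3
    obtain ⟨a, ha⟩ := Submodule.mem_span_singleton.1 (hperp x h1)
    have h := P.φ_B g x (P.f k)
    rw [hgf, eq_add_of_sub_eq' ha.symm, h2, map_add, map_smulₛₗ, LinearMap.add_apply,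
      LinearMap.smul_apply, h3, hv.2.1, zero_add, smul_eq_mul, mul_one, map_eq_zero] at h
    rw [← sub_eq_zero, ← ha, h, zero_smul]
  refine ⟨⟨fun j => ?_, fun x hx => ?_⟩, fun j hj => ?_⟩
  · rcases lt_trichotomy j.val k.val with hj | hj | hj
    · rw [hfix _ (P.B_ee k j) (by rw [P.B_ef, if_neg (Fin.ne_of_val_ne hj.ne)]) (hv.2.2 j hj).1, sub_self]
      exact zero_mem _
    · rw [show j = k from Fin.ext hj, hge, sub_self]; exact zero_mem _
    · exact Submodule.span_le.2 (by rintro _ rfl; exact mem_first _ hj) (hperp _ (P.B_ee k j))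
  · exact Submodule.span_le.2 (by rintro _ rfl; exact mem_first _ k.2) (hperp _ (hx k))
  · refine ⟨hfix _ (P.B_ee k j) ?_ (hv.2.2 j hj).1, hfix _ ?_ (P.B_ff j k) (hv.2.2 j hj).2⟩
    · rw [P.B_ef, if_neg (Fin.ne_of_val_ne hj.ne)]
    · rw [P.B_ef, if_neg (Fin.ne_of_val_ne hj.ne')]

theorem card_Uk_succ (k : Fin m) :
    Nat.card (P.Uk k.val) = Nat.card {v // P.InO k v} * Nat.card (P.Uk (k.val + 1)) := by
  rw [← Nat.card_prod]
  choose s hs1 hs2 using fun v : {v // P.InO k v} => P.exists_move v.2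
  refine Nat.card_congr
    { toFun := fun g => ⟨⟨P.φ g.1 (P.f k), P.inO_apply g.2⟩,
        ⟨(s ⟨P.φ g.1 (P.f k), P.inO_apply g.2⟩)⁻¹ * g.1, ?_⟩⟩
      invFun := fun p => ⟨s p.1 * p.2.1,
        (P.Uk k.val).mul_mem (hs1 p.1) (P.mem_Uk_succ.1 p.2.2).1⟩
      left_inv := fun g => Subtype.ext (mul_inv_cancel_left _ _)
      right_inv := ?_ }
  · have hmem := (P.Uk k.val).mul_mem ((P.Uk k.val).inv_mem (hs1 ⟨P.φ g.1 (P.f k), P.inO_apply g.2⟩)) g.2
    refine P.mem_Uk_succ.2 ⟨hmem, P.Uk_fix_e hmem, ?_⟩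
    rw [φ_mul_apply]
    exact (congrArg (P.φ (s ⟨P.φ g.1 (P.f k), P.inO_apply g.2⟩)⁻¹)
      (hs2 ⟨P.φ g.1 (P.f k), P.inO_apply g.2⟩).symm).trans (P.φ_inv_apply _ _)
  · rintro ⟨v, h, hh⟩
    have he : P.φ (s v * h) (P.f k) = v.1 := by
      rw [φ_mul_apply, (P.mem_Uk_succ.1 hh).2.2, hs2]
    refine Prod.ext (Subtype.ext he) (Subtype.ext ?_)
    show (s ⟨P.φ (s v * h) (P.f k), _⟩)⁻¹ * (s v * h) = h
    rw [show (⟨P.φ (s v * h) (P.f k),
      P.inO_apply ((P.Uk k.val).mul_mem (hs1 v) (P.mem_Uk_succ.1 hh).1)⟩ : {v // P.InO k v}) = v from Subtype.ext he,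
      inv_mul_cancel_left]

/-- The vectors orthogonal to the first `k + 1` pairs. -/
def Wk (k : Fin m) : V →ₗ[K] ({j : Fin m // j.val ≤ k.val} × Bool → K) :=
  LinearMap.pi fun p => if p.2 then P.B (P.e p.1) else P.B (P.f p.1)

theorem card_InO [Finite K] {d : ℕ} (hn : finrank K V = 2 * m + d) (k : Fin m) :
    Nat.card {v // P.InO k v} = P.c * Nat.card K ^ (2 * (m - (k.val + 1)) + d) := by
  haveI : Finite V := Module.finite_of_finite K
  have hWk : ∀ u, u ∈ LinearMap.ker (P.Wk k) ↔
      ∀ j : Fin m, j.val ≤ k.val → P.B (P.e j) u = 0 ∧ P.B (P.f j) u = 0 := by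
    intro u
    rw [LinearMap.mem_ker]
    constructor
    · intro h j hj
      exact ⟨congrFun h (⟨j, hj⟩, true), congrFun h (⟨j, hj⟩, false)⟩
    · intro h
      funext ⟨⟨j, hj⟩, b⟩
      cases b
      exacts [(h j hj).2, (h j hj).1]
  have hfr : finrank K (LinearMap.ker (P.Wk k)) = 2 * (m - (k.val + 1)) + d := by
    have hsurj : Function.Surjective (P.Wk k) := by
      intro y
      refine ⟨∑ j : {j : Fin m // j.val ≤ k.val}, (y (j, true) • P.f j.1 + (P.ε⁻¹ * y (j, false)) • P.e j.1),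
        funext fun ⟨⟨l, hl⟩, b⟩ => ?_⟩
      rw [map_sum, Finset.sum_apply, Finset.sum_eq_single ⟨l, hl⟩ ?_ (by simp)]
      · cases b
        · show P.B (P.f l) _ = _
          rw [map_add, map_smul, map_smul, P.B_ff, P.B_fe, if_pos rfl, smul_zero, zero_add, smul_eq_mul,
            mul_comm, ← mul_assoc, mul_inv_cancel₀ P.ε_ne, one_mul]
        · show P.B (P.e l) _ = _
          rw [map_add, map_smul, map_smul, P.B_ee, P.B_ef, if_pos rfl, smul_zero, add_zero, smul_eq_mul,
            mul_one]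
      · intro j _ hj
        have hj' : j.1 ≠ l := fun h => hj (Subtype.ext h)
        cases b
        · show P.B (P.f l) _ = 0
          rw [map_add, map_smul, map_smul, P.B_ff, P.B_fe, if_neg hj', smul_zero, smul_zero, add_zero]
        · show P.B (P.e l) _ = 0
          rw [map_add, map_smul, map_smul, P.B_ee, P.B_ef, if_neg hj'.symm, smul_zero, smul_zero, add_zero]
    have h := LinearMap.finrank_range_add_finrank_ker (P.Wk k)
    rw [LinearMap.range_eq_top.2 hsurj, finrank_top, Module.finrank_fintype_fun_eq_card, hn,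
      Fintype.card_prod, Fintype.card_bool] at h
    have hc : Fintype.card {j : Fin m // j.val ≤ k.val} = k.val + 1 := by
      exact (Fintype.card_congr (β := Fin (k.val + 1))
        { toFun := fun j => ⟨j.1.val, by omega⟩
          invFun := fun j => ⟨⟨j.val, by omega⟩, by show j.val ≤ _; omega⟩
          left_inv := fun j => rfl
          right_inv := fun j => rfl }).trans (Fintype.card_fin _)
    rw [hc] at h
    omega
  haveI := Fintype.ofFinite (LinearMap.ker (P.Wk k))
  let E : {v // P.InO k v} ≃ Σ u : LinearMap.ker (P.Wk k), {t : K // P.S (P.f k + (u : V) + t • P.e k)} :=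
    { toFun := fun v => ⟨⟨v.1 - P.f k - (P.ε⁻¹ * P.B (P.f k) v.1) • P.e k, (hWk _).2 fun j hj => by
          rw [map_sub, map_sub, map_sub, map_sub, map_smul, map_smul, P.B_ff, P.B_ee, P.B_ef, P.B_fe,
            smul_zero, sub_zero, sub_zero]
          rcases Nat.lt_or_ge j.val k.val with h | h
          · rw [if_neg (Fin.ne_of_val_ne h.ne), if_neg (Fin.ne_of_val_ne h.ne'), (v.2.2.2 j h).1,
              (v.2.2.2 j h).2]
            simp
          · rw [show j = k from Fin.ext (by omega), if_pos rfl, if_pos rfl, v.2.2.1, sub_self,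
              smul_eq_mul, mul_comm, ← mul_assoc, mul_inv_cancel₀ P.ε_ne, one_mul, sub_self]
            exact ⟨rfl, rfl⟩⟩,
        ⟨P.ε⁻¹ * P.B (P.f k) v.1, by
          rw [add_sub, add_sub_cancel, sub_add_cancel]; exact v.2.1⟩⟩
      invFun := fun p => ⟨P.f k + (p.1 : V) + p.2.1 • P.e k, p.2.2, by
        rw [map_add, map_add, map_smul, P.B_ef, if_pos rfl, P.B_ee, ((hWk _).1 p.1.2 k le_rfl).1]
        simp, fun j hj => by
        rw [map_add, map_add, map_add, map_add, map_smul, map_smul, P.B_ef, P.B_ee, P.B_ff, P.B_fe,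
          if_neg (Fin.ne_of_val_ne hj.ne), if_neg (Fin.ne_of_val_ne hj.ne'),
          ((hWk _).1 p.1.2 j hj.le).1, ((hWk _).1 p.1.2 j hj.le).2]
        simp⟩
      left_inv := fun v => Subtype.ext (by
        show P.f k + (v.1 - P.f k - _) + _ = v.1
        abel)
      right_inv := fun p => by
        have h1 : P.ε⁻¹ * P.B (P.f k) (P.f k + (p.1 : V) + p.2.1 • P.e k) = p.2.1 := by
          rw [map_add, map_add, map_smul, P.B_ff, P.B_fe, if_pos rfl, ((hWk _).1 p.1.2 k le_rfl).2,
            zero_add, zero_add, smul_eq_mul, mul_comm, mul_assoc, mul_inv_cancel₀ P.ε_ne, mul_one]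
        refine Sigma.subtype_ext (Subtype.ext ?_) h1
        show P.f k + (p.1 : V) + p.2.1 • P.e k - P.f k - (P.ε⁻¹ * _) • P.e k = p.1
        rw [h1]; abel }
  rw [Nat.card_congr E, Nat.card_sigma, Finset.sum_congr rfl fun (u : LinearMap.ker (P.Wk k)) _ =>
    P.count k u ((hWk _).1 u.2 k le_rfl).1 ((hWk _).1 u.2 k le_rfl).2]
  rw [Finset.sum_const, Finset.card_univ, smul_eq_mul, ← Nat.card_eq_fintype_card,
    Module.natCard_eq_pow_finrank (K := K), hfr, mul_comm]

theorem card_U [Finite K] {d : ℕ} (hn : finrank K V = 2 * m + d) :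
    Nat.card P.U = P.c ^ m * Nat.card K ^ (m * (m - 1) + d * m) := by
  suffices h : ∀ r k : ℕ, k + r = m →
      Nat.card (P.Uk k) = P.c ^ r * Nat.card K ^ (r * (r - 1) + d * r) by
    rw [← P.Uk_zero]; exact h m 0 (Nat.zero_add m)
  intro r
  induction r with
  | zero =>
    intro k hk
    obtain rfl : k = m := hk
    rw [P.Uk_top, Subgroup.card_bot]; simp
  | succ r ih =>
    intro k hk
    have h1 : Nat.card (P.Uk k) =
        Nat.card {v // P.InO ⟨k, by omega⟩ v} * Nat.card (P.Uk (k + 1)) :=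
      P.card_Uk_succ ⟨k, by omega⟩
    rw [h1, P.card_InO hn, ih (k + 1) (by omega)]
    show P.c * Nat.card K ^ (2 * (m - (k + 1)) + d) * _ = _
    rw [show m - (k + 1) = r by omega, pow_succ' P.c, mul_mul_mul_comm, ← pow_add]
    congr 2
    rcases r with _ | r
    · simp
    · simp only [Nat.add_sub_cancel]; ring

theorem U_free {u : Γ} (hu : u ∈ P.U) (h : u • P.chamber dOpp = P.chamber dOpp) : u = 1 := by
  have key : ∀ k, k ≤ m → u ∈ P.Uk k := by
    intro k
    induction k with
    | zero => intro _; rw [P.Uk_zero]; exact hu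
    | succ k ih =>
      intro hk
      have huk := ih (by omega)
      refine (P.mem_Uk_succ (k := ⟨k, hk⟩)).2 ⟨huk, P.Uk_fix_e (k := ⟨k, hk⟩) huk, ?_⟩
      have hmem : P.φ u (P.f ⟨k, hk⟩) ∈ first (K := K) P.f (k + 1) := by
        rw [← av_dOpp P, ← P.chamber_F dOpp hk, ← h, smul_F]
        refine ⟨_, ?_, rfl⟩
        rw [P.chamber_F dOpp hk, av_dOpp]
        exact mem_first (K := K) P.f (Nat.lt_succ_self k)
      obtain ⟨a, ha, hsum⟩ := exists_coeff _ hmem
      have hcoef : ∀ l : Fin m, l.val ≤ k → a l = if l = ⟨k, hk⟩ then 1 else 0 := by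
        intro l hl
        have hfix : P.φ u (P.e l) = P.e l := P.Uk_fix_e (⟨huk.1, fun j hj => huk.2 j (by omega)⟩)
        have h1 := congrArg (P.B (P.e l)) hsum
        conv_rhs at h1 => rw [← hfix]
        rw [φ_B, map_sum, Finset.sum_eq_single l ?_ (by simp), map_smul, P.B_ef, if_pos rfl,
          P.B_ef, smul_eq_mul, mul_one] at h1
        · exact h1
        · intro j _ hj; rw [map_smul, P.B_ef, if_neg hj.symm, smul_zero]
      rw [← hsum, Finset.sum_eq_single ⟨k, hk⟩ ?_ (by simp), hcoef _ le_rfl, if_pos rfl, one_smul]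
      intro l _ hl
      rcases Nat.lt_or_ge k l.val with h' | h'
      · rw [ha l h', zero_smul]
      · rw [hcoef l h', if_neg hl, zero_smul]
  have := key m le_rfl
  rwa [P.Uk_top, Subgroup.mem_bot] at this

theorem U_transitive (hm : 1 ≤ m) (c : P.Fl) :
    Opp (P.chain hm) c ↔ ∃ u ∈ P.U, u • P.chamber dOpp = c := by
  have hopp : ∀ u ∈ P.U, ∀ c : P.Fl, Opp (P.chain hm) c → Opp (P.chain hm) (u • c) := by
    intro u hu c hc i hi
    rw [eq_bot_iff]
    rintro x ⟨hx1, hx2⟩
    rw [smul_F] at hx1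
    obtain ⟨y, hy, rfl⟩ := hx1
    have h1 : y ∈ c.F i ⊓ (P.chain hm).G ((P.chain hm).L - i) := by
      refine ⟨hy, P.mem_chain_G hm hi (c.ts i hi y hy).1 ?_⟩
      have := (IsU.perp_mem P hu (P.chain_G_le hm hx2)).2
      rwa [LinearEquiv.coe_toLinearMap, φ_inv_apply] at this
    rw [hc i hi, Submodule.mem_bot] at h1
    subst h1
    simp
  constructor
  · intro hc
    have key : ∀ k, k ≤ m → ∃ u ∈ P.U, ∀ j : Fin m, j.val < k → P.φ u (P.f j) ∈ c.F (j.val + 1) := by
      intro k
      induction k with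
      | zero => exact fun _ => ⟨1, P.U.one_mem, fun j hj => absurd hj (by omega)⟩
      | succ k ih =>
        intro hk
        obtain ⟨u, hu, hf⟩ := ih (by omega)
        have hc' := hopp _ (P.U.inv_mem hu) c hc
        have hf' : ∀ j : Fin m, j.val < k → P.f j ∈ (u⁻¹ • c).F (k + 1) := fun j hj => by
          rw [smul_F]
          exact ⟨_, c.le_of_le (by omega) hk (hf j hj), P.φ_inv_apply u _⟩
        let ev : ↥((u⁻¹ • c).F (k + 1)) →ₗ[K] (Fin (k + 1) → K) :=
          LinearMap.pi fun l => (P.B (P.e ⟨l.val, by omega⟩)).comp (Submodule.subtype _)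
        have hinj : Function.Injective ev := by
          refine (injective_iff_map_eq_zero ev).2 fun x hx => Subtype.ext ?_
          have h1 : (x : V) ∈ (u⁻¹ • c).F (k + 1) ⊓ (P.chain hm).G ((P.chain hm).L - (k + 1)) :=
            ⟨x.2, P.mem_chain_G hm hk ((u⁻¹ • c).ts _ hk _ x.2).1 fun l hl => congrFun hx ⟨l.val, hl⟩⟩
          rwa [hc' _ hk, Submodule.mem_bot] at h1
        have hsurj : Function.Surjective ev :=
          (LinearMap.injective_iff_surjective_of_finrank_eq_finrank (by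
            rw [(u⁻¹ • c).finrank_eq _ hk, Module.finrank_fin_fun])).1 hinj
        obtain ⟨v, hv⟩ := hsurj (Pi.single ⟨k, Nat.lt_succ_self k⟩ 1)
        have hts := (u⁻¹ • c).ts _ hk
        have hB : ∀ l : Fin m, ∀ hl : l.val ≤ k,
            P.B (P.e l) (v : V) = (Pi.single ⟨k, Nat.lt_succ_self k⟩ 1 : Fin (k + 1) → K) ⟨l.val, by omega⟩ :=
          fun l hl => congrFun hv ⟨l.val, by omega⟩
        obtain ⟨g, hg, hgv⟩ := P.exists_move (k := ⟨k, hk⟩) (v := (v : V)) ⟨(hts _ v.2).1,
          by rw [hB ⟨k, hk⟩ le_rfl, Pi.single_eq_same], fun j hj => ⟨by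
            rw [hB j (le_of_lt hj)]
            exact Pi.single_eq_of_ne (Fin.ne_of_val_ne (by simpa using hj.ne)) _,
            (hts _ (hf' j hj)).2 _ v.2⟩⟩
        refine ⟨u * g, P.U.mul_mem hu hg.1, fun j hj => ?_⟩
        rw [φ_mul_apply]
        rcases Nat.lt_or_ge j.val k with h | h
        · rw [(hg.2 j h).2]; exact hf j h
        · rw [show j = ⟨k, hk⟩ from Fin.ext (by simp; omega), hgv]
          obtain ⟨y, hy, hye⟩ :=
            (show (v : V) ∈ (c.F (k + 1)).map (P.φ u⁻¹).toLinearMap from v.2)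
          rw [← hye]
          show P.φ u (P.φ u⁻¹ y) ∈ _
          rwa [φ_apply_inv]
    obtain ⟨u, hu, hf⟩ := key m le_rfl
    refine ⟨u, hu, Flag.ext_le fun i hi => Submodule.eq_of_le_of_finrank_le ?_ ?_⟩
    · rw [smul_F, P.chamber_F _ hi, av_dOpp, first, Submodule.map_span, Submodule.span_le]
      rintro _ ⟨_, ⟨k, rfl⟩, rfl⟩
      exact c.le_of_le (by omega) hi (hf k.1 (by omega))
    · rw [c.finrank_eq i hi, (u • P.chamber dOpp).finrank_eq i hi]
  · rintro ⟨u, hu, rfl⟩
    refine hopp u hu _ fun i hi => ?_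
    rw [eq_bot_iff]
    rintro x ⟨hx1, hx2⟩
    rw [P.chamber_F _ hi, av_dOpp] at hx1
    obtain ⟨a, ha, rfl⟩ := exists_coeff _ hx1
    rw [Submodule.mem_bot]
    refine Finset.sum_eq_zero fun l _ => ?_
    rcases Nat.lt_or_ge l.val i with hl | hl
    · have h1 := P.chain_G_le hm hx2 l hl
      rw [map_sum, Finset.sum_eq_single l ?_ (by simp), map_smul, P.B_ef, if_pos rfl, smul_eq_mul,
        mul_one] at h1
      · rw [h1, zero_smul]
      · intro j _ hj; rw [map_smul, P.B_ef, if_neg hj.symm, smul_zero]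
    · rw [ha l hl, zero_smul]

theorem U_fix_std {u : Γ} (hu : u ∈ P.U) : u • P.chamber dStd = P.chamber dStd :=
  Flag.ext_le fun i hi => by
    rw [smul_F, P.chamber_F _ hi, av_dStd]
    exact IsU.map_first P hu i

theorem mem_line_of_fixed (hm : 1 ≤ m) (hc : 1 ≤ P.c) (hgen : 1 < P.c ∨ 2 < finrank K V) {x : V}
    (hx : ∀ u ∈ P.U, P.φ u x = x) : x ∈ Submodule.span K {P.e ⟨0, hm⟩} := by
  set o : Fin m := ⟨0, hm⟩
  have main : ∀ (u : V) (t : K), P.B (P.e o) u = 0 → P.B (P.f o) u = 0 → P.S (P.f o + u + t • P.e o) →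
      P.B x (u + t • P.e o) = 0 ∧
        P.B (P.e o) x • (u + t • P.e o) ∈ Submodule.span K {P.e o} := by
    intro u t h1 h2 hS
    have hbe : P.B (P.e o) (P.f o + u + t • P.e o) = 1 := by
      rw [map_add, map_add, map_smul, P.B_ef, if_pos rfl, P.B_ee, h1, smul_zero, add_zero, add_zero]
    obtain ⟨g, hg, hgf⟩ := P.exists_move (k := o) ⟨hS, hbe, fun j hj => absurd hj (by simp [o])⟩
    obtain ⟨g', hge', hgf', hg'⟩ := P.move o _ hS hbe
    constructor
    · have h := P.φ_B g x (P.f o)
      rw [hx g hg.1, hgf, add_assoc, map_add] at h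
      simpa using h
    · have hU : g' ∈ P.U := by
        refine ⟨fun j => ?_, fun y hy => ?_⟩
        · rcases Nat.eq_zero_or_pos j.val with hj | hj
          · rw [show j = o from Fin.ext hj, hge', sub_self]; exact zero_mem _
          · have := hg' (P.e j)
            rw [P.B_ee, zero_smul, sub_zero] at this
            exact Submodule.span_le.2 (by rintro _ rfl; exact mem_first _ hj) this
        · have := hg' y
          rw [hy o, zero_smul, sub_zero] at this
          exact Submodule.span_le.2 (by rintro _ rfl; exact mem_first _ o.2) this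
      have := hg' x
      rw [hx g' hU, sub_self, zero_sub, Submodule.neg_mem_iff, add_assoc, add_sub_cancel_left] at this
      exact this
  have hex : ∀ u : V, P.B (P.e o) u = 0 → P.B (P.f o) u = 0 → ∃ t : K, P.S (P.f o + u + t • P.e o) :=
    fun u h1 h2 => by
      have h := P.count o u h1 h2
      have : 0 < Nat.card {t : K // P.S (P.f o + u + t • P.e o)} := by omega
      obtain ⟨⟨t, ht⟩⟩ := (Nat.card_pos_iff.1 this).1
      exact ⟨t, ht⟩
  -- the coefficient along the partner vanishes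
  have he0 : P.B (P.e o) x = 0 := by
    by_contra hne
    by_cases hW : ∀ u, P.B (P.e o) u = 0 → P.B (P.f o) u = 0 → u = 0
    · have hc1 : 1 < P.c := by
        refine hgen.resolve_right fun h2 => ?_
        let L : V →ₗ[K] K × K := (P.B (P.e o)).prod (P.B (P.f o))
        have hL : LinearMap.ker L = ⊥ := eq_bot_iff.2 fun u hu => by
          rw [LinearMap.mem_ker] at hu
          exact hW u (congrArg Prod.fst hu) (congrArg Prod.snd hu)
        have := LinearMap.finrank_le_finrank_of_injective (LinearMap.ker_eq_bot.1 hL)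
        rw [Module.finrank_prod, Module.finrank_self] at this
        omega
      have h := P.count o 0 (map_zero _) (map_zero _)
      obtain ⟨⟨t, ht⟩, ⟨t', ht'⟩, htt⟩ : ∃ a b : {t : K // P.S (P.f o + 0 + t • P.e o)}, a ≠ b := by
        by_contra hno
        push_neg at hno
        haveI : Subsingleton {t : K // P.S (P.f o + 0 + t • P.e o)} := ⟨hno⟩
        have := Finite.card_le_one_iff_subsingleton.2 this
        omega
      have e1 := (main 0 t (map_zero _) (map_zero _) ht).1
      have e2 := (main 0 t' (map_zero _) (map_zero _) ht').1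
      rw [zero_add, map_smul, smul_eq_mul] at e1 e2
      apply hne
      apply P.B_zero_comm
      by_contra hxe
      exact htt (Subtype.ext ((mul_eq_zero.1 e1).resolve_right hxe |>.trans
        ((mul_eq_zero.1 e2).resolve_right hxe).symm))
    · push_neg at hW
      obtain ⟨u, h1, h2, hu⟩ := hW
      obtain ⟨t, ht⟩ := hex u h1 h2
      obtain ⟨a, ha⟩ := Submodule.mem_span_singleton.1 ((Submodule.smul_mem_iff _ hne).1 (main u t h1 h2 ht).2)
      apply hu
      have h3 : u = (a - t) • P.e o := by rw [sub_smul, ha, add_sub_cancel_right]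
      have h4 := congrArg (P.B (P.f o)) h3
      rw [h2, map_smul, P.B_fe, if_pos rfl, smul_eq_mul] at h4
      rw [h3, (mul_eq_zero.1 h4.symm).resolve_right P.ε_ne, zero_smul]
  rw [Submodule.mem_span_singleton]
  refine ⟨P.ε⁻¹ * P.B (P.f o) x, ?_⟩
  rw [eq_comm, ← sub_eq_zero]
  refine P.sep _ fun y => ?_
  obtain ⟨u, hu⟩ : ∃ u, u = y - (P.ε⁻¹ * P.B (P.f o) y) • P.e o - P.B (P.e o) y • P.f o := ⟨_, rfl⟩
  have h1 : P.B (P.e o) u = 0 := by simp [hu, P.B_ee, P.B_ef]
  have h2 : P.B (P.f o) u = 0 := by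
    simp only [hu, map_sub, map_smul, P.B_fe, P.B_ff, if_pos, smul_eq_mul, mul_zero, sub_zero]
    rw [mul_comm, ← mul_assoc, mul_inv_cancel₀ P.ε_ne, one_mul, sub_self]
  obtain ⟨t, ht⟩ := hex u h1 h2
  have hxu : P.B x u = 0 := by
    have h := (main u t h1 h2 ht).1
    rwa [map_add, map_smul, P.B_zero_comm he0, smul_zero, add_zero] at h
  have hyu : y = u + (P.ε⁻¹ * P.B (P.f o) y) • P.e o + P.B (P.e o) y • P.f o := by
    rw [hu]; abel
  have hxe' : P.B (x - (P.ε⁻¹ * P.B (P.f o) x) • P.e o) (P.f o) = 0 := by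
    apply P.B_zero_comm
    rw [map_sub, map_smul, P.B_fe, if_pos rfl, smul_eq_mul, mul_comm, ← mul_assoc,
      mul_inv_cancel₀ P.ε_ne, one_mul, sub_self]
  have hxe : P.B (x - (P.ε⁻¹ * P.B (P.f o) x) • P.e o) (P.e o) = 0 := by
    apply P.B_zero_comm
    rw [map_sub, map_smul, P.B_ee, he0, smul_zero, sub_zero]
  have hxu' : P.B (x - (P.ε⁻¹ * P.B (P.f o) x) • P.e o) u = 0 := by
    rw [map_sub, map_smulₛₗ, LinearMap.sub_apply, LinearMap.smul_apply, hxu, h1, smul_zero, sub_zero]
  refine (congrArg (P.B _) hyu).trans ?_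
  rw [map_add, map_add, map_smul, map_smul, hxu', hxe, hxe', smul_zero, smul_zero, add_zero, add_zero]

/-- Conjugation by an isometry, as an automorphism. -/
theorem exists_conj_aut [Finite Γ] {h : V ≃ₗ[K] V} (hh : h ∈ P.A) :
    ∃ α : Γ →* Γ, Function.Bijective α ∧ ∀ g x, P.φ (α g) (h x) = h (P.φ g x) := by
  choose α hα using P.φ_norm h hh
  let a : Γ →* Γ :=
    { toFun := α
      map_one' := P.φ_inj (by rw [hα, map_one, mul_one, mul_inv_cancel])
      map_mul' := fun g g' => P.φ_inj (by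
        rw [hα, map_mul, map_mul, hα, hα]; group) }
  refine ⟨a, Finite.injective_iff_bijective.1 fun g g' e => P.φ_inj ?_, fun g x => ?_⟩
  · have := congrArg P.φ e
    simp only [a, MonoidHom.coe_mk, OneHom.coe_mk, hα] at this
    exact mul_left_cancel (mul_right_cancel this)
  · show P.φ (α g) (h x) = _
    rw [hα]
    show h (P.φ g (h.symm (h x))) = _
    rw [LinearEquiv.symm_apply_apply]

theorem center_fix [Finite Γ] (hm : 1 ≤ m) (hc : 1 ≤ P.c) (hgen : 1 < P.c ∨ 2 < finrank K V)
    {g : Γ} (hg : g ∈ Subgroup.center Γ) (c : P.Fl) : g • c = c := by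
  have hline : ∀ x, x ≠ 0 → P.S x → ∃ a : K, P.φ g x = a • x := by
    intro x hx hS
    obtain ⟨h, hA, hh⟩ := P.witt 1 hm (fun _ => x) (LinearIndependent.of_subsingleton 0 hx)
      (fun _ => hS) (fun _ _ => P.S_self x hS)
    have he : h (P.e ⟨0, hm⟩) = x := hh 0
    obtain ⟨α, -, hα⟩ := P.exists_conj_aut hA
    obtain ⟨a, ha⟩ := Submodule.mem_span_singleton.1
      (P.mem_line_of_fixed hm hc hgen (x := h.symm (P.φ g x)) fun u hu => by
        apply h.injective
        rw [← hα u, LinearEquiv.apply_symm_apply, ← φ_mul_apply, Subgroup.mem_center_iff.1 hg (α u),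
          φ_mul_apply, ← he, hα u, P.Uk_fix_e (k := ⟨0, hm⟩) (by rw [P.Uk_zero]; exact hu)])
    refine ⟨a, ?_⟩
    have := congrArg h ha
    rwa [LinearEquiv.apply_symm_apply, map_smul, he, eq_comm] at this
  refine Flag.ext_le fun i hi => Submodule.eq_of_le_of_finrank_le ?_ ?_
  · rintro _ ⟨x, hx, rfl⟩
    show P.φ g x ∈ c.F i
    rcases eq_or_ne x 0 with rfl | hx0
    · rw [map_zero]; exact zero_mem _
    · obtain ⟨a, ha⟩ := hline x hx0 (c.ts i hi x hx).1
      rw [ha]; exact Submodule.smul_mem _ _ hx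
  · rw [(g • c).finrank_eq i hi, c.finrank_eq i hi]

/-- The neighbour in the apartment. -/
def tau (i : {i // 1 ≤ i ∧ i ≤ m}) (w : W (m := m)) : W (m := m) :=
  if h : i.1 < m then (w.1 * Equiv.swap ⟨i.1 - 1, by omega⟩ ⟨i.1, h⟩, w.2)
  else (w.1, Function.update w.2 (w.1 ⟨i.1 - 1, by obtain ⟨-, h⟩ := i.2; have := i.2.1; omega⟩)
    (!w.2 (w.1 ⟨i.1 - 1, by obtain ⟨-, h⟩ := i.2; have := i.2.1; omega⟩)))

/-- The sign of a place. -/
noncomputable def sgn (w : W (m := m)) : ℂ :=
  ((Equiv.Perm.sign w.1 : ℤ) : ℂ) * ∏ j, (if w.2 j then -1 else 1)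

theorem perm_eq_of_key {n i : ℕ} (hi : i < n) (ρ : Equiv.Perm (Fin n))
    (h : ∀ l, l ≠ i → l ≤ n → ∀ k, (ρ k).val < l ↔ k.val < l) :
    ρ = 1 ∨ ρ = Equiv.swap ⟨i - 1, by omega⟩ ⟨i, hi⟩ := by
  have hfix : ∀ k : Fin n, k.val + 1 ≠ i → k.val ≠ i → ρ k = k := fun k h1 h2 => by
    have e1 := h k.val h2 (by omega) k
    have e2 := h (k.val + 1) h1 (by omega) k
    exact Fin.ext (by omega)
  by_cases h1 : ρ ⟨i - 1, by omega⟩ = ⟨i - 1, by omega⟩
  · left
    refine Equiv.ext fun k => ?_
    by_cases k1 : k.val = i - 1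
    · rw [show k = ⟨i - 1, by omega⟩ from Fin.ext k1]; exact h1
    by_cases k2 : k.val = i
    · by_contra hne
      have e3 := hfix (ρ k)
      by_cases a1 : (ρ k).val + 1 = i
      · have := ρ.injective ((show ρ k = ⟨i - 1, by omega⟩ from Fin.ext (by show (ρ k).val = i - 1; omega)).trans h1.symm)
        exact k1 (congrArg Fin.val this)
      by_cases a2 : (ρ k).val = i
      · exact hne (Fin.ext (by show (ρ k).val = k.val; omega))
      exact hne (ρ.injective (e3 a1 a2))
    exact hfix k (by omega) k2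
  · right
    have hv : ∀ k : Fin n, (k.val + 1 = i ∨ k.val = i) → ((ρ k).val + 1 = i ∨ (ρ k).val = i) := by
      intro k hk
      by_contra hcon
      push_neg at hcon
      have := congrArg Fin.val (ρ.injective (hfix (ρ k) hcon.1 hcon.2))
      omega
    rcases Nat.eq_zero_or_pos i with rfl | hipos
    · exfalso
      rcases hv ⟨0 - 1, by omega⟩ (Or.inr rfl) with h0 | h0
      · omega
      · exact h1 (Fin.ext h0)
    have hb : ρ ⟨i - 1, by omega⟩ = ⟨i, hi⟩ := by
      rcases hv ⟨i - 1, by omega⟩ (Or.inl (by show i - 1 + 1 = i; omega)) with h0 | h0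
      · exact absurd (Fin.ext (by show _ = i - 1; omega)) h1
      · exact Fin.ext h0
    refine Equiv.ext fun k => ?_
    by_cases k1 : k.val = i - 1
    · rw [show k = ⟨i - 1, by omega⟩ from Fin.ext k1, Equiv.swap_apply_left]; exact hb
    by_cases k2 : k.val = i
    · rw [show k = ⟨i, hi⟩ from Fin.ext k2, Equiv.swap_apply_right]
      rcases hv ⟨i, hi⟩ (Or.inr rfl) with h0 | h0
      · exact Fin.ext (by show _ = i - 1; omega)
      · have := congrArg Fin.val (ρ.injective ((show ρ ⟨i, hi⟩ = ⟨i, hi⟩ from Fin.ext h0).trans hb.symm |>.trans rfl))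
        simp at this; omega
    rw [Equiv.swap_apply_of_ne_of_ne (Fin.ne_of_val_ne k1) (Fin.ne_of_val_ne k2)]
    exact hfix k (by omega) k2

theorem chamber_key {w w' : W (m := m)} {l : ℕ} (hl : l ≤ m)
    (h : (P.chamber w').F l = (P.chamber w).F l) (j : Fin m) :
    ((w'.1.symm j).val < l ↔ (w.1.symm j).val < l) ∧ ((w.1.symm j).val < l → w'.2 j = w.2 j) := by
  have h1 := P.z_mem_chamber w hl j (w'.2 j)
  have h2 := P.z_mem_chamber w' hl j (w.2 j)
  rw [← h, P.z_mem_chamber w' hl] at h1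
  rw [h, P.z_mem_chamber w hl] at h2
  refine ⟨⟨fun e => (h1.1 ⟨e, rfl⟩).1, fun e => (h2.1 ⟨e, rfl⟩).1⟩, fun e => ((h2.1 ⟨e, rfl⟩).2).symm⟩

theorem chamber_injective : Function.Injective P.chamber := by
  intro w w' h
  have hk := fun (l : ℕ) (hl : l ≤ m) (j : Fin m) => P.chamber_key (w := w') (w' := w) hl (by rw [h]) j
  refine Prod.ext (Equiv.symm_bijective.injective (Equiv.ext fun j => ?_)) (funext fun j => (hk m le_rfl j).2 (by omega))
  have e1 := (hk (w'.1.symm j).val (by omega) j).1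
  have e2 := (hk ((w'.1.symm j).val + 1) (by omega) j).1
  exact Fin.ext (by omega)

theorem chamber_pan (i : {i // 1 ≤ i ∧ i ≤ m}) (w w' : W (m := m)) :
    P.chamber w' ∈ pan m i (P.chamber w) ↔ w' = w ∨ w' = tau i w := by
  obtain ⟨i, hi1, hi2⟩ := i
  constructor
  · intro h
    have hk := fun (l : ℕ) (hl : l ≤ m) (hli : l ≠ i) (j : Fin m) => P.chamber_key hl (h l hli) j
    obtain ⟨π', s'⟩ := w'
    obtain ⟨π, s⟩ := w
    simp only at hk
    have hk' : ∀ l, l ≠ i → l ≤ m → ∀ k : Fin m, ((π⁻¹ * π') k).val < l ↔ k.val < l := by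
      intro l hli hl k
      have := (hk l hl hli (π' k)).1
      rw [Equiv.symm_apply_apply] at this
      exact this.symm
    by_cases him : i < m
    · have hs : s' = s := funext fun j => (hk m le_rfl (by omega) j).2 (by omega)
      rcases perm_eq_of_key him _ hk' with e | e
      · left; rw [inv_mul_eq_one.1 e, hs]
      · right
        rw [tau, dif_pos him, ← e, mul_inv_cancel_left, hs]
    · have him' : i = m := by omega
      have hπ : π' = π := by
        refine (inv_mul_eq_one.1 (Equiv.ext fun k => ?_)).symm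
        by_cases hlast : k.val + 1 = m
        · by_contra hne
          have e1 := hk' k.val (by omega) (by omega) k
          exact hne (Fin.ext (by show ((π⁻¹ * π') k).val = k.val; omega))
        · have e1 := hk' k.val (by omega) (by omega) k
          have e2 := hk' (k.val + 1) (by omega) (by omega) k
          exact Fin.ext (by show ((π⁻¹ * π') k).val = k.val; omega)
      subst hπ
      rw [tau, dif_neg him]
      set j₀ := π' ⟨i - 1, by omega⟩ with hj₀
      have hs : ∀ j, j ≠ j₀ → s' j = s j := fun j hj => by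
        refine (hk (m - 1) (by omega) (by omega) j).2 ?_
        have : π'.symm j ≠ ⟨i - 1, by omega⟩ := fun e => hj (by rw [hj₀, ← e, Equiv.apply_symm_apply])
        have := Fin.val_ne_of_ne this
        simp only at this
        omega
      by_cases hb : s' j₀ = s j₀
      · left
        exact Prod.ext rfl (funext fun j => if e : j = j₀ then e ▸ hb else hs j e)
      · right
        refine Prod.ext rfl (funext fun j => ?_)
        rcases eq_or_ne j j₀ with rfl | hj
        · show s' j₀ = Function.update s j₀ (!s j₀) j₀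
          rw [Function.update_self]
          revert hb; cases s' j₀ <;> cases s j₀ <;> simp
        · show s' j = Function.update s j₀ (!s j₀) j
          rw [Function.update_of_ne hj]
          exact hs j hj
  · rintro (rfl | rfl)
    · exact mem_pan_self _ _
    intro l hl
    replace hl : l ≠ i := hl
    by_cases hlm : m < l
    · rw [(P.chamber _).above l hlm, (P.chamber _).above l hlm]
    push_neg at hlm
    refine Submodule.eq_of_le_of_finrank_le ?_
      (by rw [(P.chamber w).finrank_eq l hlm, (P.chamber _).finrank_eq l hlm])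
    rw [P.chamber_F _ hlm, P.chamber_F _ hlm]
    refine first_le _ fun k hk => ?_
    by_cases him : i < m
    · rw [tau, dif_pos him]
      show P.z _ _ ∈ _
      have hsw : ((Equiv.swap (⟨i - 1, by omega⟩ : Fin m) ⟨i, him⟩) k).val < l := by
        rw [Equiv.swap_apply_def]
        split_ifs with a b
        · have := congrArg Fin.val a; simp only at this; show i < l; omega
        · have := congrArg Fin.val b; simp only at this; show i - 1 < l; omega
        · exact hk
      exact mem_first (K := K) (P.av w) hsw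
    · rw [tau, dif_neg him]
      show P.z (w.1 k) _ ∈ _
      simp only
      rw [Function.update_of_ne]
      · exact mem_first (K := K) (P.av w) hk
      · intro e
        have := congrArg Fin.val (w.1.injective e)
        simp only at this
        omega

/-- The character. -/
theorem exists_steinberg [Finite K] [Finite Γ] {p : ℕ} [Fact p.Prime] (hm : 1 ≤ m) {d : ℕ}
    (hn : finrank K V = 2 * m + d) (hgen : 1 < P.c ∨ 2 < finrank K V)
    (hord : ∃ a M : ℕ, P.c ^ m * Nat.card K ^ (m * (m - 1) + d * m) = p ^ a ∧ ¬ p ∣ M ∧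
      Nat.card Γ = p ^ a * M) :
    ∃ χ : Γ ⧸ Subgroup.center Γ → ℂ, Cfsg.IsIrrCharacter (Γ ⧸ Subgroup.center Γ) χ ∧
      ∀ S : Sylow p (Γ ⧸ Subgroup.center Γ),
        χ 1 = Nat.card S ∧ ∀ x : Γ ⧸ Subgroup.center Γ, x ∈ S → x ≠ 1 → χ x = 0 := by
  classical
  haveI : Finite V := Module.finite_of_finite K
  letI : Fintype P.Fl := Fintype.ofFinite _
  obtain ⟨a, M, hca, hM, hcard⟩ := hord
  have hp : p.Prime := Fact.out
  have hM0 : M ≠ 0 := fun h => hM (h ▸ dvd_zero p)
  have hmult : (Nat.card Γ).factorization p = a := by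
    rw [hcard, Nat.factorization_mul (pow_ne_zero _ hp.ne_zero) hM0, Finsupp.add_apply,
      hp.factorization_pow, Finsupp.single_eq_same, Nat.factorization_eq_zero_of_not_dvd hM, add_zero]
  let S₀ : Sylow p Γ := Sylow.ofCard P.U (by rw [hmult, P.card_U hn, hca])
  have hc : 1 ≤ P.c := by
    rcases Nat.eq_zero_or_pos P.c with h | h
    · rw [h, zero_pow (by omega), zero_mul] at hca
      exact absurd hca.symm (pow_ne_zero _ hp.ne_zero)
    · exact h
  refine exists_irr_quot (G := Γ) (C := P.Fl) (Subgroup.center Γ)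
    (fun g hg c => P.center_fix hm hc hgen hg c) (pan m) ?_ S₀ (P.chamber dOpp)
    {c | Opp (P.chain hm) c} (fun c => P.U_transitive hm c) (fun u hu h => P.U_free hu h)
    (rho (P.chain hm)) ?_
    (Function.extend P.chamber sgn 0)
    (cycle_sum P.chamber P.chamber_injective sgn tau P.chamber_pan ?_ ?_) ?_ ?_ ?_
  · exact fun g i c d => map_mem_pan_iff _ _ i c d
  · intro c hc'
    refine exists_better (P.chain hm) le_rfl (Nat.le_succ m) (lo := m) (by show 2 * m = m + m; omega)
      (fun h => absurd h (lt_irrefl m)) ?_ c hc'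
    intro _ c d hd x hx hxG hxn y hy hyG
    have hG : ∀ v, v ∈ (P.chain hm).G m → v ∈ first (K := K) P.e m := fun v hv => by
      rwa [show (P.chain hm).G m = first (K := K) P.e m from if_pos le_rfl] at hv
    obtain ⟨h, hA, hh⟩ := P.exists_transport c
    have hU : c.F (m - 1) ≤ d.F m := by
      rw [← hd (m - 1) (by omega)]; exact d.le_of_le (by omega) le_rfl
    have hperp : ∀ w ∈ c.F m, P.B w y = 0 := by
      have hsup : c.F m = c.F (m - 1) ⊔ Submodule.span K {x} := by
        refine (Submodule.eq_of_le_of_finrank_le (sup_le (c.le_of_le (by omega) le_rfl)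
          (Submodule.span_le.2 (by rintro _ rfl; exact hx))) ?_).symm
        have hlt : c.F (m - 1) < c.F (m - 1) ⊔ Submodule.span K {x} := lt_of_le_of_ne le_sup_left fun e =>
          hxn (e ▸ Submodule.mem_sup_right (Submodule.mem_span_singleton_self x))
        have := Submodule.finrank_lt_finrank_of_lt hlt
        rw [c.finrank_eq _ (by omega)] at this
        rw [c.finrank_eq m le_rfl]
        omega
      rw [hsup]
      intro w hw
      obtain ⟨w1, hw1, w2, hw2, rfl⟩ := Submodule.mem_sup.1 hw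
      obtain ⟨r, rfl⟩ := Submodule.mem_span_singleton.1 hw2
      have h1 : P.B x y = 0 := (P.ts_span (fun k : {k : Fin m // k.val < m} => P.e k.1) (fun k => P.S_e _)
        (fun _ _ => P.B_ee _ _) x (hG x hxG)).2 y (hG y hyG)
      rw [map_add, map_smulₛₗ, LinearMap.add_apply, LinearMap.smul_apply, h1, smul_zero, add_zero]
      exact (d.ts m le_rfl w1 (hU hw1)).2 y hy
    rw [← hh m le_rfl]
    refine ⟨h.symm y, ?_, h.apply_symm_apply y⟩
    rw [← P.range_e_eq]
    refine P.aniso _ (fun i => ?_) ?_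
    · rw [← P.A_B h hA, LinearEquiv.apply_symm_apply]
      refine hperp _ ?_
      rw [← hh m le_rfl]
      exact ⟨_, mem_first _ i.2, rfl⟩
    · have := P.A_S _ (P.A.inv_mem hA) _ (d.ts m le_rfl y hy).1
      exact this
  · intro i w hw
    obtain ⟨i, hi1, hi2⟩ := i
    by_cases him : i < m
    · rw [tau, dif_pos him] at hw
      have := congrArg Fin.val (Equiv.congr_fun (mul_left_cancel ((congrArg Prod.fst hw).trans (mul_one w.1).symm))
        (⟨i - 1, by omega⟩ : Fin m))
      rw [Equiv.swap_apply_left, Equiv.Perm.one_apply] at this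
      simp at this
      omega
    · rw [tau, dif_neg him] at hw
      have := congrFun (congrArg Prod.snd hw) (w.1 ⟨i - 1, by omega⟩)
      simp at this
  · intro i w
    obtain ⟨i, hi1, hi2⟩ := i
    by_cases him : i < m
    · rw [tau, dif_pos him, sgn, sgn]
      rw [map_mul, Equiv.Perm.sign_swap (Fin.ne_of_val_ne (show i - 1 ≠ i by omega))]
      simp
    · rw [tau, dif_neg him, sgn, sgn]
      simp only
      set j₀ := w.1 ⟨i - 1, by omega⟩
      rw [← Finset.mul_prod_erase _ _ (Finset.mem_univ j₀), ← Finset.mul_prod_erase _ _ (Finset.mem_univ j₀),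
        Finset.prod_congr rfl fun j hj => (show (if Function.update w.2 j₀ (!w.2 j₀) j then (-1 : ℂ) else 1) =
          if w.2 j then -1 else 1 by simp only [Function.update_of_ne (Finset.ne_of_mem_erase hj)])]
      simp only [Function.update_self]
      cases w.2 j₀ <;> simp
  · rw [P.chamber_injective.extend_apply]
    simp [sgn, dOpp]
  · intro c hc' hne
    by_cases hex : ∃ w, P.chamber w = c
    swap
    · exact Function.extend_apply' _ _ _ hex
    obtain ⟨w, rfl⟩ := hex
    exfalso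
    apply hne
    have hk : ∀ k : Fin m, w.2 (w.1 k) = false ∧ (w.1 k).val ≤ k.val := by
      intro k
      have hbot := hc' (k.val + 1) (by omega)
      have hav : P.av w k ∈ (P.chamber w).F (k.val + 1) := by
        rw [P.chamber_F _ (by omega)]; exact mem_first _ (Nat.lt_succ_self _)
      have hnotin : P.av w k ∉ (P.chain hm).G ((P.chain hm).L - (k.val + 1)) := fun h => by
        have : P.av w k ∈ (⊥ : Submodule K V) := hbot ▸ ⟨hav, h⟩
        exact (P.av_li w).ne_zero k ((Submodule.mem_bot K).1 this)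
      by_contra hcon
      apply hnotin
      refine P.mem_chain_G hm (by omega) (P.S_z _ _) fun l hl => ?_
      show P.B (P.z l true) (P.z (w.1 k) (w.2 (w.1 k))) = 0
      rw [P.B_z]
      rintro ⟨rfl, hb⟩
      refine hcon ⟨?_, by omega⟩
      revert hb; cases w.2 (w.1 k) <;> simp
    have hw1 : w.1 = 1 := by
      refine Equiv.ext fun k => ?_
      suffices ∀ j, ∀ k : Fin m, k.val = j → w.1 k = k from this _ k rfl
      intro j
      induction j using Nat.strong_induction_on with
      | _ j ih =>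
        intro k hk'
        rcases eq_or_lt_of_le (hk k).2 with e | e
        · exact Fin.ext e
        · exact w.1.injective (ih _ (hk' ▸ e) (w.1 k) rfl)
    have hw2 : w.2 = fun _ => false := funext fun j => by
      have := (hk j).1
      rwa [hw1] at this
    exact congrArg P.chamber (Prod.ext hw1 hw2)
  · intro c
    obtain ⟨h, hA, hh⟩ := P.exists_transport c
    obtain ⟨α, hαb, hα⟩ := P.exists_conj_aut hA
    let S₁ : Sylow p Γ := Sylow.ofCard (P.U.map α) (by
      rw [hmult, Subgroup.card_map_of_injective hαb.1, P.card_U hn, hca])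
    obtain ⟨g, hg⟩ := MulAction.exists_smul_eq Γ S₀ S₁
    refine ⟨g⁻¹, fun u hu => ?_⟩
    have hmem : g * u * g⁻¹ ∈ P.U.map α := by
      show g * u * g⁻¹ ∈ (S₁ : Subgroup Γ)
      rw [← hg, Sylow.coe_subgroup_smul]
      exact Subgroup.smul_mem_pointwise_smul u (MulAut.conj g) _ hu
    obtain ⟨u', hu', he⟩ := hmem
    have hc0 : α u' • c = c := by
      refine Flag.ext_le fun i hi => ?_
      rw [smul_F, ← hh i hi, ← Submodule.map_comp]
      conv_rhs => rw [← IsU.map_first P hu' i, ← Submodule.map_comp]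
      congr 1
      exact LinearMap.ext fun x => hα u' x
    rw [he] at hc0
    calc u • g⁻¹ • c = g⁻¹ • (g * u * g⁻¹) • c := by
          rw [← mul_smul, ← mul_smul]; congr 1; group
      _ = g⁻¹ • c := by rw [hc0]

end Polar

end CfsgLib.KnownC.Steinberg
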