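import Mathlib

/-!
Permutations moving every index up by at most one, and the cut sets of their compositions.
-/

set_option autoImplicit false

namespace CfsgLib.KnownC.StValue

open Equiv Finset

variable {n : ℕ}

/-- Every index moves up by at most one. -/
def Hess (κ : Perm (Fin n)) : Prop := ∀ i : Fin n, (κ i).val ≤ 1 + i.val

/-- The composition. -/
def part (κ : Perm (Fin n)) (i : Fin n) : ℕ := 1 + i.val - (κ i).val

/-- Partial sums of the composition. -/
def psum (κ : Perm (Fin n)) (j : ℕ) : ℕ := ∑ l : Fin n, if l.val < j then part κ l else 0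

open Classical in
/-- The cut set. -/
noncomputable def cuts (κ : Perm (Fin n)) : Finset ℕ :=
  (Finset.Ioo 0 n).filter fun s => ∃ j, j ≤ n ∧ psum κ j = s

theorem psum_top {κ : Perm (Fin n)} (h : Hess κ) : psum κ n = n := by
  have h1 : ∑ i : Fin n, part κ i + ∑ i : Fin n, (κ i).val = ∑ i : Fin n, (1 + i.val) := by
    rw [← Finset.sum_add_distrib]
    exact Finset.sum_congr rfl fun i _ => Nat.sub_add_cancel (h i)
  rw [Equiv.sum_comp κ (fun i : Fin n => i.val), Finset.sum_add_distrib, Finset.sum_const, Finset.card_univ,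
    Fintype.card_fin, smul_eq_mul, mul_one] at h1
  rw [psum, Finset.sum_congr rfl fun (l : Fin n) _ => if_pos l.2]
  show ∑ l : Fin n, part κ l = n
  linarith

theorem psum_le {κ : Perm (Fin n)} (h : Hess κ) (j : ℕ) : psum κ j ≤ n := by
  refine le_of_le_of_eq (Finset.sum_le_sum fun l _ => ?_) (psum_top h)
  rw [if_pos l.2]
  split_ifs <;> omega

/-- Adding a fixed last index. -/
noncomputable def ext (κ : Perm (Fin n)) : Perm (Fin (n + 1)) :=
  finSuccEquivLast.symm.permCongr (Equiv.optionCongr κ)

theorem ext_castSucc (κ : Perm (Fin n)) (i : Fin n) : ext κ i.castSucc = (κ i).castSucc := by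
  simp [ext, Equiv.permCongr_apply]

theorem ext_last (κ : Perm (Fin n)) : ext κ (Fin.last n) = Fin.last n := by
  simp [ext, Equiv.permCongr_apply]

theorem sign_ext (κ : Perm (Fin n)) : Perm.sign (ext κ) = Perm.sign κ := by
  rw [ext, Perm.sign_permCongr, Equiv.optionCongr_sign]

theorem ext_injective : Function.Injective (ext (n := n)) := fun κ κ' h =>
  Equiv.ext fun i => Fin.castSucc_injective _ (by rw [← ext_castSucc, ← ext_castSucc, h])

/-- Appending a fixed last index and moving the last value one step down. -/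
noncomputable def ext' (κ : Perm (Fin (n + 1))) : Perm (Fin (n + 2)) :=
  ext κ * Equiv.swap (Fin.last n).castSucc (Fin.last (n + 1))

theorem ext'_mid (κ : Perm (Fin (n + 1))) : ext' κ (Fin.last n).castSucc = Fin.last (n + 1) := by
  rw [ext', Perm.mul_apply, Equiv.swap_apply_left, ext_last]

theorem ext'_last (κ : Perm (Fin (n + 1))) : ext' κ (Fin.last (n + 1)) = (κ (Fin.last n)).castSucc := by
  rw [ext', Perm.mul_apply, Equiv.swap_apply_right, ext_castSucc]

theorem ext'_castSucc (κ : Perm (Fin (n + 1))) {i : Fin (n + 1)} (hi : i ≠ Fin.last n) :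
    ext' κ i.castSucc = (κ i).castSucc := by
  rw [ext', Perm.mul_apply, Equiv.swap_apply_of_ne_of_ne (fun h => hi (Fin.castSucc_injective _ h))
    (Fin.castSucc_ne_last i), ext_castSucc]

theorem hess_ext {κ : Perm (Fin n)} : Hess (ext κ) ↔ Hess κ := by
  refine ⟨fun h i => ?_, fun h i => ?_⟩
  · simpa [ext_castSucc] using h i.castSucc
  · refine Fin.lastCases ?_ (fun i => ?_) i
    · rw [ext_last]; omega
    · rw [ext_castSucc]; simpa using h i

theorem hess_ext' {κ : Perm (Fin (n + 1))} : Hess (ext' κ) ↔ Hess κ := by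
  refine ⟨fun h i => ?_, fun h i => ?_⟩
  · by_cases hi : i = Fin.last n
    · subst hi; have := (κ (Fin.last n)).2; simp only [Fin.val_last]; omega
    · simpa [ext'_castSucc κ hi] using h i.castSucc
  · refine Fin.lastCases ?_ (fun i => ?_) i
    · rw [ext'_last]; have := (κ (Fin.last n)).2; simp only [Fin.val_castSucc, Fin.val_last]; omega
    · by_cases hi : i = Fin.last n
      · subst hi; rw [ext'_mid]; simp only [Fin.val_castSucc, Fin.val_last]; omega
      · rw [ext'_castSucc κ hi]; simpa using h i

open Classical in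
theorem hess_split :
    (univ : Finset (Perm (Fin (n + 2)))).filter Hess =
      ((univ : Finset (Perm (Fin (n + 1)))).filter Hess).image ext ∪
        ((univ : Finset (Perm (Fin (n + 1)))).filter Hess).image ext' := by
  ext κ
  simp only [mem_filter, mem_univ, true_and, mem_union, mem_image]
  constructor
  · intro h
    have hfix : ∀ π : Perm (Fin (n + 2)), π (Fin.last _) = Fin.last _ → ∃ κ', ext κ' = π := by
      intro π hπ
      obtain ⟨ρ, hρ⟩ : ∃ ρ, ρ = finSuccEquivLast.permCongr π := ⟨_, rfl⟩
      have hnone : ρ none = none := by simp [hρ, Equiv.permCongr_apply, hπ]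
      refine ⟨Equiv.removeNone ρ, ?_⟩
      rw [ext, map_equiv_removeNone, hnone, Equiv.swap_self, ← Perm.one_def, one_mul]
      refine Equiv.ext fun i => ?_
      simp [hρ, Equiv.permCongr_apply]
    by_cases hl : κ (Fin.last _) = Fin.last _
    · obtain ⟨κ', rfl⟩ := hfix κ hl
      exact Or.inl ⟨κ', hess_ext.1 h, rfl⟩
    · have hj : κ (Fin.last n).castSucc = Fin.last _ := by
        obtain ⟨j, hj⟩ := κ.surjective (Fin.last _)
        have h1 := h j
        rw [hj] at h1
        rcases eq_or_ne j (Fin.last _) with rfl | hne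
        · exact absurd hj hl
        · have := Fin.val_ne_of_ne hne
          simp only [Fin.val_last] at h1 this
          rw [show (Fin.last n).castSucc = j from Fin.ext (by simp; omega)]
          exact hj
      obtain ⟨κ', hκ'⟩ := hfix (κ * Equiv.swap (Fin.last n).castSucc (Fin.last _))
        (by rw [Perm.mul_apply, Equiv.swap_apply_right, hj])
      have he : ext' κ' = κ := by rw [ext', hκ', Equiv.mul_swap_mul_self]
      exact Or.inr ⟨κ', hess_ext'.1 (he ▸ h), he⟩
  · rintro (⟨κ', h, rfl⟩ | ⟨κ', h, rfl⟩)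
    exacts [hess_ext.2 h, hess_ext'.2 h]

theorem psum_ext (κ : Perm (Fin n)) {j : ℕ} (hj : j ≤ n) : psum (ext κ) j = psum κ j := by
  rw [psum, psum, Fin.sum_univ_castSucc]
  simp [part, ext_castSucc, show ¬ n < j by omega]

theorem psum_ext' (κ : Perm (Fin (n + 1))) {j : ℕ} (hj : j ≤ n) : psum (ext' κ) j = psum κ j := by
  rw [psum, psum, Fin.sum_univ_castSucc]
  rw [if_neg (by simp; omega), add_zero]
  refine Finset.sum_congr rfl fun l _ => ?_
  rw [Fin.val_castSucc]
  split_ifs with h
  · rw [part, part, ext'_castSucc κ (fun e => by subst e; simp at h; omega), Fin.val_castSucc, Fin.val_castSucc]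
  · rfl

theorem psum_ext'_succ (κ : Perm (Fin (n + 1))) : psum (ext' κ) (n + 1) = psum κ n := by
  rw [← psum_ext' κ le_rfl, psum, psum]
  refine Finset.sum_congr rfl fun l _ => ?_
  by_cases hl : l = (Fin.last n).castSucc
  · subst hl
    simp [part, ext'_mid, Nat.add_comm]
  · have : l.val ≠ n := fun e => hl (Fin.ext (by simp [e]))
    exact if_congr (by omega) rfl rfl

theorem psum_succ_lt {κ : Perm (Fin (n + 1))} (h : Hess κ) {j : ℕ} (hj : j ≤ n) : psum κ j ≤ n := by
  have h1 : psum κ j ≤ psum κ n := Finset.sum_le_sum fun l _ => by split_ifs <;> omega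
  have h2 : psum κ (n + 1) = psum κ n + part κ (Fin.last n) := by
    rw [psum, psum, Fin.sum_univ_castSucc, Fin.sum_univ_castSucc]
    simp
  rw [psum_top h] at h2
  have h3 : 1 ≤ part κ (Fin.last n) := by
    have := (κ (Fin.last n)).2
    simp only [part, Fin.val_last]
    omega
  omega

theorem cuts_ext {κ : Perm (Fin (n + 1))} (h : Hess κ) : cuts (ext κ) = insert (n + 1) (cuts κ) := by
  ext s
  simp only [cuts, mem_filter, mem_insert, Finset.mem_Ioo]
  constructor
  · rintro ⟨⟨h1, h2⟩, j, hj, hs⟩
    by_cases hsn : s = n + 1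
    · exact Or.inl hsn
    have hj' : j ≤ n + 1 := by
      by_contra hlt
      obtain rfl : j = n + 2 := by omega
      rw [psum_top (hess_ext.2 h)] at hs
      omega
    rw [psum_ext κ hj'] at hs
    exact Or.inr ⟨⟨h1, by omega⟩, j, hj', hs⟩
  · rintro (rfl | ⟨⟨h1, h2⟩, j, hj, hs⟩)
    · exact ⟨⟨by omega, by omega⟩, n + 1, by omega, by rw [psum_ext κ le_rfl, psum_top h]⟩
    · exact ⟨⟨h1, by omega⟩, j, by omega, by rw [psum_ext κ hj, hs]⟩

theorem cuts_ext' {κ : Perm (Fin (n + 1))} (h : Hess κ) : cuts (ext' κ) = cuts κ := by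
  ext s
  simp only [cuts, mem_filter, Finset.mem_Ioo]
  constructor
  · rintro ⟨⟨h1, h2⟩, j, hj, hs⟩
    rcases show j ≤ n ∨ j = n + 1 ∨ j = n + 2 by omega with hj' | rfl | rfl
    · rw [psum_ext' κ hj'] at hs
      have := psum_succ_lt h hj'
      exact ⟨⟨h1, by omega⟩, j, by omega, hs⟩
    · rw [psum_ext'_succ] at hs
      have := psum_succ_lt h (le_refl n)
      exact ⟨⟨h1, by omega⟩, n, by omega, hs⟩
    · rw [psum_top (hess_ext'.2 h)] at hs
      omega
  · rintro ⟨⟨h1, h2⟩, j, hj, hs⟩
    have hj' : j ≤ n := by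
      by_contra hlt
      obtain rfl : j = n + 1 := by omega
      rw [psum_top h] at hs
      omega
    exact ⟨⟨h1, by omega⟩, j, by omega, by rw [psum_ext' κ hj', hs]⟩

open Classical in
theorem sum_hess {R : Type*} [CommRing R] : ∀ (n : ℕ) (Φ : Finset ℕ → R),
    ∑ κ ∈ (univ : Finset (Perm (Fin (n + 1)))).filter Hess, ((Perm.sign κ : ℤ) : R) * Φ (cuts κ) =
      ∑ S ∈ (Finset.Ioo 0 (n + 1)).powerset, (-1) ^ (n + S.card) * Φ S := by
  intro n
  induction n with
  | zero =>
    intro Φ
    have hh : Hess (1 : Perm (Fin 1)) := fun i => by simp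
    rw [show (univ : Finset (Perm (Fin 1))).filter Hess = {1} from by
      ext κ; simp [Subsingleton.elim κ 1, hh]]
    rw [Finset.sum_singleton, show (Finset.Ioo 0 (0 + 1)) = ∅ from rfl, Finset.powerset_empty,
      Finset.sum_singleton, show cuts (1 : Perm (Fin 1)) = ∅ by
        rw [cuts, Finset.filter_eq_empty_iff]; intro s hs; simp at hs; omega]
    simp
  | succ n ih =>
    intro Φ
    rw [hess_split, Finset.sum_union, Finset.sum_image ext_injective.injOn, Finset.sum_image,
      show Finset.Ioo 0 (n + 1 + 1) = insert (n + 1) (Finset.Ioo 0 (n + 1)) by ext; simp <;> omega,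
      Finset.sum_powerset_insert (by simp)]
    · have e1 := ih fun S => Φ (insert (n + 1) S)
      have e2 := ih Φ
      rw [add_comm (∑ S ∈ _, _)]
      congr 1
      · refine Eq.trans (b := -∑ κ ∈ (univ : Finset (Perm (Fin (n + 1)))).filter Hess,
          ((Perm.sign κ : ℤ) : R) * Φ (cuts κ)) ?_ ?_
        · rw [← Finset.sum_neg_distrib]
          refine Finset.sum_congr rfl fun κ hκ => ?_
          rw [cuts_ext' (Finset.mem_filter.1 hκ).2, ext', map_mul, sign_ext,
            Perm.sign_swap (Fin.castSucc_ne_last _)]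
          simp
        · rw [e2, ← Finset.sum_neg_distrib]
          exact Finset.sum_congr rfl fun S _ => by ring
      · refine Eq.trans (Finset.sum_congr rfl fun κ hκ => ?_) (e1.trans (Finset.sum_congr rfl fun S hS => ?_))
        · rw [sign_ext, cuts_ext (Finset.mem_filter.1 hκ).2]
        · rw [Finset.card_insert_of_notMem (fun hm => by
            have := Finset.mem_powerset.1 hS hm
            simp at this)]
          ring
    · intro a _ b _ h
      exact ext_injective (mul_right_cancel h)
    · rw [Finset.disjoint_left]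
      rintro π h1 h2
      simp only [mem_image] at h1 h2
      obtain ⟨a, -, rfl⟩ := h1
      obtain ⟨b, -, hb⟩ := h2
      have := congrArg (fun π : Perm (Fin (n + 1 + 1)) => π (Fin.last (n + 1))) hb
      rw [ext'_last, ext_last] at this
      exact Fin.castSucc_ne_last _ this

end CfsgLib.KnownC.StValue
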