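import Cfsg.Agent.Lib.KnownB.SSClass

/-!
The Möbius value of the lattice of subspaces invariant under a semisimple endomorphism of a space over a finite
field, through alternating sums over chains.
-/

set_option autoImplicit false
set_option linter.unusedSectionVars false

namespace CfsgLib.KnownC.StValue

open Module Polynomial
open CfsgLib.KnownB.SSClass

/-- Weisner: the values of a Möbius function over the elements joining an atom to a fixed top cancel. -/
theorem weisner {L : Type*} [SemilatticeSup L] [OrderBot L] [Finite L] [DecidableEq L] [DecidableRel (α := L) (· ≤ ·)]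
    (s : Finset L) (M : L → ℤ) (hsup : ∀ x ∈ s, ∀ y ∈ s, x ⊔ y ∈ s)
    (hM : ∀ y ∈ s, y ≠ ⊥ → ∑ x ∈ s.filter (· ≤ y), M x = 0) {a : L} (ha : a ∈ s) (ha0 : a ≠ ⊥) :
    ∀ y ∈ s, a ≤ y → ∑ x ∈ s.filter (fun x => x ⊔ a = y), M x = 0 := by
  intro y
  induction y using WellFoundedLT.induction with
  | _ y ih =>
    intro hy hay
    have h0 := hM y hy (fun h => ha0 (le_bot_iff.1 (h ▸ hay)))
    rw [← Finset.sum_fiberwise_of_maps_to (t := s.filter fun z => a ≤ z ∧ z ≤ y) (g := fun x => x ⊔ a)
      (fun x hx => by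
        rw [Finset.mem_filter] at hx ⊢
        exact ⟨hsup x hx.1 a ha, le_sup_right, sup_le hx.2 hay⟩),
      Finset.sum_eq_single_of_mem y (Finset.mem_filter.2 ⟨hy, hay, le_rfl⟩)] at h0
    · rw [Finset.filter_filter] at h0
      rw [← h0]
      refine Finset.sum_congr (Finset.filter_congr fun x _ => ?_) fun _ _ => rfl
      exact ⟨fun h => ⟨h ▸ le_sup_left, h⟩, fun h => h.2⟩
    · intro z hz hzy
      rw [Finset.mem_filter] at hz
      rw [Finset.filter_filter]
      refine Eq.trans (Finset.sum_congr (Finset.filter_congr fun x _ => ?_) fun _ _ => rfl)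
        (ih z (lt_of_le_of_ne hz.2.2 hzy) hz.1 hz.2.1)
      exact ⟨fun h => h.2, fun h => ⟨(le_sup_left.trans h.le).trans hz.2.2, h⟩⟩

universe u v

variable {F : Type u} [Field F] [Fintype F]

/-- The value at a monic polynomial. -/
noncomputable def val (q : ℕ) (p : F[X]) : ℤ :=
  letI := Classical.decEq F
  ∏ f ∈ (UniqueFactorizationMonoid.normalizedFactors p).toFinset,
    (-1) ^ (UniqueFactorizationMonoid.normalizedFactors p).count f *
      (q : ℤ) ^ (f.natDegree * ((UniqueFactorizationMonoid.normalizedFactors p).count f).choose 2)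

theorem val_one (q : ℕ) : val q (1 : F[X]) = 1 := by
  classical
  simp [val, UniqueFactorizationMonoid.normalizedFactors_one]

open Classical in
theorem val_mul (q : ℕ) {P R : F[X]} (hP : Irreducible P) (hPm : P.Monic) (hR : R ≠ 0) :
    val q (P * R) =
      -((q : ℤ) ^ (P.natDegree * (UniqueFactorizationMonoid.normalizedFactors R).count P)) * val q R := by
  classical
  set N := UniqueFactorizationMonoid.normalizedFactors R with hN
  have hPR : UniqueFactorizationMonoid.normalizedFactors (P * R) = P ::ₘ N := by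
    rw [UniqueFactorizationMonoid.normalizedFactors_mul hP.ne_zero hR,
      UniqueFactorizationMonoid.normalizedFactors_irreducible hP, hPm.normalize_eq_self,
      Multiset.singleton_add, hN]
  have hval : val q R = ∏ f ∈ insert P N.toFinset,
      (-1) ^ N.count f * (q : ℤ) ^ (f.natDegree * (N.count f).choose 2) := by
    rw [val, ← hN]
    refine Eq.trans ?_ (Finset.prod_subset (Finset.subset_insert P _) fun f _ hf => ?_)
    · exact Finset.prod_congr (by ext; simp) fun _ _ => by congr!
    · rw [Multiset.count_eq_zero.2 (fun h => hf (Multiset.mem_toFinset.2 h))]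
      simp
  rw [hval, val, hPR]
  have hmem : P ∈ insert P N.toFinset := Finset.mem_insert_self _ _
  rw [show (P ::ₘ N).toFinset = insert P N.toFinset from Multiset.toFinset_cons _ _] at *
  rw [← Finset.mul_prod_erase _ _ hmem, ← Finset.mul_prod_erase _ _ hmem]
  have hrest : ∀ f ∈ (insert P N.toFinset).erase P,
      (-1 : ℤ) ^ (P ::ₘ N).count f * (q : ℤ) ^ (f.natDegree * ((P ::ₘ N).count f).choose 2) =
        (-1) ^ N.count f * (q : ℤ) ^ (f.natDegree * (N.count f).choose 2) := fun f hf => by
    rw [Multiset.count_cons_of_ne (Finset.ne_of_mem_erase hf)]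
  rw [Finset.prod_congr rfl hrest, Multiset.count_cons_self, Nat.choose_succ_succ', Nat.choose_one_right,
    Nat.mul_add, pow_add, pow_succ]
  ring

/-- Splitting off an irreducible block multiplies characteristic polynomials. -/
theorem charpoly_block {V : Type v} [AddCommGroup V] [Module F V] [FiniteDimensional F V]
    {T : Module.End F V} {P : F[X]} (hP : Irreducible P) (hPm : P.Monic) {W : Submodule F V}
    {hW : ∀ x ∈ W, T x ∈ W} (e : (AdjoinRoot P × W) ≃ₗ[F] V)
    (he : ∀ x, T (e x) = e ((LinearMap.mulLeft F (AdjoinRoot.root P)).prodMap (T.restrict hW) x)) :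
    T.charpoly = P * (T.restrict hW).charpoly := by
  haveI : Fact (Irreducible P) := ⟨hP⟩
  haveI : Module.Finite F (AdjoinRoot P) := (AdjoinRoot.powerBasis hP.ne_zero).finite
  rw [← charpoly_mulLeft_root hP hPm, ← LinearMap.charpoly_prodMap, ← e.charpoly_conj]
  congr 1
  refine LinearMap.ext fun x => ?_
  obtain ⟨y, rfl⟩ := e.surjective x
  rw [he]
  simp [LinearEquiv.conj_apply]

theorem mk_mul_comm {P Q : F[X]} (ψ : AdjoinRoot Q →ₗ[F] AdjoinRoot P)
    (h : ∀ a, ψ (AdjoinRoot.root Q * a) = AdjoinRoot.root P * ψ a) (g : F[X]) :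
    ∀ a, ψ (AdjoinRoot.mk Q g * a) = AdjoinRoot.mk P g * ψ a := by
  induction g using Polynomial.induction_on' with
  | add g g' ih ih' => intro a; rw [map_add, map_add, add_mul, add_mul, map_add, ih, ih']
  | monomial k r =>
    induction k with
    | zero =>
      intro a
      rw [Polynomial.monomial_zero_left, AdjoinRoot.mk_C, AdjoinRoot.mk_C, ← AdjoinRoot.algebraMap_eq,
        ← AdjoinRoot.algebraMap_eq, ← Algebra.smul_def, ← Algebra.smul_def, map_smul]
    | succ k ih =>
      intro a
      rw [show Polynomial.monomial (k + 1) r = X * Polynomial.monomial k r by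
          rw [Polynomial.X_mul_monomial], map_mul (AdjoinRoot.mk Q), map_mul (AdjoinRoot.mk P), AdjoinRoot.mk_X, AdjoinRoot.mk_X, mul_assoc, h,
        ih, mul_assoc]

/-- The number of maps to the simple block commuting with the endomorphisms. -/
theorem card_hom {P : F[X]} (hP : Irreducible P) (hPm : P.Monic) :
    ∀ (n : ℕ) {V : Type v} [AddCommGroup V] [Module F V] [FiniteDimensional F V] (T : Module.End F V),
      finrank F V = n → SS T →
      letI := Classical.decEq F
      Nat.card {ψ : V →ₗ[F] AdjoinRoot P // ∀ v, ψ (T v) = AdjoinRoot.root P * ψ v} =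
        Fintype.card F ^ (P.natDegree * (UniqueFactorizationMonoid.normalizedFactors T.charpoly).count P) := by
  classical
  haveI : Fact (Irreducible P) := ⟨hP⟩
  intro n
  induction n using Nat.strong_induction_on with
  | _ n ih =>
    intro V _ _ _ T hn hT
    show _ = Fintype.card F ^ _
    rcases Nat.eq_zero_or_pos n with rfl | hpos
    · haveI := Module.finrank_zero_iff.mp hn
      rw [T.charpoly_monic.natDegree_eq_zero.1 (by rw [LinearMap.charpoly_natDegree, hn]),
        UniqueFactorizationMonoid.normalizedFactors_one]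
      rw [Multiset.count_zero, mul_zero, pow_zero, Nat.card_eq_one_iff_unique]
      exact ⟨⟨fun a b => Subtype.ext (LinearMap.ext fun v => by rw [Subsingleton.elim v 0, map_zero, map_zero])⟩,
        ⟨⟨0, fun v => by simp⟩⟩⟩
    obtain ⟨P', hPm', hP', hdvd⟩ := Polynomial.exists_monic_irreducible_factor T.charpoly (fun hu => by
      have := natDegree_eq_zero_of_isUnit hu
      rw [T.charpoly_natDegree, hn] at this
      omega)
    obtain ⟨W, hW, e, he⟩ := exists_block hT hP' hPm' hdvd
    haveI : Fact (Irreducible P') := ⟨hP'⟩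
    haveI : Module.Finite F (AdjoinRoot P') := (AdjoinRoot.powerBasis hP'.ne_zero).finite
    haveI : Module.Finite F (AdjoinRoot P) := (AdjoinRoot.powerBasis hP.ne_zero).finite
    have hcp := charpoly_block hP' hPm' e he
    have hlt : finrank F W < n := by
      have hh := congrArg natDegree hcp
      rw [T.charpoly_natDegree, natDegree_mul hP'.ne_zero (T.restrict hW).charpoly_monic.ne_zero,
        (T.restrict hW).charpoly_natDegree, hn] at hh
      have := hP'.natDegree_pos
      omega
    have hIH := ih _ hlt (T.restrict hW) rfl (hT.restrict hW)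
    -- split
    let E : {ψ : V →ₗ[F] AdjoinRoot P // ∀ v, ψ (T v) = AdjoinRoot.root P * ψ v} ≃
        {ψ : AdjoinRoot P' →ₗ[F] AdjoinRoot P // ∀ a, ψ (AdjoinRoot.root P' * a) = AdjoinRoot.root P * ψ a} ×
        {ψ : W →ₗ[F] AdjoinRoot P // ∀ w, ψ (T.restrict hW w) = AdjoinRoot.root P * ψ w} :=
      { toFun := fun ψ => (⟨(ψ.1.comp e.toLinearMap).comp (LinearMap.inl F _ _), fun a => by
            have h := ψ.2 (e (a, 0))
            rw [he] at h
            simpa using h⟩,
          ⟨(ψ.1.comp e.toLinearMap).comp (LinearMap.inr F _ _), fun w => by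
            have h := ψ.2 (e (0, w))
            rw [he] at h
            simpa using h⟩)
        invFun := fun p => ⟨(p.1.1.coprod p.2.1).comp e.symm.toLinearMap, fun v => by
          obtain ⟨⟨a, w⟩, rfl⟩ := e.surjective v
          rw [he]
          simp [p.1.2, p.2.2, mul_add]⟩
        left_inv := fun ψ => Subtype.ext (LinearMap.ext fun v => by
          obtain ⟨⟨a, w⟩, rfl⟩ := e.surjective v
          simp only [LinearMap.comp_apply, LinearEquiv.coe_toLinearMap, LinearEquiv.symm_apply_apply,
            LinearMap.coprod_apply, LinearMap.inl_apply, LinearMap.inr_apply, ← map_add, Prod.mk_add_mk,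
            add_zero, zero_add])
        right_inv := fun p => Prod.ext (Subtype.ext (LinearMap.ext fun a => by simp))
          (Subtype.ext (LinearMap.ext fun w => by simp)) }
    rw [Nat.card_congr E, Nat.card_prod, hIH, hcp, UniqueFactorizationMonoid.normalizedFactors_mul hP'.ne_zero
      (T.restrict hW).charpoly_monic.ne_zero, UniqueFactorizationMonoid.normalizedFactors_irreducible hP',
      hPm'.normalize_eq_self, Multiset.singleton_add]
    by_cases hPP : P = P'
    · subst hPP
      rw [Multiset.count_cons_self, Nat.mul_succ, pow_add, mul_comm]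
      congr 1
      have key : ∀ (ψ : AdjoinRoot P →ₗ[F] AdjoinRoot P),
          (∀ a, ψ (AdjoinRoot.root P * a) = AdjoinRoot.root P * ψ a) → ∀ a, ψ a = a * ψ 1 := fun ψ h a => by
        obtain ⟨g, rfl⟩ := AdjoinRoot.mk_surjective a
        conv_lhs => rw [← mul_one (AdjoinRoot.mk P g), mk_mul_comm ψ h g 1]
      let G : {ψ : AdjoinRoot P →ₗ[F] AdjoinRoot P //
          ∀ a, ψ (AdjoinRoot.root P * a) = AdjoinRoot.root P * ψ a} ≃ AdjoinRoot P :=
        { toFun := fun ψ => ψ.1 1
          invFun := fun b => ⟨LinearMap.mulRight F b, fun a => by simp [mul_assoc]⟩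
          left_inv := fun ψ => Subtype.ext (LinearMap.ext fun a => (key ψ.1 ψ.2 a).symm)
          right_inv := fun b => by simp }
      rw [Nat.card_congr G, Module.natCard_eq_pow_finrank (K := F), (AdjoinRoot.powerBasis hP.ne_zero).finrank,
        AdjoinRoot.powerBasis_dim, Nat.card_eq_fintype_card]
    · rw [Multiset.count_cons_of_ne hPP]
      have hone : Nat.card {ψ : AdjoinRoot P' →ₗ[F] AdjoinRoot P //
          ∀ a, ψ (AdjoinRoot.root P' * a) = AdjoinRoot.root P * ψ a} = 1 := by
        rw [Nat.card_eq_one_iff_unique]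
        refine ⟨⟨fun ψ ψ' => ?_⟩, ⟨⟨0, fun a => by simp⟩⟩⟩
        have hz : ∀ χ : AdjoinRoot P' →ₗ[F] AdjoinRoot P,
            (∀ a, χ (AdjoinRoot.root P' * a) = AdjoinRoot.root P * χ a) → χ = 0 := fun χ h => by
          refine LinearMap.ext fun a => ?_
          obtain ⟨g, rfl⟩ := AdjoinRoot.mk_surjective a
          have h1 := mk_mul_comm χ h P' (AdjoinRoot.mk P' g)
          rw [AdjoinRoot.mk_self, zero_mul, map_zero, eq_comm, mul_eq_zero] at h1
          refine h1.resolve_left fun h2 => hPP ?_
          rw [AdjoinRoot.mk_eq_zero] at h2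
          exact eq_of_monic_of_associated hPm hPm' (hP.associated_of_dvd hP' h2)
        exact Subtype.ext ((hz _ ψ.2).trans (hz _ ψ'.2).symm)
      rw [hone, one_mul]

section Chains

variable {V : Type v} [AddCommGroup V] [Module F V] [FiniteDimensional F V] (T : Module.End F V)

/-- Invariance. -/
def Inv (U : Submodule F V) : Prop := ∀ x ∈ U, T x ∈ U

noncomputable instance : Fintype (Submodule F V) :=
  haveI : Finite V := Module.finite_of_finite F
  Fintype.ofFinite _

open Classical in
/-- The invariant subspaces strictly between `⊥` and `U`. -/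
noncomputable def below (U : Submodule F V) : Finset (Submodule F V) :=
  Finset.univ.filter fun x => Inv T x ∧ x ≠ ⊥ ∧ x < U

theorem mem_below {U x : Submodule F V} : x ∈ below T U ↔ Inv T x ∧ x ≠ ⊥ ∧ x < U := by
  simp [below]

open Classical in
/-- Chains of invariant subspaces strictly between `⊥` and `U`. -/
noncomputable def chains (U : Submodule F V) : Finset (Finset (Submodule F V)) :=
  (below T U).powerset.filter fun c => ∀ x ∈ c, ∀ y ∈ c, x ≤ y ∨ y ≤ x

theorem mem_chains {U : Submodule F V} {c : Finset (Submodule F V)} :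
    c ∈ chains T U ↔ (∀ x ∈ c, Inv T x ∧ x ≠ ⊥ ∧ x < U) ∧ ∀ x ∈ c, ∀ y ∈ c, x ≤ y ∨ y ≤ x := by
  simp [chains, Finset.subset_iff, mem_below]

open Classical in
/-- The Möbius value. -/
noncomputable def mob (U : Submodule F V) : ℤ :=
  if U = ⊥ then 1 else -∑ c ∈ chains T U, (-1) ^ c.card

open Classical in
theorem sum_chains (U : Submodule F V) :
    ∑ c ∈ chains T U, (-1 : ℤ) ^ c.card = 1 + ∑ x ∈ below T U, mob T x := by
  have he : ∅ ∈ chains T U := (mem_chains T).2 ⟨by simp, by simp⟩
  rw [← Finset.add_sum_erase _ _ he, Finset.card_empty, pow_zero]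
  congr 1
  have hR : ∑ x ∈ below T U, mob T x = ∑ x ∈ below T U, ∑ c ∈ chains T x, (-1 : ℤ) ^ (c.card + 1) := by
    refine Finset.sum_congr rfl fun x hx => ?_
    rw [mob, if_neg ((mem_below T).1 hx).2.1, ← Finset.sum_neg_distrib]
    exact Finset.sum_congr rfl fun c _ => by rw [pow_succ]; ring
  rw [hR, Finset.sum_sigma' (below T U) (fun x => chains T x) fun _ c => (-1 : ℤ) ^ (c.card + 1)]
  have hnot : ∀ {x : Submodule F V} {c : Finset (Submodule F V)}, c ∈ chains T x → x ∉ c := fun hc h =>
    lt_irrefl _ (((mem_chains T).1 hc).1 _ h).2.2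
  symm
  refine Finset.sum_bij (fun p _ => insert p.1 p.2) ?_ ?_ ?_ ?_
  · rintro ⟨x, c⟩ hp
    rw [Finset.mem_sigma] at hp
    obtain ⟨hx, hc⟩ := hp
    rw [mem_below] at hx
    have hc' := (mem_chains T).1 hc
    refine Finset.mem_erase.2 ⟨Finset.ne_empty_of_mem (Finset.mem_insert_self _ _), (mem_chains T).2 ⟨?_, ?_⟩⟩
    · intro y hy
      rcases Finset.mem_insert.1 hy with rfl | hy
      · exact hx
      · exact ⟨(hc'.1 y hy).1, (hc'.1 y hy).2.1, (hc'.1 y hy).2.2.trans hx.2.2⟩
    · intro y hy z hz
      rcases Finset.mem_insert.1 hy with rfl | hy' <;> rcases Finset.mem_insert.1 hz with rfl | hz'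
      · exact Or.inl le_rfl
      · exact Or.inr (hc'.1 z hz').2.2.le
      · exact Or.inl (hc'.1 y hy').2.2.le
      · exact hc'.2 y hy' z hz'
  · rintro ⟨x, c⟩ hp ⟨x', c'⟩ hp' heq
    rw [Finset.mem_sigma] at hp hp'
    obtain rfl : x = x' := by
      by_contra hne
      have h1 : x ∈ insert x' c' := heq ▸ Finset.mem_insert_self x c
      have h2 : x' ∈ insert x c := heq ▸ Finset.mem_insert_self x' c'
      have h1' := (Finset.mem_insert.1 h1).resolve_left hne
      have h2' := (Finset.mem_insert.1 h2).resolve_left (Ne.symm hne)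
      exact lt_asymm (((mem_chains T).1 hp'.2).1 x h1').2.2 (((mem_chains T).1 hp.2).1 x' h2').2.2
    have := congrArg (fun s => Finset.erase s x) heq
    simp only at this
    rw [Finset.erase_insert (hnot hp.2), Finset.erase_insert (hnot hp'.2)] at this
    subst this
    rfl
  · intro b hb
    rw [Finset.mem_erase] at hb
    obtain ⟨hb0, hb⟩ := hb
    have hb' := (mem_chains T).1 hb
    obtain ⟨x, hx⟩ := b.exists_maximal (Finset.nonempty_iff_ne_empty.2 hb0)
    have htop : ∀ y ∈ b, y ≤ x := fun y hy =>
      (hb'.2 y hy x hx.1).elim id fun h => hx.2 hy h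
    refine ⟨⟨x, b.erase x⟩, Finset.mem_sigma.2 ⟨(mem_below T).2 (hb'.1 x hx.1),
      (mem_chains T).2 ⟨fun y hy => ?_, fun y hy z hz => ?_⟩⟩, Finset.insert_erase hx.1⟩
    · exact ⟨(hb'.1 y (Finset.mem_of_mem_erase hy)).1, (hb'.1 y (Finset.mem_of_mem_erase hy)).2.1,
        lt_of_le_of_ne (htop y (Finset.mem_of_mem_erase hy)) (Finset.ne_of_mem_erase hy)⟩
    · exact hb'.2 y (Finset.mem_of_mem_erase hy) z (Finset.mem_of_mem_erase hz)
  · rintro ⟨x, c⟩ hp
    rw [Finset.mem_sigma] at hp
    show (-1 : ℤ) ^ (c.card + 1) = (-1) ^ (insert x c).card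
    rw [Finset.card_insert_of_notMem (hnot hp.2)]

open Classical in
theorem sum_mob {U : Submodule F V} (hU : Inv T U) (h0 : U ≠ ⊥) :
    ∑ x ∈ (Finset.univ.filter (Inv T)).filter (· ≤ U), mob T x = 0 := by
  have hsplit : (Finset.univ.filter (Inv T)).filter (· ≤ U) = insert ⊥ (insert U (below T U)) := by
    ext x
    simp only [Finset.mem_filter, Finset.mem_univ, true_and, Finset.mem_insert, mem_below]
    constructor
    · rintro ⟨h1, h2⟩
      by_cases hx0 : x = ⊥
      · exact Or.inl hx0
      rcases h2.lt_or_eq with h | h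
      exacts [Or.inr (Or.inr ⟨h1, hx0, h⟩), Or.inr (Or.inl h)]
    · rintro (rfl | rfl | h)
      · exact ⟨fun x hx => by rw [Submodule.mem_bot] at hx ⊢; rw [hx, map_zero], bot_le⟩
      · exact ⟨hU, le_rfl⟩
      · exact ⟨h.1, h.2.2.le⟩
  have hnU : U ∉ below T U := fun h => lt_irrefl _ ((mem_below T).1 h).2.2
  have hnb : (⊥ : Submodule F V) ∉ insert U (below T U) := by
    rw [Finset.mem_insert, mem_below]
    rintro (h | h)
    exacts [h0 h.symm, h.2.1 rfl]
  rw [hsplit, Finset.sum_insert hnb, Finset.sum_insert hnU,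
    show mob T U = -∑ c ∈ chains T U, (-1 : ℤ) ^ c.card from if_neg h0,
    show mob T ⊥ = 1 from if_pos rfl, sum_chains]
  ring

open Classical in
theorem mob_eq (hT : SS T) : ∀ (U : Submodule F V) (hU : Inv T U),
    mob T U = val (Fintype.card F) (T.restrict hU).charpoly := by
  intro U
  induction U using WellFoundedLT.induction with
  | _ U ih =>
  intro hU
  by_cases h0 : U = ⊥
  · subst h0
    rw [show mob T ⊥ = 1 from if_pos rfl, (T.restrict hU).charpoly_monic.natDegree_eq_zero.1
      (by rw [LinearMap.charpoly_natDegree, finrank_bot]), val_one]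
  have hne : Nontrivial U := Submodule.nontrivial_iff_ne_bot.2 h0
  obtain ⟨P, hPm, hP, hdvd⟩ := Polynomial.exists_monic_irreducible_factor (T.restrict hU).charpoly
    (fun hu => by
      have := natDegree_eq_zero_of_isUnit hu
      rw [LinearMap.charpoly_natDegree] at this
      exact (Module.finrank_pos (R := F) (M := U)).ne' this)
  obtain ⟨W, hW, e, he⟩ := exists_block (hT.restrict hU) hP hPm hdvd
  haveI : Fact (Irreducible P) := ⟨hP⟩
  haveI : Module.Finite F (AdjoinRoot P) := (AdjoinRoot.powerBasis hP.ne_zero).finite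
  let emb : AdjoinRoot P × W →ₗ[F] V := U.subtype.comp e.toLinearMap
  have hemb : Function.Injective emb := U.injective_subtype.comp e.injective
  have heT : ∀ x, T (emb x) = emb ((LinearMap.mulLeft F (AdjoinRoot.root P)).prodMap
      ((T.restrict hU).restrict hW) x) := fun x => congrArg Subtype.val (he x)
  have hrange : LinearMap.range emb = U := by
    show LinearMap.range (U.subtype.comp e.toLinearMap) = U
    rw [LinearMap.range_comp, LinearEquiv.range, Submodule.map_top, Submodule.range_subtype]
  set A := LinearMap.range (emb.comp (LinearMap.inl F _ _)) with hA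
  have hAU : A ≤ U := (LinearMap.range_comp_le_range _ emb).trans hrange.le
  have hAinv : Inv T A := by
    rintro _ ⟨a, rfl⟩
    refine ⟨AdjoinRoot.root P * a, ?_⟩
    show emb (_, 0) = T (emb (a, 0))
    rw [heT]; simp
  have hA0 : A ≠ ⊥ := fun h => by
    have h1 : emb (1, 0) ∈ A := ⟨1, rfl⟩
    rw [h, Submodule.mem_bot] at h1
    exact one_ne_zero (congrArg Prod.fst (hemb (h1.trans (map_zero emb).symm)))
  -- an invariant subspace meets the block trivially or contains it
  have hatom : ∀ x, Inv T x → ¬ A ≤ x → ∀ a, emb (a, 0) ∈ x → a = 0 := by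
    intro x hx hAx a ha
    by_contra ha0
    apply hAx
    have hall : ∀ g : F[X], emb (AdjoinRoot.mk P g * a, 0) ∈ x := by
      intro g
      induction g using Polynomial.induction_on' with
      | add g g' h h' =>
        rw [map_add, add_mul, show ((AdjoinRoot.mk P g * a + AdjoinRoot.mk P g' * a, 0) : AdjoinRoot P × W) =
          (AdjoinRoot.mk P g * a, 0) + (AdjoinRoot.mk P g' * a, 0) by simp, map_add]
        exact x.add_mem h h'
      | monomial k r =>
        induction k with
        | zero =>
          rw [Polynomial.monomial_zero_left, AdjoinRoot.mk_C, ← AdjoinRoot.algebraMap_eq, ← Algebra.smul_def,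
            show ((r • a, 0) : AdjoinRoot P × W) = r • (a, 0) by simp, map_smul]
          exact x.smul_mem r ha
        | succ k ihk =>
          have h := hx _ ihk
          rw [heT] at h
          rw [show Polynomial.monomial (k + 1) r = X * Polynomial.monomial k r by
            rw [Polynomial.X_mul_monomial], map_mul, AdjoinRoot.mk_X, mul_assoc]
          simpa using h
    rintro _ ⟨b, rfl⟩
    obtain ⟨g, hg⟩ := AdjoinRoot.mk_surjective (b * a⁻¹)
    have := hall g
    rwa [hg, inv_mul_cancel_right₀ ha0] at this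
  -- the complements are the graphs
  let Hom := {ψ : W →ₗ[F] AdjoinRoot P // ∀ w, ψ ((T.restrict hU).restrict hW w) = AdjoinRoot.root P * ψ w}
  let gr : Hom → (W →ₗ[F] V) := fun ψ => emb.comp (LinearMap.prod ψ.1 LinearMap.id)
  have hgrT : ∀ ψ w, T (gr ψ w) = gr ψ ((T.restrict hU).restrict hW w) := fun ψ w => by
    show T (emb (ψ.1 w, w)) = emb (ψ.1 _, _)
    rw [heT, ψ.2]; rfl
  have hgr_inj : ∀ ψ, Function.Injective (gr ψ) := fun ψ w w' h => congrArg Prod.snd (hemb h)
  let C : Finset (Submodule F V) := (Finset.univ.filter (Inv T)).filter fun x => x ⊔ A = U ∧ x ≠ U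
  have hCmem : ∀ x, x ∈ C ↔ ∃ ψ, LinearMap.range (gr ψ) = x := by
    intro x
    simp only [C, Finset.mem_filter, Finset.mem_univ, true_and]
    constructor
    · rintro ⟨hx, hsup, hxU⟩
      have hAx : ¬ A ≤ x := fun h => hxU (by rw [← hsup, sup_eq_left.2 h])
      have hxle : x ≤ U := hsup ▸ le_sup_left
      -- the projection to the second factor is bijective on `x`
      let Z : Submodule F (AdjoinRoot P × W) := x.comap emb
      have hsnd : ∀ w, ∃ a, emb (a, w) ∈ x := fun w => by
        have h : emb (0, w) ∈ x ⊔ A := by rw [hsup]; exact hrange.le ⟨_, rfl⟩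
        obtain ⟨y, hy, _, ⟨a, rfl⟩, hya⟩ := Submodule.mem_sup.1 h
        refine ⟨-a, ?_⟩
        have : emb (-a, w) = y := by
          rw [show ((-a, w) : AdjoinRoot P × W) = (0, w) - (a, 0) by simp, map_sub, ← hya]
          simp
        rwa [this]
      choose ψ hψ using hsnd
      have huniq : ∀ a w, emb (a, w) ∈ x → a = ψ w := fun a w ha => by
        refine sub_eq_zero.1 (hatom x hx hAx _ ?_)
        have := x.sub_mem ha (hψ w)
        rw [← map_sub] at this
        simpa using this
      refine ⟨⟨⟨⟨ψ, fun w w' => (huniq _ _ ?_).symm⟩, fun r w => (huniq _ _ ?_).symm⟩, fun w => (huniq _ _ ?_).symm⟩, ?_⟩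
      · rw [show ((ψ w + ψ w', w + w') : AdjoinRoot P × W) = (ψ w, w) + (ψ w', w') from rfl, map_add]
        exact x.add_mem (hψ w) (hψ w')
      · show emb (r • ψ w, r • w) ∈ x
        rw [show ((r • ψ w, r • w) : AdjoinRoot P × W) = r • (ψ w, w) from rfl, map_smul]
        exact x.smul_mem r (hψ w)
      · have h := hx _ (hψ w)
        rwa [heT] at h
      · refine le_antisymm ?_ fun y hy => ?_
        · rintro _ ⟨w, rfl⟩; exact hψ w
        · obtain ⟨⟨a, w⟩, rfl⟩ : y ∈ LinearMap.range emb := hrange.ge (hxle hy)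
          exact ⟨w, show emb (ψ w, w) = emb (a, w) by rw [huniq a w hy]⟩
    · rintro ⟨ψ, rfl⟩
      refine ⟨?_, ?_, ?_⟩
      · rintro _ ⟨w, rfl⟩; exact ⟨_, (hgrT ψ w).symm⟩
      · refine le_antisymm (sup_le ((LinearMap.range_comp_le_range _ emb).trans hrange.le) hAU) fun y hy => ?_
        obtain ⟨⟨a, w⟩, rfl⟩ : y ∈ LinearMap.range emb := hrange.ge hy
        rw [show ((a, w) : AdjoinRoot P × W) = (ψ.1 w, w) + (a - ψ.1 w, 0) by simp, map_add]
        exact Submodule.add_mem_sup ⟨w, rfl⟩ ⟨a - ψ.1 w, rfl⟩
      · intro h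
        have h1 : emb (1, 0) ∈ LinearMap.range (gr ψ) := by rw [h]; exact hAU ⟨1, rfl⟩
        obtain ⟨w, hw⟩ := h1
        have h2 := hemb (show emb (ψ.1 w, w) = emb (1, 0) from hw)
        simp only [Prod.mk.injEq] at h2
        rw [h2.2, map_zero] at h2
        exact zero_ne_one h2.1
  have hinj : Function.Injective fun ψ : Hom => LinearMap.range (gr ψ) := fun ψ ψ' h => by
    refine Subtype.ext (LinearMap.ext fun w => ?_)
    obtain ⟨w', hw'⟩ : gr ψ w ∈ LinearMap.range (gr ψ') := h.le (LinearMap.mem_range_self _ w)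
    have h2 := hemb (show emb (ψ'.1 w', w') = emb (ψ.1 w, w) from hw')
    simp only [Prod.mk.injEq] at h2
    rw [← h2.1, h2.2]
  haveI : Finite Hom := Finite.of_injective _ hinj
  have hCcard : C.card = Nat.card Hom := by
    letI := Fintype.ofFinite Hom
    rw [Nat.card_eq_fintype_card, ← Finset.card_univ, ← Finset.card_image_of_injective _ hinj]
    congr 1
    ext x
    rw [hCmem, Finset.mem_image]
    simp
  have hcp := charpoly_block hP hPm e he
  have hterm : ∀ x ∈ C, mob T x = val (Fintype.card F) ((T.restrict hU).restrict hW).charpoly := by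
    intro x hx
    have hx' := hx
    simp only [C, Finset.mem_filter, Finset.mem_univ, true_and] at hx'
    obtain ⟨ψ, rfl⟩ := (hCmem x).1 hx
    rw [ih _ (lt_of_le_of_ne (le_sup_left.trans hx'.2.1.le) hx'.2.2) hx'.1,
      ← (LinearEquiv.ofInjective (gr ψ) (hgr_inj ψ)).charpoly_conj ((T.restrict hU).restrict hW)]
    congr 2
    refine LinearMap.ext fun y => ?_
    obtain ⟨w, rfl⟩ := (LinearEquiv.ofInjective (gr ψ) (hgr_inj ψ)).surjective y
    rw [LinearEquiv.conj_apply_apply, LinearEquiv.symm_apply_apply]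
    exact Subtype.ext (hgrT ψ w)
  have hW' := weisner (Finset.univ.filter (Inv T)) (mob T) (fun x hx y hy => by
      rw [Finset.mem_filter] at hx hy ⊢
      refine ⟨Finset.mem_univ _, fun z hz => ?_⟩
      obtain ⟨a, ha, b, hb, rfl⟩ := Submodule.mem_sup.1 hz
      rw [map_add]
      exact Submodule.add_mem_sup (hx.2 a ha) (hy.2 b hb))
    (fun y hy h => sum_mob T (Finset.mem_filter.1 hy).2 h)
    (Finset.mem_filter.2 ⟨Finset.mem_univ _, hAinv⟩) hA0 U (Finset.mem_filter.2 ⟨Finset.mem_univ _, hU⟩) hAU
  rw [show (Finset.univ.filter (Inv T)).filter (fun x => x ⊔ A = U) = insert U C by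
    ext x
    simp only [C, Finset.mem_filter, Finset.mem_univ, true_and, Finset.mem_insert]
    constructor
    · rintro ⟨h1, h2⟩
      exact or_iff_not_imp_left.2 fun h3 => ⟨h1, h2, h3⟩
    · rintro (rfl | ⟨h1, h2, -⟩)
      exacts [⟨hU, sup_eq_left.2 hAU⟩, ⟨h1, h2⟩], Finset.sum_insert (by simp [C]),
    Finset.sum_congr rfl hterm, Finset.sum_const, hCcard,
    card_hom hP hPm _ _ rfl ((hT.restrict hU).restrict hW)] at hW'
  rw [hcp, val_mul _ hP hPm ((T.restrict hU).restrict hW).charpoly_monic.ne_zero]
  rw [nsmul_eq_mul, Nat.cast_pow] at hW'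
  linarith

end Chains

end CfsgLib.KnownC.StValue
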