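import Cfsg.Prelude.Def_LinearParabolics
import Cfsg.Agent.Lib.KnownC.StValueLattice
import Cfsg.Agent.Lib.KnownC.StValueCuts
import Cfsg.Agent.Lib.KnownC.StGL
import Cfsg.Agent.Lib.KnownB.FlagCount
import Cfsg.Agent.Lib.KnownB.SSMatrix

/-!
The values of the Steinberg character of `GL_n(q)` at elements of order prime to the characteristic.
-/

set_option autoImplicit false
set_option linter.unusedSectionVars false

namespace CfsgLib.KnownC.StValue

open Module Finset Matrix
open scoped MatrixGroups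

variable {F : Type*} [Field F] [Fintype F] {n : ℕ}

local notation "Vn" => Fin n → F

/-- The coordinate subspaces. -/
def std (s : ℕ) : Submodule F (Fin n → F) :=
  Steinberg.GLCase.coordS (1 : Equiv.Perm (Fin n)) s

theorem finrank_std {s : ℕ} (hs : s ≤ n) : finrank F (std (F := F) (n := n) s) = s :=
  Steinberg.GLCase.finrank_coordS _ hs

theorem mem_std {s : ℕ} {x : Fin n → F} : x ∈ std s ↔ ∀ k : Fin n, s ≤ k.val → x k = 0 := Iff.rfl

/-- Multiplication by an invertible matrix. -/
noncomputable def act (g : GL (Fin n) F) (U : Submodule F (Fin n → F)) : Submodule F (Fin n → F) :=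
  U.map (Matrix.mulVecLin (g : Matrix (Fin n) (Fin n) F))

theorem act_mul (g h : GL (Fin n) F) (U : Submodule F (Fin n → F)) : act (g * h) U = act g (act h U) := by
  rw [act, act, act, ← Submodule.map_comp, ← Matrix.mulVecLin_mul, Units.val_mul]

theorem act_one (U : Submodule F (Fin n → F)) : act (1 : GL (Fin n) F) U = U := by
  rw [act, Units.val_one, Matrix.mulVecLin_one, Submodule.map_id]

theorem finrank_act (g : GL (Fin n) F) (U : Submodule F (Fin n → F)) : finrank F (act g U) = finrank F U :=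
  (U.equivMapOfInjective _ (Matrix.mulVec_injective_iff_isUnit.2 g.isUnit)).finrank_eq.symm

theorem psum_succ (κ : Equiv.Perm (Fin n)) (j : Fin n) :
    ∑ k ∈ univ.filter (fun k : Fin n => k ≤ j), part κ k = psum κ (j.val + 1) := by
  rw [Finset.sum_filter, psum]
  exact Finset.sum_congr rfl fun k _ => if_congr (by rw [Fin.le_def]; omega) rfl rfl

theorem label_lt_iff (κ : Equiv.Perm (Fin n)) (i k : Fin n) :
    Cfsg.compLabel (part κ) k < Cfsg.compLabel (part κ) i ↔ ∃ s ∈ cuts κ, k.val < s ∧ s ≤ i.val := by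
  simp only [Cfsg.compLabel, psum_succ]
  constructor
  · intro h
    by_contra hno
    refine h.not_ge (Finset.card_le_card fun j hj => ?_)
    simp only [Finset.mem_filter, Finset.mem_univ, true_and] at hj ⊢
    by_contra hk
    refine hno ⟨psum κ (j.val + 1), ?_, by omega, hj⟩
    simp only [cuts, Finset.mem_filter, Finset.mem_Ioo]
    exact ⟨⟨by omega, by omega⟩, j.val + 1, by omega, rfl⟩
  · rintro ⟨s, hs, hks, hsi⟩
    simp only [cuts, Finset.mem_filter, Finset.mem_Ioo] at hs
    obtain ⟨⟨h1, h2⟩, j, hj, hjs⟩ := hs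
    obtain ⟨l, rfl⟩ : ∃ l, j = l + 1 := ⟨j - 1, by
      rcases Nat.eq_zero_or_pos j with rfl | hj0
      · simp [psum] at hjs; omega
      · omega⟩
    refine Finset.card_lt_card ⟨fun x hx => ?_, fun hsub => ?_⟩
    · simp only [Finset.mem_filter, Finset.mem_univ, true_and] at hx ⊢
      omega
    · have := hsub (Finset.mem_filter.2 ⟨Finset.mem_univ (⟨l, hj⟩ : Fin n), by simp only; omega⟩)
      simp only [Finset.mem_filter, Finset.mem_univ, true_and] at this
      omega

theorem mem_parabolic_iff (κ : Equiv.Perm (Fin n)) (g : GL (Fin n) F) :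
    g ∈ Cfsg.parabolicGL n F (part κ) ↔ ∀ s ∈ cuts κ, act g (std s) = std s := by
  show (g : Matrix (Fin n) (Fin n) F).BlockTriangular _ ↔ _
  have key : ∀ s, act g (std (F := F) (n := n) s) ≤ std s ↔
      ∀ i k : Fin n, s ≤ i.val → k.val < s → (g : Matrix (Fin n) (Fin n) F) i k = 0 := by
    intro s
    constructor
    · intro h i k hi hk
      have hm : Pi.single k (1 : F) ∈ std (F := F) (n := n) s := fun l hl =>
        Pi.single_eq_of_ne (Fin.ne_of_val_ne (by simp only [Equiv.Perm.one_apply]; omega)) _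
      have := h ⟨_, hm, rfl⟩ i hi
      rwa [Equiv.Perm.one_apply, Matrix.mulVecLin_apply, Steinberg.GLCase.uni_mulVec_single] at this
    · intro h
      rintro _ ⟨x, hx, rfl⟩ i hi
      show ∑ k, (g : Matrix (Fin n) (Fin n) F) i k * x k = 0
      refine Finset.sum_eq_zero fun k _ => ?_
      rcases Nat.lt_or_ge k.val s with hk | hk
      · rw [h i k hi hk, zero_mul]
      · rw [mem_std.1 hx k hk, mul_zero]
  constructor
  · intro hg s hs
    refine Submodule.eq_of_le_of_finrank_le ((key s).2 fun i k hi hk => hg ((label_lt_iff κ i k).2 ⟨s, hs, hk, hi⟩))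
      (by rw [finrank_act])
  · intro h i k hik
    obtain ⟨s, hs, hks, hsi⟩ := (label_lt_iff κ i k).1 hik
    exact (key s).1 (h s hs).le i k hsi hks

theorem exists_act (S : Finset ℕ) (W : S → Submodule F (Fin n → F)) (hd : ∀ s, finrank F (W s) = (s : ℕ))
    (hm : ∀ s t : S, (s : ℕ) ≤ t → W s ≤ W t) :
    ∃ g : GL (Fin n) F, ∀ s : S, act g (std (s : ℕ)) = W s := by
  classical
  let D : Fin n → Finset ℕ := fun j => S.filter (j.val < ·)
  let V : Fin n → Submodule F (Fin n → F) := fun j => if h : (D j).Nonempty then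
    W ⟨(D j).min' h, (Finset.mem_filter.1 ((D j).min'_mem h)).1⟩ else ⊤
  let d : Fin n → ℕ := fun j => if h : (D j).Nonempty then (D j).min' h else n
  have hV : Monotone V := fun i j hij => by
    simp only [V]
    by_cases hj : (D j).Nonempty
    · have hi : (D i).Nonempty := hj.mono (fun s hs => by
        simp only [D, Finset.mem_filter] at hs ⊢; exact ⟨hs.1, lt_of_le_of_lt (Fin.le_def.1 hij) hs.2⟩)
      rw [dif_pos hi, dif_pos hj]
      refine hm _ _ ((D i).min'_le _ ?_)
      have := (D j).min'_mem hj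
      simp only [D, Finset.mem_filter] at this ⊢
      exact ⟨this.1, lt_of_le_of_lt (Fin.le_def.1 hij) this.2⟩
    · rw [dif_neg hj]; exact le_top
  have hcard : ∀ j, Nat.card (V j) = Fintype.card F ^ d j := fun j => by
    simp only [V, d]
    split_ifs with h
    · rw [Module.natCard_eq_pow_finrank (K := F), hd, Nat.card_eq_fintype_card]
    · rw [Module.natCard_eq_pow_finrank (K := F), finrank_top, Module.finrank_fin_fun, Nat.card_eq_fintype_card]
  have hlt : ∀ j : Fin n, j.val < d j := fun j => by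
    simp only [d]
    split_ifs with h
    · exact (Finset.mem_filter.1 ((D j).min'_mem h)).2
    · exact j.2
  have hpos : 0 < Nat.card {s : Fin n → Fin n → F // LinearIndependent F s ∧ ∀ j, s j ∈ V j} := by
    rw [CfsgLib.KnownB.Flag.natCard_indep_in n V hV d hcard]
    exact Finset.prod_pos fun j _ => Nat.sub_pos_of_lt (Nat.pow_lt_pow_right Fintype.one_lt_card (hlt j))
  obtain ⟨⟨v, hli, hv⟩⟩ := (Nat.card_pos_iff.1 hpos).1
  let A : Matrix (Fin n) (Fin n) F := Matrix.of fun a b => v b a
  obtain ⟨g, hg⟩ : IsUnit A := Matrix.linearIndependent_cols_iff_isUnit.1 hli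
  refine ⟨g, fun s => ?_⟩
  have hs : (s : ℕ) ≤ n := by
    have := Submodule.finrank_le (W s)
    rwa [hd, Module.finrank_fin_fun] at this
  refine Submodule.eq_of_le_of_finrank_le ?_ (by rw [hd, finrank_act, finrank_std hs])
  rintro _ ⟨x, hx, rfl⟩
  rw [Matrix.mulVecLin_apply, hg, pi_eq_sum_univ' x, Matrix.mulVec_sum]
  refine Submodule.sum_mem _ fun b _ => ?_
  rw [Matrix.mulVec_smul]
  rcases Nat.lt_or_ge b.val (s : ℕ) with hb | hb
  · refine Submodule.smul_mem _ _ ?_
    rw [show A *ᵥ Pi.single b 1 = v b from funext fun a => Steinberg.GLCase.uni_mulVec_single b a]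
    have hne : (D b).Nonempty := ⟨s, Finset.mem_filter.2 ⟨s.2, hb⟩⟩
    have hvb := hv b
    simp only [V] at hvb
    rw [dif_pos hne] at hvb
    exact hm _ s ((D b).min'_le _ (Finset.mem_filter.2 ⟨s.2, hb⟩)) hvb
  · rw [mem_std.1 hx b hb, zero_smul]
    exact Submodule.zero_mem _

/-- Invariant flags of a given type. -/
abbrev Flags (x : GL (Fin n) F) (S : Finset ℕ) : Type _ :=
  {W : S → Submodule F (Fin n → F) // (∀ s, finrank F (W s) = (s : ℕ)) ∧
    (∀ s t : S, (s : ℕ) ≤ t → W s ≤ W t) ∧ ∀ s, act x (W s) = W s}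

theorem fixedPointCharacter_eq (κ : Equiv.Perm (Fin n)) (x : GL (Fin n) F) :
    Cfsg.fixedPointCharacter (Cfsg.parabolicGL n F (part κ)) x = (Nat.card (Flags x (cuts κ)) : ℂ) := by
  set P := Cfsg.parabolicGL n F (part κ)
  have hle : ∀ s ∈ cuts κ, s ≤ n := fun s hs => by
    simp only [cuts, Finset.mem_filter, Finset.mem_Ioo] at hs; omega
  let f : GL (Fin n) F ⧸ P → (cuts κ → Submodule F (Fin n → F)) :=
    Quotient.lift (fun g => fun s : cuts κ => act g (std (s : ℕ))) fun g h hgh => by
      funext s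
      have hgh' : g⁻¹ * h ∈ P := QuotientGroup.leftRel_apply.1 hgh
      rw [mem_parabolic_iff] at hgh'
      calc act g (std (s : ℕ)) = act g (act (g⁻¹ * h) (std (s : ℕ))) := by rw [hgh' s.1 s.2]
        _ = act h (std (s : ℕ)) := by rw [← act_mul, mul_inv_cancel_left]
  have hf : ∀ g : GL (Fin n) F, f (QuotientGroup.mk g) = fun s : cuts κ => act g (std (s : ℕ)) := fun g => rfl
  have hinj : Function.Injective f := by
    intro a b hab
    induction a using QuotientGroup.induction_on with | H g => ?_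
    induction b using QuotientGroup.induction_on with | H h => ?_
    rw [hf, hf] at hab
    rw [QuotientGroup.eq, mem_parabolic_iff]
    intro s hs
    have := congrFun hab ⟨s, hs⟩
    simp only at this
    rw [act_mul, ← this, ← act_mul, inv_mul_cancel, act_one]
  have hfix : ∀ a, a ∈ MulAction.fixedBy (GL (Fin n) F ⧸ P) x ↔ ∀ s, act x (f a s) = f a s := by
    intro a
    induction a using QuotientGroup.induction_on with | H g => ?_
    have hx : x • (QuotientGroup.mk g : GL (Fin n) F ⧸ P) = QuotientGroup.mk (x * g) := rfl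
    rw [MulAction.mem_fixedBy, ← hinj.eq_iff, hx, hf, hf]
    simp only [funext_iff, act_mul]
  rw [Cfsg.fixedPointCharacter, Nat.cast_inj]
  refine Nat.card_congr (Equiv.ofBijective (fun a => (⟨f a.1, ?_, ?_, (hfix a.1).1 a.2⟩ : Flags x (cuts κ))) ⟨?_, ?_⟩)
  · obtain ⟨g, hg⟩ := QuotientGroup.mk_surjective a.1
    rw [← hg, hf]
    exact fun s => (finrank_act g _).trans (finrank_std (hle s.1 s.2))
  · obtain ⟨g, hg⟩ := QuotientGroup.mk_surjective a.1
    rw [← hg, hf]
    exact fun s t h => Submodule.map_mono (Steinberg.GLCase.coordS_mono _ h)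
  · exact fun a b h => Subtype.ext (hinj (congrArg Subtype.val h))
  · rintro ⟨W, hd, hm, hx⟩
    obtain ⟨g, hg⟩ := exists_act (cuts κ) W hd hm
    refine ⟨⟨QuotientGroup.mk g, (hfix _).2 fun s => ?_⟩, Subtype.ext (funext hg)⟩
    rw [hf]
    simp only [hg s, hx s]

theorem act_eq_iff (x : GL (Fin n) F) (U : Submodule F (Fin n → F)) :
    act x U = U ↔ Inv (Matrix.mulVecLin (x : Matrix (Fin n) (Fin n) F)) U := by
  refine ⟨fun h y hy => h.le ⟨y, hy, rfl⟩, fun h => ?_⟩
  refine Submodule.eq_of_le_of_finrank_le ?_ (finrank_act x U).ge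
  rintro _ ⟨y, hy, rfl⟩
  exact h y hy

open _root_.Classical in
theorem sum_flags (x : GL (Fin (n + 1)) F) :
    ∑ S ∈ (Finset.Ioo 0 (n + 1)).powerset, (-1 : ℤ) ^ S.card * (Nat.card (Flags x S) : ℤ) =
      ∑ c ∈ chains (Matrix.mulVecLin (x : Matrix (Fin (n + 1)) (Fin (n + 1)) F)) ⊤, (-1 : ℤ) ^ c.card := by
  set T := Matrix.mulVecLin (x : Matrix (Fin (n + 1)) (Fin (n + 1)) F)
  let dims : Finset (Submodule F (Fin (n + 1) → F)) → Finset ℕ :=
    fun c => c.image fun U : Submodule F (Fin (n + 1) → F) => finrank F ↥U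
  have heqdim : ∀ c ∈ chains T ⊤, ∀ U ∈ c, ∀ U' ∈ c, finrank F U = finrank F U' → U = U' := by
    intro c hc U hU U' hU' h
    rcases ((mem_chains T).1 hc).2 U hU U' hU' with h' | h'
    · exact Submodule.eq_of_le_of_finrank_le h' h.ge
    · exact (Submodule.eq_of_le_of_finrank_le h' h.le).symm
  have hmap : ∀ c ∈ chains T ⊤, dims c ∈ (Finset.Ioo 0 (n + 1)).powerset := by
    intro c hc
    rw [Finset.mem_powerset]
    intro s hs
    simp only [dims] at hs
    obtain ⟨U, hU, rfl⟩ := Finset.mem_image.1 hs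
    obtain ⟨-, hb, htop⟩ := ((mem_chains T).1 hc).1 U hU
    rw [Finset.mem_Ioo]
    refine ⟨Nat.pos_of_ne_zero fun h => hb (Submodule.finrank_eq_zero.1 h), ?_⟩
    have := Submodule.finrank_lt htop.ne
    rwa [Module.finrank_fin_fun] at this
  rw [← Finset.sum_fiberwise_of_maps_to hmap]
  refine Finset.sum_congr rfl fun S hS => ?_
  have hcard : ∀ c ∈ (chains T ⊤).filter (fun c => dims c = S), (-1 : ℤ) ^ c.card = (-1) ^ S.card := by
    intro c hc
    rw [Finset.mem_filter] at hc
    rw [← hc.2, Finset.card_image_of_injOn fun U hU U' hU' h => heqdim c hc.1 U hU U' hU' h]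
  rw [Finset.sum_congr rfl hcard, Finset.sum_const, nsmul_eq_mul, mul_comm]
  congr 2
  rw [← Fintype.card_coe, ← Nat.card_eq_fintype_card]
  have hS' : ∀ s ∈ S, 0 < s ∧ s < n + 1 := fun s hs => Finset.mem_Ioo.1 (Finset.mem_powerset.1 hS hs)
  refine Nat.card_congr (Equiv.ofBijective (fun W => ⟨Finset.univ.image W.1, ?_⟩) ⟨?_, ?_⟩)
  · obtain ⟨hd, hm, hx⟩ := W.2
    refine Finset.mem_filter.2 ⟨(mem_chains T).2 ⟨?_, ?_⟩, ?_⟩
    · intro U hU
      obtain ⟨s, -, rfl⟩ := Finset.mem_image.1 hU
      refine ⟨(act_eq_iff x _).1 (hx s), fun h => ?_, lt_top_iff_ne_top.2 fun h => ?_⟩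
      · have := hd s
        rw [h, finrank_bot] at this
        have := (hS' s s.2).1
        omega
      · have := hd s
        rw [h, finrank_top, Module.finrank_fin_fun] at this
        have := (hS' s s.2).2
        omega
    · intro U hU U' hU'
      obtain ⟨s, -, rfl⟩ := Finset.mem_image.1 hU
      obtain ⟨t, -, rfl⟩ := Finset.mem_image.1 hU'
      exact (le_total (s : ℕ) t).imp (hm s t) (hm t s)
    · ext a
      simp only [dims, Finset.mem_image, Finset.mem_univ, true_and]
      constructor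
      · rintro ⟨_, ⟨s, rfl⟩, rfl⟩; rw [hd]; exact s.2
      · intro ha; exact ⟨_, ⟨⟨a, ha⟩, rfl⟩, hd _⟩
  · intro W W' h
    refine Subtype.ext (funext fun s => ?_)
    have he : Finset.univ.image W.1 = Finset.univ.image W'.1 := congrArg Subtype.val h
    have h1 : W.1 s ∈ Finset.univ.image W'.1 := by
      rw [← he]; exact Finset.mem_image_of_mem _ (Finset.mem_univ s)
    obtain ⟨t, -, ht⟩ := Finset.mem_image.1 h1
    have := congrArg (fun U : Submodule F (Fin (n + 1) → F) => finrank F U) ht
    simp only [W.2.1, W'.2.1] at this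
    rw [← ht, Subtype.ext this]
  · rintro ⟨c, hc⟩
    have hc' := Finset.mem_filter.1 hc
    have hex : ∀ s : S, ∃ U ∈ c, finrank F U = (s : ℕ) := fun s => by
      have h := s.2
      conv at h => arg 1; rw [← hc'.2]
      exact Finset.mem_image.1 h
    choose W hW1 hW2 using hex
    refine ⟨⟨W, hW2, fun s t hst => ?_, fun s => (act_eq_iff x _).2 ((((mem_chains T).1 hc'.1).1 _ (hW1 s)).1)⟩,
      Subtype.ext ?_⟩
    · rcases ((mem_chains T).1 hc'.1).2 _ (hW1 s) _ (hW1 t) with h | h
      · exact h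
      · exact (Submodule.eq_of_le_of_finrank_le h (by rw [hW2, hW2]; exact hst)).ge
    · show Finset.univ.image W = c
      ext U
      simp only [Finset.mem_image, Finset.mem_univ, true_and]
      constructor
      · rintro ⟨s, rfl⟩; exact hW1 s
      · intro hU
        have hmem : finrank F U ∈ S := hc'.2 ▸ Finset.mem_image_of_mem _ hU
        exact ⟨⟨_, hmem⟩, heqdim c hc'.1 _ (hW1 _) U hU (hW2 _)⟩

open _root_.Classical in
theorem steinberg_value [dF : DecidableEq F] {q : ℕ} (hq : Fintype.card F = q) (p : ℕ) [Fact p.Prime] [CharP F p]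
    {n : ℕ} (x : GL (Fin n) F) (hx : (orderOf x).Coprime p) :
    Cfsg.unipotentCharacterGL n F (fun _ => 1) x =
      ∏ f ∈ (UniqueFactorizationMonoid.normalizedFactors (x : Matrix (Fin n) (Fin n) F).charpoly).toFinset,
        (-1 : ℂ) ^ ((f.natDegree - 1) * (UniqueFactorizationMonoid.normalizedFactors (x : Matrix (Fin n) (Fin n) F).charpoly).count f) *
          (q : ℂ) ^ (f.natDegree * (UniqueFactorizationMonoid.normalizedFactors (x : Matrix (Fin n) (Fin n) F).charpoly).count f *
            ((UniqueFactorizationMonoid.normalizedFactors (x : Matrix (Fin n) (Fin n) F).charpoly).count f - 1) / 2) := by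
  subst hq
  obtain rfl : dF = _root_.Classical.decEq F := Subsingleton.elim _ _
  set N := UniqueFactorizationMonoid.normalizedFactors (x : Matrix (Fin n) (Fin n) F).charpoly with hN
  rcases Nat.eq_zero_or_pos n with rfl | hpos
  · have hN0 : N = 0 := by
      rw [hN, Matrix.charpoly, Matrix.det_isEmpty, UniqueFactorizationMonoid.normalizedFactors_one]
    rw [hN0]
    simp only [Multiset.toFinset_zero, Finset.prod_empty]
    rw [Cfsg.unipotentCharacterGL, Fintype.sum_unique, if_pos (fun i => i.elim0)]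
    haveI : Subsingleton (GL (Fin 0) F) := inferInstance
    have h1 : x = 1 := Subsingleton.elim _ _
    subst h1
    rw [Cfsg.fixedPointCharacter]
    simp only [Subsingleton.elim (default : Equiv.Perm (Fin 0)) 1, Equiv.Perm.sign_one, Units.val_one, Int.cast_one, one_mul]
    norm_cast
    rw [Nat.card_eq_one_iff_unique]
    exact ⟨⟨fun a b => Subtype.ext (Subsingleton.elim _ _)⟩, ⟨⟨QuotientGroup.mk 1, one_smul _ _⟩⟩⟩
  obtain ⟨m, rfl⟩ : ∃ m, n = m + 1 := ⟨n - 1, by omega⟩
  set T := Matrix.mulVecLin (x : Matrix (Fin (m + 1)) (Fin (m + 1)) F) with hTdef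
  have hT : CfsgLib.KnownB.SSClass.SS T := (CfsgLib.KnownB.SSClass.ss_iff_coprime p x).2 hx
  have h1 : Cfsg.unipotentCharacterGL (m + 1) F (fun _ => 1) x =
      ∑ κ ∈ (univ : Finset (Equiv.Perm (Fin (m + 1)))).filter Hess,
        ((Equiv.Perm.sign κ : ℤ) : ℂ) * (Nat.card (Flags x (cuts κ)) : ℂ) := by
    rw [Cfsg.unipotentCharacterGL, Finset.sum_filter]
    refine Finset.sum_congr rfl fun κ _ => ?_
    rw [← fixedPointCharacter_eq]
    exact if_congr Iff.rfl rfl rfl
  have h2 : Cfsg.unipotentCharacterGL (m + 1) F (fun _ => 1) x = (((-1) ^ (m + 1) * mob T ⊤ : ℤ) : ℂ) := by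
    rw [h1, sum_hess m fun S => (Nat.card (Flags x S) : ℂ)]
    rw [mob, if_neg top_ne_bot, ← sum_flags]
    push_cast
    rw [mul_neg, Finset.mul_sum, ← Finset.sum_neg_distrib]
    exact Finset.sum_congr rfl fun S _ => by ring
  have hUtop : Inv T ⊤ := fun y _ => Submodule.mem_top
  have hcp : (T.restrict hUtop).charpoly = (x : Matrix (Fin (m + 1)) (Fin (m + 1)) F).charpoly := by
    rw [← CfsgLib.KnownB.SSClass.charpoly_toLin, ← (Submodule.topEquiv : (⊤ : Submodule F _) ≃ₗ[F] _).charpoly_conj
      (T.restrict hUtop)]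
    congr 1
  rw [h2, mob_eq T hT ⊤ hUtop, hcp, val, ← hN]
  push_cast
  have hdeg : m + 1 = ∑ f ∈ N.toFinset, N.count f * f.natDegree := by
    have hne : (x : Matrix (Fin (m + 1)) (Fin (m + 1)) F).charpoly ≠ 0 := (Matrix.charpoly_monic _).ne_zero
    have hassoc := UniqueFactorizationMonoid.prod_normalizedFactors hne
    have h0 : (0 : Polynomial F) ∉ N := fun h =>
      (UniqueFactorizationMonoid.irreducible_of_normalized_factor _ h).ne_zero rfl
    have hd := Polynomial.natDegree_eq_of_degree_eq (Polynomial.degree_eq_degree_of_associated hassoc)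
    rw [Matrix.charpoly_natDegree_eq_dim, Fintype.card_fin, Polynomial.natDegree_multiset_prod _ h0,
      Finset.sum_multiset_map_count] at hd
    simpa [smul_eq_mul] using hd.symm
  rw [hdeg, ← Finset.prod_pow_eq_pow_sum]
  rw [show N.toFinset = N.toFinset from rfl]
  refine Eq.trans ?_ (Finset.prod_congr rfl fun f hf => rfl)
  rw [← Finset.prod_mul_distrib]
  refine Finset.prod_congr (Finset.ext fun f => by simp) fun f hf => ?_
  have hfpos : 1 ≤ f.natDegree :=
    (UniqueFactorizationMonoid.irreducible_of_normalized_factor f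
      (Multiset.mem_toFinset.1 hf)).natDegree_pos
  obtain ⟨d, hd⟩ : ∃ d, f.natDegree = d + 1 := ⟨f.natDegree - 1, by omega⟩
  rw [hd, Nat.add_sub_cancel, ← mul_assoc, Nat.choose_two_right, mul_assoc (d + 1),
    ← Nat.mul_div_assoc (d + 1) (Nat.even_mul_pred_self (N.count f)).two_dvd, ← pow_add]
  congr 1
  rw [show N.count f * (d + 1) + N.count f = d * N.count f + 2 * N.count f by ring, pow_add, pow_mul _ 2,
    neg_one_sq, one_pow, mul_one]

end CfsgLib.KnownC.StValue
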