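import Cfsg.Agent.Lib.Suzuki.Basic

/-!
Additive maps of a field of `2 ^ (2 * m + 1)` elements as sums of Frobenius powers, and the additive maps
compatible with `a ↦ a * th m a`.
-/

set_option autoImplicit false
set_option linter.unusedSectionVars false

namespace CfsgLib.KnownC.SuzTwoAut

open CfsgLib.Suzuki

variable {F : Type*} [Field F] [CharP F 2] [Fintype F] {m : ℕ}

/-- Exponents of the Frobenius powers. -/
abbrev Ix (m : ℕ) : Type := ZMod (2 * m + 1)

/-- The Frobenius power with exponent `i`. -/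
def fr (F : Type*) [Field F] [CharP F 2] {m : ℕ} (i : Ix m) : F →+* F := iterateFrobenius F 2 i.val

theorem fr_def (i : Ix m) (a : F) : fr F i a = a ^ 2 ^ i.val := iterateFrobenius_def 2 i.val a

theorem fr_nat (hF : Fintype.card F = 2 ^ (2 * m + 1)) (k : ℕ) (a : F) :
    fr F ((k : ℕ) : Ix m) a = a ^ 2 ^ k := by
  rw [fr_def, ZMod.val_natCast]
  conv_rhs => rw [← Nat.div_add_mod k (2 * m + 1), pow_add, pow_mul, pow_mul, ← hF,
    FiniteField.pow_card_pow]

theorem fr_fr (hF : Fintype.card F = 2 ^ (2 * m + 1)) (i j : Ix m) (a : F) :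
    fr F i (fr F j a) = fr F (i + j) a := by
  rw [fr_def, fr_def, ← pow_mul, ← pow_add, ← fr_nat hF, Nat.cast_add, ZMod.natCast_zmod_val,
    ZMod.natCast_zmod_val, add_comm]

theorem fr_zero (a : F) : fr F (0 : Ix m) a = a := by
  rw [fr_def, ZMod.val_zero, pow_zero, pow_one]

/-- The exponent of `th`. -/
def sh (m : ℕ) : Ix m := ((m + 1 : ℕ) : Ix m)

theorem th_eq (hF : Fintype.card F = 2 ^ (2 * m + 1)) (a : F) : th m a = fr F (sh m) a := by
  rw [sh, fr_nat hF, th_def]

theorem sh_add_sh (m : ℕ) : sh m + sh m = 1 := by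
  rw [sh, ← Nat.cast_add, show m + 1 + (m + 1) = (2 * m + 1) + 1 by omega, Nat.cast_add,
    ZMod.natCast_self, zero_add, Nat.cast_one]

theorem two_ne_zero_ix (hm : 1 ≤ m) : (2 : Ix m) ≠ 0 := fun h => by
  have h' : ((2 : ℕ) : Ix m) = 0 := by exact_mod_cast h
  rw [ZMod.natCast_eq_zero_iff] at h'
  have := Nat.le_of_dvd two_pos h'
  omega

theorem sh_ne_zero (hm : 1 ≤ m) : sh m ≠ 0 := fun h => by
  have h1 := sh_add_sh m
  rw [h, add_zero] at h1
  exact two_ne_zero_ix hm (by rw [← one_add_one_eq_two, ← h1, add_zero])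

theorem fr_injective (hm : 1 ≤ m) (hF : Fintype.card F = 2 ^ (2 * m + 1)) :
    Function.Injective fun i : Ix m => ((fr F i : F →+* F) : F →* F) := by
  intro i j h
  obtain ⟨g, hg⟩ := IsCyclic.exists_generator (α := Fˣ)
  have ho : orderOf g = Fintype.card F - 1 := by
    rw [orderOf_eq_card_of_forall_mem_zpowers hg, Nat.card_units, Nat.card_eq_fintype_card]
  have hlt : ∀ k : Ix m, 2 ^ k.val < orderOf g := fun k => by
    have h1 : 2 ^ k.val ≤ 2 ^ (2 * m) := Nat.pow_le_pow_right two_pos (by
      have := k.val_lt; omega)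
    have h2 : 1 < 2 ^ (2 * m) := Nat.one_lt_two_pow (by omega)
    rw [ho, hF, pow_succ]
    omega
  have he : g ^ 2 ^ i.val = g ^ 2 ^ j.val := Units.ext (by
    simp only [Units.val_pow_eq_pow_val, ← fr_def]
    exact DFunLike.congr_fun h (g : F))
  exact ZMod.val_injective _ (Nat.pow_right_injective le_rfl (pow_injOn_Iio_orderOf (hlt i) (hlt j) he))

theorem coeff_eq_zero (hm : 1 ≤ m) (hF : Fintype.card F = 2 ^ (2 * m + 1)) {c : Ix m → F}
    (h : ∀ a, ∑ i, c i * fr F i a = 0) : c = 0 := by
  have hli := (linearIndependent_monoidHom F F).comp _ (fr_injective hm hF)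
  funext i
  exact Fintype.linearIndependent_iff.1 hli c (funext fun a => by simpa using h a) i

/-- The additive map with coefficients `c`. -/
def linPoly (c : Ix m → F) : F →+ F :=
  AddMonoidHom.mk' (fun a => ∑ i, c i * fr F i a) fun a b => by
    simp only [map_add, mul_add, Finset.sum_add_distrib]

theorem linPoly_apply (c : Ix m → F) (a : F) : linPoly c a = ∑ i, c i * fr F i a := rfl

theorem card_addHom (hF : Fintype.card F = 2 ^ (2 * m + 1)) :
    Nat.card (F →+ F) = 2 ^ (2 * m + 1) ^ 2 := by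
  letI : Algebra (ZMod 2) F := ZMod.algebra F 2
  haveI : Fact (Nat.Prime 2) := ⟨Nat.prime_two⟩
  rw [Nat.card_congr (AddMonoidHom.toZModLinearMapEquiv 2).toEquiv,
    Module.natCard_eq_pow_finrank (K := ZMod 2), Module.finrank_linearMap, Nat.card_zmod]
  have h1 := Module.natCard_eq_pow_finrank (K := ZMod 2) (V := F)
  rw [Nat.card_zmod, Nat.card_eq_fintype_card, hF] at h1
  rw [← Nat.pow_right_injective le_rfl h1, sq]

theorem linPoly_bijective (hm : 1 ≤ m) (hF : Fintype.card F = 2 ^ (2 * m + 1)) :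
    Function.Bijective (linPoly (F := F) (m := m)) := by
  have : Finite (F →+ F) := Finite.of_injective _ DFunLike.coe_injective
  refine (Nat.bijective_iff_injective_and_card _).2 ⟨fun c d e => ?_, ?_⟩
  · refine sub_eq_zero.1 (coeff_eq_zero hm hF fun a => ?_)
    have := DFunLike.congr_fun e a
    simp only [linPoly_apply] at this
    simp only [Pi.sub_apply, sub_mul, Finset.sum_sub_distrib, this, sub_self]
  · rw [card_addHom hF, Nat.card_fun, Nat.card_zmod, Nat.card_eq_fintype_card, hF, ← pow_mul, sq]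

/-- A vanishing quadratic sum of Frobenius powers. -/
theorem quad_zero (hm : 1 ≤ m) (hF : Fintype.card F = 2 ^ (2 * m + 1)) {d : Ix m → Ix m → F}
    (h : ∀ a, ∑ u, ∑ v, d u v * fr F u a * fr F v a = 0) :
    (∀ u v, d u v + d v u = 0) ∧ ∀ u, d u u = 0 := by
  classical
  have key : ∀ a b, ∑ u, (∑ v, (d u v + d v u) * fr F v b) * fr F u a = 0 := by
    intro a b
    have h1 : ∑ u, ∑ v, d u v * fr F u (a + b) * fr F v (a + b) -
        ∑ u, ∑ v, d u v * fr F u a * fr F v a - ∑ u, ∑ v, d u v * fr F u b * fr F v b = 0 := by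
      rw [h, h, h, sub_zero, sub_zero]
    have h2 : ∑ u, ∑ v, d v u * fr F v b * fr F u a = ∑ u, ∑ v, d u v * fr F u b * fr F v a :=
      Finset.sum_comm
    simp only [← Finset.sum_sub_distrib, map_add] at h1
    calc ∑ u, (∑ v, (d u v + d v u) * fr F v b) * fr F u a
        = ∑ u, ∑ v, d u v * fr F u a * fr F v b + ∑ u, ∑ v, d v u * fr F v b * fr F u a := by
          rw [← Finset.sum_add_distrib]
          refine Finset.sum_congr rfl fun u _ => ?_
          rw [Finset.sum_mul, ← Finset.sum_add_distrib]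
          exact Finset.sum_congr rfl fun v _ => by ring
      _ = 0 := by
          rw [h2, ← Finset.sum_add_distrib, ← h1]
          refine Finset.sum_congr rfl fun u _ => ?_
          rw [← Finset.sum_add_distrib]
          exact Finset.sum_congr rfl fun v _ => by ring
  have hsym : ∀ u v, d u v + d v u = 0 := fun u v => by
    have e : ∀ b, ∑ v, (d u v + d v u) * fr F v b = 0 := fun b =>
      congrFun (coeff_eq_zero hm hF (c := fun u => ∑ v, (d u v + d v u) * fr F v b) fun a => key a b) u
    exact congrFun (coeff_eq_zero hm hF (c := fun v => d u v + d v u) e) v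
  refine ⟨hsym, fun u => ?_⟩
  have hdiag : ∀ a, ∑ w, d w w * fr F (w + 1) a = 0 := fun a => by
    obtain ⟨f, hf⟩ : ∃ f : Ix m × Ix m → F, ∀ p, f p = d p.1 p.2 * fr F p.1 a * fr F p.2 a :=
      ⟨_, fun p => rfl⟩
    have hoff : ∑ p : Ix m × Ix m, (if p.1 = p.2 then 0 else f p) = 0 := by
      refine Finset.sum_involution (fun p _ => p.swap) (fun p _ => ?_) (fun p _ hp => ?_)
        (fun p _ => Finset.mem_univ _) (fun p _ => Prod.swap_swap p)
      · rcases eq_or_ne p.1 p.2 with e | e
        · simp [e]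
        · rw [if_neg e, if_neg (by simpa using e.symm), hf, hf]
          simp only [Prod.fst_swap, Prod.snd_swap]
          linear_combination (fr F p.1 a * fr F p.2 a) * hsym p.1 p.2
      · intro e
        exact hp (if_pos (by simpa using congrArg Prod.snd e))
    have hsplit : ∑ p : Ix m × Ix m, f p = ∑ w, f (w, w) + ∑ p : Ix m × Ix m, (if p.1 = p.2 then 0 else f p) := by
      rw [Fintype.sum_prod_type, Fintype.sum_prod_type, ← Finset.sum_add_distrib]
      refine Finset.sum_congr rfl fun u _ => ?_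
      rw [show f (u, u) = ∑ v, (if u = v then f (u, v) else 0) by rw [Finset.sum_ite_eq]; simp,
        ← Finset.sum_add_distrib]
      exact Finset.sum_congr rfl fun v _ => by dsimp only; split <;> simp
    rw [hoff, add_zero, Fintype.sum_prod_type] at hsplit
    simp only [hf] at hsplit
    rw [h] at hsplit
    rw [hsplit]
    refine Finset.sum_congr rfl fun w _ => ?_
    rw [← fr_fr hF, mul_assoc, ← map_mul, ← Nat.cast_one, fr_nat hF, pow_one, sq]
  have e := coeff_eq_zero hm hF (c := fun j => d (j - 1) (j - 1)) fun a => by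
    refine Eq.trans ?_ (hdiag a)
    exact (Fintype.sum_equiv (Equiv.addRight (1 : Ix m)) _ _ fun w => by simp).symm
  simpa using congrFun e (u + 1)

/-- The additive maps compatible with `a ↦ a * th m a` are monomials. -/
theorem semilinear (hm : 1 ≤ m) (hF : Fintype.card F = 2 ^ (2 * m + 1)) (A B : F →+ F)
    (hA : ∀ a, A a = 0 → a = 0) (hAB : ∀ a, B (th m a * a) = th m (A a) * A a) :
    ∃ (c : Fˣ) (i : Ix m), ∀ a, A a = c * fr F i a := by
  classical
  obtain ⟨α, rfl⟩ := (linPoly_bijective hm hF).2 A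
  obtain ⟨β, rfl⟩ := (linPoly_bijective hm hF).2 B
  obtain ⟨s, hs⟩ : ∃ s, s = sh m := ⟨_, rfl⟩
  obtain ⟨y, hy⟩ : ∃ y : Ix m → F, ∀ v, y v = th m (α (v - s)) := ⟨_, fun v => rfl⟩
  have hthA : ∀ a, th m (linPoly α a) = ∑ v, y v * fr F v a := fun a => by
    rw [linPoly_apply, map_sum]
    refine Fintype.sum_equiv (Equiv.addRight s) _ _ fun w => ?_
    rw [map_mul, th_eq hF (fr F w a), fr_fr hF, hy, Equiv.coe_addRight, add_sub_cancel_right, hs,
      add_comm]
  obtain ⟨hsym, hd⟩ := quad_zero hm hF (F := F)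
    (d := fun u v => α u * y v - if v = u + s then β u else 0) fun a => by
      have h1 : ∑ u, ∑ v, α u * y v * fr F u a * fr F v a = linPoly α a * th m (linPoly α a) := by
        rw [hthA, linPoly_apply, Finset.sum_mul]
        refine Finset.sum_congr rfl fun u _ => ?_
        rw [Finset.mul_sum]
        exact Finset.sum_congr rfl fun v _ => by ring
      have h2 : ∑ u, ∑ v, (if v = u + s then β u else 0) * fr F u a * fr F v a = linPoly β (th m a * a) := by
        rw [linPoly_apply]
        refine Finset.sum_congr rfl fun u _ => ?_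
        rw [Finset.sum_eq_single (u + s) (fun v _ hv => by simp [hv]) (by simp), if_pos rfl, map_mul,
          th_eq hF, fr_fr hF, hs]
        ring
      simp only [sub_mul, Finset.sum_sub_distrib, h1, h2, hAB]
      ring
  have hs0 : s ≠ 0 := hs ▸ sh_ne_zero hm
  have hxy : ∀ u, α u = 0 ∨ y u = 0 := fun u => by
    have := hd u
    rw [if_neg (by simpa [eq_comm] using hs0), sub_zero] at this
    exact mul_eq_zero.1 this
  have hstep : ∀ u t, α u ≠ 0 → α t ≠ 0 → t = u ∨ u = t + 1 := by
    intro u t hu ht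
    have hyv : y (t + s) ≠ 0 := by rw [hy, add_sub_cancel_right]; simpa using ht
    have hxv : α (t + s) = 0 := (hxy _).resolve_right hyv
    by_contra hne
    rw [not_or] at hne
    have := hsym u (t + s)
    rw [hxv, zero_mul, if_neg (fun e => hne.1 (add_right_cancel e)), if_neg (fun e => hne.2 ?_)] at this
    · simp [hu, hyv] at this
    · rw [e, hs, add_assoc, sh_add_sh]
  have huniq : ∀ u t, α u ≠ 0 → α t ≠ 0 → t = u := by
    intro u t hu ht
    refine (hstep u t hu ht).resolve_right fun e => ?_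
    rcases hstep t u ht hu with e' | e'
    · exact two_ne_zero_ix hm (by linear_combination 2 * e' - 2 * e)
    · exact two_ne_zero_ix hm (by linear_combination -(e + e'))
  obtain ⟨i, hi⟩ : ∃ i, α i ≠ 0 := by
    by_contra hall
    push_neg at hall
    exact one_ne_zero (hA 1 (by simp [linPoly_apply, hall]))
  refine ⟨Units.mk0 _ hi, i, fun a => ?_⟩
  rw [linPoly_apply, Units.val_mk0, Finset.sum_eq_single i (fun j _ hj => ?_) (by simp)]
  have : α j = 0 := by
    by_contra hh
    exact hj (huniq i j hi hh)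
  rw [this, zero_mul]

end CfsgLib.KnownC.SuzTwoAut
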