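import Cfsg.Prelude.Def_OddOrderLocal
import Cfsg.Agent.Lib.KnownC.SuzTwoAdditive
import Cfsg.Agent.Lib.Suzuki.Sylow
import Cfsg.Agent.Lib.Suzuki.Model

/-!
The automorphism group of the Sylow 2-subgroup of a Suzuki group.
-/

set_option autoImplicit false
set_option linter.unusedSectionVars false

namespace CfsgLib.KnownC.SuzTwoAut

open CfsgLib.Suzuki

variable {F : Type*} [Field F] [CharP F 2] [Fintype F] {m : ℕ}

/-- The Sylow group in coordinates. -/
@[ext] structure SQ (F : Type*) (m : ℕ) where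
  /-- the coordinate modulo the centre -/
  a : F
  /-- the central coordinate -/
  b : F

instance : Mul (SQ F m) := ⟨fun x y => ⟨x.a + y.a, x.b + y.b + th m x.a * y.a⟩⟩
instance : One (SQ F m) := ⟨⟨0, 0⟩⟩
instance : Inv (SQ F m) := ⟨fun x => ⟨x.a, x.b + th m x.a * x.a⟩⟩

theorem mul_a (x y : SQ F m) : (x * y).a = x.a + y.a := rfl
theorem mul_b (x y : SQ F m) : (x * y).b = x.b + y.b + th m x.a * y.a := rfl
theorem one_a : (1 : SQ F m).a = 0 := rfl
theorem one_b : (1 : SQ F m).b = 0 := rfl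

instance : Group (SQ F m) where
  mul_assoc x y z := by
    ext <;> simp only [mul_a, mul_b, map_add] <;> ring
  one_mul x := by ext <;> simp [mul_a, mul_b, one_a, one_b]
  mul_one x := by ext <;> simp [mul_a, mul_b, one_a, one_b]
  inv_mul_cancel x := by
    ext
    · exact CharTwo.add_self_eq_zero x.a
    · show x.b + th m x.a * x.a + x.b + th m x.a * x.a = 0
      linear_combination (x.b + th m x.a * x.a) * (CharTwo.two_eq_zero (R := F))

theorem inv_a (x : SQ F m) : x⁻¹.a = x.a := rfl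

/-- The semilinear automorphism. -/
def semiAut (hF : Fintype.card F = 2 ^ (2 * m + 1)) (c : Fˣ) (i : Ix m) : MulAut (SQ F m) where
  toFun x := ⟨c * fr F i x.a, th m (c : F) * c * fr F i x.b⟩
  invFun x := ⟨fr F (-i) (((c⁻¹ : Fˣ) : F) * x.a),
    fr F (-i) (((c⁻¹ : Fˣ) : F) * th m ((c⁻¹ : Fˣ) : F) * x.b)⟩
  left_inv x := by
    ext
    · show fr F (-i) (((c⁻¹ : Fˣ) : F) * (c * fr F i x.a)) = x.a
      rw [Units.inv_mul_cancel_left, fr_fr hF, neg_add_cancel, fr_zero]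
    · show fr F (-i) (((c⁻¹ : Fˣ) : F) * th m ((c⁻¹ : Fˣ) : F) * (th m (c : F) * c * fr F i x.b)) = x.b
      rw [show ((c⁻¹ : Fˣ) : F) * th m ((c⁻¹ : Fˣ) : F) * (th m (c : F) * c * fr F i x.b) =
        (((c⁻¹ : Fˣ) : F) * c) * (th m ((c⁻¹ : Fˣ) : F) * th m (c : F)) * fr F i x.b by ring,
        ← map_mul, Units.inv_mul, map_one, one_mul, one_mul, fr_fr hF, neg_add_cancel, fr_zero]
  right_inv x := by
    ext
    · show (c : F) * fr F i (fr F (-i) (((c⁻¹ : Fˣ) : F) * x.a)) = x.a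
      rw [fr_fr hF, add_neg_cancel, fr_zero, Units.mul_inv_cancel_left]
    · show th m (c : F) * c * fr F i (fr F (-i) (((c⁻¹ : Fˣ) : F) * th m ((c⁻¹ : Fˣ) : F) * x.b)) = x.b
      rw [fr_fr hF, add_neg_cancel, fr_zero,
        show th m (c : F) * c * (((c⁻¹ : Fˣ) : F) * th m ((c⁻¹ : Fˣ) : F) * x.b) =
          ((c : F) * ((c⁻¹ : Fˣ) : F)) * (th m (c : F) * th m ((c⁻¹ : Fˣ) : F)) * x.b by ring,
        ← map_mul, Units.mul_inv, map_one, one_mul, one_mul]
  map_mul' x y := by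
    ext
    · show (c : F) * fr F i (x.a + y.a) = c * fr F i x.a + c * fr F i y.a
      rw [map_add, mul_add]
    · show th m (c : F) * c * fr F i (x.b + y.b + th m x.a * y.a) =
        th m (c : F) * c * fr F i x.b + th m (c : F) * c * fr F i y.b + th m (c * fr F i x.a) * (c * fr F i y.a)
      rw [map_add, map_add, map_mul, map_mul, th_eq hF x.a, fr_fr hF, th_eq hF (fr F i x.a), fr_fr hF,
        add_comm i (sh m)]
      ring

theorem semiAut_a (hF : Fintype.card F = 2 ^ (2 * m + 1)) (c : Fˣ) (i : Ix m) (x : SQ F m) :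
    (semiAut hF c i x).a = c * fr F i x.a := rfl

/-- The central automorphism. -/
def centralAut (φ : F →+ F) : MulAut (SQ F m) where
  toFun x := ⟨x.a, x.b + φ x.a⟩
  invFun x := ⟨x.a, x.b + φ x.a⟩
  left_inv x := by ext <;> simp [add_assoc, CharTwo.add_self_eq_zero]
  right_inv x := by ext <;> simp [add_assoc, CharTwo.add_self_eq_zero]
  map_mul' x y := by
    ext
    · rfl
    · show x.b + y.b + th m x.a * y.a + φ (x.a + y.a) = x.b + φ x.a + (y.b + φ y.a) + th m x.a * y.a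
      rw [map_add]; ring

theorem centralAut_mul (φ ψ : F →+ F) :
    centralAut (m := m) φ * centralAut ψ = centralAut (φ + ψ) := by
  ext x
  · rfl
  · show x.b + ψ x.a + φ x.a = x.b + (φ x.a + ψ x.a)
    ring

/-- The automorphisms trivial modulo the centre. -/
def centralAuts (F : Type*) [Field F] [CharP F 2] (m : ℕ) : Subgroup (MulAut (SQ F m)) where
  carrier := {γ | ∀ x : SQ F m, (γ x).a = x.a}
  mul_mem' := fun {a b} ha hb x => by rw [MulAut.mul_apply, ha, hb]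
  one_mem' := fun x => rfl
  inv_mem' := fun {a} ha x => by
    have := ha (a⁻¹ x)
    rw [← MulAut.mul_apply, mul_inv_cancel, MulAut.one_apply] at this
    exact this.symm

theorem exists_th_mul (h : ThSq F m) (b : F) : ∃ c : F, th m c * c = b := by
  rcases eq_or_ne b 0 with rfl | hb
  · exact ⟨0, by rw [mul_zero]⟩
  · obtain ⟨s, hs⟩ := exists_th_mul_self h hb
    exact ⟨(s : F), hs⟩

theorem square_eq (x : SQ F m) : x * x = ⟨0, th m x.a * x.a⟩ := by
  ext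
  · exact CharTwo.add_self_eq_zero x.a
  · show x.b + x.b + th m x.a * x.a = th m x.a * x.a
    rw [CharTwo.add_self_eq_zero, zero_add]

theorem exists_semilinear (hm : 1 ≤ m) (hF : Fintype.card F = 2 ^ (2 * m + 1)) (γ : MulAut (SQ F m)) :
    ∃ (c : Fˣ) (i : Ix m), ∀ x : SQ F m, (γ x).a = c * fr F i x.a := by
  have hsq : ∀ (δ : MulAut (SQ F m)) (b : F), (δ ⟨0, b⟩).a = 0 := fun δ b => by
    obtain ⟨c, rfl⟩ := exists_th_mul (thSq_of_card hF) b
    rw [show (⟨0, th m c * c⟩ : SQ F m) = ⟨c, 0⟩ * ⟨c, 0⟩ from (square_eq (⟨c, 0⟩ : SQ F m)).symm, map_mul, square_eq]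
  have hsame : ∀ (δ : MulAut (SQ F m)) (x : SQ F m), (δ x).a = (δ ⟨x.a, 0⟩).a := fun δ x => by
    rw [show x = ⟨x.a, 0⟩ * ⟨0, x.b⟩ by ext <;> simp [mul_a, mul_b], map_mul, mul_a, hsq, add_zero]
    simp [mul_a]
  let A : F →+ F := AddMonoidHom.mk' (fun a => (γ ⟨a, 0⟩).a) fun a b => by
    rw [← mul_a, ← map_mul, hsame γ (⟨a, 0⟩ * ⟨b, 0⟩)]; rfl
  let B : F →+ F := AddMonoidHom.mk' (fun b => (γ ⟨0, b⟩).b) fun a b => by
    have e := congrArg SQ.b (map_mul γ (⟨0, a⟩ : SQ F m) ⟨0, b⟩)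
    rw [mul_b, hsq γ a, map_zero, zero_mul, add_zero] at e
    rwa [show (⟨0, a⟩ : SQ F m) * ⟨0, b⟩ = ⟨0, a + b⟩ by ext <;> simp [mul_a, mul_b]] at e
  obtain ⟨c, i, hci⟩ := semilinear hm hF A B (fun a ha => by
      have h1 : γ ⟨a, 0⟩ = (⟨0, (γ ⟨a, 0⟩).b⟩ : SQ F m) := SQ.ext ha rfl
      have h2 := hsq γ.symm (γ ⟨a, 0⟩).b
      rw [← h1, MulEquiv.symm_apply_apply] at h2
      exact h2) fun a => by
    show (γ ⟨0, th m a * a⟩).b = _
    rw [show (⟨0, th m a * a⟩ : SQ F m) = ⟨a, 0⟩ * ⟨a, 0⟩ from (square_eq (⟨a, 0⟩ : SQ F m)).symm, map_mul, square_eq]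
    rfl
  exact ⟨c, i, fun x => (hsame γ x).trans (hci x.a)⟩

theorem centralAuts_normal (hm : 1 ≤ m) (hF : Fintype.card F = 2 ^ (2 * m + 1)) :
    (centralAuts F m).Normal := ⟨fun γ hγ δ x => by
  obtain ⟨c, i, hci⟩ := exists_semilinear hm hF δ
  rw [MulAut.mul_apply, MulAut.mul_apply, hci, hγ, ← hci, ← MulAut.mul_apply, mul_inv_cancel,
    MulAut.one_apply]⟩

theorem exists_centralAut (hF : Fintype.card F = 2 ^ (2 * m + 1)) {γ : MulAut (SQ F m)}
    (hγ : γ ∈ centralAuts F m) : ∃ φ, γ = centralAut φ := by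
  have hz : ∀ b : F, γ ⟨0, b⟩ = ⟨0, b⟩ := fun b => by
    obtain ⟨c, rfl⟩ := exists_th_mul (thSq_of_card hF) b
    rw [show (⟨0, th m c * c⟩ : SQ F m) = ⟨c, 0⟩ * ⟨c, 0⟩ from (square_eq (⟨c, 0⟩ : SQ F m)).symm, map_mul, square_eq,
      square_eq, hγ]
  refine ⟨AddMonoidHom.mk' (fun a => (γ ⟨a, 0⟩).b) fun a b => ?_, MulEquiv.ext fun x => SQ.ext (hγ x) ?_⟩
  · have e := congrArg SQ.b (map_mul γ (⟨a, 0⟩ : SQ F m) ⟨b, 0⟩)
    rw [show (⟨a, 0⟩ : SQ F m) * ⟨b, 0⟩ = ⟨a + b, 0⟩ * ⟨0, th m a * b⟩ by ext <;> simp [mul_a, mul_b],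
      map_mul, hz, mul_b, mul_b, hγ, hγ] at e
    have hγ' : ∀ x : SQ F m, (γ x).a = x.a := hγ
    simp only [hγ', mul_zero, add_zero] at e
    exact add_right_cancel e
  · show (γ x).b = x.b + (γ ⟨x.a, 0⟩).b
    conv_lhs => rw [show x = ⟨x.a, 0⟩ * ⟨0, x.b⟩ by ext <;> simp [mul_a, mul_b]]
    rw [map_mul, hz, mul_b]
    simp [add_comm]

theorem centralAuts_elem (hF : Fintype.card F = 2 ^ (2 * m + 1)) :
    Cfsg.IsElementaryAbelian 2 (centralAuts F m) ∧
      Nat.card (centralAuts F m) = 2 ^ (2 * m + 1) ^ 2 := by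
  refine ⟨⟨⟨⟨fun a b => ?_⟩⟩, fun a ha => ?_⟩, ?_⟩
  · obtain ⟨φ, hφ⟩ := exists_centralAut hF a.2
    obtain ⟨ψ, hψ⟩ := exists_centralAut hF b.2
    refine Subtype.ext ?_
    show (a : MulAut (SQ F m)) * b = b * a
    rw [hφ, hψ, centralAut_mul, centralAut_mul, add_comm]
  · obtain ⟨φ, hφ⟩ := exists_centralAut hF ha
    rw [hφ, pow_two, centralAut_mul]
    ext x
    · rfl
    · show x.b + (φ x.a + φ x.a) = x.b
      rw [CharTwo.add_self_eq_zero, add_zero]
  · rw [← card_addHom hF]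
    refine (Nat.card_eq_of_bijective (fun φ => (⟨centralAut φ, fun x => rfl⟩ : ↥(centralAuts F m)))
      ⟨fun φ ψ e => ?_, fun γ => ?_⟩).symm
    · ext a
      exact add_left_cancel (congrArg (fun g : ↥(centralAuts F m) => ((g : MulAut (SQ F m)) ⟨a, 0⟩).b) e)
    · obtain ⟨φ, hφ⟩ := exists_centralAut hF γ.2
      exact ⟨φ, Subtype.ext hφ.symm⟩

theorem card_mulAut (hm : 1 ≤ m) (hF : Fintype.card F = 2 ^ (2 * m + 1)) :
    Nat.card (MulAut (SQ F m)) = 2 ^ (2 * m + 1) ^ 2 * ((2 * m + 1) * (2 ^ (2 * m + 1) - 1)) := by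
  rw [← card_addHom hF, ← hF, ← Nat.card_eq_fintype_card, ← Nat.card_units,
    mul_comm (2 * m + 1) (Nat.card Fˣ), ← Nat.card_zmod (2 * m + 1), ← Nat.card_prod, ← Nat.card_prod]
  refine (Nat.card_eq_of_bijective
    (fun p : (F →+ F) × (Fˣ × Ix m) => centralAut p.1 * semiAut hF p.2.1 p.2.2) ⟨?_, ?_⟩).symm
  · rintro ⟨φ, c, i⟩ ⟨ψ, d, j⟩ e
    have ea : ∀ a, (c : F) * fr F i a = d * fr F j a := fun a =>
      congrArg (fun g : MulAut (SQ F m) => (g ⟨a, 0⟩).a) e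
    obtain rfl : c = d := Units.ext (by simpa using ea 1)
    obtain rfl : i = j := fr_injective hm hF (MonoidHom.ext fun a => mul_left_cancel₀ c.ne_zero (ea a))
    have hφ : φ = ψ := by
      ext a
      have e' : ∀ x, centralAut φ (semiAut hF c i x) = centralAut ψ (semiAut hF c i x) := fun x =>
        congrArg (fun g : MulAut (SQ F m) => g x) e
      have e'' := e' ((semiAut hF c i).symm ⟨a, 0⟩)
      rw [MulEquiv.apply_symm_apply] at e''
      exact add_left_cancel (congrArg SQ.b e'')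
    rw [hφ]
  · intro γ
    obtain ⟨c, i, hci⟩ := exists_semilinear hm hF γ
    obtain ⟨φ, hφ⟩ := exists_centralAut hF (γ := γ * (semiAut hF c i)⁻¹) fun x => by
      rw [MulAut.mul_apply, hci, ← semiAut_a hF, ← MulAut.mul_apply, mul_inv_cancel, MulAut.one_apply]
    exact ⟨⟨φ, c, i⟩, by show centralAut φ * _ = γ; rw [← hφ, inv_mul_cancel_right]⟩

theorem pCore_eq (hm : 1 ≤ m) (hF : Fintype.card F = 2 ^ (2 * m + 1)) :
    Cfsg.pCore 2 (MulAut (SQ F m)) = centralAuts F m := by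
  haveI := centralAuts_normal hm hF
  obtain ⟨⟨-, hex⟩, hcard⟩ := centralAuts_elem (m := m) hF
  refine le_antisymm (sSup_le fun N hN g hg => ?_) (le_sSup ⟨inferInstance,
    fun g => ⟨1, Subtype.ext (by rw [pow_one]; exact hex g g.2)⟩⟩)
  have hidx : Odd (centralAuts F m).index := by
    have h1 := Subgroup.card_mul_index (centralAuts F m)
    rw [hcard, card_mulAut hm hF] at h1
    rw [Nat.eq_of_mul_eq_mul_left (by positivity) h1, Nat.odd_mul, pow_succ]
    refine ⟨⟨m, rfl⟩, ⟨2 ^ (2 * m) - 1, ?_⟩⟩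
    have := Nat.two_pow_pos (2 * m)
    omega
  obtain ⟨k, hk⟩ := hN.2 ⟨g, hg⟩
  have hk' : g ^ 2 ^ k = 1 := congrArg Subtype.val hk
  have h1 : orderOf (g : MulAut (SQ F m) ⧸ centralAuts F m) ∣ Nat.gcd (2 ^ k) (centralAuts F m).index :=
    Nat.dvd_gcd (orderOf_dvd_of_pow_eq_one (by rw [← QuotientGroup.mk_pow, hk', QuotientGroup.mk_one]))
      (orderOf_dvd_natCard _)
  rw [Nat.Coprime.gcd_eq_one (Nat.Coprime.pow_left _ (Nat.coprime_two_left.2 hidx)), Nat.dvd_one,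
    orderOf_eq_one_iff, QuotientGroup.eq_one_iff] at h1
  exact h1

/-- The coordinates of the unipotent subgroup. -/
noncomputable def sqEquiv (h : ThSq F m) : SQ F m ≃* ↥(uSub h) :=
  MulEquiv.ofBijective
    (MonoidHom.mk' (fun x => (⟨tG h x.a x.b, x.a, x.b, rfl⟩ : ↥(uSub h))) fun x y => Subtype.ext (by
      show tG h (x * y).a (x * y).b = tG h x.a x.b * tG h y.a y.b
      rw [tG_mul, mul_a, mul_b, add_comm y.a]
      congr 1
      ring))
    ⟨fun x y e => SQ.ext (tG_inj h (congrArg Subtype.val e)).1 (tG_inj h (congrArg Subtype.val e)).2,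
      by rintro ⟨g, a, b, rfl⟩; exact ⟨⟨a, b⟩, rfl⟩⟩

theorem mulAut_structure (hm : 1 ≤ m) (hF : Fintype.card F = 2 ^ (2 * m + 1)) {S : Type*} [Group S]
    (e : S ≃* SQ F m) :
    Cfsg.IsElementaryAbelian 2 (Cfsg.pCore 2 (MulAut S)) ∧
      Nat.card ↥(Cfsg.pCore 2 (MulAut S)) = 2 ^ (2 * m + 1) ^ 2 ∧
      Nat.card (MulAut S) = 2 ^ (2 * m + 1) ^ 2 * ((2 * m + 1) * (2 ^ (2 * m + 1) - 1)) := by
  let c : MulAut (SQ F m) ≃* MulAut S := MulAut.congr e.symm
  obtain ⟨⟨hcm, hex⟩, hcard⟩ := centralAuts_elem (m := m) hF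
  have hpc : Cfsg.pCore 2 (MulAut S) = (centralAuts F m).map c.toMonoidHom := by
    refine le_antisymm (sSup_le fun N hN => ?_) (le_sSup ⟨?_, ?_⟩)
    · haveI := hN.1
      have hle : N.comap c.toMonoidHom ≤ centralAuts F m := pCore_eq hm hF ▸
        le_sSup ⟨inferInstance, hN.2.comap_of_injective c.toMonoidHom c.injective⟩
      intro g hg
      obtain ⟨g', rfl⟩ := c.surjective g
      exact ⟨g', hle hg, rfl⟩
    · exact (centralAuts_normal hm hF).map c.toMonoidHom c.surjective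
    · exact IsPGroup.map (fun g => ⟨1, Subtype.ext (by rw [pow_one]; exact hex g g.2)⟩) _
  have e2 := (centralAuts F m).equivMapOfInjective c.toMonoidHom c.injective
  refine ⟨hpc ▸ ⟨⟨⟨fun a b => ?_⟩⟩, fun a ha => ?_⟩, ?_, ?_⟩
  · obtain ⟨a, rfl⟩ := e2.surjective a
    obtain ⟨b, rfl⟩ := e2.surjective b
    rw [← map_mul, ← map_mul, hcm.is_comm.comm]
  · obtain ⟨b, hb, rfl⟩ := ha
    rw [← map_pow, hex b hb, map_one]
  · rw [hpc, ← Nat.card_congr e2.toEquiv, hcard]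
  · rw [← Nat.card_congr c.toEquiv, card_mulAut hm hF]

end CfsgLib.KnownC.SuzTwoAut
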