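import Mathlib
import Cfsg.Prelude.Def_Classical
import Cfsg.Agent.Lib.KnownC.GroupEmbeds

/-!
`S_{4k+4}` inside the orthogonal group of dimension `4k+2` over `GF(2)`.
-/

set_option autoImplicit false

namespace CfsgLib.KnownC.SymOrth

open Matrix Finset

/-- Extension by zero to `ℕ`. -/
def ext {N : ℕ} (w : Fin N → ZMod 2) (j : ℕ) : ZMod 2 := if h : j < N then w ⟨j, h⟩ else 0

theorem ext_val {N : ℕ} (w : Fin N → ZMod 2) (j : Fin N) : ext w j = w j := dif_pos j.2

theorem ext_add {N : ℕ} (w w' : Fin N → ZMod 2) (j : ℕ) : ext (w + w') j = ext w j + ext w' j := by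
  unfold ext; split_ifs <;> simp

/-- Prefix sums. -/
def pre (f : ℕ → ZMod 2) (n : ℕ) : ZMod 2 := ∑ j ∈ range n, f j

theorem pre_succ (f : ℕ → ZMod 2) (n : ℕ) : pre f (n + 1) = pre f n + f n := sum_range_succ f n

/-- Sum of pairwise products. -/
def esym (f : ℕ → ZMod 2) (n : ℕ) : ZMod 2 := ∑ j ∈ range n, f j * pre f j

theorem esym_eq_choose (f : ℕ → ZMod 2) : ∀ n,
    pre f n = (((range n).filter fun j => f j = 1).card : ZMod 2) ∧
      esym f n = ((((range n).filter fun j => f j = 1).card).choose 2 : ZMod 2) := by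
  intro n
  induction n with
  | zero => simp [pre, esym]
  | succ n ih =>
    obtain ⟨h1, h2⟩ := ih
    rcases (show f n = 0 ∨ f n = 1 by generalize f n = a; revert a; decide) with h | h
    · rw [range_add_one, filter_insert, if_neg (by simp [h])]
      refine ⟨?_, ?_⟩
      · rw [pre_succ, h, add_zero, h1]
      · rw [show esym f (n + 1) = esym f n + f n * pre f n from sum_range_succ _ n, h, zero_mul,
          add_zero, h2]
    · rw [range_add_one, filter_insert, if_pos h, card_insert_of_notMem (by simp)]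
      refine ⟨?_, ?_⟩
      · rw [pre_succ, h, h1]; push_cast; rfl
      · rw [show esym f (n + 1) = esym f n + f n * pre f n from sum_range_succ _ n, h, one_mul, h1,
          h2, Nat.choose_succ_succ', Nat.choose_one_right]
        push_cast; ring

variable (m : ℕ)

/-- Number of points. -/
abbrev pts : ℕ := 2 * m + 2

/-- Coordinates of the first kind, shifted. -/
def bigX (v : Fin m ⊕ Fin m → ZMod 2) : ℕ → ZMod 2
  | 0 => 0
  | l + 1 => ext (fun i => v (Sum.inl i)) l

/-- Suffix sums of the coordinates of the second kind. -/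
def suf (v : Fin m ⊕ Fin m → ZMod 2) (l : ℕ) : ZMod 2 :=
  ∑ i ∈ Ico l m, ext (fun i => v (Sum.inr i)) i

/-- The lift to the permutation module. -/
def lift (v : Fin m ⊕ Fin m → ZMod 2) (j : Fin (pts m)) : ZMod 2 :=
  bigX m v (((j : ℕ) + 1) / 2) + suf m v ((j : ℕ) / 2)

/-- The projection from the permutation module. -/
def proj (w : Fin (pts m) → ZMod 2) : Fin m ⊕ Fin m → ZMod 2 :=
  Sum.elim (fun i => pre (ext w) (2 * (i : ℕ) + 2))
    (fun i => ext w (2 * (i : ℕ) + 1) + ext w (2 * (i : ℕ) + 2))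

theorem bigX_top (v : Fin m ⊕ Fin m → ZMod 2) : bigX m v (m + 1) = 0 := by
  simp [bigX, ext]

theorem suf_top (v : Fin m ⊕ Fin m → ZMod 2) {l : ℕ} (hl : m ≤ l) : suf m v l = 0 := by
  simp [suf, Ico_eq_empty_of_le hl]

theorem suf_succ (v : Fin m ⊕ Fin m → ZMod 2) {l : ℕ} (hl : l < m) :
    suf m v l = ext (fun i => v (Sum.inr i)) l + suf m v (l + 1) :=
  sum_eq_sum_Ico_succ_bot hl _

theorem ext_lift_even (v : Fin m ⊕ Fin m → ZMod 2) {l : ℕ} (hl : l ≤ m) :
    ext (lift m v) (2 * l) = bigX m v l + suf m v l := by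
  rw [ext, dif_pos (show 2 * l < pts m by simp only [pts]; omega)]
  simp only [lift]
  rw [show (2 * l + 1) / 2 = l by omega, show 2 * l / 2 = l by omega]

theorem ext_lift_odd (v : Fin m ⊕ Fin m → ZMod 2) {l : ℕ} (hl : l ≤ m) :
    ext (lift m v) (2 * l + 1) = bigX m v (l + 1) + suf m v l := by
  rw [ext, dif_pos (show 2 * l + 1 < pts m by simp only [pts]; omega)]
  simp only [lift]
  rw [show (2 * l + 1 + 1) / 2 = l + 1 by omega, show (2 * l + 1) / 2 = l by omega]

theorem pre_lift (v : Fin m ⊕ Fin m → ZMod 2) : ∀ l ≤ m + 1, pre (ext (lift m v)) (2 * l) = bigX m v l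
  | 0, _ => by simp [pre, bigX]
  | l + 1, hl => by
    rw [show 2 * (l + 1) = 2 * l + 1 + 1 by ring, pre_succ, pre_succ, pre_lift v l (by omega),
      ext_lift_even m v (by omega), ext_lift_odd m v (by omega)]
    linear_combination (CharTwo.add_self_eq_zero (bigX m v l)) + CharTwo.add_self_eq_zero (suf m v l)

theorem proj_lift (v : Fin m ⊕ Fin m → ZMod 2) : proj m (lift m v) = v := by
  funext i
  rcases i with i | i
  · show pre (ext (lift m v)) (2 * (i : ℕ) + 2) = _
    rw [show 2 * (i : ℕ) + 2 = 2 * ((i : ℕ) + 1) by ring, pre_lift m v _ (by omega)]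
    exact ext_val (fun i => v (Sum.inl i)) i
  · show ext (lift m v) (2 * (i : ℕ) + 1) + ext (lift m v) (2 * (i : ℕ) + 2) = _
    rw [show 2 * (i : ℕ) + 2 = 2 * ((i : ℕ) + 1) by ring, ext_lift_odd m v i.2.le,
      ext_lift_even m v (by omega), suf_succ m v i.2, ext_val]
    linear_combination (CharTwo.add_self_eq_zero (bigX m v ((i : ℕ) + 1))) +
      CharTwo.add_self_eq_zero (suf m v ((i : ℕ) + 1))

theorem pre_ext_full {N : ℕ} (w : Fin N → ZMod 2) : pre (ext w) N = ∑ j, w j := by
  rw [pre, ← Fin.sum_univ_eq_sum_range (fun j => ext w j)]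
  exact sum_congr rfl fun j _ => ext_val w j

theorem sum_lift (v : Fin m ⊕ Fin m → ZMod 2) : ∑ j, lift m v j = 0 := by
  rw [← pre_ext_full]
  have h := pre_lift m v (m + 1) le_rfl
  rw [bigX_top, mul_add, mul_one] at h
  exact h

theorem lift_proj (w : Fin (pts m) → ZMod 2) (hw : ∑ j, w j = 0) (j : Fin (pts m)) :
    lift m (proj m w) j = w j + ext w (2 * m + 1) := by
  have hX : ∀ l ≤ m + 1, bigX m (proj m w) l = pre (ext w) (2 * l) := by
    intro l hl
    rcases l with - | l
    · simp [bigX, pre]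
    · rcases eq_or_lt_of_le hl with h | h
      · have hlm : l = m := by omega
        subst hlm
        rw [bigX_top, show 2 * (l + 1) = pts l by simp only [pts]; ring, pre_ext_full, hw]
      · rw [bigX, ext, dif_pos (show l < m by omega)]
        rfl
  have hS : ∀ d l, l + d = m → suf m (proj m w) l =
      pre (ext w) (2 * l + 1) + ext w (2 * m + 1) := by
    intro d
    induction d with
    | zero =>
      intro l hl
      obtain rfl : l = m := by omega
      rw [suf_top _ _ le_rfl, ← hw, ← pre_ext_full]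
      exact (pre_succ (ext w) (2 * l + 1))
    | succ d ih =>
      intro l hl
      rw [suf_succ _ _ (by omega), ih (l + 1) (by omega), ext, dif_pos (show l < m by omega),
        show 2 * (l + 1) + 1 = 2 * l + 1 + 1 + 1 by ring, pre_succ _ (2 * l + 1 + 1),
        pre_succ _ (2 * l + 1)]
      simp only [proj, Sum.elim_inr]
      linear_combination (CharTwo.add_self_eq_zero (ext w (2 * l + 1))) +
        CharTwo.add_self_eq_zero (ext w (2 * l + 2))
  obtain ⟨l, hl⟩ : ∃ l, (j : ℕ) = 2 * l ∨ (j : ℕ) = 2 * l + 1 := ⟨(j : ℕ) / 2, by omega⟩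
  have hj : (j : ℕ) < 2 * m + 2 := j.2
  rw [← ext_val (lift m (proj m w)) j, ← ext_val w j]
  rcases hl with hl | hl <;> rw [hl]
  · rw [ext_lift_even m _ (by omega), hX l (by omega), hS (m - l) l (by omega), pre_succ]
    linear_combination CharTwo.add_self_eq_zero (pre (ext w) (2 * l))
  · rw [ext_lift_odd m _ (by omega), hX (l + 1) (by omega), hS (m - l) l (by omega),
      show 2 * (l + 1) = 2 * l + 1 + 1 by ring, pre_succ _ (2 * l + 1)]
    linear_combination CharTwo.add_self_eq_zero (pre (ext w) (2 * l + 1))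

theorem proj_add (w w' : Fin (pts m) → ZMod 2) : proj m (w + w') = proj m w + proj m w' := by
  funext i
  rcases i with i | i <;>
    simp [proj, pre, ext_add, sum_add_distrib] <;> ring

theorem proj_smul (c : ZMod 2) (w : Fin (pts m) → ZMod 2) : proj m (c • w) = c • proj m w := by
  rcases (show c = 0 ∨ c = 1 by revert c; decide) with rfl | rfl
  · funext i; rcases i with i | i <;> simp [proj, pre, ext]
  · rw [one_smul, one_smul]

theorem proj_const (t : ZMod 2) : proj m (fun _ => t) = 0 := by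
  have hext : ∀ j < pts m, ext (fun _ : Fin (pts m) => t) j = t := fun j hj => dif_pos hj
  funext i
  rcases i with i | i
  · show pre _ (2 * (i : ℕ) + 2) = 0
    rw [pre, sum_congr rfl fun j hj => hext j (by
      have := mem_range.1 hj; have := i.2; simp only [pts]; omega), sum_const, card_range,
      nsmul_eq_mul]
    push_cast
    rw [show (2 : ZMod 2) = 0 from rfl]
    ring
  · show ext (fun _ : Fin (pts m) => t) _ + ext (fun _ : Fin (pts m) => t) _ = 0
    rw [hext _ (by simp only [pts]; omega), hext _ (by simp only [pts]; omega)]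
    exact CharTwo.add_self_eq_zero t

theorem lift_add (u v : Fin m ⊕ Fin m → ZMod 2) : lift m (u + v) = lift m u + lift m v := by
  have hX : ∀ l, bigX m (u + v) l = bigX m u l + bigX m v l := by
    rintro (- | l)
    · simp [bigX]
    · simp only [bigX, ← ext_add]; rfl
  funext j
  simp only [lift, Pi.add_apply, hX, suf]
  rw [add_add_add_comm, ← sum_add_distrib]
  congr 1
  exact sum_congr rfl fun i _ => by rw [← ext_add]; rfl

/-- The action of a permutation in coordinates. -/
noncomputable def act (σ : Equiv.Perm (Fin (pts m))) :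
    (Fin m ⊕ Fin m → ZMod 2) →ₗ[ZMod 2] (Fin m ⊕ Fin m → ZMod 2) where
  toFun v := proj m fun j => lift m v (σ⁻¹ j)
  map_add' u v := by
    rw [← proj_add, lift_add]; rfl
  map_smul' c v := by
    rcases (show c = 0 ∨ c = 1 by revert c; decide) with rfl | rfl
    · rw [RingHom.id_apply, zero_smul, zero_smul]
      convert proj_const m 0
      have h := lift_add m 0 0
      rw [add_zero, left_eq_add] at h
      rw [h]; rfl
    · simp

theorem act_apply (σ : Equiv.Perm (Fin (pts m))) (v : Fin m ⊕ Fin m → ZMod 2) :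
    act m σ v = proj m (fun j => lift m v (σ⁻¹ j)) := rfl

theorem act_proj (σ : Equiv.Perm (Fin (pts m))) {w : Fin (pts m) → ZMod 2} (hw : ∑ j, w j = 0) :
    act m σ (proj m w) = proj m (fun j => w (σ⁻¹ j)) := by
  rw [act_apply, show (fun j => lift m (proj m w) (σ⁻¹ j)) =
    (fun j => w (σ⁻¹ j)) + (fun _ => ext w (2 * m + 1)) from funext fun j => lift_proj m w hw _,
    proj_add, proj_const, add_zero]

theorem act_one (v : Fin m ⊕ Fin m → ZMod 2) : act m 1 v = v := by
  rw [act_apply]; exact proj_lift m v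

theorem act_mul (g k : Equiv.Perm (Fin (pts m))) (v : Fin m ⊕ Fin m → ZMod 2) :
    act m (g * k) v = act m g (act m k v) := by
  rw [act_apply m k, act_proj m g ((Equiv.sum_comp k⁻¹ (lift m v)).trans (sum_lift m v)), act_apply]
  simp [Equiv.Perm.mul_apply]

/-- The quadratic form in coordinates. -/
def form (v : Fin m ⊕ Fin m → ZMod 2) : ZMod 2 :=
  ∑ i : Fin m, (v (Sum.inl i) + (((i : ℕ) + 1 : ℕ) : ZMod 2) * v (Sum.inr i) +
    v (Sum.inl i) * v (Sum.inr i))

theorem esym_lift (v : Fin m ⊕ Fin m → ZMod 2) : esym (ext (lift m v)) (pts m) = form m v := by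
  have sq : ∀ a : ZMod 2, a * a = a := by decide
  have step : ∀ L ≤ m + 1, esym (ext (lift m v)) (2 * L) = ∑ l ∈ range L,
      (bigX m v l + bigX m v l * suf m v l + suf m v l * bigX m v (l + 1) + suf m v l) := by
    intro L hL
    induction L with
    | zero => simp [esym]
    | succ L ih =>
      rw [show 2 * (L + 1) = 2 * L + 1 + 1 by ring, esym, sum_range_succ, sum_range_succ, ← esym,
        ih (by omega), sum_range_succ, pre_succ, pre_lift m v L (by omega),
        ext_lift_even m v (by omega), ext_lift_odd m v (by omega)]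
      linear_combination (sq (bigX m v L)) + sq (suf m v L) +
        CharTwo.add_self_eq_zero (bigX m v L * bigX m v (L + 1)) +
        CharTwo.add_self_eq_zero (bigX m v L * suf m v L)
  have e := step (m + 1) le_rfl
  rw [mul_add 2 m 1, mul_one] at e
  rw [show esym (ext (lift m v)) (pts m) = _ from e]
  simp only [sum_add_distrib]
  have h1 : ∑ l ∈ range (m + 1), bigX m v l = ∑ i : Fin m, v (Sum.inl i) := by
    rw [sum_range_succ', show bigX m v 0 = 0 from rfl, add_zero]
    exact pre_ext_full (fun i => v (Sum.inl i))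
  have h2 : ∑ l ∈ range (m + 1), suf m v l =
      ∑ i : Fin m, (((i : ℕ) + 1 : ℕ) : ZMod 2) * v (Sum.inr i) := by
    rw [sum_range_succ, suf_top m v le_rfl, add_zero]
    unfold suf
    rw [range_eq_Ico, sum_Ico_Ico_comm, ← range_eq_Ico,
      ← Fin.sum_univ_eq_sum_range (fun i => ∑ _x ∈ Ico 0 (i + 1), ext (fun i => v (Sum.inr i)) i) m]
    refine sum_congr rfl fun i _ => ?_
    rw [sum_const, Nat.card_Ico, nsmul_eq_mul, ext_val, Nat.sub_zero]
  have h3 : ∑ l ∈ range (m + 1), bigX m v l * suf m v l +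
      ∑ l ∈ range (m + 1), suf m v l * bigX m v (l + 1) =
      ∑ i : Fin m, v (Sum.inl i) * v (Sum.inr i) := by
    rw [sum_range_succ', show bigX m v 0 = 0 from rfl, zero_mul, add_zero, sum_range_succ,
      bigX_top, mul_zero, add_zero, ← sum_add_distrib,
      ← Fin.sum_univ_eq_sum_range (fun l => bigX m v (l + 1) * suf m v (l + 1) +
        suf m v l * bigX m v (l + 1)) m]
    refine sum_congr rfl fun i _ => ?_
    rw [suf_succ m v i.2, ext_val, show bigX m v ((i : ℕ) + 1) = v (Sum.inl i) from ext_val (fun i => v (Sum.inl i)) i]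
    linear_combination CharTwo.add_self_eq_zero (v (Sum.inl i) * suf m v ((i : ℕ) + 1))
  rw [form, sum_add_distrib, sum_add_distrib]
  linear_combination h1 + h2 + h3

theorem esym_ext {N : ℕ} (w : Fin N → ZMod 2) :
    esym (ext w) N = (((univ.filter fun j => w j = 1).card).choose 2 : ZMod 2) := by
  rw [(esym_eq_choose (ext w) N).2]
  congr 2
  refine (card_bij (fun (j : Fin N) _ => (j : ℕ)) ?_ ?_ ?_).symm
  · intro j hj
    rw [mem_filter] at hj ⊢
    exact ⟨mem_range.2 j.2, by rw [ext_val]; exact hj.2⟩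
  · intro a _ b _ h; exact Fin.ext h
  · intro j hj
    rw [mem_filter, mem_range] at hj
    exact ⟨⟨j, hj.1⟩, mem_filter.2 ⟨mem_univ _, by rw [← ext_val w]; exact hj.2⟩, rfl⟩

theorem choose_two_cast (a : ℕ) : (((2 * a).choose 2 : ℕ) : ZMod 2) = (a : ZMod 2) := by
  induction a with
  | zero => rfl
  | succ a ih =>
    rw [show 2 * (a + 1) = (2 * a + 1) + 1 by ring, Nat.choose_succ_succ' (2 * a + 1) 1,
      Nat.choose_succ_succ' (2 * a) 1, Nat.choose_one_right, Nat.choose_one_right]
    push_cast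
    rw [ih, show (2 : ZMod 2) = 0 from rfl]
    ring

theorem form_proj (hm : Odd m) {w : Fin (pts m) → ZMod 2} (hw : ∑ j, w j = 0) :
    form m (proj m w) = (((univ.filter fun j => w j = 1).card).choose 2 : ZMod 2) := by
  rw [← esym_lift, esym_ext]
  have hcard : (((univ.filter fun j => w j = 1).card : ℕ) : ZMod 2) = 0 := by
    rw [← hw, ← sum_boole]
    exact sum_congr rfl fun j _ => by generalize w j = a; revert a; decide
  obtain ⟨a, ha⟩ : 2 ∣ (univ.filter fun j => w j = 1).card :=
    (ZMod.natCast_eq_zero_iff_even.1 hcard).two_dvd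
  rcases (show ext w (2 * m + 1) = 0 ∨ ext w (2 * m + 1) = 1 by
    generalize ext w (2 * m + 1) = b; revert b; decide) with h | h
  · congr 3
    exact filter_congr fun j _ => by rw [lift_proj m w hw, h, add_zero]
  · have hset : (univ.filter fun j => lift m (proj m w) j = 1) = (univ.filter fun j => w j = 1)ᶜ := by
      ext j
      simp only [mem_filter, mem_univ, true_and, mem_compl, lift_proj m w hw, h]
      generalize w j = b; revert b; decide
    have hle := card_le_univ (univ.filter fun j => w j = 1)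
    rw [Fintype.card_fin, ha] at hle
    obtain ⟨r, hr⟩ := hm
    rw [hset, card_compl, Fintype.card_fin, ha,
      show pts m - 2 * a = 2 * (2 * (r + 1) - a) by simp only [pts] at hle ⊢; omega,
      choose_two_cast, choose_two_cast]
    rw [Nat.cast_sub (by simp only [pts] at hle; omega)]
    push_cast
    rw [show (2 : ZMod 2) = 0 from rfl, zero_mul, zero_sub, CharTwo.neg_eq]

theorem act_form (hm : Odd m) (σ : Equiv.Perm (Fin (pts m))) (v : Fin m ⊕ Fin m → ZMod 2) :
    form m (act m σ v) = form m v := by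
  conv_rhs => rw [← proj_lift m v]
  rw [act_apply, form_proj m hm ((Equiv.sum_comp σ⁻¹ (lift m v)).trans (sum_lift m v)),
    form_proj m hm (sum_lift m v)]
  congr 2
  refine card_bij (fun j _ => σ⁻¹ j) ?_ ?_ ?_
  · intro j hj; simp only [mem_filter, mem_univ, true_and] at hj ⊢; exact hj
  · intro a _ b _ h; exact σ⁻¹.injective h
  · intro j hj
    refine ⟨σ j, ?_, by simp⟩
    simp only [mem_filter, mem_univ, true_and] at hj ⊢
    simpa using hj

theorem act_faithful (hm : 2 ≤ m) (σ : Equiv.Perm (Fin (pts m)))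
    (h : ∀ v, act m σ v = v) : σ = 1 := by
  have key : ∀ a b : Fin (pts m), a ≠ b → σ a = a ∨ σ a = b := by
    intro a b hab
    set w : Fin (pts m) → ZMod 2 := Pi.single a 1 + Pi.single b 1 with hw
    have hsum : ∑ j, w j = 0 := by
      simp only [hw, Pi.add_apply, sum_add_distrib, Finset.sum_pi_single']
      simp
      decide
    have h1 := h (proj m w)
    rw [act_proj m σ hsum] at h1
    have hsum' : ∑ j, w (σ⁻¹ j) = 0 := (Equiv.sum_comp σ⁻¹ w).trans hsum
    have e : ∀ j, w (σ⁻¹ j) + ext (fun j => w (σ⁻¹ j)) (2 * m + 1) = w j + ext w (2 * m + 1) := fun j => by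
      rw [← lift_proj m _ hsum', ← lift_proj m _ hsum, h1]
    set c := ext (fun j => w (σ⁻¹ j)) (2 * m + 1)
    set d := ext w (2 * m + 1)
    by_contra hcon
    push Not at hcon
    -- a point outside `a, b, σ a, σ b` shows that the constants agree
    obtain ⟨j, hj⟩ : ∃ j, j ∉ ({a, b, σ a, σ b} : Finset (Fin (pts m))) := by
      by_contra hall
      push Not at hall
      have h4 := card_le_card (fun x _ => hall x : univ ⊆ ({a, b, σ a, σ b} : Finset (Fin (pts m))))
      rw [card_univ, Fintype.card_fin] at h4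
      have := le_trans h4 card_le_four
      simp only [pts] at this
      omega
    simp only [mem_insert, mem_singleton, not_or] at hj
    have hj1 : σ⁻¹ j ≠ a := fun hh => hj.2.2.1 (by rw [← hh]; simp)
    have hj2 : σ⁻¹ j ≠ b := fun hh => hj.2.2.2 (by rw [← hh]; simp)
    have ej := e j
    rw [hw, Pi.add_apply, Pi.add_apply, Pi.single_eq_of_ne hj1, Pi.single_eq_of_ne hj2,
      Pi.single_eq_of_ne hj.1, Pi.single_eq_of_ne hj.2.1, add_zero, zero_add, zero_add] at ej
    have ea := e (σ a)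
    rw [Equiv.Perm.coe_inv, Equiv.symm_apply_apply, hw, Pi.add_apply, Pi.add_apply, Pi.single_eq_same,
      Pi.single_eq_of_ne hab, Pi.single_eq_of_ne hcon.1, Pi.single_eq_of_ne hcon.2, ej] at ea
    simp at ea
  refine Equiv.ext fun a => ?_
  obtain ⟨b, hb⟩ := exists_ne a
  obtain ⟨c, hc⟩ : ∃ c, c ∉ ({a, b} : Finset (Fin (pts m))) := by
    by_contra hall
    push Not at hall
    have h4 := card_le_card (fun x _ => hall x : univ ⊆ ({a, b} : Finset (Fin (pts m))))
    rw [card_univ, Fintype.card_fin] at h4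
    have := le_trans h4 card_le_two
    simp only [pts] at this
    omega
  simp only [mem_insert, mem_singleton, not_or] at hc
  rcases key a b hb.symm with h1 | h1
  · exact h1
  · rcases key a c (Ne.symm hc.1) with h2 | h2
    · exact h2
    · exact absurd (h2.symm.trans h1) hc.2

theorem exists_hom_form (hm : Odd m) (hm2 : 2 ≤ m) :
    ∃ φ : Equiv.Perm (Fin (pts m)) →* ↥(Cfsg.isometryGroup (ZMod 2) (form m)), Function.Injective φ := by
  let M : Equiv.Perm (Fin (pts m)) →* Matrix (Fin m ⊕ Fin m) (Fin m ⊕ Fin m) (ZMod 2) :=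
    { toFun := fun σ => LinearMap.toMatrix' (act m σ)
      map_one' := by
        rw [show act m 1 = LinearMap.id from LinearMap.ext (act_one m), LinearMap.toMatrix'_id]
      map_mul' := fun g k => by
        rw [← LinearMap.toMatrix'_comp]
        exact congrArg _ (LinearMap.ext (act_mul m g k)) }
  refine ⟨MonoidHom.codRestrict M.toHomUnits _ fun σ u v => ?_, (injective_iff_map_eq_one _).2 fun σ hσ => ?_⟩
  · show form m (LinearMap.toMatrix' (act m σ) *ᵥ u) = form m u
    rw [LinearMap.toMatrix'_mulVec, act_form m hm]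
  · refine act_faithful m hm2 σ fun v => ?_
    have h1 : LinearMap.toMatrix' (act m σ) = 1 := congrArg Units.val (congrArg Subtype.val hσ)
    rw [← LinearMap.toMatrix'_mulVec, h1, Matrix.one_mulVec]

/-- The summand of `form`. -/
def qf (x y : ℕ → ZMod 2) (i : ℕ) : ZMod 2 :=
  x i + ((i + 1 : ℕ) : ZMod 2) * y i + x i * y i

/-- First hyperbolic coordinate. -/
def hA (x y : ℕ → ZMod 2) (i : ℕ) : ZMod 2 :=
  if i % 4 = 0 then x i + x (i + 2) else if i % 4 = 2 then y (i - 2) + y i else x i

/-- Second hyperbolic coordinate. -/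
def hB (x y : ℕ → ZMod 2) (i : ℕ) : ZMod 2 :=
  if i % 4 = 0 then x i + x (i + 2) + y i else if i % 4 = 2 then x i + y (i - 2) + y i else x i + y i

theorem block_eq (x y : ℕ → ZMod 2) (s : ℕ) :
    qf x y (4 * s) + qf x y (4 * s + 1) + qf x y (4 * s + 2) =
      hA x y (4 * s) * hB x y (4 * s) + hA x y (4 * s + 1) * hB x y (4 * s + 1) +
        hA x y (4 * s + 2) * hB x y (4 * s + 2) := by
  have c0 : ((4 * s + 1 : ℕ) : ZMod 2) = 1 := by
    push_cast; rw [show (4 : ZMod 2) = 0 from rfl]; ring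
  have c1 : ((4 * s + 1 + 1 : ℕ) : ZMod 2) = 0 := by
    push_cast; rw [show (4 : ZMod 2) = 0 from rfl, zero_mul]; decide
  have c2 : ((4 * s + 2 + 1 : ℕ) : ZMod 2) = 1 := by
    push_cast; rw [show (4 : ZMod 2) = 0 from rfl, show (2 : ZMod 2) = 0 from rfl]; ring
  simp only [qf, hA, hB, c0, c1, c2, show (4 * s) % 4 = 0 by omega, show (4 * s + 1) % 4 = 1 by omega,
    show (4 * s + 2) % 4 = 2 by omega, show 4 * s + 2 - 2 = 4 * s by omega]
  norm_num
  generalize x (4 * s) = a, x (4 * s + 1) = b, x (4 * s + 2) = c, y (4 * s) = d, y (4 * s + 1) = e,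
    y (4 * s + 2) = f
  revert a b c d e f; decide

theorem four_sum_eq (x y : ℕ → ZMod 2) : ∀ r,
    ∑ i ∈ range (4 * r), qf x y i = ∑ i ∈ range (4 * r), hA x y i * hB x y i := by
  intro r
  induction r with
  | zero => rfl
  | succ r ih =>
    rw [show 4 * (r + 1) = 4 * r + 1 + 1 + 1 + 1 by ring, sum_range_succ, sum_range_succ, sum_range_succ,
      sum_range_succ, sum_range_succ, sum_range_succ, sum_range_succ, sum_range_succ, ih]
    have hb := block_eq x y r
    have h3 : qf x y (4 * r + 1 + 1 + 1) = hA x y (4 * r + 1 + 1 + 1) * hB x y (4 * r + 1 + 1 + 1) := by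
      have c : ((4 * r + 1 + 1 + 1 + 1 : ℕ) : ZMod 2) = 0 := by
        push_cast; rw [show (4 : ZMod 2) = 0 from rfl, zero_mul]; decide
      simp only [qf, hA, hB, c, if_neg (show ¬ (4 * r + 1 + 1 + 1) % 4 = 0 by omega),
        if_neg (show ¬ (4 * r + 1 + 1 + 1) % 4 = 2 by omega)]
      generalize x (4 * r + 1 + 1 + 1) = a, y (4 * r + 1 + 1 + 1) = b
      revert a b; decide
    rw [show 4 * r + 1 + 1 = 4 * r + 2 from rfl] at *
    linear_combination hb + h3

theorem form_eq_range (v : Fin m ⊕ Fin m → ZMod 2) :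
    form m v = ∑ i ∈ range m, qf (ext fun i => v (Sum.inl i)) (ext fun i => v (Sum.inr i)) i := by
  rw [form, ← Fin.sum_univ_eq_sum_range]
  exact sum_congr rfl fun i _ => by simp [qf, ext_val]

theorem coord_zero {x y : ℕ → ZMod 2} {n : ℕ} (hA0 : ∀ i < n, hA x y i = 0) (hB0 : ∀ i < n, hB x y i = 0)
    (i : ℕ) (hi : i < n) (hfull : i % 4 = 0 → i + 2 < n) : x i = 0 ∧ y i = 0 := by
  have h4 : i % 4 = 0 ∨ i % 4 = 2 ∨ (i % 4 ≠ 0 ∧ i % 4 ≠ 2) := by omega
  rcases h4 with h | h | ⟨h, h'⟩
  · have a0 := hA0 i hi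
    have b0 := hB0 i hi
    have a2 := hA0 (i + 2) (hfull h)
    have b2 := hB0 (i + 2) (hfull h)
    simp only [hA, hB, if_pos h, if_neg (show ¬ (i + 2) % 4 = 0 by omega),
      if_pos (show (i + 2) % 4 = 2 by omega), show i + 2 - 2 = i by omega] at a0 b0 a2 b2
    revert a0 b0 a2 b2
    generalize x i = a, x (i + 2) = b, y i = c, y (i + 2) = d
    revert a b c d; decide
  · have a0 := hA0 (i - 2) (by omega)
    have b0 := hB0 (i - 2) (by omega)
    have a2 := hA0 i hi
    have b2 := hB0 i hi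
    simp only [hA, hB, if_pos (show (i - 2) % 4 = 0 by omega), show i - 2 + 2 = i by omega,
      if_neg (show ¬ i % 4 = 0 by omega), if_pos h] at a0 b0 a2 b2
    revert a0 b0 a2 b2
    generalize x (i - 2) = a, x i = b, y (i - 2) = c, y i = d
    revert a b c d; decide
  · have a0 := hA0 i hi
    have b0 := hB0 i hi
    simp only [hA, hB, if_neg h, if_neg h'] at a0 b0
    revert a0 b0
    generalize x i = a, y i = b
    revert a b; decide

theorem hA_add (x y x' y' : ℕ → ZMod 2) (i : ℕ) :
    hA (x + x') (y + y') i = hA x y i + hA x' y' i := by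
  unfold hA; split_ifs <;> simp [Pi.add_apply] <;> ring

theorem hB_add (x y x' y' : ℕ → ZMod 2) (i : ℕ) :
    hB (x + x') (y + y') i = hB x y i + hB x' y' i := by
  unfold hB; split_ifs <;> simp [Pi.add_apply] <;> ring

/-- First block of coordinates, extended to `ℕ`. -/
def xs (v : Fin m ⊕ Fin m → ZMod 2) : ℕ → ZMod 2 := ext fun i => v (Sum.inl i)

/-- Second block of coordinates, extended to `ℕ`. -/
def ys (v : Fin m ⊕ Fin m → ZMod 2) : ℕ → ZMod 2 := ext fun i => v (Sum.inr i)

theorem xs_add (u v : Fin m ⊕ Fin m → ZMod 2) : xs m (u + v) = xs m u + xs m v :=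
  funext fun j => ext_add _ _ j

theorem ys_add (u v : Fin m ⊕ Fin m → ZMod 2) : ys m (u + v) = ys m u + ys m v :=
  funext fun j => ext_add _ _ j

theorem eq_zero_of_coords {v : Fin m ⊕ Fin m → ZMod 2}
    (h : ∀ i < m, xs m v i = 0 ∧ ys m v i = 0) : v = 0 := by
  funext i
  rcases i with i | i
  · exact (ext_val _ i).symm.trans (h i i.2).1
  · exact (ext_val _ i).symm.trans (h i i.2).2

end CfsgLib.KnownC.SymOrth

namespace CfsgLib.KnownC

open Matrix Finset SymOrth

theorem isometry_embed_of_injective {ι₁ ι₂ : Type} [Fintype ι₁] [DecidableEq ι₁] [Fintype ι₂]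
    [DecidableEq ι₂] (hcard : Fintype.card ι₁ = Fintype.card ι₂)
    (Q₁ : (ι₁ → ZMod 2) → ZMod 2) (Q₂ : (ι₂ → ZMod 2) → ZMod 2)
    (f : (ι₁ → ZMod 2) →+ (ι₂ → ZMod 2)) (hf : Function.Injective f) (hQ : ∀ v, Q₂ (f v) = Q₁ v) :
    ∃ φ : Cfsg.isometryGroup (ZMod 2) Q₁ →* Cfsg.isometryGroup (ZMod 2) Q₂, Function.Injective φ := by
  obtain ⟨L, hL⟩ := exists_addEquiv_of_injective f hf (by simp [hcard])
  refine exists_embed_of_addEquiv (RingHom.id (ZMod 2)) L (fun t v => ?_) _ _ fun g hg g' hg' u v => ?_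
  · rcases (show t = 0 ∨ t = 1 by revert t; decide) with rfl | rfl <;> simp
  · obtain ⟨u, rfl⟩ := L.surjective u
    show Q₂ ((g' : Matrix ι₂ ι₂ (ZMod 2)) *ᵥ L u) = Q₂ (L u)
    rw [hg', hL, hL, hQ, hQ]
    exact hg u u

theorem sym_embeds_plus (r : ℕ) :
    ∃ φ : Equiv.Perm (Fin (pts (4 * r + 3))) →*
      ↥(Cfsg.isometryGroup (ZMod 2) (Cfsg.quadFormPlus (4 * r + 3) (ZMod 2))), Function.Injective φ := by
  let f : (Fin (4 * r + 3) ⊕ Fin (4 * r + 3) → ZMod 2) →+ (Fin (4 * r + 3) ⊕ Fin (4 * r + 3) → ZMod 2) :=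
    AddMonoidHom.mk' (fun v => Sum.elim (fun i => hA (xs _ v) (ys _ v) i) (fun i => hB (xs _ v) (ys _ v) i))
      fun u v => by funext i; rcases i with i | i <;> simp [xs_add, ys_add, hA_add, hB_add]
  obtain ⟨φ, hφ⟩ := exists_hom_form (4 * r + 3) ⟨2 * r + 1, by ring⟩ (by omega)
  obtain ⟨ψ, hψ⟩ := isometry_embed_of_injective rfl (form (4 * r + 3))
    (Cfsg.quadFormPlus (4 * r + 3) (ZMod 2)) f ((injective_iff_map_eq_zero f).2 fun v hv =>
      eq_zero_of_coords _ fun i hi => coord_zero (fun j hj => congrFun hv (Sum.inl ⟨j, hj⟩))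
        (fun j hj => congrFun hv (Sum.inr ⟨j, hj⟩)) i hi fun h => by omega) fun v => by
    rw [form_eq_range]
    show ∑ i : Fin (4 * r + 3), hA (xs _ v) (ys _ v) i * hB (xs _ v) (ys _ v) i = _
    rw [Fin.sum_univ_eq_sum_range (fun i => hA (xs _ v) (ys _ v) i * hB (xs _ v) (ys _ v) i)]
    show _ = ∑ i ∈ range (4 * r + 3), qf (xs _ v) (ys _ v) i
    generalize xs _ v = X, ys _ v = Y
    rw [show 4 * r + 3 = 4 * r + 1 + 1 + 1 by ring, sum_range_succ, sum_range_succ, sum_range_succ,
      sum_range_succ, sum_range_succ, sum_range_succ, four_sum_eq]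
    rw [show 4 * r + 1 + 1 = 4 * r + 2 from rfl]
    linear_combination -(block_eq X Y r)
  exact ⟨ψ.comp φ, hψ.comp hφ⟩

theorem sym_embeds_minus (r : ℕ) (hr : 1 ≤ r) :
    ∃ φ : Equiv.Perm (Fin (pts (4 * r + 1))) →*
      ↥(Cfsg.isometryGroup (ZMod 2) (Cfsg.quadFormMinus (4 * r) (ZMod 2) 1 1)), Function.Injective φ := by
  let f : (Fin (4 * r + 1) ⊕ Fin (4 * r + 1) → ZMod 2) →+ ((Fin (4 * r) ⊕ Fin (4 * r)) ⊕ Fin 2 → ZMod 2) :=
    AddMonoidHom.mk' (fun v => Sum.elim
        (Sum.elim (fun i => hA (xs _ v) (ys _ v) i) (fun i => hB (xs _ v) (ys _ v) i))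
        ![xs _ v (4 * r), ys _ v (4 * r)])
      fun u v => by
        funext i
        rcases i with (i | i) | i
        · simp [xs_add, ys_add, hA_add]
        · simp [xs_add, ys_add, hB_add]
        · fin_cases i <;> simp [xs_add, ys_add]
  obtain ⟨φ, hφ⟩ := exists_hom_form (4 * r + 1) ⟨2 * r, by ring⟩ (by omega)
  obtain ⟨ψ, hψ⟩ := isometry_embed_of_injective (by simp [Fintype.card_sum]; ring) (form (4 * r + 1))
    (Cfsg.quadFormMinus (4 * r) (ZMod 2) 1 1) f ((injective_iff_map_eq_zero f).2 fun v hv =>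
      eq_zero_of_coords _ fun i hi => by
        rcases Nat.lt_or_ge i (4 * r) with h | h
        · exact coord_zero (fun j hj => congrFun hv (Sum.inl (Sum.inl ⟨j, hj⟩)))
            (fun j hj => congrFun hv (Sum.inl (Sum.inr ⟨j, hj⟩))) i h fun h4 => by omega
        · obtain rfl : i = 4 * r := by omega
          exact ⟨congrFun hv (Sum.inr 0), congrFun hv (Sum.inr 1)⟩) fun v => by
    rw [form_eq_range]
    show (∑ i : Fin (4 * r), hA (xs _ v) (ys _ v) i * hB (xs _ v) (ys _ v) i) +
      (xs _ v (4 * r) ^ 2 + 1 * xs _ v (4 * r) * ys _ v (4 * r) + 1 * ys _ v (4 * r) ^ 2) = _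
    rw [Fin.sum_univ_eq_sum_range (fun i => hA (xs _ v) (ys _ v) i * hB (xs _ v) (ys _ v) i),
      sum_range_succ, four_sum_eq]
    simp only [xs, ys, qf]
    have c : ((4 * r + 1 : ℕ) : ZMod 2) = 1 := by
      push_cast; rw [show (4 : ZMod 2) = 0 from rfl]; ring
    rw [c]
    congr 1
    generalize ext (fun i => v (Sum.inl i)) (4 * r) = a, ext (fun i => v (Sum.inr i)) (4 * r) = b
    revert a b; decide
  exact ⟨ψ.comp φ, hψ.comp hφ⟩

end CfsgLib.KnownC
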