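import Cfsg.Agent.Lib.KnownC.SympRegularBasic
import Cfsg.Agent.Lib.Geom.FiniteField

set_option autoImplicit false

/-!
Regular unipotent elements of `Sp_2m` in odd characteristic: centraliser order and classes.
-/

namespace CfsgLib.KnownC

open Matrix

variable {F : Type*} [Field F] {m : ℕ}

theorem spAdj_scalar {A : Matrix (Fin m ⊕ Fin m) (Fin m ⊕ Fin m) F} {c : F}
    (h : IsNilpotent (A - c • 1)) : IsNilpotent (spAdj A - c • 1) := by
  obtain ⟨k, hk⟩ := h
  refine ⟨k, ?_⟩
  rw [show spAdj A - c • 1 = spAdj (A - c • 1) by rw [spAdj_sub, spAdj_smul, spAdj_one],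
    ← spAdj_pow, hk, spAdj_zero]

/-- Scalars are multiplicative on the commutant. -/
theorem IsRegNil.scalar_mul {ι : Type*} [Fintype ι] [DecidableEq ι] {A B : Matrix ι ι F} {c d : F}
    (hAB : Commute A B) (hA : IsNilpotent (A - c • 1)) (hB : IsNilpotent (B - d • 1)) :
    IsNilpotent (A * B - (c * d) • 1) := by
  have e : A * B - (c * d) • 1 = A * (B - d • 1) + d • (A - c • 1) := by
    rw [mul_sub, mul_smul_comm, mul_one, smul_sub, smul_smul, mul_comm d c]; abel
  rw [e]
  have hc1 : Commute A (B - d • 1) := hAB.sub_right ((Commute.one_right A).smul_right d)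
  refine Commute.isNilpotent_add ?_ (hc1.isNilpotent_mul_left hB) (hA.smul d)
  refine Commute.smul_right (Commute.mul_left ?_ ?_) d
  · exact (Commute.refl A).sub_right ((Commute.one_right A).smul_right c)
  · exact (hAB.symm.sub_left ((Commute.one_left A).smul_left d)).sub_right
      ((Commute.one_right _).smul_right c)

section Finite

variable [Fintype F]

/-- A self-adjoint element of the commutant with square scalar is a norm. -/
theorem exists_spAdj_norm (hm : 1 ≤ m) (h2 : (2 : F) ≠ 0)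
    {N e : Matrix (Fin m ⊕ Fin m) (Fin m ⊕ Fin m) F} (he : spAdj e = e)
    (hc : Commute e N) {d : F} (hd : d ≠ 0) (hscal : IsNilpotent (e - (d * d) • 1)) :
    ∃ f : GL (Fin m ⊕ Fin m) F, Commute (f : Matrix (Fin m ⊕ Fin m) (Fin m ⊕ Fin m) F) N ∧
      spAdj (f : Matrix (Fin m ⊕ Fin m) (Fin m ⊕ Fin m) F) *
        (f : Matrix (Fin m ⊕ Fin m) (Fin m ⊕ Fin m) F) = e := by
  obtain ⟨p, hpc⟩ := CharP.exists F
  have hp : Fact p.Prime := ⟨CharP.char_is_prime F p⟩
  haveI : Nonempty (Fin m) := ⟨⟨0, hm⟩⟩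
  haveI : CharP (Matrix (Fin m ⊕ Fin m) (Fin m ⊕ Fin m) F) p :=
    charP_of_injective_algebraMap (algebraMap F _).injective p
  set e1 := (d * d)⁻¹ • e with he1
  have hdd : d * d ≠ 0 := mul_ne_zero hd hd
  have hn : IsNilpotent (e1 - 1) := by
    have := hscal.smul (d * d)⁻¹
    rwa [smul_sub, smul_smul, inv_mul_cancel₀ hdd, one_smul] at this
  obtain ⟨k, hk⟩ := hn
  have hpow : e1 ^ p ^ k = 1 := by
    have h1 : (e1 - 1) ^ p ^ k = 0 :=
      pow_eq_zero_of_le (Nat.lt_pow_self hp.out.one_lt).le hk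
    rw [sub_pow_char_pow_of_commute p k (Commute.one_right e1), one_pow, sub_eq_zero] at h1
    exact h1
  have hodd : Odd (p ^ k) := by
    refine (hp.out.odd_of_ne_two ?_).pow
    rintro rfl
    exact h2 (by exact_mod_cast CharP.cast_eq_zero F 2)
  obtain ⟨j, hj⟩ := hodd
  set M := d • e1 ^ (j + 1) with hM
  have hsq : M * M = e := by
    rw [hM, smul_mul_smul_comm, ← pow_add, show j + 1 + (j + 1) = p ^ k + 1 by omega, pow_succ, hpow,
      one_mul, he1, smul_smul, mul_inv_cancel₀ hdd, one_smul]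
  have hu : IsUnit M := by
    have h1 : IsUnit e1 := (IsUnit.of_mul_eq_one (e1 ^ (p ^ k - 1)) (by
      rw [← pow_succ', Nat.sub_add_cancel (by omega), hpow]))
    rw [hM, show d • e1 ^ (j + 1) = (Units.mk0 d hd) • e1 ^ (j + 1) from rfl]
    exact (h1.pow _).smul _
  refine ⟨hu.unit, ?_, ?_⟩
  · show Commute M N
    exact ((hc.smul_left _).pow_left _).smul_left _
  · show spAdj M * M = e
    rw [hM, spAdj_smul, spAdj_pow, he1, spAdj_smul, he, ← he1, ← hM, hsq]

end Finite

/-- The commutant as a subspace. -/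
def commutantSub (N : Matrix (Fin m ⊕ Fin m) (Fin m ⊕ Fin m) F) :
    Submodule F (Matrix (Fin m ⊕ Fin m) (Fin m ⊕ Fin m) F) where
  carrier := {A | Commute A N}
  zero_mem' := Commute.zero_left N
  add_mem' := fun ha hb => Commute.add_left ha hb
  smul_mem' := fun c _ ha => Commute.smul_left ha c

/-- The skew part of the commutant. -/
def skewSub (N : Matrix (Fin m ⊕ Fin m) (Fin m ⊕ Fin m) F) :
    Submodule F (Matrix (Fin m ⊕ Fin m) (Fin m ⊕ Fin m) F) :=
  commutantSub N ⊓ LinearMap.ker (spAdjLin + LinearMap.id)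

/-- The self-adjoint part of the commutant. -/
def fixSub (N : Matrix (Fin m ⊕ Fin m) (Fin m ⊕ Fin m) F) :
    Submodule F (Matrix (Fin m ⊕ Fin m) (Fin m ⊕ Fin m) F) :=
  commutantSub N ⊓ LinearMap.ker (spAdjLin - LinearMap.id)

theorem mem_skewSub {N A : Matrix (Fin m ⊕ Fin m) (Fin m ⊕ Fin m) F} :
    A ∈ skewSub N ↔ Commute A N ∧ spAdj A = -A := by
  constructor
  · rintro ⟨h1, h2⟩
    exact ⟨h1, eq_neg_of_add_eq_zero_left (LinearMap.mem_ker.1 h2)⟩
  · rintro ⟨h1, h2⟩
    exact ⟨h1, LinearMap.mem_ker.2 (by show spAdj A + A = 0; rw [h2, neg_add_cancel])⟩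

theorem mem_fixSub {N A : Matrix (Fin m ⊕ Fin m) (Fin m ⊕ Fin m) F} :
    A ∈ fixSub N ↔ Commute A N ∧ spAdj A = A := by
  constructor
  · rintro ⟨h1, h2⟩
    exact ⟨h1, sub_eq_zero.1 (LinearMap.mem_ker.1 h2)⟩
  · rintro ⟨h1, h2⟩
    exact ⟨h1, LinearMap.mem_ker.2 (sub_eq_zero.2 h2)⟩

/-- The skew part of the commutant has dimension `m`. -/
theorem finrank_skewSub (h2 : (2 : F) ≠ 0) {X : Matrix (Fin m ⊕ Fin m) (Fin m ⊕ Fin m) F}
    (hX : IsRegNil X) (hskew : spAdj X = -X) : Module.finrank F (skewSub X) = m := by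
  classical
  have hcard : Fintype.card (Fin m ⊕ Fin m) = 2 * m := card_symp_index m
  have hm : 1 ≤ m := by have := hX.pos; omega
  obtain ⟨v, hv⟩ := hX.exists_cyclic
  set n := Fintype.card (Fin m ⊕ Fin m) with hn
  have hC : Module.finrank F (commutantSub X) = n := by
    let L : commutantSub X →ₗ[F] (Fin m ⊕ Fin m → F) :=
      ((Matrix.mulVecBilin F F).flip v).comp (commutantSub X).subtype
    have hb : Function.Bijective L := hX.commutant_bijective hv
    rw [(LinearEquiv.ofBijective L hb).finrank_eq, Module.finrank_fintype_fun_eq_card]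
  have hXk : ∀ A, Commute A X → X * A = 0 → ∃ c : F, A = c • X ^ (n - 1) := by
    intro A hA h0
    have h1 : A *ᵥ v ∈ LinearMap.ker X.mulVecLin := by
      rw [LinearMap.mem_ker, mulVecLin_apply, mulVec_mulVec, h0, zero_mulVec]
    have hle : Module.finrank F (LinearMap.ker X.mulVecLin) ≤ 1 := by
      have h := finrank_ker_pow_le X hX.le_rank 1
      rwa [pow_one] at h
    have hw : (X ^ (n - 1)) *ᵥ v ∈ LinearMap.ker X.mulVecLin := by
      rw [LinearMap.mem_ker, mulVecLin_apply, mulVec_mulVec, ← pow_succ',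
        Nat.sub_add_cancel hX.pos, hX.nil, zero_mulVec]
    have hspan : LinearMap.ker X.mulVecLin = Submodule.span F {(X ^ (n - 1)) *ᵥ v} :=
      (Submodule.eq_of_le_of_finrank_le ((Submodule.span_singleton_le_iff_mem _ _).2 hw)
        (by rw [finrank_span_singleton hv]; exact hle)).symm
    rw [hspan, Submodule.mem_span_singleton] at h1
    obtain ⟨c, hc⟩ := h1
    refine ⟨c, sub_eq_zero.1 (hX.eq_zero_of_mulVec hv
      (hA.sub_left ((Commute.pow_self X _).smul_left c)) ?_)⟩
    rw [sub_mulVec, smul_mulVec, hc, sub_self]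
  have hkey : spAdj (X ^ (n - 1)) = -(X ^ (n - 1)) := by
    rw [spAdj_pow, hskew, Odd.neg_pow]
    exact ⟨m - 1, by omega⟩
  have hneg : ∀ A : Matrix (Fin m ⊕ Fin m) (Fin m ⊕ Fin m) F, -A = A → A = 0 := by
    intro A hA
    have : (2 : F) • A = 0 := by
      rw [two_smul]
      nth_rw 1 [← hA]
      exact neg_add_cancel A
    exact (smul_eq_zero.1 this).resolve_left h2
  -- multiplication by `X` exchanges the two parts
  have hup : ∀ A ∈ fixSub X, X * A ∈ skewSub X := fun A hA => by
    obtain ⟨h1, h3⟩ := mem_fixSub.1 hA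
    exact mem_skewSub.2 ⟨(Commute.refl X).mul_left h1, by rw [spAdj_mul, h3, hskew, mul_neg, h1.eq]⟩
  have hdown : ∀ A ∈ skewSub X, X * A ∈ fixSub X := fun A hA => by
    obtain ⟨h1, h3⟩ := mem_skewSub.1 hA
    exact mem_fixSub.2 ⟨(Commute.refl X).mul_left h1,
      by rw [spAdj_mul, h3, hskew, neg_mul_neg, h1.eq]⟩
  let U : fixSub X →ₗ[F] skewSub X :=
    ((LinearMap.mulLeft F X).comp (fixSub X).subtype).codRestrict _ fun A => hup A.1 A.2
  have hU : Module.finrank F (fixSub X) ≤ Module.finrank F (skewSub X) := by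
    refine LinearMap.finrank_le_finrank_of_injective (f := U) ?_
    rw [← LinearMap.ker_eq_bot, Submodule.eq_bot_iff]
    intro A hA
    obtain ⟨h1, h3⟩ := mem_fixSub.1 A.2
    obtain ⟨c, hc⟩ := hXk A.1 h1 (congrArg Subtype.val (LinearMap.mem_ker.1 hA))
    refine Subtype.ext (hneg _ ?_)
    conv_rhs => rw [← h3, hc, spAdj_smul, hkey, smul_neg, ← hc]
  let D : skewSub X →ₗ[F] fixSub X :=
    ((LinearMap.mulLeft F X).comp (skewSub X).subtype).codRestrict _ fun A => hdown A.1 A.2
  have hD : Module.finrank F (skewSub X) ≤ Module.finrank F (fixSub X) := by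
    have h1 := D.finrank_range_add_finrank_ker
    have h3 : Module.finrank F (LinearMap.ker D) ≤ 1 := by
      let g : LinearMap.ker D →ₗ[F] (Submodule.span F {X ^ (n - 1)} :
          Submodule F (Matrix (Fin m ⊕ Fin m) (Fin m ⊕ Fin m) F)) :=
        ((skewSub X).subtype.comp (LinearMap.ker D).subtype).codRestrict _ fun A => by
          obtain ⟨c, hc⟩ := hXk A.1.1 (mem_skewSub.1 A.1.2).1
            (congrArg Subtype.val (LinearMap.mem_ker.1 A.2))
          exact Submodule.mem_span_singleton.2 ⟨c, hc.symm⟩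
      refine (LinearMap.finrank_le_finrank_of_injective (f := g) fun a b h => ?_).trans ?_
      · exact Subtype.ext (Subtype.ext (congrArg Subtype.val h :))
      · refine (finrank_span_le_card ({X ^ (n - 1)} : Set (Matrix (Fin m ⊕ Fin m) (Fin m ⊕ Fin m) F))).trans ?_
        simp
    have h4 : LinearMap.range D < ⊤ := by
      rw [lt_top_iff_ne_top]
      intro htop
      obtain ⟨A, hA⟩ : (⟨1, mem_fixSub.2 ⟨Commute.one_left X, spAdj_one⟩⟩ : fixSub X) ∈
          LinearMap.range D := htop ▸ Submodule.mem_top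
      have hA' : X * A.1 = 1 := congrArg Subtype.val hA
      haveI : Nonempty (Fin m) := ⟨⟨0, hm⟩⟩
      have := (IsUnit.of_mul_eq_one A.1 hA').pow n
      rw [hX.nil] at this
      exact not_isUnit_zero this
    have h5 := Submodule.finrank_lt h4.ne
    omega
  have hdisj : skewSub X ⊓ fixSub X = ⊥ := by
    rw [Submodule.eq_bot_iff]
    intro A hA
    exact hneg A ((mem_skewSub.1 hA.1).2.symm.trans (mem_fixSub.1 hA.2).2)
  have hsup : skewSub X ⊔ fixSub X = commutantSub X := by
    refine le_antisymm (sup_le inf_le_left inf_le_left) fun A hA => ?_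
    have hadjc : Commute (spAdj A) X := by
      have h := congrArg spAdj (show A * X = X * A from hA)
      rw [spAdj_mul, spAdj_mul, hskew, neg_mul, mul_neg, neg_inj] at h
      exact h.symm
    refine Submodule.mem_sup.2 ⟨(2 : F)⁻¹ • (A - spAdj A), mem_skewSub.2 ⟨?_, ?_⟩,
      (2 : F)⁻¹ • (A + spAdj A), mem_fixSub.2 ⟨?_, ?_⟩, ?_⟩
    · exact (Commute.sub_left hA hadjc).smul_left _
    · rw [spAdj_smul, spAdj_sub, spAdj_spAdj, ← smul_neg, neg_sub]
    · exact (Commute.add_left hA hadjc).smul_left _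
    · rw [spAdj_smul, spAdj_add, spAdj_spAdj, add_comm]
    · rw [← smul_add, sub_add_add_cancel, ← two_smul F A, inv_smul_smul₀ h2]
  have h6 := Submodule.finrank_sup_add_finrank_inf_eq (skewSub X) (fixSub X)
  rw [hdisj, hsup, finrank_bot, hC] at h6
  omega

/-- A regular unipotent symplectic element and the skew regular nilpotent `u - u⁻¹`. -/
theorem exists_skew_regular (h2 : (2 : F) ≠ 0) (u : Matrix.symplecticGroup (Fin m) F)
    (hu : IsRegNil ((u : Matrix (Fin m ⊕ Fin m) (Fin m ⊕ Fin m) F) - 1)) :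
    ∃ X : Matrix (Fin m ⊕ Fin m) (Fin m ⊕ Fin m) F, IsRegNil X ∧ spAdj X = -X ∧
      ∀ A, Commute A (u : Matrix (Fin m ⊕ Fin m) (Fin m ⊕ Fin m) F) ↔ Commute A X := by
  classical
  set U := (u : Matrix (Fin m ⊕ Fin m) (Fin m ⊕ Fin m) F) with hU
  set V := spAdj U with hV
  have hVU : V * U = 1 := (mem_symplectic_iff_spAdj _).1 u.2
  have hUV : U * V = 1 := mul_eq_one_comm.1 hVU
  set N := U - 1 with hN
  set W := (U + 1) * V with hW
  have hNU : ∀ A, Commute A U ↔ Commute A N := fun A => by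
    constructor
    · exact fun h => h.sub_right (Commute.one_right A)
    · intro h
      have := h.add_right (Commute.one_right A)
      rwa [hN, sub_add_cancel] at this
  have hWN : Commute W N := by
    refine (hNU W).1 (Commute.mul_left ((Commute.refl U).add_left (Commute.one_left U)) ?_)
    exact hVU.trans hUV.symm
  have hWu : IsUnit W := by
    refine IsUnit.mul ?_ (IsUnit.of_mul_eq_one U hVU)
    have h1 : U + 1 = algebraMap F _ 2 + N := by rw [hN, map_ofNat, ← one_add_one_eq_two]; abel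
    rw [h1]
    exact IsNilpotent.isUnit_add_left_of_commute ⟨_, hu.nil⟩
      ((isUnit_iff_ne_zero.2 h2).map _) (Algebra.commutes 2 N).symm
  have hXeq : U - V = W * N := by
    rw [hWN.eq, hW, hN, ← mul_assoc, mul_add, mul_one, sub_mul U 1 U, one_mul, sub_add_sub_cancel,
      sub_mul, one_mul, mul_assoc, hUV, mul_one]
  refine ⟨U - V, ⟨hu.pos, ?_, ?_⟩, ?_, fun A => ?_⟩
  · rw [hXeq, hWN.mul_pow, hu.nil, mul_zero]
  · rw [hXeq, Matrix.rank_mul_eq_right_of_isUnit_det _ _ ((Matrix.isUnit_iff_isUnit_det _).1 hWu),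
      hu.rank_eq]
  · rw [spAdj_sub, hV, spAdj_spAdj, neg_sub]
  · constructor
    · intro h
      rw [hXeq]
      exact (hu.commute ((hNU A).1 h) hWN).mul_right ((hNU A).1 h)
    · intro h
      refine (hNU A).2 ?_
      have hX : IsRegNil (U - V) := ⟨hu.pos, by rw [hXeq, hWN.mul_pow, hu.nil, mul_zero], by
        rw [hXeq, Matrix.rank_mul_eq_right_of_isUnit_det _ _ ((Matrix.isUnit_iff_isUnit_det _).1 hWu),
          hu.rank_eq]⟩
      refine hX.commute h ?_
      rw [hXeq]
      exact hWN.symm.mul_right (Commute.refl N)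

/-- The centraliser of a regular unipotent element of `Sp_2m(q)`, `q` odd. -/
theorem card_symp_regular_centralizer [Fintype F] (hm : 1 ≤ m) (h2 : (2 : F) ≠ 0)
    (u : Matrix.symplecticGroup (Fin m) F)
    (hu : IsRegNil ((u : Matrix (Fin m ⊕ Fin m) (Fin m ⊕ Fin m) F) - 1)) :
    Nat.card ↥(Subgroup.centralizer ({u} : Set ↥(Matrix.symplecticGroup (Fin m) F))) =
      2 * Fintype.card F ^ m := by
  classical
  haveI : Nonempty (Fin m) := ⟨⟨0, hm⟩⟩
  obtain ⟨X, hX, hskew, hcomm⟩ := exists_skew_regular h2 u hu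
  have hscal0 : ∀ Y ∈ skewSub X, IsNilpotent Y := by
    intro Y hY
    obtain ⟨hc, hs⟩ := mem_skewSub.1 hY
    obtain ⟨c, hn⟩ := hX.exists_scalar hc
    have h1 : IsNilpotent (-Y - c • 1) := by simpa [hs] using spAdj_scalar hn
    have h3 : IsNilpotent (Y - (-c) • 1) := by
      have := h1.neg
      rwa [neg_sub, sub_neg_eq_add, add_comm, ← sub_neg_eq_add, ← neg_smul] at this
    have h4 : c = -c := IsRegNil.scalar_unique hn h3
    have h5 : c = 0 := by
      have : (2 : F) * c = 0 := by rw [two_mul]; nth_rw 1 [h4]; rw [neg_add_cancel]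
      exact (mul_eq_zero.1 this).resolve_left h2
    simpa [h5] using hn
  have htwo : IsUnit (algebraMap F (Matrix (Fin m ⊕ Fin m) (Fin m ⊕ Fin m) F) 2) :=
    (isUnit_iff_ne_zero.2 h2).map _
  -- Cayley transform
  let T : Bool × skewSub X → Matrix (Fin m ⊕ Fin m) (Fin m ⊕ Fin m) F := fun p =>
    (if p.1 then 1 else -1 : F) • ((1 + (p.2 : Matrix (Fin m ⊕ Fin m) (Fin m ⊕ Fin m) F)) *
      Ring.inverse (1 - (p.2 : Matrix (Fin m ⊕ Fin m) (Fin m ⊕ Fin m) F)))
  have hT : ∀ p, Commute (T p) X ∧ spAdj (T p) * T p = 1 ∧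
      IsNilpotent (T p - (if p.1 then 1 else -1 : F) • 1) ∧
      T p * (1 - (p.2 : Matrix (Fin m ⊕ Fin m) (Fin m ⊕ Fin m) F)) =
        (if p.1 then 1 else -1 : F) • (1 + (p.2 : Matrix (Fin m ⊕ Fin m) (Fin m ⊕ Fin m) F)) := by
    rintro ⟨b, Y⟩
    obtain ⟨hc, hs⟩ := mem_skewSub.1 Y.2
    set s : F := if b then 1 else -1 with hs'
    have hss : s * s = 1 := by rw [hs']; split_ifs <;> simp
    set y : Matrix (Fin m ⊕ Fin m) (Fin m ⊕ Fin m) F := Y.1 with hy
    have hu1 : IsUnit (1 - y) := (hscal0 Y.1 Y.2).isUnit_one_sub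
    set I := Ring.inverse (1 - y) with hI
    have hI1 : I * (1 - y) = 1 := Ring.inverse_mul_cancel _ hu1
    have hI2 : (1 - y) * I = 1 := Ring.mul_inverse_cancel _ hu1
    have hcy : Commute (1 - y) X := (Commute.one_left X).sub_left hc
    have hIX : Commute I X := by
      show I * X = X * I
      calc I * X = I * X * ((1 - y) * I) := by rw [hI2, mul_one]
        _ = I * ((1 - y) * X) * I := by rw [hcy.eq]; simp only [mul_assoc]
        _ = X * I := by rw [← mul_assoc I, hI1, one_mul]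
    have hyI : Commute y I := hX.commute hc hIX
    refine ⟨(((Commute.one_left X).add_left hc).mul_left hIX).smul_left s, ?_, ?_, ?_⟩
    · show spAdj (s • ((1 + y) * I)) * (s • ((1 + y) * I)) = 1
      have hIa : spAdj I * (1 + y) = 1 := by
        have := congrArg spAdj hI2
        rwa [spAdj_mul, spAdj_sub, spAdj_one, hs, sub_neg_eq_add] at this
      rw [spAdj_smul, smul_mul_smul_comm, hss, one_smul, spAdj_mul, spAdj_add, spAdj_one, hs,
        ← sub_eq_add_neg]
      calc spAdj I * (1 - y) * ((1 + y) * I) = spAdj I * ((1 - y) * (1 + y)) * I := by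
            simp only [mul_assoc]
        _ = spAdj I * ((1 + y) * (1 - y)) * I := by
            congr 2; noncomm_ring
        _ = spAdj I * (1 + y) * ((1 - y) * I) := by simp only [mul_assoc]
        _ = 1 := by rw [hIa, hI2, mul_one]
    · have e : s • ((1 + y) * I) - s • (1 : Matrix (Fin m ⊕ Fin m) (Fin m ⊕ Fin m) F) =
          s • ((y + y) * I) := by
        rw [← smul_sub]
        congr 1
        nth_rw 2 [← hI2]
        rw [← sub_mul]; congr 1; abel
      show IsNilpotent (s • ((1 + y) * I) - s • 1)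
      rw [e]
      refine (Commute.isNilpotent_mul_right (hyI.add_left hyI) ?_).smul s
      exact (Commute.refl y).isNilpotent_add (hscal0 Y.1 Y.2) (hscal0 Y.1 Y.2)
    · show s • ((1 + y) * I) * (1 - y) = s • (1 + y)
      rw [smul_mul_assoc, mul_assoc, hI1, mul_one]
  let toC : Bool × skewSub X →
      {A : Matrix (Fin m ⊕ Fin m) (Fin m ⊕ Fin m) F // Commute A X ∧ spAdj A * A = 1} :=
    fun p => ⟨T p, (hT p).1, (hT p).2.1⟩
  have hbij : Function.Bijective toC := by
    constructor
    · rintro ⟨b, Y⟩ ⟨b', Y'⟩ h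
      have hTT : T (b, Y) = T (b', Y') := congrArg Subtype.val h
      obtain ⟨-, -, hn, he⟩ := hT (b, Y)
      obtain ⟨-, -, hn', he'⟩ := hT (b', Y')
      have hb : b = b' := by
        rw [hTT] at hn
        have := IsRegNil.scalar_unique hn hn'
        rcases b <;> rcases b' <;> simp at this ⊢
        · exact h2 (by linear_combination (norm := ring_nf) -this)
        · exact h2 (by linear_combination (norm := ring_nf) this)
      subst hb
      set s : F := if b then 1 else -1 with hs'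
      have hs0 : s ≠ 0 := by rw [hs']; split_ifs <;> simp
      refine Prod.ext rfl (Subtype.ext ?_)
      have hzero : (T (b, Y) + s • 1) * ((Y : Matrix (Fin m ⊕ Fin m) (Fin m ⊕ Fin m) F) - Y'.1) = 0 := by
        rw [← hTT] at he'
        have e1 : T (b, Y) * Y.1 = T (b, Y) - s • (1 + Y.1) := by
          rw [← he, mul_sub, mul_one, sub_sub_cancel]
        have e2 : T (b, Y) * Y'.1 = T (b, Y) - s • (1 + Y'.1) := by
          rw [← he', mul_sub, mul_one, sub_sub_cancel]
        rw [add_mul, mul_sub, e1, e2, smul_mul_assoc, one_mul]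
        module
      have hu2 : IsUnit (T (b, Y) + s • 1) := by
        have e : T (b, Y) + s • 1 =
            algebraMap F _ (2 * s) + (T (b, Y) - s • 1) := by
          rw [Algebra.algebraMap_eq_smul_one, two_mul, add_smul]; abel
        rw [e]
        exact hn.isUnit_add_left_of_commute ((isUnit_iff_ne_zero.2 (mul_ne_zero h2 hs0)).map _)
          (Algebra.commutes (2 * s) _).symm
      exact sub_eq_zero.1 ((hu2.mul_right_eq_zero).1 hzero)
    · rintro ⟨A, hA, hnorm⟩
      obtain ⟨c, hn⟩ := hX.exists_scalar hA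
      have hadjc : Commute (spAdj A) A :=
        (hnorm.trans (mul_eq_one_comm.1 hnorm).symm :)
      have hcc : c * c = 1 := by
        have h1 := IsRegNil.scalar_mul hadjc (spAdj_scalar hn) hn
        rw [hnorm] at h1
        exact (IsRegNil.scalar_unique (c := c * c) (d := 1) h1
          (by rw [one_smul, sub_self]; exact IsNilpotent.zero))
      have hc0 : c ≠ 0 := fun h => by simp [h] at hcc
      have hu3 : IsUnit (A + c • 1) := by
        have e : A + c • 1 = algebraMap F _ (2 * c) + (A - c • 1) := by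
          rw [Algebra.algebraMap_eq_smul_one, two_mul, add_smul]; abel
        rw [e]
        exact hn.isUnit_add_left_of_commute ((isUnit_iff_ne_zero.2 (mul_ne_zero h2 hc0)).map _)
          (Algebra.commutes (2 * c) _).symm
      set I := Ring.inverse (A + c • 1) with hI
      have hI2 : (A + c • 1) * I = 1 := Ring.mul_inverse_cancel _ hu3
      have hI1 : I * (A + c • 1) = 1 := Ring.inverse_mul_cancel _ hu3
      have hIX : Commute I X := by
        have h0 : Commute (A + c • 1) X := hA.add_left ((Commute.one_left X).smul_left c)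
        show I * X = X * I
        calc I * X = I * X * ((A + c • 1) * I) := by rw [hI2, mul_one]
          _ = I * ((A + c • 1) * X) * I := by rw [h0.eq]; simp only [mul_assoc]
          _ = X * I := by rw [← mul_assoc I, hI1, one_mul]
      set Y := I * (A - c • 1) with hY
      have hYX : Commute Y X := hIX.mul_left (hA.sub_left ((Commute.one_left X).smul_left c))
      have hYe : (A + c • 1) * Y = A - c • 1 := by rw [hY, ← mul_assoc, hI2, one_mul]
      have hYs : spAdj Y = -Y := by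
        have h1 : spAdj Y * (spAdj A + c • 1) = spAdj A - c • 1 := by
          have := congrArg spAdj hYe
          rwa [spAdj_mul, spAdj_add, spAdj_sub, spAdj_smul, spAdj_one] at this
        have e1 : (spAdj A + c • 1) * A = c • (A + c • 1) := by
          rw [add_mul, hnorm, smul_mul_assoc, one_mul, smul_add, smul_smul, hcc, one_smul, add_comm]
        have e2 : (spAdj A - c • 1) * A = -(c • (A - c • 1)) := by
          rw [sub_mul, hnorm, smul_mul_assoc, one_mul, smul_sub, smul_smul, hcc, one_smul, neg_sub]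
        have h3 := congrArg (· * A) h1
        simp only [mul_assoc, e1, e2, mul_smul_comm, ← smul_neg] at h3
        have h4 := smul_right_injective _ hc0 h3
        refine hu3.mul_right_cancel ?_
        rw [h4, neg_mul, ← (hX.commute hYX (hA.add_left ((Commute.one_left X).smul_left c))).symm.eq,
          hYe]
      let b : Bool := decide (c = 1)
      have hb : (if b then 1 else -1 : F) = c := by
        by_cases h : c = 1
        · simp [b, h]
        · have : c = -1 := (mul_self_eq_one_iff.1 hcc).resolve_left h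
          rw [if_neg (by simp [b, h]), this]
      refine ⟨(b, ⟨Y, mem_skewSub.2 ⟨hYX, hYs⟩⟩), Subtype.ext ?_⟩
      obtain ⟨-, -, -, he⟩ := hT (b, ⟨Y, mem_skewSub.2 ⟨hYX, hYs⟩⟩)
      rw [hb] at he
      refine ((hscal0 Y (mem_skewSub.2 ⟨hYX, hYs⟩)).isUnit_one_sub.mul_right_cancel ?_)
      show T _ * (1 - Y) = A * (1 - Y)
      rw [he]
      have h5 : A * Y = A - c • 1 - c • Y := by
        rw [← hYe, add_mul, smul_mul_assoc, one_mul, add_sub_cancel_right]
      rw [mul_sub, mul_one, h5, smul_add]; abel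
  have hcent : Nat.card ↥(Subgroup.centralizer ({u} : Set ↥(Matrix.symplecticGroup (Fin m) F))) =
      Nat.card {A : Matrix (Fin m ⊕ Fin m) (Fin m ⊕ Fin m) F // Commute A X ∧ spAdj A * A = 1} :=
    Nat.card_congr
      { toFun := fun g => ⟨g.1.1, (hcomm _).1 (congrArg Subtype.val
          (Subgroup.mem_centralizer_singleton_iff.1 g.2)), (mem_symplectic_iff_spAdj _).1 g.1.2⟩
        invFun := fun A => ⟨⟨A.1, (mem_symplectic_iff_spAdj _).2 A.2.2⟩,
          Subgroup.mem_centralizer_singleton_iff.2 (Subtype.ext ((hcomm _).2 A.2.1).eq)⟩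
        left_inv := fun g => Subtype.ext (Subtype.ext rfl)
        right_inv := fun A => Subtype.ext rfl }
  rw [hcent, ← Nat.card_eq_of_bijective toC hbij, Nat.card_prod, Nat.card_eq_fintype_card (α := Bool),
    Fintype.card_bool, Module.natCard_eq_pow_finrank (K := F), finrank_skewSub h2 hX hskew,
    Nat.card_eq_fintype_card]

/-- The twist by a similitude. -/
def sympTwist (ε : F) : Matrix (Fin m ⊕ Fin m) (Fin m ⊕ Fin m) F :=
  Matrix.fromBlocks 1 0 0 (ε • 1)

theorem spAdj_sympTwist (ε : F) :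
    spAdj (sympTwist (m := m) ε) * sympTwist ε = ε • 1 := by
  simp [spAdj, sympTwist, Matrix.J, Matrix.fromBlocks_transpose, Matrix.fromBlocks_multiply,
    Matrix.fromBlocks_neg, ← Matrix.fromBlocks_one, Matrix.fromBlocks_smul]

/-- Regular unipotent elements of `Sp_2m(q)`, `q` odd, form two classes. -/
theorem card_symp_regular_classes [Fintype F] (hm : 1 ≤ m) (h2 : (2 : F) ≠ 0) :
    Nat.card {C : ConjClasses ↥(Matrix.symplecticGroup (Fin m) F) //
      ∃ u : Matrix.symplecticGroup (Fin m) F, ConjClasses.mk u = C ∧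
        IsRegNil ((u : Matrix (Fin m ⊕ Fin m) (Fin m ⊕ Fin m) F) - 1)} = 2 := by
  classical
  haveI : Nonempty (Fin m) := ⟨⟨0, hm⟩⟩
  obtain ⟨u₀, hu₀⟩ := exists_regular_symplectic (F := F) hm
  obtain ⟨ε, hε⟩ : ∃ ε : F, ¬ IsSquare ε :=
    FiniteField.exists_nonsquare (fun h => h2 (by
      have := CharP.cast_eq_zero F (ringChar F)
      rw [h] at this
      exact_mod_cast this))
  have hε0 : ε ≠ 0 := fun h => hε (h ▸ IsSquare.zero)
  set D := sympTwist (m := m) ε with hD
  have hDu : IsUnit D := by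
    refine ⟨⟨D, ε⁻¹ • spAdj D, ?_, ?_⟩, rfl⟩
    · refine mul_eq_one_comm.1 ?_
      rw [smul_mul_assoc, spAdj_sympTwist, smul_smul, inv_mul_cancel₀ hε0, one_smul]
    · rw [smul_mul_assoc, spAdj_sympTwist, smul_smul, inv_mul_cancel₀ hε0, one_smul]
  set D' := ε⁻¹ • spAdj D with hD'
  have hD'D : D' * D = 1 := by
    rw [hD', smul_mul_assoc, spAdj_sympTwist, smul_smul, inv_mul_cancel₀ hε0, one_smul]
  have hDD' : D * D' = 1 := mul_eq_one_comm.1 hD'D
  have haD' : spAdj D' = ε⁻¹ • D := by rw [hD', spAdj_smul, spAdj_spAdj]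
  have haD : spAdj D = ε • D' := by rw [hD', smul_smul, mul_inv_cancel₀ hε0, one_smul]
  set U₀ := (u₀ : Matrix (Fin m ⊕ Fin m) (Fin m ⊕ Fin m) F) with hU₀
  set U₁ := D * U₀ * D' with hU₁
  have hmem₁ : U₁ ∈ Matrix.symplecticGroup (Fin m) F := by
    rw [mem_symplectic_iff_spAdj]
    have h := (mem_symplectic_iff_spAdj _).1 u₀.2
    rw [hU₁, spAdj_mul, spAdj_mul, haD', haD]
    simp only [smul_mul_assoc, mul_smul_comm, smul_smul, inv_mul_cancel₀ hε0, mul_inv_cancel₀ hε0,
      one_smul]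
    calc D * (spAdj U₀ * D') * (D * U₀ * D') = D * spAdj U₀ * (D' * D) * U₀ * D' := by
          simp only [mul_assoc]
      _ = D * (spAdj U₀ * U₀) * D' := by rw [hD'D, mul_one]; simp only [mul_assoc]
      _ = 1 := by rw [h, mul_one, hDD']
  set u₁ : Matrix.symplecticGroup (Fin m) F := ⟨U₁, hmem₁⟩ with hu₁def
  have hu₁ : IsRegNil ((u₁ : Matrix (Fin m ⊕ Fin m) (Fin m ⊕ Fin m) F) - 1) := by
    show IsRegNil (U₁ - 1)
    have e : U₁ - 1 = D * (U₀ - 1) * D' := by rw [mul_sub, sub_mul, mul_one, hDD']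
    refine ⟨hu₀.pos, ?_, ?_⟩
    · let d : GL (Fin m ⊕ Fin m) F := ⟨D, D', hDD', hD'D⟩
      rw [e]
      show ((d : Matrix (Fin m ⊕ Fin m) (Fin m ⊕ Fin m) F) * (U₀ - 1) *
        ((d⁻¹ : GL (Fin m ⊕ Fin m) F) : Matrix (Fin m ⊕ Fin m) (Fin m ⊕ Fin m) F)) ^ _ = 0
      rw [Units.conj_pow, hu₀.nil, mul_zero, zero_mul]
    · rw [e, Matrix.rank_mul_eq_left_of_isUnit_det _ _ ((Matrix.isUnit_iff_isUnit_det _).1
        (IsUnit.of_mul_eq_one D hD'D)), Matrix.rank_mul_eq_right_of_isUnit_det _ _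
        ((Matrix.isUnit_iff_isUnit_det _).1 hDu), hu₀.rank_eq]
  -- a conjugating matrix whose norm has square scalar gives conjugacy
  have hconj : ∀ (a b : Matrix.symplecticGroup (Fin m) F) (G : GL (Fin m ⊕ Fin m) F) (d : F),
      IsRegNil ((a : Matrix (Fin m ⊕ Fin m) (Fin m ⊕ Fin m) F) - 1) → d ≠ 0 →
      (G : Matrix (Fin m ⊕ Fin m) (Fin m ⊕ Fin m) F) * a.1 = b.1 * G.1 →
      IsNilpotent (spAdj G.1 * G.1 - (d * d) • 1) → IsConj a b := by
    intro a b G d ha hd hab hscal
    have hcm : Commute (spAdj G.1 * G.1) a.1 := by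
      have h1 : spAdj a.1 * spAdj G.1 = spAdj G.1 * spAdj b.1 := by
        rw [← spAdj_mul, ← spAdj_mul, hab]
      have ha' := (mem_symplectic_iff_spAdj _).1 a.2
      have hb' := (mem_symplectic_iff_spAdj _).1 b.2
      show spAdj G.1 * G.1 * a.1 = a.1 * (spAdj G.1 * G.1)
      calc spAdj G.1 * G.1 * a.1 = (a.1 * spAdj a.1) * (spAdj G.1 * b.1 * G.1) := by
            rw [mul_eq_one_comm.1 ha', one_mul, mul_assoc, hab, mul_assoc]
        _ = a.1 * (spAdj G.1 * (spAdj b.1 * b.1) * G.1) := by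
            rw [mul_assoc a.1, ← mul_assoc (spAdj a.1), ← mul_assoc (spAdj a.1), h1]
            simp only [mul_assoc]
        _ = _ := by rw [hb', mul_one]
    obtain ⟨f, hfc, hf⟩ := exists_spAdj_norm hm h2 (N := a.1)
      (by rw [spAdj_mul, spAdj_spAdj]) hcm hd hscal
    have hmem : (G * f⁻¹ : GL (Fin m ⊕ Fin m) F).1 ∈ Matrix.symplecticGroup (Fin m) F := by
      rw [mem_symplectic_iff_spAdj, Units.val_mul, spAdj_mul]
      calc spAdj f⁻¹.1 * spAdj G.1 * (G.1 * f⁻¹.1) = spAdj f⁻¹.1 * (spAdj G.1 * G.1) * f⁻¹.1 := by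
            simp only [mul_assoc]
        _ = spAdj f⁻¹.1 * spAdj f.1 * (f.1 * f⁻¹.1) := by rw [← hf]; simp only [mul_assoc]
        _ = 1 := by rw [← spAdj_mul, Units.mul_inv, spAdj_one, mul_one]
    refine isConj_iff.2 ⟨⟨_, hmem⟩, mul_inv_eq_iff_eq_mul.2 (Subtype.ext ?_)⟩
    show (G.1 * f⁻¹.1) * a.1 = b.1 * (G.1 * f⁻¹.1)
    rw [mul_assoc, (Commute.units_inv_left hfc).eq, ← mul_assoc, hab, mul_assoc]
  have hnot : ¬ IsConj u₀ u₁ := by
    intro h
    obtain ⟨s, hs⟩ := isConj_iff.1 h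
    have hs' : s.1 * U₀ = U₁ * s.1 := congrArg Subtype.val (mul_inv_eq_iff_eq_mul.1 hs)
    set f := D' * s.1 with hf
    have hfc : Commute f U₀ := by
      show f * U₀ = U₀ * f
      rw [hf, mul_assoc, hs', hU₁, ← mul_assoc D', ← mul_assoc D', ← mul_assoc D', hD'D, one_mul,
        mul_assoc]
    have hnorm : spAdj f * f = ε⁻¹ • 1 := by
      rw [hf, spAdj_mul, haD', mul_smul_comm, smul_mul_assoc, mul_assoc, ← mul_assoc D, hDD', one_mul,
        (mem_symplectic_iff_spAdj _).1 s.2]
    obtain ⟨c, hc⟩ := hu₀.exists_scalar (hfc.sub_right (Commute.one_right f))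
    have hcm2 : Commute (spAdj f) f := by
      show spAdj f * f = f * spAdj f
      have h5 : (ε • spAdj f) * f = 1 := by
        rw [smul_mul_assoc, hnorm, smul_smul, mul_inv_cancel₀ hε0, one_smul]
      have h6 := mul_eq_one_comm.1 h5
      rw [smul_mul_assoc] at h5
      rw [mul_smul_comm] at h6
      exact smul_right_injective _ hε0 (h5.trans h6.symm)
    have h1 := IsRegNil.scalar_mul hcm2 (spAdj_scalar hc) hc
    rw [hnorm] at h1
    have h3 := IsRegNil.scalar_unique (c := c * c) (d := ε⁻¹) h1 (by rw [sub_self]; exact IsNilpotent.zero)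
    exact hε ⟨c⁻¹, by rw [← mul_inv, h3, inv_inv]⟩
  let Φ : Bool → {C : ConjClasses ↥(Matrix.symplecticGroup (Fin m) F) //
      ∃ u : Matrix.symplecticGroup (Fin m) F, ConjClasses.mk u = C ∧
        IsRegNil ((u : Matrix (Fin m ⊕ Fin m) (Fin m ⊕ Fin m) F) - 1)} := fun b =>
    if b then ⟨ConjClasses.mk u₁, u₁, rfl, hu₁⟩ else ⟨ConjClasses.mk u₀, u₀, rfl, hu₀⟩
  have hΦ : Function.Bijective Φ := by
    constructor
    · intro a b h
      rcases a <;> rcases b
      · rfl
      · exact absurd (ConjClasses.mk_eq_mk_iff_isConj.1 (congrArg Subtype.val h)) hnot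
      · exact absurd (ConjClasses.mk_eq_mk_iff_isConj.1 (congrArg Subtype.val h).symm) hnot
      · rfl
    · rintro ⟨C, u, rfl, hu⟩
      obtain ⟨G, hG⟩ := hu₀.exists_conj hu
      have hG' : G.1 * U₀ = u.1 * G.1 := by
        rwa [mul_sub, sub_mul, mul_one, one_mul, sub_left_inj] at hG
      have hgu : IsUnit (spAdj G.1 * G.1) := by
        refine (IsUnit.mul ?_ G.isUnit)
        exact IsUnit.of_mul_eq_one (spAdj G⁻¹.1) (by rw [← spAdj_mul, Units.inv_mul, spAdj_one])
      have hcm : Commute (spAdj G.1 * G.1) U₀ := by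
        have h1 : spAdj U₀ * spAdj G.1 = spAdj G.1 * spAdj u.1 := by
          rw [← spAdj_mul, ← spAdj_mul, hG']
        have ha' := (mem_symplectic_iff_spAdj _).1 u₀.2
        have hb' := (mem_symplectic_iff_spAdj _).1 u.2
        show spAdj G.1 * G.1 * U₀ = U₀ * (spAdj G.1 * G.1)
        calc spAdj G.1 * G.1 * U₀ = (U₀ * spAdj U₀) * (spAdj G.1 * u.1 * G.1) := by
              rw [mul_eq_one_comm.1 ha', one_mul, mul_assoc, hG', mul_assoc]
          _ = U₀ * (spAdj G.1 * (spAdj u.1 * u.1) * G.1) := by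
              rw [mul_assoc U₀, ← mul_assoc (spAdj U₀), ← mul_assoc (spAdj U₀), h1]
              simp only [mul_assoc]
          _ = _ := by rw [hb', mul_one]
      obtain ⟨c, hc⟩ := hu₀.exists_scalar (hcm.sub_right (Commute.one_right _))
      have hc0 : c ≠ 0 := (IsRegNil.isUnit_iff_scalar hc).1 hgu
      by_cases hsq : IsSquare c
      · obtain ⟨d, hd⟩ := hsq
        refine ⟨false, Subtype.ext (ConjClasses.mk_eq_mk_iff_isConj.2 (hconj u₀ u G d hu₀ ?_ hG' ?_))⟩
        · rintro rfl; exact hc0 (by rw [hd, mul_zero])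
        · rwa [← hd]
      · obtain ⟨d, hd⟩ : IsSquare (c * ε⁻¹) := by
          have : IsSquare ε⁻¹ ↔ IsSquare ε := isSquare_inv
          exact CfsgLib.Geom.isSquare_mul_of_not _ _ hsq (fun h => hε (this.1 h))
        let d' : GL (Fin m ⊕ Fin m) F := ⟨D', D, hD'D, hDD'⟩
        refine ⟨true, Subtype.ext (ConjClasses.mk_eq_mk_iff_isConj.2
          (hconj u₁ u (G * d') d hu₁ ?_ ?_ ?_))⟩
        · rintro rfl; exact mul_ne_zero hc0 (inv_ne_zero hε0) (by rw [hd, mul_zero])
        · show G.1 * D' * U₁ = u.1 * (G.1 * D')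
          rw [hU₁, mul_assoc, ← mul_assoc D', ← mul_assoc D', hD'D, one_mul, ← mul_assoc, hG', mul_assoc]
        · show IsNilpotent (spAdj (G.1 * D') * (G.1 * D') - (d * d) • 1)
          rw [← hd]
          have e : spAdj (G.1 * D') * (G.1 * D') - (c * ε⁻¹) • 1 =
              ε⁻¹ • (D * (spAdj G.1 * G.1 - c • 1) * D') := by
            have e1 : spAdj (G.1 * D') * (G.1 * D') = ε⁻¹ • (D * (spAdj G.1 * G.1) * D') := by
              rw [spAdj_mul, haD', smul_mul_assoc, smul_mul_assoc]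
              simp only [mul_assoc]
            have e2 : D * (c • (1 : Matrix (Fin m ⊕ Fin m) (Fin m ⊕ Fin m) F)) * D' = c • 1 := by
              rw [show D * (c • (1 : Matrix (Fin m ⊕ Fin m) (Fin m ⊕ Fin m) F)) = c • D by
                  rw [Matrix.mul_smul, mul_one], Matrix.smul_mul, hDD']
            rw [e1, mul_sub, sub_mul, e2, smul_sub, smul_smul, mul_comm ε⁻¹ c]
          rw [e]
          obtain ⟨k, hk⟩ := hc
          refine IsNilpotent.smul ⟨k, ?_⟩ _
          let dd : GL (Fin m ⊕ Fin m) F := ⟨D, D', hDD', hD'D⟩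
          show ((dd : Matrix (Fin m ⊕ Fin m) (Fin m ⊕ Fin m) F) * _ *
            ((dd⁻¹ : GL (Fin m ⊕ Fin m) F) : Matrix (Fin m ⊕ Fin m) (Fin m ⊕ Fin m) F)) ^ _ = 0
          rw [Units.conj_pow, hk, mul_zero, zero_mul]
  rw [← Nat.card_eq_of_bijective Φ hΦ, Nat.card_eq_fintype_card, Fintype.card_bool]

end CfsgLib.KnownC
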