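import Mathlib

set_option autoImplicit false

/-!
Every endomorphism is self-adjoint for some nondegenerate bilinear form; so every square matrix over a
field is similar to its transpose.
-/

namespace CfsgLib.KnownC

open Polynomial Module

variable {F : Type*} [Field F]

/-- The coefficient of `X^(deg f - 1)` of the residue modulo `f`. -/
noncomputable def topCoeff (f : F[X]) : F[X] →ₗ[F] F :=
  (Polynomial.lcoeff F (f.natDegree - 1)).comp
    (Polynomial.modByMonicHom (f * Polynomial.C f.leadingCoeff⁻¹))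

theorem topCoeff_eq_of_dvd {f : F[X]} (hf : f ≠ 0) {a b : F[X]} (h : f ∣ a - b) :
    topCoeff f a = topCoeff f b := by
  have hm : (f * Polynomial.C f.leadingCoeff⁻¹).Monic := monic_mul_leadingCoeff_inv hf
  refine congrArg (fun q : F[X] => q.coeff _) ?_
  show a %ₘ (f * Polynomial.C f.leadingCoeff⁻¹) = b %ₘ (f * Polynomial.C f.leadingCoeff⁻¹)
  refine Polynomial.modByMonic_eq_of_dvd_sub hm ?_
  exact (Associated.dvd_iff_dvd_left
    ⟨(isUnit_C.2 (Ne.isUnit (inv_ne_zero (leadingCoeff_ne_zero.2 hf)))).unit, rfl⟩).1 h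

theorem exists_topCoeff_ne_zero {f : F[X]} (hf : f ≠ 0) {a : F[X]} (ha : ¬f ∣ a) :
    ∃ b, topCoeff f (a * b) ≠ 0 := by
  set g := f * Polynomial.C f.leadingCoeff⁻¹ with hg
  have hm : g.Monic := monic_mul_leadingCoeff_inv hf
  have hdeg : g.natDegree = f.natDegree := natDegree_mul_C (inv_ne_zero (leadingCoeff_ne_zero.2 hf))
  have hassoc : Associated f g :=
    ⟨(isUnit_C.2 (Ne.isUnit (inv_ne_zero (leadingCoeff_ne_zero.2 hf)))).unit, rfl⟩
  set r := a %ₘ g with hr
  have hr0 : r ≠ 0 := fun h0 => ha (hassoc.dvd.trans ((modByMonic_eq_zero_iff_dvd hm).1 h0))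
  have hg1 : g ≠ 1 := fun h1 => ha (hassoc.dvd.trans (h1 ▸ one_dvd a))
  have hrdeg : r.natDegree < g.natDegree := natDegree_modByMonic_lt a hm hg1
  refine ⟨X ^ (g.natDegree - 1 - r.natDegree), ?_⟩
  have hdvd : f ∣ a * X ^ (g.natDegree - 1 - r.natDegree) - r * X ^ (g.natDegree - 1 - r.natDegree) := by
    rw [← sub_mul]
    refine Dvd.dvd.mul_right (hassoc.dvd.trans ?_) _
    exact ⟨a /ₘ g, by rw [hr, sub_eq_iff_eq_add, add_comm]; exact (modByMonic_add_div a g).symm⟩
  rw [topCoeff_eq_of_dvd hf hdvd]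
  show (((r * X ^ _) %ₘ g).coeff (f.natDegree - 1)) ≠ 0
  have hlt : (r * X ^ (g.natDegree - 1 - r.natDegree)).degree < g.degree := by
    refine degree_lt_degree ?_
    rw [natDegree_mul_X_pow _ hr0]
    omega
  rw [(modByMonic_eq_self_iff hm).2 hlt, ← hdeg,
    show g.natDegree - 1 = r.natDegree + (g.natDegree - 1 - r.natDegree) by omega,
    Nat.add_sub_cancel_left, coeff_mul_X_pow]
  exact leadingCoeff_ne_zero.2 hr0

/-- Every endomorphism of a finite-dimensional space is self-adjoint for a nondegenerate form. -/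
theorem exists_selfAdjoint_form {V : Type*} [AddCommGroup V] [Module F V] [FiniteDimensional F V]
    (φ : V →ₗ[F] V) :
    ∃ B : V →ₗ[F] V →ₗ[F] F, (∀ v w, B (φ v) w = B v (φ w)) ∧
      (∀ v, (∀ w, B v w = 0) → v = 0) := by
  classical
  obtain ⟨ι, _, p, hp, e, ⟨E⟩⟩ := Module.equiv_directSum_of_isTorsion
    (R := F[X]) (M := AEval' φ) (AEval.isTorsion_of_finiteDimensional F V φ)
  let f : ι → F[X] := fun i => p i ^ e i
  have hf : ∀ i, f i ≠ 0 := fun i => pow_ne_zero _ (hp i).ne_zero
  -- representatives of the components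
  let rep : V → ι → F[X] := fun v i =>
    Quotient.out ((E (AEval'.of φ v)) i : F[X] ⧸ (F[X] ∙ f i))
  have hmk : ∀ v i, (Submodule.Quotient.mk (rep v i) : F[X] ⧸ (F[X] ∙ f i)) = E (AEval'.of φ v) i :=
    fun v i => Quotient.out_eq _
  have hcongr : ∀ i (a b c : F[X]),
      (Submodule.Quotient.mk a : F[X] ⧸ (F[X] ∙ f i)) = Submodule.Quotient.mk b →
        topCoeff (f i) (a * c) = topCoeff (f i) (b * c) := fun i a b c h => by
    rw [Submodule.Quotient.eq] at h
    refine topCoeff_eq_of_dvd (hf i) ?_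
    rw [← sub_mul]
    exact Dvd.dvd.mul_right (Ideal.mem_span_singleton.1 h) _
  have hadd : ∀ v w i (c : F[X]), topCoeff (f i) (rep (v + w) i * c) =
      topCoeff (f i) (rep v i * c) + topCoeff (f i) (rep w i * c) := fun v w i c => by
    rw [← map_add, ← add_mul]
    refine hcongr i _ _ c ?_
    rw [Submodule.Quotient.mk_add, hmk, hmk, hmk, map_add, map_add]
    rfl
  have hsmul : ∀ (a : F) v i (c : F[X]), topCoeff (f i) (rep (a • v) i * c) =
      a • topCoeff (f i) (rep v i * c) := fun a v i c => by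
    rw [← map_smul, ← smul_mul_assoc]
    refine hcongr i _ _ c ?_
    rw [Submodule.Quotient.mk_smul, hmk, hmk, map_smul]
    rw [← IsScalarTower.algebraMap_smul F[X] a (AEval'.of φ v), map_smul,
      ← IsScalarTower.algebraMap_smul F[X] a ((E (AEval'.of φ v)) i)]
    rfl
  have hcomm : ∀ v w, ∑ i, topCoeff (f i) (rep v i * rep w i) =
      ∑ i, topCoeff (f i) (rep w i * rep v i) := fun v w =>
    Finset.sum_congr rfl fun i _ => by rw [mul_comm]
  let B : V →ₗ[F] V →ₗ[F] F := LinearMap.mk₂ F (fun v w => ∑ i, topCoeff (f i) (rep v i * rep w i))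
    (fun v v' w => by rw [← Finset.sum_add_distrib]; exact Finset.sum_congr rfl fun i _ => hadd v v' i _)
    (fun a v w => by rw [Finset.smul_sum]; exact Finset.sum_congr rfl fun i _ => hsmul a v i _)
    (fun v w w' => by
      rw [hcomm v, hcomm v w, hcomm v w', ← Finset.sum_add_distrib]
      exact Finset.sum_congr rfl fun i _ => hadd w w' i _)
    (fun a v w => by
      rw [hcomm v, hcomm v w, Finset.smul_sum]
      exact Finset.sum_congr rfl fun i _ => hsmul a w i _)
  refine ⟨B, fun v w => ?_, fun v hv => ?_⟩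
  · have hX : ∀ u i, (Submodule.Quotient.mk (rep (φ u) i) : F[X] ⧸ (F[X] ∙ f i)) =
        Submodule.Quotient.mk (X * rep u i) := fun u i => by
      rw [← smul_eq_mul, Submodule.Quotient.mk_smul, hmk, hmk, ← AEval'.X_smul_of, map_smul]
      rfl
    show ∑ i, topCoeff (f i) (rep (φ v) i * rep w i) = ∑ i, topCoeff (f i) (rep v i * rep (φ w) i)
    refine Finset.sum_congr rfl fun i _ => ?_
    rw [hcongr i _ _ _ (hX v i), mul_comm (rep v i), hcongr i _ _ _ (hX w i)]
    ring_nf
  · have key : ∀ i, f i ∣ rep v i := fun i => by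
      by_contra hndvd
      obtain ⟨c, hc⟩ := exists_topCoeff_ne_zero (hf i) hndvd
      refine hc ?_
      let w := (AEval'.of φ).symm (E.symm (DirectSum.of _ i (Submodule.Quotient.mk c)))
      have hw : ∀ j, (Submodule.Quotient.mk (rep w j) : F[X] ⧸ (F[X] ∙ f j)) =
          DirectSum.of (fun j => F[X] ⧸ (F[X] ∙ f j)) i (Submodule.Quotient.mk c) j := fun j => by
        rw [hmk, LinearEquiv.apply_symm_apply, LinearEquiv.apply_symm_apply]
      have h0 : ∑ j, topCoeff (f j) (rep v j * rep w j) = 0 := hv w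
      rw [Finset.sum_eq_single i (fun j _ hj => ?_) (fun h => absurd (Finset.mem_univ i) h)] at h0
      · rw [← h0, mul_comm, mul_comm (rep v i)]
        refine (hcongr i _ _ _ ?_).symm
        rw [hw i, DirectSum.of_eq_same]
      · rw [mul_comm, hcongr j _ 0 _ (by rw [hw j, DirectSum.of_eq_of_ne _ _ _ hj]; rfl), zero_mul,
          map_zero]
    have hz : E (AEval'.of φ v) = 0 := DirectSum.ext fun i => by
      rw [← hmk, DirectSum.zero_apply, Submodule.Quotient.mk_eq_zero]
      exact Ideal.mem_span_singleton.2 (key i)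
    simpa using hz

/-- A square matrix over a field is similar to its transpose. -/
theorem isConj_transpose {n : Type*} [Fintype n] [DecidableEq n] (A : Matrix n n F) :
    IsConj A A.transpose := by
  obtain ⟨B, hB, hnd⟩ := exists_selfAdjoint_form (Matrix.toLin' A)
  let P : Matrix n n F := LinearMap.toMatrix₂' F B
  have hP : ∀ v w, B v w = v ⬝ᵥ P.mulVec w := fun v w => by
    rw [← Matrix.toLinearMap₂'_apply', Matrix.toLinearMap₂'_toMatrix']
  have hdet : P.det ≠ 0 := fun h0 => by
    obtain ⟨v, hv0, hv⟩ := Matrix.exists_vecMul_eq_zero_iff.2 h0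
    refine hv0 (hnd v fun w => ?_)
    rw [hP, Matrix.dotProduct_mulVec, hv, zero_dotProduct]
  refine ⟨((Matrix.isUnit_iff_isUnit_det P).2 (Ne.isUnit hdet)).unit, ?_⟩
  show P * A = A.transpose * P
  refine Matrix.ext fun i j => ?_
  have h := hB (Pi.single i 1) (Pi.single j 1)
  rw [hP, hP, Matrix.toLin'_apply, Matrix.toLin'_apply, Matrix.mulVec_mulVec,
    ← Matrix.vecMul_transpose, ← Matrix.dotProduct_mulVec, Matrix.mulVec_mulVec,
    single_one_dotProduct, single_one_dotProduct, Matrix.mulVec_single_one, Matrix.mulVec_single_one] at h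
  exact h.symm

end CfsgLib.KnownC
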