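import Mathlib
import Cfsg.Agent.Lib.Chev.SigmaTables

/-!
The integer matrix embedding the Lie algebra of type G2 into that of type D4 as the fixed points
of triality, and the intertwining identities for the fundamental root elements.
-/

set_option autoImplicit false
set_option maxRecDepth 100000

namespace CfsgLib.KnownC.TrialityD4

open Cfsg.Lie CfsgLib.Chev Matrix

/-! ### Sparse polynomial vectors: the key `64 * d + i` stands for `t ^ d` at the coordinate `i` -/

/-- The value at `t` of the coordinate `a`. -/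
def lval {F : Type*} [Field F] (t : F) (a : ℕ) (v : SVec) : F :=
  (v.map fun p => if p.1 % 64 = a then (p.2 : F) * t ^ (p.1 / 64) else 0).sum

/-- Multiplication by `c * t ^ d`. -/
noncomputable def shiftV (d : ℕ) (c : ℤ) (v : SVec) : SVec :=
  mapR (fun p => (p.1 + d * 64, c * p.2)) v

/-- Application of a polynomial matrix given by its columns. -/
noncomputable def mapV (n : ℕ) (M : ℕ → SVec) (v : SVec) : SVec :=
  List.rec [] (fun p _ ih =>
    bif Nat.blt (p.1 % 64) n then appR (shiftV (p.1 / 64) p.2 (M (p.1 % 64))) ih else ih) v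

/-- A column of `x_r(t)`. -/
noncomputable def colX (D : ChevalleyDatum) (r i : ℕ) : SVec :=
  (i, 1) :: appR (shiftV 1 1 (fcol D r 1 i))
    (appR (shiftV 2 1 (fcol D r 2 i)) (shiftV 3 1 (fcol D r 3 i)))

/-- Application of a product of root elements. -/
noncomputable def actV (D : ChevalleyDatum) (rs : List ℕ) (v : SVec) : SVec :=
  List.rec v (fun r _ ih => mapV (dimL D) (colX D r) ih) rs

section sound

variable {F : Type*} [Field F] (t : F)

lemma lval_nil (a : ℕ) : lval t a [] = 0 := rfl

lemma lval_cons (a : ℕ) (p : ℕ × ℤ) (v : SVec) : lval t a (p :: v) =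
    (if p.1 % 64 = a then (p.2 : F) * t ^ (p.1 / 64) else 0) + lval t a v := by
  simp [lval]

lemma lval_append (a : ℕ) (u v : SVec) : lval t a (u ++ v) = lval t a u + lval t a v := by
  simp [lval]

lemma lval_shiftV (a d : ℕ) (c : ℤ) (v : SVec) :
    lval t a (shiftV d c v) = (c : F) * t ^ d * lval t a v := by
  rw [shiftV, mapR_eq]
  induction v with
  | nil => simp [lval_nil]
  | cons p v ih =>
    rw [List.map_cons, lval_cons, lval_cons, ih, mul_add, Nat.add_mul_mod_self_right,
      Nat.add_mul_div_right _ _ (by norm_num : 0 < 64)]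
    congr 1
    split_ifs
    · push_cast; rw [pow_add]; ring
    · simp

lemma lval_mapV {D : ChevalleyDatum} (a : ℕ) (M : ℕ → SVec) (v : SVec) :
    lval t a (mapV (dimL D) M v) = ∑ b : D.Idx, lval t a (M (ix D b)) * lval t (ix D b) v := by
  induction v with
  | nil => simp [lval_nil, mapV]
  | cons p v ih =>
    show lval t a (bif Nat.blt (p.1 % 64) (dimL D) then
      appR (shiftV (p.1 / 64) p.2 (M (p.1 % 64))) (mapV (dimL D) M v) else mapV (dimL D) M v) = _
    simp only [lval_cons, mul_add, Finset.sum_add_distrib, mul_ite, mul_zero]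
    by_cases h : p.1 % 64 < dimL D
    · rw [show Nat.blt (p.1 % 64) (dimL D) = true by rw [Nat.blt_eq]; exact h, cond_true, appR_eq,
        lval_append, lval_shiftV, ih]
      obtain ⟨b₀, hb₀⟩ := mem_range_ix (D := D) h
      rw [Finset.sum_eq_single b₀ (fun b _ hb => if_neg fun e =>
        hb (ix_injective D (e.symm.trans hb₀.symm))) (by simp), if_pos hb₀.symm, hb₀]
      ring
    · rw [show Nat.blt (p.1 % 64) (dimL D) = false by
        rw [← Bool.not_eq_true, Nat.blt_eq]; exact h, cond_false, ih]
      rw [Finset.sum_eq_zero (f := fun b => if p.1 % 64 = ix D b then _ else (0 : F)), zero_add]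
      intro b _
      refine if_neg fun e => h ?_
      rw [e]
      rcases b with b | b
      · rw [ix_inl]; show _ < D.rank + D.nroots; omega
      · rw [ix_inr]; show _ < D.rank + D.nroots; omega

lemma lval_of_lt (a : ℕ) (v : SVec) (h : ∀ p ∈ v, p.1 < 64) : lval t a v = (coef v a : F) := by
  induction v with
  | nil => simp [lval_nil, coef_nil]
  | cons p v ih =>
    have h0 := h p (by simp)
    rw [lval_cons, coef_cons, ih fun q hq => h q (List.mem_cons_of_mem _ hq), Nat.mod_eq_of_lt h0,
      Nat.div_eq_of_lt h0, pow_zero, mul_one]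
    push_cast
    split_ifs <;> simp

lemma lsum_of_coef_zero (f : ℕ → F) (w : SVec) (h : ∀ k, coef w k = 0) :
    (w.map fun p => (p.2 : F) * f p.1).sum = 0 := by
  classical
  have key : ∀ (v : SVec) (S : Finset ℕ), (∀ p ∈ v, p.1 ∈ S) →
      (v.map fun p => (p.2 : F) * f p.1).sum = ∑ k ∈ S, (coef v k : F) * f k := by
    intro v S
    induction v with
    | nil => simp [coef_nil]
    | cons p v ih =>
      intro hS
      simp only [List.map_cons, List.sum_cons, coef_cons, Int.cast_add, add_mul,
        Finset.sum_add_distrib]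
      rw [ih fun q hq => hS q (List.mem_cons_of_mem _ hq)]
      congr 1
      rw [Finset.sum_eq_single p.1 (fun k _ hk => by simp [Ne.symm hk])
          (fun hn => absurd (hS p (by simp)) hn), if_pos rfl]
  rw [key w (w.map Prod.fst).toFinset fun p hp => List.mem_toFinset.2 (List.mem_map_of_mem hp)]
  simp [h]

lemma lval_congr {u v : SVec} (h : vEq u v = true) (a : ℕ) : lval t a u = lval t a v := by
  have h0 : ∀ k, coef (u ++ vsmul (-1) v) k = 0 := fun k => by
    rw [coef_append, coef_vsmul, vEq_sound h k]; ring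
  have e := lsum_of_coef_zero (fun k => if k % 64 = a then t ^ (k / 64) else 0) _ h0
  have e1 : ∀ w : SVec, (w.map fun p : ℕ × ℤ => (p.2 : F) *
      (if p.1 % 64 = a then t ^ (p.1 / 64) else 0)).sum = lval t a w := fun w => by
    simp [lval]
  rw [e1, lval_append] at e
  have e2 : ∀ w : SVec, lval t a (vsmul (-1) w) = - lval t a w := by
    intro w
    induction w with
    | nil => simp [lval_nil, vsmul]
    | cons p w ih =>
      show lval t a ((p.1, -1 * p.2) :: vsmul (-1) w) = _
      rw [lval_cons, lval_cons, ih]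
      split_ifs
      · push_cast; ring
      · ring
  rw [e2, ← sub_eq_add_neg, sub_eq_zero] at e
  exact e

variable {D : ChevalleyDatum} (g : Good D)

include g

lemma lval_colX (hdim : dimL D ≤ 64) {r : ℕ} (hr : r < D.nroots) (a b : D.Idx) :
    lval t (ix D a) (colX D r (ix D b)) = D.x F r t a b := by
  have hlt : ∀ k ∈ [1, 2, 3], ∀ p ∈ fcol D r k (ix D b), p.1 < 64 := fun k hk p hp =>
    lt_of_lt_of_le (g.lie.fcol_lt hr hk _ p hp) hdim
  have hb : ix D b < 64 := by
    refine lt_of_lt_of_le ?_ hdim
    rcases b with b | b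
    · rw [ix_inl]; show _ < D.rank + D.nroots; omega
    · rw [ix_inr]; show _ < D.rank + D.nroots; omega
  rw [g.x_eq_xr hr, colX, lval_cons, appR_eq, appR_eq, lval_append, lval_append, lval_shiftV,
    lval_shiftV, lval_shiftV, lval_of_lt t _ _ (hlt 1 (by simp)),
    lval_of_lt t _ _ (hlt 2 (by simp)), lval_of_lt t _ _ (hlt 3 (by simp)),
    Nat.mod_eq_of_lt hb, Nat.div_eq_of_lt hb, xr, amat, amat, amat]
  simp only [Matrix.add_apply, Matrix.smul_apply, Matrix.map_apply, smul_eq_mul,
    g.lie.rmat_apply hr (by simp : (1 : ℕ) ∈ [1, 2, 3]),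
    g.lie.rmat_apply hr (by simp : (2 : ℕ) ∈ [1, 2, 3]),
    g.lie.rmat_apply hr (by simp : (3 : ℕ) ∈ [1, 2, 3])]
  by_cases h : a = b
  · subst h; simp; ring
  · rw [Matrix.one_apply_ne h, if_neg (fun e => h (ix_injective D e.symm))]
    simp; ring

lemma lval_actV (hdim : dimL D ≤ 64) (rs : List ℕ) (hrs : ∀ r ∈ rs, r < D.nroots) (a : D.Idx)
    (v : SVec) : lval t (ix D a) (actV D rs v) =
      ∑ b, ((rs.map fun r => g.xG r t).prod : GL D.Idx F).val a b * lval t (ix D b) v := by
  induction rs generalizing a with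
  | nil => simp [actV, Matrix.one_apply]
  | cons r rs ih =>
    show lval t (ix D a) (mapV (dimL D) (colX D r) (actV D rs v)) = _
    rw [lval_mapV, List.map_cons, List.prod_cons, Units.val_mul]
    simp only [lval_colX t g hdim (hrs r (by simp)),
      ih fun q hq => hrs q (List.mem_cons_of_mem _ hq), Finset.mul_sum, Matrix.mul_apply,
      Finset.sum_mul]
    rw [Finset.sum_comm]
    exact Finset.sum_congr rfl fun b _ => Finset.sum_congr rfl fun c _ => by
      rw [g.coe_xG, mul_assoc]

end sound

/-! ### The tables -/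

/-- The columns of the embedding. -/
noncomputable def pcol (j : ℕ) : SVec := nth [] [[(0, 1), (2, 1), (3, 1)], [(1, 1)], [(4, -1)],
  [(5, -1)], [(10, 1), (7, -1), (6, -1)], [(12, -1), (11, -1), (8, 1)],
  [(15, 1), (14, 1), (9, 1)], [(13, 1)], [(18, 1)], [(16, 1), (17, 1), (22, 1)],
  [(19, -1), (20, -1), (23, 1)], [(21, 1), (24, -1), (25, -1)], [(26, -1)], [(27, -1)]] j

/-- The columns of a left inverse. -/
noncomputable def qcol (j : ℕ) : SVec := nth [] [[(0, 1)], [(1, 1)], [], [], [(2, -1)], [(3, -1)],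
  [], [], [], [], [(4, 1)], [], [(5, -1)], [(7, 1)], [], [(6, 1)], [(9, 1)], [], [(8, 1)],
  [(10, -1)], [], [(11, 1)], [], [], [], [], [(12, -1)], [(13, -1)]] j

/-- The intertwining of a list of roots of D4 with a root of G2. -/
noncomputable def interOK (rs : List ℕ) (r : ℕ) : Bool :=
  allR (fun j => vEq (actV chevD4 rs (pcol j)) (mapV (dimL chevG2) pcol (colX chevG2 r j)))
    (upto (dimL chevG2))

/-- The four generating identities and the left inverse. -/
theorem inter_ok : (interOK [12, 13, 18] 7 && interOK [11, 10, 5] 4 && interOK [14] 6 &&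
    interOK [9] 5 &&
    allR (fun j => vEq (mapV (dimL chevD4) qcol (pcol j)) [(j, 1)]) (upto (dimL chevG2)) &&
    allR (fun j => allR (fun p : ℕ × ℤ => Nat.blt p.1 64) (pcol j)) (upto (dimL chevG2)) &&
    allR (fun j => allR (fun p : ℕ × ℤ => Nat.blt p.1 64) (qcol j)) (upto (dimL chevD4))) = true := by
  decide +kernel

section Mat

variable (F : Type*) [Field F]

/-- The embedding. -/
noncomputable def Pm : Matrix chevD4.Idx chevG2.Idx F :=
  Matrix.of fun a b => (coef (pcol (ix chevG2 b)) (ix chevD4 a) : F)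

/-- A left inverse of the embedding. -/
noncomputable def Qm : Matrix chevG2.Idx chevD4.Idx F :=
  Matrix.of fun a b => (coef (qcol (ix chevD4 b)) (ix chevG2 a) : F)

variable {F}

lemma ix_lt {D : ChevalleyDatum} (a : D.Idx) : ix D a < dimL D := by
  rcases a with b | b
  · rw [ix_inl]; show _ < D.rank + D.nroots; omega
  · rw [ix_inr]; show _ < D.rank + D.nroots; omega

lemma lval_pcol (t : F) (a : chevD4.Idx) (b : chevG2.Idx) :
    lval t (ix chevD4 a) (pcol (ix chevG2 b)) = Pm F a b := by
  refine lval_of_lt t _ _ fun p hp => ?_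
  have h := inter_ok
  simp only [Bool.and_eq_true] at h
  simpa [Nat.blt_eq] using allR_true (allR_upto h.1.2 (ix_lt b)) hp

lemma lval_qcol (t : F) (a : chevG2.Idx) (b : chevD4.Idx) :
    lval t (ix chevG2 a) (qcol (ix chevD4 b)) = Qm F a b := by
  refine lval_of_lt t _ _ fun p hp => ?_
  have h := inter_ok
  simp only [Bool.and_eq_true] at h
  simpa [Nat.blt_eq] using allR_true (allR_upto h.2 (ix_lt b)) hp

theorem Qm_mul_Pm : Qm F * Pm F = 1 := by
  ext a b
  have h := inter_ok
  simp only [Bool.and_eq_true] at h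
  have e := lval_congr (1 : F) (allR_upto h.1.1.2 (ix_lt b)) (ix chevG2 a)
  rw [lval_mapV] at e
  simp only [lval_qcol, lval_pcol] at e
  rw [Matrix.mul_apply, e, lval_cons, lval_nil,
    Nat.mod_eq_of_lt (lt_of_lt_of_le (ix_lt b) (by decide)), one_pow]
  by_cases hab : a = b
  · subst hab; simp
  · rw [Matrix.one_apply_ne hab, if_neg (fun e => hab (ix_injective chevG2 e.symm))]
    simp

lemma inter_of_ok {rs : List ℕ} {r : ℕ} (h : interOK rs r = true)
    (hrs : ∀ q ∈ rs, q < chevD4.nroots) (hr : r < chevG2.nroots) (t : F) :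
    ((rs.map fun q => goodD4.xG q t).prod : GL chevD4.Idx F).val * Pm F =
      Pm F * (goodG2.xG r t : GL chevG2.Idx F).val := by
  ext a b
  have e := lval_congr t (allR_upto h (ix_lt b)) (ix chevD4 a)
  rw [lval_actV t goodD4 (by decide) rs hrs, lval_mapV] at e
  simp only [lval_pcol, lval_colX t goodG2 (by decide) hr] at e
  rw [Matrix.mul_apply, Matrix.mul_apply, e]
  exact Finset.sum_congr rfl fun c _ => by rw [goodG2.coe_xG]

theorem inter_short (t : F) :
    (goodD4.xG 12 t * (goodD4.xG 13 t * goodD4.xG 18 t) : GL chevD4.Idx F).val * Pm F =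
      Pm F * (goodG2.xG 7 t : GL chevG2.Idx F).val := by
  have h := inter_ok
  simp only [Bool.and_eq_true] at h
  simpa using inter_of_ok h.1.1.1.1.1.1 (by decide) (by decide) t

theorem inter_short_neg (t : F) :
    (goodD4.xG 11 t * (goodD4.xG 10 t * goodD4.xG 5 t) : GL chevD4.Idx F).val * Pm F =
      Pm F * (goodG2.xG 4 t : GL chevG2.Idx F).val := by
  have h := inter_ok
  simp only [Bool.and_eq_true] at h
  simpa using inter_of_ok h.1.1.1.1.1.2 (by decide) (by decide) t

theorem inter_long (t : F) :
    (goodD4.xG 14 t : GL chevD4.Idx F).val * Pm F =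
      Pm F * (goodG2.xG 6 t : GL chevG2.Idx F).val := by
  have h := inter_ok
  simp only [Bool.and_eq_true] at h
  simpa using inter_of_ok h.1.1.1.1.2 (by decide) (by decide) t

theorem inter_long_neg (t : F) :
    (goodD4.xG 9 t : GL chevD4.Idx F).val * Pm F =
      Pm F * (goodG2.xG 5 t : GL chevG2.Idx F).val := by
  have h := inter_ok
  simp only [Bool.and_eq_true] at h
  simpa using inter_of_ok h.1.1.1.2 (by decide) (by decide) t

end Mat

end CfsgLib.KnownC.TrialityD4
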