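import Cfsg.Agent.Lib.Chev.TwistD4
import Cfsg.Agent.Lib.Chev.StructG2
import Cfsg.Agent.Lib.Chev.Good
import Cfsg.Agent.Lib.KnownC.TrialityTables

/-!
The orbits of triality on the roots of D4, matched with the roots of G2.
-/

set_option autoImplicit false
set_option maxRecDepth 100000

namespace CfsgLib.KnownC.TrialityD4

open Cfsg.Lie CfsgLib.Chev

/-- The orbits of fundamental roots, indexed by the nodes of G2. -/
def orbT (o : Fin chevG2.rank) : List (Fin chevD4.rank) :=
  if o.val = 0 then [⟨3, by decide⟩, ⟨2, by decide⟩, ⟨0, by decide⟩] else [⟨1, by decide⟩]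

/-- A representative in each orbit. -/
def rep (o : Fin chevG2.rank) : Fin chevD4.rank :=
  if o.val = 0 then ⟨0, by decide⟩ else ⟨1, by decide⟩

lemma node_cases : ∀ o : Fin chevG2.rank, o.val = 0 ∨ o.val = 1 := by decide

lemma rep_mem : ∀ o : Fin chevG2.rank, rep o ∈ orbT o := by decide +kernel

lemma orbT_nat : ∀ o : Fin chevG2.rank,
    ((orbT o).map fun i : Fin chevD4.rank => (goodD4.sroot i : ℕ)) =
      (if o.val = 0 then [12, 13, 18] else [14]) ∧
    ((orbT o).map fun i : Fin chevD4.rank => (goodD4.nroot (goodD4.sroot i) : ℕ)) =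
      (if o.val = 0 then [11, 10, 5] else [9]) ∧
    (goodG2.sroot o : ℕ) = (if o.val = 0 then 7 else 6) ∧
    (goodG2.nroot (goodG2.sroot o) : ℕ) = (if o.val = 0 then 4 else 5) := by decide +kernel

/-- The word over D4 of a word over G2. -/
def word4 (L : List (Fin chevG2.rank)) : List (Fin chevD4.rank) := L.flatMap orbT

/-- The orbit of a root of D4, as a root of G2. -/
noncomputable def projN (r : ℕ) : ℕ :=
  nth 0 [0, 1, 2, 2, 3, 4, 2, 3, 3, 5, 4, 4, 7, 7, 6, 8, 8, 9, 7, 8, 9, 9, 10, 11] r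

theorem proj_table :
    (∀ r : Fin chevD4.nroots, projN r < chevG2.nroots ∧
      (half chevG2 ≤ projN r ↔ half chevD4 ≤ (r : ℕ))) ∧
    (∀ i : Fin chevD4.rank, ∀ o : Fin chevG2.rank, i ∈ orbT o →
      projN (fsimple dataD4 i) = fsimple dataG2 o) ∧
    (∀ r : Fin chevD4.nroots, ∀ o : Fin chevG2.rank,
      projN (reflWord sdataD4 ((orbT o).map Fin.val) r) = refl sdataG2 o (projN r)) := by
  decide +kernel

/-- The orbit of a root. -/
noncomputable def proj (r : Fin chevD4.nroots) : Fin chevG2.nroots :=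
  ⟨projN r, (proj_table.1 r).1⟩

lemma proj_pos_iff (r : Fin chevD4.nroots) :
    half chevG2 ≤ (proj r).val ↔ half chevD4 ≤ r.val := (proj_table.1 r).2

lemma proj_sroot {i : Fin chevD4.rank} {o : Fin chevG2.rank} (h : i ∈ orbT o) :
    proj (goodD4.sroot i) = goodG2.sroot o := by
  refine Fin.ext ?_
  show projN (chevD4.simple i) = chevG2.simple o
  rw [(checksD4.simple_facts i.2).1, (checksG2.simple_facts o.2).1]
  exact proj_table.2.1 i o h

lemma wperm4_val (m : List (Fin chevD4.rank)) (a : Fin chevD4.nroots) :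
    (goodD4.wperm m a).val = reflWord sdataD4 (m.map Fin.val) a := by
  induction m with
  | nil => rfl
  | cons i m ih =>
    rw [goodD4.wperm_cons, Equiv.Perm.mul_apply, goodD4.rperm_val,
      (StructChecks.refl_facts checksD4 structChecksD4 i.2 (Fin.isLt _)).1, ih]
    rfl

lemma wperm2_val (m : List (Fin chevG2.rank)) (a : Fin chevG2.nroots) :
    (goodG2.wperm m a).val = reflWord sdataG2 (m.map Fin.val) a := by
  induction m with
  | nil => rfl
  | cons i m ih =>
    rw [goodG2.wperm_cons, Equiv.Perm.mul_apply, goodG2.rperm_val,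
      (StructChecks.refl_facts checksG2 structChecksG2 i.2 (Fin.isLt _)).1, ih]
    rfl

theorem proj_wperm (L : List (Fin chevG2.rank)) (s : Fin chevD4.nroots) :
    proj (goodD4.wperm (word4 L) s) = goodG2.wperm L (proj s) := by
  induction L with
  | nil => rfl
  | cons o L ih =>
    rw [word4, List.flatMap_cons, goodD4.wperm_append, Equiv.Perm.mul_apply, goodG2.wperm_cons,
      Equiv.Perm.mul_apply, ← ih]
    refine Fin.ext ?_
    rw [goodG2.rperm_val,
      (StructChecks.refl_facts checksG2 structChecksG2 o.2 (Fin.isLt _)).1]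
    show projN (goodD4.wperm (orbT o) (goodD4.wperm (word4 L) s)).val = refl sdataG2 o _
    rw [wperm4_val]
    exact proj_table.2.2 _ o

lemma pos_word4_iff (L : List (Fin chevG2.rank)) (s : Fin chevD4.nroots) :
    half chevD4 ≤ (goodD4.wperm (word4 L) s).val ↔
      half chevG2 ≤ (goodG2.wperm L (proj s)).val := by
  rw [← proj_pos_iff, proj_wperm]

lemma word4_eq_one {L : List (Fin chevG2.rank)} (h : goodG2.wperm L = 1) :
    goodD4.wperm (word4 L) = 1 := by
  refine goodD4.eq_one_of_pos (goodD4.wperm_mem _) fun a ha => ?_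
  rw [pos_word4_iff, h, Equiv.Perm.one_apply, proj_pos_iff]
  exact ha

/-- A word of G2 is reduced at every left descent. -/
noncomputable def redOK : List (Fin chevG2.rank) → Bool
  | [] => true
  | o :: L => Nat.ble (half chevG2) (reflWord sdataG2 (L.reverse.map Fin.val) (fsimple dataG2 o)) &&
      redOK L

lemma pos_of_red {o : Fin chevG2.rank} {L : List (Fin chevG2.rank)}
    (h : redOK (o :: L) = true) {a : Fin chevD4.nroots} {i : Fin chevD4.rank} (hi : i ∈ orbT o)
    (ha : a = goodD4.sroot i) :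
    half chevD4 ≤ ((goodD4.wperm (word4 L))⁻¹ a).val := by
  simp only [redOK, Bool.and_eq_true, Nat.ble_eq] at h
  set c := (goodD4.wperm (word4 L))⁻¹ a with hc
  have e : goodG2.wperm L (proj c) = goodG2.sroot o := by
    rw [← proj_wperm, hc, show ∀ (w : Equiv.Perm (Fin chevD4.nroots)), w (w⁻¹ a) = a from
      fun w => w.apply_symm_apply a, ha, proj_sroot hi]
  have e2 : proj c = goodG2.wperm L.reverse (goodG2.sroot o) := by
    rw [goodG2.wperm_reverse, ← e]
    exact ((goodG2.wperm L).symm_apply_apply _).symm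
  rw [← proj_pos_iff, e2, wperm2_val]
  show half chevG2 ≤ reflWord sdataG2 _ (chevG2.simple o)
  rw [(checksG2.simple_facts o.2).1]
  exact h.1

/-- A reduced word of the longest element of G2. -/
def longWord : List (Fin chevG2.rank) :=
  [⟨0, by decide⟩, ⟨1, by decide⟩, ⟨0, by decide⟩, ⟨1, by decide⟩, ⟨0, by decide⟩, ⟨1, by decide⟩]

theorem longWord_facts : redOK longWord = true ∧ ∀ b : Fin chevG2.nroots,
    half chevG2 ≤ (b : ℕ) → reflWord sdataG2 (longWord.map Fin.val) b < half chevG2 := by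
  decide +kernel

lemma minusSet_long : minusSet (goodD4.wperm (word4 longWord)) =
    {r | r < chevD4.nroots ∧ half chevD4 ≤ r} := by
  ext r
  refine ⟨fun ⟨h, h1, _⟩ => ⟨h, h1⟩, fun ⟨h, h1⟩ => ⟨h, h1, ?_⟩⟩
  by_contra hcon
  have h2 := (pos_word4_iff longWord ⟨r, h⟩).1 (Nat.not_lt.1 hcon)
  have h3 := longWord_facts.2 (proj ⟨r, h⟩) ((proj_pos_iff ⟨r, h⟩).2 h1)
  rw [← wperm2_val] at h3
  omega

/-- Every positive root of G2 comes from a fundamental one. -/
theorem exists_word (r : Fin chevG2.nroots) (hr : half chevG2 ≤ (r : ℕ)) :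
    ∃ (L : List (Fin chevG2.rank)) (o : Fin chevG2.rank), goodG2.wperm L (goodG2.sroot o) = r := by
  have key : ∀ r : Fin chevG2.nroots, half chevG2 ≤ (r : ℕ) → ∃ L ∈
      ([[], [⟨0, by decide⟩], [⟨1, by decide⟩], [⟨0, by decide⟩, ⟨1, by decide⟩],
        [⟨1, by decide⟩, ⟨0, by decide⟩], [⟨0, by decide⟩, ⟨1, by decide⟩, ⟨0, by decide⟩],
        [⟨1, by decide⟩, ⟨0, by decide⟩, ⟨1, by decide⟩]] : List (List (Fin chevG2.rank))),
      ∃ o : Fin chevG2.rank, reflWord sdataG2 (L.map Fin.val) (fsimple dataG2 o) = r := by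
    decide +kernel
  obtain ⟨L, -, o, h⟩ := key r hr
  refine ⟨L, o, Fin.ext ?_⟩
  rw [wperm2_val]
  show reflWord sdataG2 _ (chevG2.simple o) = _
  rw [(checksG2.simple_facts o.2).1]
  exact h

end CfsgLib.KnownC.TrialityD4
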