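import Cfsg.Prelude.Def_ChevAutomorphisms
import Cfsg.Agent.Lib.Chev.TwistHOrders
import Cfsg.Agent.Lib.KnownC.TrialityOrbits

/-!
The fixed points of triality on the Chevalley group of type D4 form a group of type G2.
-/

set_option autoImplicit false
set_option maxHeartbeats 800000
set_option maxRecDepth 100000

namespace CfsgLib.KnownC.TrialityD4

open Cfsg.Lie CfsgLib.Chev Matrix

/-- A group generated by the fundamental root elements and their negatives. -/
theorem group_le_of_simple {D : ChevalleyDatum} (g : Good D) {F : Type*} [Field F]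
    {K : Subgroup (GL D.Idx F)}
    (h : ∀ (i : Fin D.rank) (t : F),
      g.xG (g.sroot i) t ∈ K ∧ g.xG (g.nroot (g.sroot i)) t ∈ K) : D.group F ≤ K := by
  refine g.group_le fun r hr => g.root_induction (P := fun r => ∀ t : F, g.xG r t ∈ K) ?_ ?_ hr
  · exact fun i hi t => (h ⟨i, hi⟩ t).1
  · intro i hi s hs ih t
    have hn : g.nG (D.simple i) (1 : Fˣ) ∈ K :=
      mul_mem (mul_mem (h ⟨i, hi⟩ _).1 (h ⟨i, hi⟩ _).2) (h ⟨i, hi⟩ _).1
    have h1 := mul_mem (mul_mem hn (ih ((g.eta i s : F) * t))) (inv_mem hn)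
    rw [g.nG_conj_xG hi hs] at h1
    rcases g.eta_sign hi hs with he | he <;> rw [he] at h1 <;> simpa using h1

variable (F : Type*) [Field F] [Fintype F]

/-- The triality symmetry. -/
noncomputable abbrev triS : RootSym goodD4 := rootSymOf goodD4 checksD4 structChecksD4 rhoD4_ok

/-- Triality as an endomorphism. -/
noncomputable def triT : Twist goodD4 F := (exists_twist_rhoD4 (RingHom.id F)).choose

lemma triT_spec : (triT F).ρ = triS.ρ ∧ (triT F).pi = triS.pi ∧
    ∀ s t, (triT F).f s t = (nth 1 rhoD4Sign s : F) * RingHom.id F t :=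
  (exists_twist_rhoD4 (RingHom.id F)).choose_spec

lemma triT_f_simple (i : Fin chevD4.rank) (t : F) : (triT F).f (goodD4.sroot i) t = t ∧
    (triT F).f (goodD4.nroot (goodD4.sroot i)) t = t := by
  have h := allR_upto sign_simple_D4 i.2
  rw [Int.beq'_eq, ← (checksD4.simple_facts i.2).1] at h
  have h2 : nth 1 rhoD4Sign (goodD4.sroot i : ℕ) = 1 := h
  have h' : nth 1 rhoD4Sign (goodD4.nroot (goodD4.sroot i) : ℕ) = 1 := by
    show nth 1 rhoD4Sign (chevD4.neg (chevD4.simple i)) = 1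
    rw [neg_eq goodD4.lie.pack (goodD4.simple_lt i.2),
      eps_neg rhoD4_signed (goodD4.simple_lt i.2), h]
  exact ⟨by rw [(triT_spec F).2.2, h2, Int.cast_one, one_mul]; rfl,
    by rw [(triT_spec F).2.2, h', Int.cast_one, one_mul]; rfl⟩

/-- The group generated by the orbit products. -/
noncomputable def triA : A1Setup goodD4 F where
  T := triT F
  S := triS
  φ := RingHom.id F
  G1 := Subgroup.closure {x | ∃ o, ∃ t : Fin chevD4.rank → F,
    (∀ i ∈ orbT o, t (triS.pi i) = t i) ∧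
      (x = goodD4.xList goodD4.sroot (orbT o) t ∨
        x = goodD4.xList (fun i => goodD4.nroot (goodD4.sroot i)) (orbT o) t)}
  r := chevG2.rank
  orb := orbT
  Tρ := (triT_spec F).1
  Tpi := (triT_spec F).2.1
  f_simple := triT_f_simple F
  isOrbit o := by
    refine orbitA1_of_check goodD4 checksD4 structChecksD4 rhoD4_ok _ ?_
    exact (by decide +kernel : ∀ o : Fin chevG2.rank,
      orbA1OK chevD4 dataD4 sdataD4 rhoD4 ((orbT o).map Fin.val) = true) o
  cover := by decide +kernel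
  disjoint o o' i h1 h2 :=
    (by decide +kernel : ∀ o o' : Fin chevG2.rank, ∀ i ∈ orbT o, i ∈ orbT o' → o = o') o o' i h1 h2
  G1_def := rfl

lemma hasCommD4 : HasComm chevD4 := hasComm_of_mem (by simp)

lemma hasCommG2' : HasComm chevG2 := hasComm_of_mem (by simp)

variable {F}

lemma orbWord_eq (L : List (Fin chevG2.rank)) : (triA F).orbWord L = word4 L := rfl

lemma const_on_orb {o : Fin chevG2.rank} {t : Fin chevD4.rank → F}
    (ht : ∀ i ∈ orbT o, t (triS.pi i) = t i) : ∀ i ∈ orbT o, t i = t (rep o) := fun i hi =>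
  (((triA F).isOrbit o).trans (fun q => q ∈ orbT o ∧ t q = t (rep o))
    (fun q hq => ⟨((triA F).isOrbit o).pi_mem q hq.1, (ht q hq.1).trans hq.2⟩)
    (rep o) (rep_mem o) ⟨rep_mem o, rfl⟩ i hi).2

/-! ### The lifting relation -/

/-- `x` acts on the embedded algebra of type G2 as `y`. -/
def IsLift (x : GL chevD4.Idx F) (y : GL chevG2.Idx F) : Prop := x.val * Pm F = Pm F * y.val

lemma lift_one : IsLift (1 : GL chevD4.Idx F) 1 := by simp [IsLift]

lemma lift_mul {x x' : GL chevD4.Idx F} {y y' : GL chevG2.Idx F} (h : IsLift x y)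
    (h' : IsLift x' y') : IsLift (x * x') (y * y') := by
  unfold IsLift at *
  rw [Units.val_mul, Units.val_mul, Matrix.mul_assoc, h', ← Matrix.mul_assoc, h, Matrix.mul_assoc]

lemma lift_inv {x : GL chevD4.Idx F} {y : GL chevG2.Idx F} (h : IsLift x y) :
    IsLift x⁻¹ y⁻¹ := by
  unfold IsLift at *
  calc x⁻¹.val * Pm F = x⁻¹.val * (Pm F * (y.val * y⁻¹.val)) := by
        rw [Units.mul_inv, Matrix.mul_one]
    _ = x⁻¹.val * (x.val * Pm F) * y⁻¹.val := by
        rw [h, Matrix.mul_assoc, Matrix.mul_assoc]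
    _ = Pm F * y⁻¹.val := by rw [← Matrix.mul_assoc, Units.inv_mul, Matrix.one_mul]

lemma lift_unique {x : GL chevD4.Idx F} {y y' : GL chevG2.Idx F} (h : IsLift x y)
    (h' : IsLift x y') : y = y' := by
  refine Units.ext ?_
  have e : Qm F * (Pm F * y.val) = Qm F * (Pm F * y'.val) := by rw [← h, ← h']
  rwa [← Matrix.mul_assoc, ← Matrix.mul_assoc, Qm_mul_Pm, Matrix.one_mul, Matrix.one_mul] at e

lemma lift_pos (o : Fin chevG2.rank) (c : F) :
    IsLift (goodD4.xList goodD4.sroot (orbT o) fun _ => c) (goodG2.xG (goodG2.sroot o) c) := by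
  obtain ⟨h1, -, h3, -⟩ := orbT_nat o
  have e : goodD4.xList goodD4.sroot (orbT o) (fun _ => c) =
      ((((orbT o).map fun i : Fin chevD4.rank => (goodD4.sroot i : ℕ))).map
        fun q => goodD4.xG q c).prod := by
    rw [Good.xList, List.map_map]; rfl
  rw [e, h1, h3]
  rcases node_cases o with h | h
  · rw [if_pos h, if_pos h]; simpa [IsLift] using inter_short c
  · rw [if_neg (by omega), if_neg (by omega)]; simpa [IsLift] using inter_long c

lemma lift_neg (o : Fin chevG2.rank) (c : F) :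
    IsLift (goodD4.xList (fun i => goodD4.nroot (goodD4.sroot i)) (orbT o) fun _ => c)
      (goodG2.xG (goodG2.nroot (goodG2.sroot o)) c) := by
  obtain ⟨-, h2, -, h4⟩ := orbT_nat o
  have e : goodD4.xList (fun i => goodD4.nroot (goodD4.sroot i)) (orbT o) (fun _ => c) =
      ((((orbT o).map fun i : Fin chevD4.rank => (goodD4.nroot (goodD4.sroot i) : ℕ))).map
        fun q => goodD4.xG q c).prod := by
    rw [Good.xList, List.map_map]; rfl
  rw [e, h2, h4]
  rcases node_cases o with h | h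
  · rw [if_pos h, if_pos h]; simpa [IsLift] using inter_short_neg c
  · rw [if_neg (by omega), if_neg (by omega)]; simpa [IsLift] using inter_long_neg c

lemma lift_gen {o : Fin chevG2.rank} {t : Fin chevD4.rank → F}
    (ht : ∀ i ∈ orbT o, t (triS.pi i) = t i) :
    IsLift (goodD4.xList goodD4.sroot (orbT o) t) (goodG2.xG (goodG2.sroot o) (t (rep o))) ∧
    IsLift (goodD4.xList (fun i => goodD4.nroot (goodD4.sroot i)) (orbT o) t)
      (goodG2.xG (goodG2.nroot (goodG2.sroot o)) (t (rep o))) := by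
  rw [goodD4.xList_congr (e := goodD4.sroot) (u := fun _ => t (rep o)) (const_on_orb ht),
    goodD4.xList_congr (e := fun i => goodD4.nroot (goodD4.sroot i)) (u := fun _ => t (rep o))
      (const_on_orb ht)]
  exact ⟨lift_pos o _, lift_neg o _⟩

lemma exists_lift {x : GL chevD4.Idx F} (hx : x ∈ (triA F).G1) :
    ∃ y ∈ chevG2.group F, IsLift x y := by
  rw [(triA F).G1_def] at hx
  induction hx using Subgroup.closure_induction with
  | mem x hx =>
    obtain ⟨o, t, ht, rfl | rfl⟩ := hx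
    · exact ⟨_, goodG2.xG_mem_group (Fin.isLt _) _, (lift_gen ht).1⟩
    · exact ⟨_, goodG2.xG_mem_group (Fin.isLt _) _, (lift_gen ht).2⟩
  | one => exact ⟨1, one_mem _, lift_one⟩
  | mul x y _ _ hx hy =>
    obtain ⟨a, ha, ha'⟩ := hx
    obtain ⟨b, hb, hb'⟩ := hy
    exact ⟨a * b, mul_mem ha hb, lift_mul ha' hb'⟩
  | inv x _ hx =>
    obtain ⟨a, ha, ha'⟩ := hx
    exact ⟨a⁻¹, inv_mem ha, lift_inv ha'⟩

variable (F) in
/-- The comparison map. -/
noncomputable def psi : ↥(triA F).G1 →* ↥(chevG2.group F) :=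
  MonoidHom.mk' (fun x => ⟨(exists_lift x.2).choose, (exists_lift x.2).choose_spec.1⟩)
    fun x y => Subtype.ext <| lift_unique (exists_lift (x * y).2).choose_spec.2
      (lift_mul (exists_lift x.2).choose_spec.2 (exists_lift y.2).choose_spec.2)

lemma psi_spec (x : ↥(triA F).G1) : IsLift (x : GL chevD4.Idx F) (psi F x : GL chevG2.Idx F) :=
  (exists_lift x.2).choose_spec.2

lemma psi_eq (x : ↥(triA F).G1) {y : GL chevG2.Idx F} (h : IsLift (x : GL chevD4.Idx F) y) :
    (psi F x : GL chevG2.Idx F) = y := lift_unique (psi_spec x) h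

lemma psi_surjective : Function.Surjective (psi F) := by
  have hle : chevG2.group F ≤ (psi F).range.map (chevG2.group F).subtype := by
    refine group_le_of_simple goodG2 fun o c => ⟨?_, ?_⟩
    · exact ⟨psi F ⟨_, ((triA F).gen_mem (o := o) (t := fun _ => c) fun _ _ => rfl).1⟩,
        ⟨_, rfl⟩, psi_eq _ (lift_pos o c)⟩
    · exact ⟨psi F ⟨_, ((triA F).gen_mem (o := o) (t := fun _ => c) fun _ _ => rfl).2⟩,
        ⟨_, rfl⟩, psi_eq _ (lift_neg o c)⟩
  intro y
  obtain ⟨z, ⟨x, hx⟩, hz⟩ := hle y.2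
  exact ⟨x, hx.trans (Subtype.ext hz)⟩

lemma lift_wordN (L : List (Fin chevG2.rank)) :
    IsLift (F := F) (goodD4.wordN (word4 L)) (goodG2.wordN L) := by
  induction L with
  | nil => exact lift_one
  | cons o L ih =>
    rw [word4, List.flatMap_cons, goodD4.wordN_append, goodG2.wordN_cons]
    refine lift_mul ?_ ih
    have hcm := ((triA F).isOrbit o).commutes (F := F) hasCommD4
    have e := goodD4.wordN_eq_xList (F := F) ((triA F).isOrbit o).nodup hcm.1 hcm.2.2
    have e2 : goodG2.nI (F := F) o = goodG2.xG (goodG2.sroot o) (1 : F) *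
        goodG2.xG (goodG2.nroot (goodG2.sroot o)) (-1 : F) * goodG2.xG (goodG2.sroot o) (1 : F) := by
      simp [Good.nI, Good.nG, Good.sroot, Good.nroot]
    show IsLift (goodD4.wordN ((triA F).orb o)) _
    rw [e, e2]
    exact lift_mul (lift_mul (lift_pos o 1) (lift_neg o (-1))) (lift_pos o 1)

/-! ### The torus -/

lemma mem_T0_iff {c : Fin chevD4.rank → Fˣ} :
    c ∈ (triA F).T0 ↔ ∀ i, c (triS.pi i) = c i := by
  rw [A1Setup.mem_T0]
  exact forall_congr' fun i => ⟨fun h => Units.ext h, fun h => congrArg Units.val h⟩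

lemma rep_eq_of_mem {o : Fin chevG2.rank} {c : Fin chevD4.rank → Fˣ} (hc : c ∈ (triA F).T0)
    {i : Fin chevD4.rank} (hi : i ∈ orbT o) : c i = c (rep o) :=
  (((triA F).isOrbit o).trans (fun q => q ∈ orbT o ∧ c q = c (rep o))
    (fun q hq => ⟨((triA F).isOrbit o).pi_mem q hq.1, ((mem_T0_iff.1 hc) q).trans hq.2⟩)
    (rep o) (rep_mem o) ⟨rep_mem o, rfl⟩ i hi).2

lemma lift_orbit_hG (o : Fin chevG2.rank) (u : Fˣ) :
    IsLift ((((orbT o)).map fun i : Fin chevD4.rank => goodD4.hG (chevD4.simple i) u).prod)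
      (goodG2.hG (chevG2.simple o) u) := by
  have h1 := (triA F).prod_nG hasCommD4 o fun _ => u
  rw [(triA F).prod_nG_eq hasCommD4 o fun _ => u] at h1
  have h2 : IsLift (goodD4.xList goodD4.sroot (orbT o) (fun _ => (u : F)) *
      goodD4.xList (fun i => goodD4.nroot (goodD4.sroot i)) (orbT o)
        (fun _ => -((u⁻¹ : Fˣ) : F)) *
      goodD4.xList goodD4.sroot (orbT o) (fun _ => (u : F)))
      (goodG2.nG (chevG2.simple o) u) :=
    lift_mul (lift_mul (lift_pos o _) (lift_neg o _)) (lift_pos o _)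
  have h3 : IsLift (goodD4.wordN (F := F) (orbT o)) (goodG2.nI o) := by
    have := lift_wordN (F := F) [o]
    simpa [word4, goodG2.wordN_cons, goodG2.wordN_nil] using this
  have h4 := lift_mul h2 (lift_inv h3)
  rw [goodG2.nG_eq_hG_mul (goodG2.simple_lt o.2), Good.nI, mul_inv_cancel_right] at h4
  convert h4 using 1
  rw [eq_mul_inv_iff_mul_eq]
  exact h1

lemma lift_torHom {c : Fin chevD4.rank → Fˣ} (hc : c ∈ (triA F).T0) :
    IsLift (torHom chevD4 F c) (torHom chevG2 F fun o => c (rep o)) := by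
  have hdec : c = ∏ o : Fin chevG2.rank, ∏ i ∈ (orbT o).toFinset, Pi.mulSingle i (c i) := by
    have hu : (Finset.univ : Finset (Fin chevG2.rank)).biUnion (fun o => (orbT o).toFinset) =
        Finset.univ := by
      refine Finset.eq_univ_of_forall fun i => ?_
      obtain ⟨o, ho⟩ := (triA F).cover i
      exact Finset.mem_biUnion.2 ⟨o, Finset.mem_univ _, List.mem_toFinset.2 ho⟩
    rw [← Finset.prod_biUnion, hu, Finset.univ_prod_mulSingle]
    intro o _ o' _ hne
    exact Finset.disjoint_left.2 fun i hi hi' =>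
      hne ((triA F).disjoint o o' i (List.mem_toFinset.1 hi) (List.mem_toFinset.1 hi'))
  suffices H : ∀ s : Finset (Fin chevG2.rank),
      IsLift (torHom chevD4 F (∏ o ∈ s, ∏ i ∈ (orbT o).toFinset, Pi.mulSingle i (c i)))
        (torHom chevG2 F (∏ o ∈ s, Pi.mulSingle o (c (rep o)))) by
    have h := H Finset.univ
    rw [← hdec, Finset.univ_prod_mulSingle] at h
    exact h
  intro s
  induction s using Finset.induction with
  | empty => simpa using lift_one (F := F)
  | insert o s ho ih =>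
    rw [Finset.prod_insert ho, Finset.prod_insert ho, map_mul, map_mul]
    refine lift_mul ?_ ih
    have e := (triA F).torHom_orbit o c
    rw [show (triA F).orb o = orbT o from rfl] at e
    rw [e, goodG2.torHom_single,
      List.map_congr_left (g := fun i : Fin chevD4.rank => goodD4.hG (chevD4.simple i) (c (rep o)))
        (fun i hi => by rw [rep_eq_of_mem hc hi])]
    exact lift_orbit_hG o _

/-- A torus element fixed by triality comes from the fixed torus. -/
lemma fixed_torus {h : GL chevD4.Idx F} (hd : h ∈ chevD4.diagonalSubgroup F)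
    (hf : h ∈ (triA F).T.fixed) : ∃ c ∈ (triA F).T0, torHom chevD4 F c = h := by
  rw [goodD4.diagonal_eq_range] at hd
  obtain ⟨c, rfl⟩ := hd
  have hG : torHom chevD4 F c ∈ chevD4.group F := (triA F).T.fixed_le hf
  have h1 := congrArg Subtype.val (((triA F).T.mem_fixed ⟨_, hG⟩).1 hf)
  rw [(triA F).σ_torHom] at h1
  have hk : torHom chevD4 F ((triA F).σT c * c⁻¹) = 1 := by
    rw [map_mul, map_inv, h1]; exact mul_inv_cancel _
  have hs : ∀ i, (triA F).σT c i = c (triS.pi.symm i) := fun i => Units.ext rfl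
  have hp : triS.pi.symm ⟨0, by decide⟩ = ⟨3, by decide⟩ ∧
      triS.pi.symm ⟨1, by decide⟩ = ⟨1, by decide⟩ ∧
      triS.pi.symm ⟨2, by decide⟩ = ⟨0, by decide⟩ := by
    simp only [Equiv.symm_apply_eq]
    decide +kernel
  obtain ⟨c0, hc0⟩ : ∃ x, c ⟨0, by decide⟩ = x := ⟨_, rfl⟩
  obtain ⟨c1, hc1⟩ : ∃ x, c ⟨1, by decide⟩ = x := ⟨_, rfl⟩
  obtain ⟨c2, hc2⟩ : ∃ x, c ⟨2, by decide⟩ = x := ⟨_, rfl⟩
  obtain ⟨c3, hc3⟩ : ∃ x, c ⟨3, by decide⟩ = x := ⟨_, rfl⟩
  have hp3 : triS.pi.symm ⟨3, by decide⟩ = ⟨2, by decide⟩ := by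
    simp only [Equiv.symm_apply_eq]
    decide +kernel
  have ek : d4 ((triA F).σT c * c⁻¹) = ![c3 * c0⁻¹, c1 * c1⁻¹, c0 * c2⁻¹, c2 * c3⁻¹] := by
    funext i
    fin_cases i
    · show (triA F).σT c ⟨0, by decide⟩ * (c ⟨0, by decide⟩)⁻¹ = _
      rw [hs, hp.1, hc0, hc3]; rfl
    · show (triA F).σT c ⟨1, by decide⟩ * (c ⟨1, by decide⟩)⁻¹ = _
      rw [hs, hp.2.1, hc1]; rfl
    · show (triA F).σT c ⟨2, by decide⟩ * (c ⟨2, by decide⟩)⁻¹ = _
      rw [hs, hp.2.2, hc0, hc2]; rfl
    · show (triA F).σT c ⟨3, by decide⟩ * (c ⟨3, by decide⟩)⁻¹ = _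
      rw [hs, hp3, hc2, hc3]; rfl
  have hk' : powMap (ι := Fin 4) cartD4 (![c3 * c0⁻¹, c1 * c1⁻¹, c0 * c2⁻¹, c2 * c3⁻¹]) = 1 :=
    ek ▸ (kerD4_iff (d4 ((triA F).σT c * c⁻¹))).1 hk
  have k0 := congrFun hk' 0
  have k2 := congrFun hk' 2
  simp [powMap_apply, Fin.prod_univ_four, cartD4, sq] at k0 k2
  have q3 : c3 * c3 = c0 * c0 := by
    rw [mul_mul_mul_comm, ← _root_.mul_inv_rev, mul_inv_eq_one] at k0
    exact k0
  have q2 : c0 * c0 = c2 * c2 := by
    rw [mul_mul_mul_comm, ← _root_.mul_inv_rev, mul_inv_eq_one] at k2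
    exact k2
  let a : Fˣ := c2 * c3 * c0⁻¹
  have qa : a * a = c0 * c0 := by
    calc a * a = c2 * c2 * (c3 * c3) * (c0 * c0)⁻¹ := by
          simp only [a, _root_.mul_inv_rev]; ac_rfl
      _ = c0 * c0 := by rw [← q2, q3, mul_inv_cancel_right]
  let c' : Fin chevD4.rank → Fˣ := fun i => if i.val = 1 then c1 else a
  refine ⟨c', mem_T0_iff.2 fun i => ?_, ?_⟩
  · have hpi : ∀ i : Fin chevD4.rank, (triS.pi i).val = 1 ↔ i.val = 1 := by decide +kernel
    simp only [c', hpi]
  · have ev : d4 (c' * c⁻¹) = ![a * c0⁻¹, 1, a * c2⁻¹, a * c3⁻¹] := by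
      funext i
      fin_cases i
      · show c' ⟨0, by decide⟩ * (c ⟨0, by decide⟩)⁻¹ = _
        rw [hc0]; rfl
      · show c' ⟨1, by decide⟩ * (c ⟨1, by decide⟩)⁻¹ = _
        rw [hc1]; exact mul_inv_cancel c1
      · show c' ⟨2, by decide⟩ * (c ⟨2, by decide⟩)⁻¹ = _
        rw [hc2]; rfl
      · show c' ⟨3, by decide⟩ * (c ⟨3, by decide⟩)⁻¹ = _
        rw [hc3]; rfl
    have s : ∀ x : Fˣ, x * x = c0 * c0 → a * x⁻¹ * (a * x⁻¹) = 1 := fun x hx => by
      rw [mul_mul_mul_comm, qa, ← hx, ← _root_.mul_inv_rev, mul_inv_cancel]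
    have p : a * c0⁻¹ * (a * c2⁻¹) * (a * c3⁻¹) = 1 := by
      calc a * c0⁻¹ * (a * c2⁻¹) * (a * c3⁻¹) = a * a * (a * c0⁻¹ * c2⁻¹ * c3⁻¹) := by ac_rfl
        _ = c0 * c0 * (c0⁻¹ * c0⁻¹ * ((c2 * c2⁻¹) * (c3 * c3⁻¹))) := by
            rw [qa]; congr 1; simp only [a]; ac_rfl
        _ = 1 := by
            rw [mul_inv_cancel, mul_inv_cancel, one_mul, mul_one, ← _root_.mul_inv_rev,
              mul_inv_cancel]
    have p' : (a * c0⁻¹)⁻¹ * (a * c2⁻¹)⁻¹ * (a * c3⁻¹)⁻¹ = 1 := by
      rw [← mul_inv, ← mul_inv, p, inv_one]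
    have hz4 : powMap (ι := Fin 4) cartD4 (![a * c0⁻¹, 1, a * c2⁻¹, a * c3⁻¹]) = 1 := by
      funext j
      rw [powMap_apply, Fin.prod_univ_four]
      fin_cases j <;>
        simp [cartD4, sq, s c0 rfl, s c2 q2.symm, s c3 q3, zpow_two, -_root_.mul_inv_rev, p']
    have hz : torHom chevD4 F (c' * c⁻¹) = 1 :=
      (kerD4_iff (d4 (c' * c⁻¹))).2 (ev ▸ hz4)
    rw [map_mul, map_inv, mul_inv_eq_one] at hz
    exact hz

/-! ### The fixed group -/

theorem fixed_eq : (triA F).T.fixed = (triA F).G1 := by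
  refine le_antisymm (fun x hx => ?_) ((triA F).G1_le_fixed hasCommD4)
  set A := triA F
  set S := A.sys hasCommD4
  have hT : ∀ z : GL chevD4.Idx F, z ∈ S.G1 → z ∈ A.T.fixed := fun z hz => S.le_fixed hz
  obtain ⟨b, hb, n, hn, v, hv, hnv, u, hu, he⟩ :=
    goodD4.exists_canonical hasCommD4 (A.T.fixed_le hx)
  let bG : ↥(chevD4.group F) := ⟨b, goodD4.borel_le_group hb⟩
  let nG : ↥(chevD4.group F) := ⟨n, goodD4.monomial_le_group hn⟩
  let uG : ↥(chevD4.group F) := ⟨u, goodD4.posUnipotent_le_group (goodD4.minus_le_pos _ hu)⟩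
  have hxfix : A.T.σ (bG * nG * uG) = bG * nG * uG :=
    (A.T.mem_fixed (bG * nG * uG)).1 (by
      show b * n * u ∈ A.T.fixed
      rw [← he]; exact hx)
  obtain ⟨hcomm, hufix, -⟩ :=
    A.T.canonical_fixed hasCommD4 (b := bG) (n := nG) (u := uG) hb hn hnv hu hxfix
  have hvF : v ∈ A.T.weylFix := A.T.mem_weylFix.2 ⟨hv, hcomm⟩
  have huM : u ∈ A.T.fixedMinus v := Subgroup.mem_inf.2 ⟨(A.T.mem_fixed uG).2 hufix, hu⟩
  have huG : u ∈ A.G1 := S.fixedMinus_le hasCommD4 hvF huM
  obtain ⟨m, hm, hmm, hma⟩ := S.exists_rep hvF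
  have hbB : b * (n * m⁻¹) ∈ chevD4.borelSubgroup F :=
    mul_mem hb (Subgroup.mem_sup_right (goodD4.monomial_same_acts hn hmm hnv hma))
  have hbF : b * (n * m⁻¹) ∈ A.T.fixed := by
    rw [show b * (n * m⁻¹) = x * u⁻¹ * m⁻¹ by rw [he]; group]
    exact mul_mem (mul_mem hx (inv_mem (hT u huG))) (inv_mem (hT m hm))
  suffices H : b * (n * m⁻¹) ∈ A.G1 by
    rw [show x = b * (n * m⁻¹) * m * u by rw [he]; group]
    exact mul_mem (mul_mem H hm) huG
  obtain ⟨y, hy, h, hh, e⟩ := goodD4.mem_borel.1 hbB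
  let yG : ↥(chevD4.group F) := ⟨y, goodD4.posUnipotent_le_group hy⟩
  let hG : ↥(chevD4.group F) := ⟨h, goodD4.diagonal_le_group hh⟩
  have hfix : A.T.σ yG * A.T.σ hG = yG * hG := by
    rw [← map_mul]
    exact (A.T.mem_fixed (yG * hG)).1 (by
      show y * h ∈ A.T.fixed
      rw [e]; exact hbF)
  have h1 : (yG : GL chevD4.Idx F)⁻¹ * A.T.σ yG ∈
      chevD4.posUnipotent F ⊓ chevD4.diagonalSubgroup F := by
    refine Subgroup.mem_inf.2 ⟨mul_mem (inv_mem hy) (A.T.σ_pos hy), ?_⟩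
    have : (yG : GL chevD4.Idx F)⁻¹ * A.T.σ yG = hG * (A.T.σ hG : GL chevD4.Idx F)⁻¹ := by
      rw [eq_mul_inv_iff_mul_eq, mul_assoc, ← Subgroup.coe_mul, hfix, Subgroup.coe_mul,
        inv_mul_cancel_left]
    rw [this]
    exact mul_mem hh (inv_mem (A.T.σ_diag hh))
  rw [goodD4.pos_inf_diagonal, Subgroup.mem_bot, inv_mul_eq_one] at h1
  have hyF : y ∈ A.T.fixed := (A.T.mem_fixed yG).2 (Subtype.ext h1.symm)
  have hyG : y ∈ chevD4.posUnipotent F ⊓ S.G1 := by
    rw [S.pos_inf_eq hasCommD4]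
    exact Subgroup.mem_inf.2 ⟨hy, hyF⟩
  have hhF : h ∈ A.T.fixed := by
    rw [show h = y⁻¹ * (y * h) by group, e]
    exact mul_mem (inv_mem hyF) hbF
  obtain ⟨c, hc, rfl⟩ := fixed_torus hh hhF
  rw [← e]
  exact mul_mem hyG.2 (A.H0_le_G1 hasCommD4 ⟨c, hc, rfl⟩)

/-! ### The unipotent subgroup -/

lemma card_base (o : Fin chevG2.rank) :
    Nat.card ((triA F).T.fixedMinus (goodD4.wperm (orbT o))) = Fintype.card F := by
  let f : F → ↥((triA F).T.fixedMinus (goodD4.wperm (orbT o))) := fun c =>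
    ⟨goodD4.xList goodD4.sroot (orbT o) fun _ => c,
      ((triA F).mem_fixedMinus hasCommD4 o).2 ⟨fun _ => c, fun _ _ => rfl, rfl⟩⟩
  rw [← Nat.card_eq_fintype_card]
  refine (Nat.card_eq_of_bijective f ⟨fun c d h => ?_, fun x => ?_⟩).symm
  · exact goodD4.xList_inj hasCommD4 ((triA F).isOrbit o).sorted (congrArg Subtype.val h)
      (rep o) (rep_mem o)
  · obtain ⟨t, ht, he⟩ := ((triA F).mem_fixedMinus hasCommD4 o).1 x.2
    exact ⟨t (rep o), Subtype.ext
      ((goodD4.xList_congr fun i hi => (const_on_orb ht i hi).symm).trans he.symm)⟩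

lemma word4_mem_weylFix (L : List (Fin chevG2.rank)) :
    goodD4.wperm (word4 L) ∈ (triA F).T.weylFix := by
  induction L with
  | nil => exact one_mem _
  | cons o L ih =>
    rw [word4, List.flatMap_cons, goodD4.wperm_append]
    exact mul_mem (((triA F).sys hasCommD4).w_weylFix o) ih

lemma exists_word4 {v : Equiv.Perm (Fin chevD4.nroots)} (hv : v ∈ (triA F).T.weylFix) :
    ∃ L, v = goodD4.wperm (word4 L) :=
  ((triA F).sys hasCommD4).weylFix_induction (P := fun v => ∃ L, v = goodD4.wperm (word4 L))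
    ⟨[], rfl⟩ (fun o _ _ ⟨L, hL⟩ _ =>
      ⟨o :: L, by rw [hL]; exact (goodD4.wperm_append (orbT o) (word4 L)).symm⟩) hv

lemma card_fixedMinus_red (L : List (Fin chevG2.rank)) (hred : redOK L = true) :
    Nat.card ((triA F).T.fixedMinus (goodD4.wperm (word4 L))) = Fintype.card F ^ L.length := by
  induction L with
  | nil =>
    rw [List.length_nil, pow_zero]
    have : (triA F).T.fixedMinus (1 : Equiv.Perm (Fin chevD4.nroots)) = ⊥ := by
      refine le_bot_iff.1 fun x hx => ?_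
      have : x ∈ chevD4.borelSubgroup F ⊓ chevD4.negUnipotent F := by
        refine Subgroup.mem_inf.2 ⟨Subgroup.mem_sup_left (goodD4.minus_le_pos _ hx.2), ?_⟩
        simpa using goodD4.conj_minus_le goodD4.acts_one hx.2
      rwa [goodD4.borel_inf_neg] at this
    show Nat.card ((triA F).T.fixedMinus (1 : Equiv.Perm (Fin chevD4.nroots))) = 1
    rw [this, Subgroup.card_bot]
  | cons o L ih =>
    have hred' : redOK L = true := by
      simp only [redOK, Bool.and_eq_true] at hred; exact hred.2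
    set S := (triA F).sys hasCommD4
    obtain ⟨e, -⟩ := S.fixedMinus_split hasCommD4 o (word4_mem_weylFix L)
      (fun a ha hs => by
        obtain ⟨i, hi, hai⟩ := (((triA F).isOrbit o).neg a ha hs).2
        exact pos_of_red hred hi hai)
      ((triA F).wordN_orbWord_mem hasCommD4 L) (goodD4.wordN_mem _) (goodD4.acts_wordN _)
    rw [List.length_cons, pow_succ', ← ih hred', ← card_base (F := F) o, ← Nat.card_prod,
      show goodD4.wperm (word4 (o :: L)) = S.w o * goodD4.wperm (word4 L) from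
        goodD4.wperm_append (orbT o) (word4 L)]
    exact (Nat.card_congr e).symm

lemma card_U1 : Nat.card ↥(chevD4.posUnipotent F ⊓ (triA F).G1) = Fintype.card F ^ 6 := by
  have h := card_fixedMinus_red (F := F) longWord longWord_facts.1
  have e : chevD4.posUnipotent F ⊓ (triA F).G1 =
      (triA F).T.fixedMinus (goodD4.wperm (word4 longWord)) := by
    rw [show (triA F).G1 = ((triA F).sys hasCommD4).G1 from rfl,
      ((triA F).sys hasCommD4).pos_inf_eq hasCommD4, Twist.fixedMinus, inf_comm,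
      goodD4.posUnipotent_eq, minusSet_long]
    congr 1
    exact le_antisymm (goodD4.rootGen_mono fun r hr hr' => ⟨hr', hr⟩)
      (goodD4.rootGen_mono fun r hr _ => hr.2)
  rw [e, h]
  rfl

variable (F) in
/-- The positive unipotent part of the fixed group. -/
noncomputable def U1 : Subgroup ↥(triA F).G1 :=
  (chevD4.posUnipotent F).subgroupOf (triA F).G1

variable (F) in
/-- The positive unipotent subgroup of G2, in the group. -/
noncomputable def U2 : Subgroup ↥(chevG2.group F) :=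
  (chevG2.posUnipotent F).subgroupOf (chevG2.group F)

lemma card_U1' : Nat.card (U1 F) = Fintype.card F ^ 6 := by
  rw [← card_U1 (F := F), U1, ← Subgroup.inf_subgroupOf_right]
  exact Nat.card_congr
    (Subgroup.subgroupOfEquivOfLe (inf_le_right : chevD4.posUnipotent F ⊓ _ ≤ (triA F).G1)).toEquiv

lemma card_U2 : Nat.card (U2 F) = Fintype.card F ^ 6 := by
  rw [U2, Nat.card_congr (Subgroup.subgroupOfEquivOfLe goodG2.posUnipotent_le_group).toEquiv,
    goodG2.card_posUnipotent hasCommG2']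
  rfl

lemma U2_le : U2 F ≤ (U1 F ⊓ (U2 F).comap (psi F)).map (psi F) := by
  suffices H : chevG2.posUnipotent F ≤
      ((U1 F ⊓ (U2 F).comap (psi F)).map (psi F)).map (chevG2.group F).subtype by
    intro y hy
    obtain ⟨z, hz, he⟩ := H (Subgroup.mem_subgroupOf.1 hy)
    rwa [← Subtype.ext he]
  rw [goodG2.posUnipotent_eq, rootGen, Subgroup.closure_le]
  rintro y ⟨r, t, hr, hrn, hy⟩
  rw [goodG2.eq_xG hy]
  have hr' : half chevG2 ≤ r := hr
  obtain ⟨L, o, hLo⟩ := exists_word ⟨r, hrn⟩ hr'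
  obtain ⟨e, he⟩ := goodG2.acts_wordN (F := F) L (goodG2.sroot o)
  let c : F := ((e⁻¹ : Fˣ) : F) * t
  let N : GL chevD4.Idx F := goodD4.wordN (word4 L)
  let X : GL chevD4.Idx F := goodD4.xList goodD4.sroot (orbT o) fun _ => c
  have hN : N ∈ (triA F).G1 := (triA F).wordN_orbWord_mem hasCommD4 L
  have hX : X ∈ (triA F).G1 := ((triA F).gen_mem (o := o) (t := fun _ => c) fun _ _ => rfl).1
  have hz : N * X * N⁻¹ ∈ (triA F).G1 := mul_mem (mul_mem hN hX) (inv_mem hN)
  have hpsi : (psi F ⟨_, hz⟩ : GL chevG2.Idx F) = goodG2.xG r t := by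
    rw [psi_eq ⟨_, hz⟩ (lift_mul (lift_mul (lift_wordN (F := F) L) (lift_pos o c))
      (lift_inv (lift_wordN (F := F) L))), he, hLo]
    simp only [c, ← mul_assoc, ← Units.val_mul, mul_inv_cancel, Units.val_one, one_mul]
  have hyU : goodG2.xG r t ∈ chevG2.posUnipotent F :=
    goodG2.xG_mem_posUnipotent ((goodG2.isPosRoot_iff r).2 ⟨hr', hrn⟩) t
  have hzU : N * X * N⁻¹ ∈ chevD4.posUnipotent F := by
    have : X ∈ (chevD4.posUnipotent F).comap (MulAut.conj N).toMonoidHom := by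
      refine Subgroup.list_prod_mem _ fun z hz' => ?_
      obtain ⟨i, hi, rfl⟩ := List.mem_map.1 hz'
      obtain ⟨d, hd⟩ := goodD4.acts_wordN (F := F) (word4 L) (goodD4.sroot i)
      show N * goodD4.xG (F := F) ((goodD4.sroot i : Fin chevD4.nroots) : ℕ) c * N⁻¹ ∈ chevD4.posUnipotent F
      rw [hd]
      refine goodD4.xG_mem_posUnipotent ((goodD4.isPosRoot_iff _).2 ⟨?_, Fin.isLt _⟩) _
      rw [pos_word4_iff, proj_sroot hi, hLo]
      exact hr'
    exact this
  refine ⟨psi F ⟨_, hz⟩, ⟨_, ⟨Subgroup.mem_subgroupOf.2 hzU, ?_⟩, rfl⟩, hpsi⟩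
  exact Subgroup.mem_subgroupOf.2 (by rw [hpsi]; exact hyU)

theorem psi_U1 : (∀ x ∈ U1 F, psi F x ∈ U2 F) ∧
    ∀ x ∈ U1 F, psi F x = 1 → x = 1 := by
  have hV : U1 F ⊓ (U2 F).comap (psi F) = U1 F := by
    refine Subgroup.eq_of_le_of_card_ge inf_le_left ?_
    rw [card_U1', ← card_U2 (F := F)]
    refine le_trans (Subgroup.card_le_of_le U2_le) ?_
    exact Nat.card_le_card_of_surjective _ (MonoidHom.subgroupMap_surjective (psi F) _)
  have h1 : ∀ x ∈ U1 F, psi F x ∈ U2 F := fun x hx => by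
    rw [← hV] at hx; exact hx.2
  refine ⟨h1, fun x hx he => ?_⟩
  let f : ↥(U1 F) → ↥(U2 F) := fun z => ⟨psi F z, h1 z z.2⟩
  have hfs : Function.Surjective f := fun y => by
    obtain ⟨z, hz, hzy⟩ := U2_le y.2
    exact ⟨⟨z, hz.1⟩, Subtype.ext hzy⟩
  have hf := (Nat.bijective_iff_surjective_and_card f).2 ⟨hfs, by rw [card_U1', card_U2]⟩
  exact congrArg Subtype.val (hf.1 (a₁ := ⟨x, hx⟩) (a₂ := 1)
    (Subtype.ext (he.trans (map_one (psi F)).symm)))

/-! ### Injectivity -/

/-- The Cartan matrix of G2 is invertible. -/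
lemma torHomG2_eq_one {c : Fin chevG2.rank → Fˣ} (h : torHom chevG2 F c = 1) : c = 1 := by
  rw [goodG2.torHom_eq_one_iff] at h
  have key : powMap (cartanMat chevG2 *
      (Matrix.of fun i j : Fin chevG2.rank => nth 0 (nth [] [[2, 3], [1, 2]] i) j)) c = 1 := by
    rw [powMap_mul, MonoidHom.comp_apply, h, map_one]
  rw [show cartanMat chevG2 *
      (Matrix.of fun i j : Fin chevG2.rank => nth 0 (nth [] [[2, 3], [1, 2]] i) j) = 1 by
        decide +kernel, powMap_one] at key
  exact key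

theorem psi_injective : Function.Injective (psi F) := by
  rw [← MonoidHom.ker_eq_bot_iff, eq_bot_iff]
  set A := triA F
  set S := A.sys hasCommD4
  intro x hx
  rw [MonoidHom.mem_ker] at hx
  obtain ⟨v, hv, n, hnG, hnm, hnv, b, hb, u, hu, he⟩ := S.exists_canonical hasCommD4 x.2
  obtain ⟨L, rfl⟩ := exists_word4 hv
  have hNG : goodD4.wordN (F := F) (word4 L) ∈ A.G1 := A.wordN_orbWord_mem hasCommD4 L
  -- the diagonal and the unipotent parts of a Borel element
  have hbor : ∀ z : ↥A.G1, (z : GL chevD4.Idx F) ∈ chevD4.borelSubgroup F →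
      ∃ y ∈ U1 F, ∃ c ∈ A.T0, (z : GL chevD4.Idx F) = y.1 * torHom chevD4 F c ∧
        (psi F z : GL chevG2.Idx F) =
          (psi F y : GL chevG2.Idx F) * torHom chevG2 F (fun o => c (rep o)) := by
    intro z hz
    obtain ⟨y, hy, h, hh, e⟩ := S.borel_inf_decomp hasCommD4 (Subgroup.mem_inf.2 ⟨hz, z.2⟩)
    obtain ⟨c, hc, rfl⟩ := fixed_torus hh.1 (S.le_fixed hh.2)
    exact ⟨⟨y, hy.2⟩, Subgroup.mem_subgroupOf.2 hy.1, c, hc, e,
      psi_eq z (e ▸ lift_mul (psi_spec ⟨y, hy.2⟩) (lift_torHom hc))⟩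
  have hborel2 : ∀ y ∈ U1 F, ∀ c, (psi F y : GL chevG2.Idx F) * torHom chevG2 F c ∈
      chevG2.borelSubgroup F := fun y hy c =>
    mul_mem (Subgroup.mem_sup_left (psi_U1.1 y hy)) (Subgroup.mem_sup_right (goodG2.torHom_mem c))
  -- the Weyl component is trivial
  have hu1 : u ∈ A.G1 := S.fixedMinus_le hasCommD4 hv hu
  have hup : u ∈ chevD4.posUnipotent F := goodD4.minus_le_pos _ hu.2
  have hb' : b * (n * (goodD4.wordN (word4 L))⁻¹) ∈ chevD4.borelSubgroup F := mul_mem hb.1
    (Subgroup.mem_sup_right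
      (goodD4.monomial_same_acts hnm (goodD4.wordN_mem _) hnv (goodD4.acts_wordN _)))
  obtain ⟨y, hy, c, -, -, hbz⟩ := hbor
    ⟨_, mul_mem hb.2 (mul_mem hnG (inv_mem hNG))⟩ hb'
  have hxe : x = ⟨_, mul_mem hb.2 (mul_mem hnG (inv_mem hNG))⟩ *
      (⟨_, hNG⟩ : ↥A.G1) * ⟨u, hu1⟩ := by
    refine Subtype.ext (he.trans ?_)
    show b * n * u = b * (n * (goodD4.wordN (word4 L))⁻¹) * goodD4.wordN (word4 L) * u
    group
  have h1 : ((psi F y : GL chevG2.Idx F) * torHom chevG2 F (fun o => c (rep o))) *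
      goodG2.wordN L * (psi F ⟨u, hu1⟩ : GL chevG2.Idx F) = 1 * 1 * 1 := by
    have := congrArg (fun z => (psi F z : GL chevG2.Idx F)) hxe
    simp only [hx, map_mul, Subgroup.coe_mul, Subgroup.coe_one, hbz,
      psi_eq (⟨_, hNG⟩ : ↥A.G1) (lift_wordN L)] at this
    rw [one_mul, one_mul]
    exact this.symm
  have h2 := goodG2.canonical_coset hasCommG2' (hborel2 y hy _) (one_mem _) (goodG2.wordN_mem L)
    (one_mem _) (Subgroup.mem_sup_left (psi_U1.1 _ (Subgroup.mem_subgroupOf.2 hup))) (one_mem _) h1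
  rw [mul_one] at h2
  have h3 : goodG2.wperm L = 1 := inv_eq_one.1
    (goodG2.acts_unique (goodG2.acts_inv (goodG2.acts_wordN L)) (goodG2.acts_diagonal h2))
  have h4 := word4_eq_one h3
  have hu0 : u = 1 := by
    have := hu.2
    rw [h4] at this
    have h5 : u ∈ chevD4.borelSubgroup F ⊓ chevD4.negUnipotent F := by
      refine Subgroup.mem_inf.2 ⟨Subgroup.mem_sup_left hup, ?_⟩
      simpa using goodD4.conj_minus_le goodD4.acts_one this
    rwa [goodD4.borel_inf_neg, Subgroup.mem_bot] at h5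
  have hnd : n ∈ chevD4.diagonalSubgroup F := by
    have := goodD4.monomial_same_acts hnm (one_mem _) (h4 ▸ hnv) goodD4.acts_one
    simpa using this
  -- the Borel case
  have hxB : (x : GL chevD4.Idx F) ∈ chevD4.borelSubgroup F := by
    rw [he, hu0, mul_one]
    exact mul_mem hb.1 (Subgroup.mem_sup_right hnd)
  obtain ⟨y, hy, c, hc, e, e'⟩ := hbor x hxB
  replace e' := (congrArg Subtype.val hx).symm.trans e'
  have hyd : (psi F y : GL chevG2.Idx F) ∈
      chevG2.posUnipotent F ⊓ chevG2.diagonalSubgroup F := by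
    refine Subgroup.mem_inf.2 ⟨psi_U1.1 y hy, ?_⟩
    rw [show (psi F y : GL chevG2.Idx F) = (torHom chevG2 F fun o => c (rep o))⁻¹ from
      eq_inv_of_mul_eq_one_left e'.symm]
    exact inv_mem (goodG2.torHom_mem _)
  rw [goodG2.pos_inf_diagonal, Subgroup.mem_bot] at hyd
  rw [hyd, one_mul] at e'
  have hy1 : y = 1 := psi_U1.2 y hy (Subtype.ext hyd)
  have hc0 := torHomG2_eq_one e'.symm
  have hc1 : c = 1 := funext fun i => by
    obtain ⟨o, ho⟩ := A.cover i
    rw [rep_eq_of_mem hc ho]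
    exact congrFun hc0 o
  refine Subgroup.mem_bot.2 (Subtype.ext ?_)
  rw [e, hy1, hc1, map_one, Subgroup.coe_one, mul_one]

variable (F) in
/-- The fixed group of triality is of type G2. -/
noncomputable def fixedEquiv : ↥(triA F).T.fixed ≃* ↥(chevG2.group F) :=
  (MulEquiv.subgroupCongr fixed_eq).trans
    (MulEquiv.ofBijective (psi F) ⟨psi_injective, psi_surjective⟩)

/-! ### Triality automorphisms -/

theorem centralizer_of_rho (α : MulAut ↥(chevD4.group F))
    (hα : ∀ (i : Fin chevD4.rank) (t : F),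
      (α ⟨goodD4.xG (goodD4.sroot i) t, goodD4.xG_mem_group (Fin.isLt _) t⟩ : GL chevD4.Idx F) =
        goodD4.xG (goodD4.sroot (triS.pi i)) t ∧
      (α ⟨goodD4.xG (goodD4.nroot (goodD4.sroot i)) t, goodD4.xG_mem_group (Fin.isLt _) t⟩ :
        GL chevD4.Idx F) = goodD4.xG (goodD4.nroot (goodD4.sroot (triS.pi i))) t) :
    Nonempty (↥(MonoidHom.eqLocus α.toMonoidHom (MonoidHom.id ↥(chevD4.group F))) ≃*
      ↥(chevG2.group F)) := by
  have hσ : ∀ x : ↥(chevD4.group F), (triA F).T.σ x = α x := by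
    have hle : chevD4.group F ≤ (MonoidHom.eqLocus (triA F).T.σ α.toMonoidHom).map
        (chevD4.group F).subtype := by
      refine group_le_of_simple goodD4 fun i t => ⟨?_, ?_⟩
      · refine ⟨⟨_, goodD4.xG_mem_group (Fin.isLt _) t⟩, Subtype.ext ?_, rfl⟩
        refine (((triA F).T.σ_x _ _).trans ?_).trans (hα i t).1.symm
        rw [(triA F).f_pos, (triA F).ρ_sroot']
        rfl
      · refine ⟨⟨_, goodD4.xG_mem_group (Fin.isLt _) t⟩, Subtype.ext ?_, rfl⟩
        refine (((triA F).T.σ_x _ _).trans ?_).trans (hα i t).2.symm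
        rw [(triA F).f_neg, (triA F).ρ_nsroot]
        rfl
    intro x
    obtain ⟨z, hz, he⟩ := hle x.2
    obtain rfl : z = x := Subtype.ext he
    exact hz
  have e : MonoidHom.eqLocus α.toMonoidHom (MonoidHom.id ↥(chevD4.group F)) =
      (triA F).T.σ.eqLocus (MonoidHom.id _) := by
    ext x
    show α x = x ↔ (triA F).T.σ x = x
    rw [hσ]
  exact ⟨((MulEquiv.subgroupCongr e).trans
    (Subgroup.equivMapOfInjective _ (chevD4.group F).subtype
      (Subgroup.subtype_injective _))).trans (fixedEquiv F)⟩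

/-- The fixed points of a triality automorphism. -/
theorem triality_centralizer (τ : MulAut ↥(chevD4.group F)) (hτ : chevD4.IsGraphAut τ)
    (hτ3 : orderOf τ = 3) :
    Nonempty (↥(MonoidHom.eqLocus τ.toMonoidHom (MonoidHom.id ↥(chevD4.group F))) ≃*
      ↥(chevG2.group F)) := by
  obtain ⟨π, hπ, hg⟩ := hτ
  have hexp : ∀ c, ∀ i j : Fin chevD4.rank, chevD4.graphExp c i j = 1 := fun c i j => by
    have h : ∀ j : Fin chevD4.rank, chevD4.isLong (chevD4.simple j) = false := by decide +kernel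
    rw [ChevalleyDatum.graphExp, h j]; simp
  have hx : ∀ (β : MulAut ↥(chevD4.group F)) (p : Equiv.Perm (Fin chevD4.rank)),
      (∀ (g : ↥(chevD4.group F)) (i : Fin chevD4.rank) (t : F),
        (((g : GL chevD4.Idx F) : Matrix chevD4.Idx chevD4.Idx F) = chevD4.x F (chevD4.simple i) t →
          ((β g : GL chevD4.Idx F) : Matrix chevD4.Idx chevD4.Idx F) =
            chevD4.x F (chevD4.simple (p i)) t) ∧
        (((g : GL chevD4.Idx F) : Matrix chevD4.Idx chevD4.Idx F) =
            chevD4.x F (chevD4.neg (chevD4.simple i)) t →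
          ((β g : GL chevD4.Idx F) : Matrix chevD4.Idx chevD4.Idx F) =
            chevD4.x F (chevD4.neg (chevD4.simple (p i))) t)) →
      ∀ (i : Fin chevD4.rank) (t : F),
        β ⟨goodD4.xG (goodD4.sroot i) t, goodD4.xG_mem_group (Fin.isLt _) t⟩ =
          ⟨goodD4.xG (goodD4.sroot (p i)) t, goodD4.xG_mem_group (Fin.isLt _) t⟩ ∧
        β ⟨goodD4.xG (goodD4.nroot (goodD4.sroot i)) t, goodD4.xG_mem_group (Fin.isLt _) t⟩ =
          ⟨goodD4.xG (goodD4.nroot (goodD4.sroot (p i))) t,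
            goodD4.xG_mem_group (Fin.isLt _) t⟩ := fun β p h i t =>
    ⟨Subtype.ext (Units.ext ((h _ i t).1 rfl)), Subtype.ext (Units.ext ((h _ i t).2 rfl))⟩
  have hτx := hx τ π fun g i t => by simpa [hexp] using hg g i t
  have hne : π * π ≠ 1 := by
    intro h2
    have hpp : ∀ i, π (π i) = i := fun i => by rw [← Equiv.Perm.mul_apply, h2]; rfl
    have h1 : ∀ x, τ (τ x) = x := by
      have hle : chevD4.group F ≤ ((MonoidHom.eqLocus (τ * τ).toMonoidHom
          (MonoidHom.id _))).map (chevD4.group F).subtype := by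
        refine group_le_of_simple goodD4 fun i t => ⟨?_, ?_⟩
        · exact ⟨⟨_, goodD4.xG_mem_group (Fin.isLt _) t⟩,
            (congrArg τ (hτx i t).1).trans ((hτx (π i) t).1.trans (by simp [hpp])), rfl⟩
        · exact ⟨⟨_, goodD4.xG_mem_group (Fin.isLt _) t⟩,
            (congrArg τ (hτx i t).2).trans ((hτx (π i) t).2.trans (by simp [hpp])), rfl⟩
      intro x
      obtain ⟨z, hz, he⟩ := hle x.2
      obtain rfl : z = x := Subtype.ext he
      exact hz
    have h3 : τ ^ 2 = 1 := MulEquiv.ext fun x => by rw [sq]; exact h1 x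
    have := orderOf_dvd_of_pow_eq_one h3
    rw [hτ3] at this
    omega
  have hcases : (∀ i, π i = triS.pi i) ∨ ∀ i, π (triS.pi i) = i := by
    have key : ∀ p : Equiv.Perm (Fin chevD4.rank),
        (∀ i j, i ≠ j → chevD4.bonds (p i) (p j) = chevD4.bonds i j) → p * p ≠ 1 →
        (∀ i, (p i).val = nth 0 rhoD4.pi i) ∨
          ∀ i : Fin chevD4.rank, (p i).val = nth 0 rhoD4b.pi i := by decide +kernel
    rcases key π hπ hne with h | h
    · exact Or.inl fun i => Fin.ext (h i)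
    · refine Or.inr fun i => Fin.ext ?_
      rw [h]
      exact (by decide +kernel :
        ∀ i : Fin chevD4.rank, nth 0 rhoD4b.pi (triS.pi i : ℕ) = i) i
  rcases hcases with h | h
  · refine centralizer_of_rho τ fun i t => ?_
    obtain ⟨a, b⟩ := hτx i t
    rw [a, b, h]
    exact ⟨rfl, rfl⟩
  · have e : MonoidHom.eqLocus τ.toMonoidHom (MonoidHom.id ↥(chevD4.group F)) =
        MonoidHom.eqLocus τ.symm.toMonoidHom (MonoidHom.id _) := by
      ext x
      show τ x = x ↔ τ.symm x = x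
      rw [MulEquiv.symm_apply_eq, eq_comm]
    rw [e]
    refine centralizer_of_rho τ.symm fun i t => ⟨?_, ?_⟩
    · refine congrArg Subtype.val ((MulEquiv.symm_apply_eq τ).2
        (?_ : _ = τ ⟨_, goodD4.xG_mem_group (Fin.isLt (goodD4.sroot (triS.pi i))) t⟩))
      rw [(hτx _ t).1]
      simp only [h]
    · refine congrArg Subtype.val ((MulEquiv.symm_apply_eq τ).2
        (?_ : _ = τ ⟨_, goodD4.xG_mem_group
          (Fin.isLt (goodD4.nroot (goodD4.sroot (triS.pi i)))) t⟩))
      rw [(hτx _ t).2]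
      simp only [h]

end CfsgLib.KnownC.TrialityD4
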