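import Mathlib

set_option autoImplicit false

/-!
A group of order `2 p³` inside `PSL_n(p)` with trivial centraliser, for unboundedly many `n`.
-/

namespace CfsgLib.KnownC.TrivCent

open Matrix

variable (p : ℕ) [Fact p.Prime]

/-- The abelian normal subgroup. -/
abbrev V := Fin 3 → ZMod p

/-- Inversion. -/
noncomputable def act : ℤˣ →* MulAut (Multiplicative (V p)) where
  toFun ε :=
    { toFun := fun v => Multiplicative.ofAdd ((((ε : ℤ) : ZMod p)) • v.toAdd)
      invFun := fun v => Multiplicative.ofAdd ((((ε : ℤ) : ZMod p)) • v.toAdd)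
      left_inv := fun v => by
        simp only [toAdd_ofAdd, smul_smul, ← Int.cast_mul, ← Units.val_mul, Int.units_mul_self,
          Units.val_one, Int.cast_one, one_smul, ofAdd_toAdd]
      right_inv := fun v => by
        simp only [toAdd_ofAdd, smul_smul, ← Int.cast_mul, ← Units.val_mul, Int.units_mul_self,
          Units.val_one, Int.cast_one, one_smul, ofAdd_toAdd]
      map_mul' := fun v w => by simp [toAdd_mul, smul_add, ofAdd_add] }
  map_one' := by ext v; simp
  map_mul' a b := by ext v; simp [smul_smul]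

/-- The group. -/
abbrev H := Multiplicative (V p) ⋊[act p] ℤˣ

variable (m : ℕ)

/-- The three maps. -/
def arrow (v : V p) : Matrix (Fin (m + 1)) (Fin m) (ZMod p) :=
  Matrix.of fun i j => (if (i : ℕ) = j then v 0 else 0) + (if (i : ℕ) = j + 1 then v 1 else 0) +
    (if (i : ℕ) = m ∧ (j : ℕ) = 0 then v 2 else 0)

theorem arrow_add (v w : V p) : arrow p m (v + w) = arrow p m v + arrow p m w := by
  ext i j
  simp only [arrow, Matrix.of_apply, Matrix.add_apply, Pi.add_apply]
  split_ifs <;> ring

theorem arrow_smul (c : ZMod p) (v : V p) : arrow p m (c • v) = c • arrow p m v := by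
  ext i j
  simp only [arrow, Matrix.of_apply, Matrix.smul_apply, Pi.smul_apply, smul_eq_mul]
  split_ifs <;> ring

theorem arrow_inj (hm : 2 ≤ m) {v : V p} (h : arrow p m v = 0) : v = 0 := by
  have h0 := congrFun (congrFun h ⟨0, by omega⟩) ⟨0, by omega⟩
  have h1 := congrFun (congrFun h ⟨1, by omega⟩) ⟨0, by omega⟩
  have h2 := congrFun (congrFun h ⟨m, by omega⟩) ⟨0, by omega⟩
  have e1 : (0 : ℕ) ≠ m := by omega
  have e2 : (1 : ℕ) ≠ m := by omega
  have e3 : m ≠ 1 := by omega
  have e4 : m ≠ 0 := by omega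
  simp [arrow, e1, e2, e3, e4] at h0 h1 h2
  funext i
  fin_cases i <;> assumption

/-- The translation matrices. -/
def transl (v : V p) : Matrix (Fin m ⊕ Fin (m + 1)) (Fin m ⊕ Fin (m + 1)) (ZMod p) :=
  Matrix.fromBlocks 1 0 (arrow p m v) 1

/-- The diagonal sign matrices. -/
def signMat (c : ZMod p) : Matrix (Fin m ⊕ Fin (m + 1)) (Fin m ⊕ Fin (m + 1)) (ZMod p) :=
  Matrix.fromBlocks (c • 1) 0 0 1

theorem det_signMat (c : ZMod p) : (signMat p m c).det = c ^ m := by
  simp [signMat]

variable {p m}

theorem brick {P : Matrix (Fin m) (Fin m) (ZMod p)} {Q : Matrix (Fin (m + 1)) (Fin (m + 1)) (ZMod p)}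
    (hm : 2 ≤ m) (h : ∀ v, Q * arrow p m v = arrow p m v * P) :
    P = P ⟨0, by omega⟩ ⟨0, by omega⟩ • 1 ∧ Q = P ⟨0, by omega⟩ ⟨0, by omega⟩ • 1 := by
  classical
  have e0 : ∀ (i : Fin (m + 1)) (j : Fin m), Q i j.castSucc =
      if h : (i : ℕ) < m then P ⟨i, h⟩ j else 0 := by
    intro i j
    have e := congrFun (congrFun (h (Pi.single 0 1)) i) j
    rw [Matrix.mul_apply, Matrix.mul_apply] at e
    rw [Finset.sum_eq_single j.castSucc] at e
    · simp only [arrow, Matrix.of_apply, Fin.val_castSucc, if_true, Pi.single_eq_same] at e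
      rw [Pi.single_eq_of_ne (by decide : (1 : Fin 3) ≠ 0), Pi.single_eq_of_ne (by decide : (2 : Fin 3) ≠ 0)] at e
      simp only [ite_self, add_zero, mul_one] at e
      rw [e]
      by_cases hi : (i : ℕ) < m
      · rw [dif_pos hi, Finset.sum_eq_single ⟨i, hi⟩]
        · simp [arrow]
        · intro c _ hc
          have : (i : ℕ) ≠ c := fun e => hc (Fin.ext e.symm)
          simp [arrow, this]
        · intro hh; exact absurd (Finset.mem_univ _) hh
      · rw [dif_neg hi]
        refine Finset.sum_eq_zero fun c _ => ?_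
        have : (i : ℕ) ≠ c := by omega
        simp [arrow, this]
    · intro c _ hc
      have : (c : ℕ) ≠ j := fun e => hc (Fin.ext e)
      simp [arrow, this]
    · intro hh; exact absurd (Finset.mem_univ _) hh
  have e1 : ∀ (i : Fin (m + 1)) (j : Fin m), Q i j.succ =
      if h : 1 ≤ (i : ℕ) then P ⟨(i : ℕ) - 1, by omega⟩ j else 0 := by
    intro i j
    have e := congrFun (congrFun (h (Pi.single 1 1)) i) j
    rw [Matrix.mul_apply, Matrix.mul_apply] at e
    rw [Finset.sum_eq_single j.succ] at e
    · simp only [arrow, Matrix.of_apply, Fin.val_succ, if_true, Pi.single_eq_same] at e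
      rw [Pi.single_eq_of_ne (by decide : (0 : Fin 3) ≠ 1), Pi.single_eq_of_ne (by decide : (2 : Fin 3) ≠ 1)] at e
      simp only [ite_self, add_zero, zero_add, mul_one] at e
      rw [e]
      by_cases hi : 1 ≤ (i : ℕ)
      · rw [dif_pos hi, Finset.sum_eq_single ⟨(i : ℕ) - 1, by omega⟩]
        · simp [arrow, Nat.sub_add_cancel hi]
        · intro c _ hc
          have : (i : ℕ) ≠ c + 1 := fun e => hc (Fin.ext (by show (c : ℕ) = i - 1; omega))
          simp [arrow, this]
        · intro hh; exact absurd (Finset.mem_univ _) hh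
      · rw [dif_neg hi]
        refine Finset.sum_eq_zero fun c _ => ?_
        have : (i : ℕ) ≠ c + 1 := by omega
        simp [arrow, this]
    · intro c _ hc
      have : (c : ℕ) ≠ j + 1 := fun e => hc (Fin.ext e)
      simp [arrow, this]
    · intro hh; exact absurd (Finset.mem_univ _) hh
  set c := P ⟨0, by omega⟩ ⟨0, by omega⟩ with hc
  -- the entries of `P` along the columns
  have key : ∀ (j : ℕ) (hj : j < m) (i : Fin m), P i ⟨j, hj⟩ = if (i : ℕ) = j then c else 0 := by
    intro j
    induction j with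
    | zero =>
      intro hj i
      by_cases hi : (i : ℕ) = 0
      · rw [if_pos hi, hc]; congr 1; exact Fin.ext hi
      · rw [if_neg hi]
        -- pushing the entry down its diagonal to the last row
        have down : ∀ (d : ℕ) (i : Fin m) (j : Fin m), (i : ℕ) + d + 1 = m → (j : ℕ) < i → P i j = 0 := by
          intro d
          induction d with
          | zero =>
            intro i j hi hji
            have a := e0 ⟨(i : ℕ) + 1, by omega⟩ ⟨(j : ℕ) + 1, by omega⟩
            have b := e1 ⟨(i : ℕ) + 1, by omega⟩ j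
            rw [dif_neg (show ¬ (i : ℕ) + 1 < m by omega)] at a
            rw [dif_pos (show 1 ≤ (i : ℕ) + 1 by omega)] at b
            exact ((congrArg (fun x => P x j) (Fin.ext (show (i : ℕ) = i + 1 - 1 by omega))).trans b.symm).trans a
          | succ d ih =>
            intro i j hi hji
            have a := e0 ⟨(i : ℕ) + 1, by omega⟩ ⟨(j : ℕ) + 1, by omega⟩
            have b := e1 ⟨(i : ℕ) + 1, by omega⟩ j
            rw [dif_pos (show (i : ℕ) + 1 < m by omega),
              ih ⟨(i : ℕ) + 1, by omega⟩ ⟨(j : ℕ) + 1, by omega⟩ (by show (i : ℕ) + 1 + d + 1 = m; omega)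
                (by show (j : ℕ) + 1 < i + 1; omega)] at a
            rw [dif_pos (show 1 ≤ (i : ℕ) + 1 by omega)] at b
            exact ((congrArg (fun x => P x j) (Fin.ext (show (i : ℕ) = i + 1 - 1 by omega))).trans b.symm).trans a
        exact down (m - (i : ℕ) - 1) i ⟨0, hj⟩ (by omega) (by show 0 < (i : ℕ); omega)
    | succ j ih =>
      intro hj i
      have a := e0 i.castSucc ⟨j + 1, hj⟩
      have b := e1 i.castSucc ⟨j, by omega⟩
      rw [dif_pos (show ((i.castSucc : Fin (m + 1)) : ℕ) < m from i.2)] at a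
      have hab : P i ⟨j + 1, hj⟩ = Q i.castSucc (Fin.succ ⟨j, by omega⟩) :=
        a.symm.trans (congrArg (Q i.castSucc) (Fin.ext rfl))
      rw [hab, b]
      by_cases hi : 1 ≤ (i : ℕ)
      · rw [dif_pos (show 1 ≤ ((i.castSucc : Fin (m + 1)) : ℕ) from hi), ih]
        simp only [Fin.val_castSucc]
        by_cases h' : (i : ℕ) = j + 1
        · rw [if_pos h', if_pos (show (i : ℕ) - 1 = j by omega)]
        · rw [if_neg h', if_neg (show ¬ (i : ℕ) - 1 = j by omega)]
      · rw [dif_neg (show ¬ 1 ≤ ((i.castSucc : Fin (m + 1)) : ℕ) from hi), if_neg (by omega)]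
  have hP : P = c • 1 := by
    ext i j
    rw [key j j.2 i, Matrix.smul_apply, Matrix.one_apply, smul_eq_mul]
    split_ifs with h1 h2 h2
    · rw [mul_one]
    · exact absurd (Fin.ext h1) h2
    · exact absurd (congrArg Fin.val h2) h1
    · rw [mul_zero]
  refine ⟨hP, ?_⟩
  ext i j
  rw [Matrix.smul_apply, Matrix.one_apply, smul_eq_mul]
  induction j using Fin.lastCases with
  | cast j =>
    rw [e0 i j]
    by_cases hi : (i : ℕ) < m
    · rw [dif_pos hi, key j j.2]
      by_cases h' : (i : ℕ) = j
      · rw [if_pos h', if_pos (Fin.ext h'), mul_one]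
      · rw [if_neg h', if_neg (fun e => h' (congrArg Fin.val e)), mul_zero]
    · rw [dif_neg hi, if_neg (fun e => hi (by rw [e]; exact j.2)), mul_zero]
  | last =>
    have hs : Fin.last m = Fin.succ (⟨m - 1, by omega⟩ : Fin m) :=
      Fin.ext (by show m = m - 1 + 1; omega)
    rw [hs, e1 i, ← hs]
    by_cases hi : 1 ≤ (i : ℕ)
    · rw [dif_pos hi, key (m - 1) (by omega)]
      by_cases h' : (i : ℕ) = m
      · rw [if_pos (show (i : ℕ) - 1 = m - 1 by omega), if_pos (Fin.ext h'), mul_one]
      · rw [if_neg (show ¬ (i : ℕ) - 1 = m - 1 by omega), if_neg (fun e => h' (congrArg Fin.val e)), mul_zero]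
    · rw [dif_neg hi, if_neg (fun e => hi (by rw [e]; show 1 ≤ m; omega)), mul_zero]

theorem main (hp : p ≠ 2) (hm : 2 ≤ m) (hme : Even m) :
    ∃ φ : H p →* Matrix.ProjectiveSpecialLinearGroup (Fin (m + (m + 1))) (ZMod p),
      Function.Injective φ ∧
      Subgroup.centralizer (φ.range : Set (Matrix.ProjectiveSpecialLinearGroup (Fin (m + (m + 1))) (ZMod p))) = ⊥ := by
  classical
  have h2 : (2 : ZMod p) ≠ 0 := by
    intro h
    have := (ZMod.natCast_eq_zero_iff 2 p).1 (by exact_mod_cast h)
    exact hp ((Nat.prime_dvd_prime_iff_eq Fact.out Nat.prime_two).1 this)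
  set R := Matrix.reindexAlgEquiv (ZMod p) (ZMod p) (finSumFinEquiv : Fin m ⊕ Fin (m + 1) ≃ Fin (m + (m + 1)))
    with hR
  have hRdet : ∀ A, (R A).det = A.det := fun A => by simp [hR]
  have hTdet : ∀ v, (transl p m v).det = 1 := fun v => by simp [transl]
  have hTadd : ∀ v w, transl p m (v + w) = transl p m v * transl p m w := fun v w => by
    simp [transl, Matrix.fromBlocks_multiply, arrow_add]
  let fT : Multiplicative (V p) →* Matrix.SpecialLinearGroup (Fin (m + (m + 1))) (ZMod p) :=
    { toFun := fun v => ⟨R (transl p m v.toAdd), by rw [hRdet, hTdet]⟩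
      map_one' := Subtype.ext (by
        show R (transl p m 0) = 1
        have h0 : arrow p m (0 : V p) = 0 := by
          rw [← zero_smul (ZMod p) (0 : V p), arrow_smul, zero_smul]
        rw [transl, h0, Matrix.fromBlocks_one, map_one])
      map_mul' := fun v w => Subtype.ext (by
        show R (transl p m (v * w).toAdd) = R _ * R _
        rw [toAdd_mul, hTadd, map_mul]) }
  let fD : ℤˣ →* Matrix.SpecialLinearGroup (Fin (m + (m + 1))) (ZMod p) :=
    { toFun := fun ε => ⟨R (signMat p m ((ε : ℤ) : ZMod p)), by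
        rw [hRdet, det_signMat]
        obtain ⟨k, rfl⟩ := hme
        rcases Int.units_eq_one_or ε with rfl | rfl <;> simp [← two_mul]⟩
      map_one' := Subtype.ext (by
        show R (signMat p m (((1 : ℤˣ) : ℤ) : ZMod p)) = 1
        simp [signMat, Matrix.fromBlocks_one])
      map_mul' := fun a b => Subtype.ext (by
        show R (signMat p m _) = R _ * R _
        rw [← map_mul]
        congr 1
        simp [signMat, Matrix.fromBlocks_multiply, smul_smul, mul_comm]) }
  have hconj : ∀ ε : ℤˣ, fT.comp ((act p) ε).toMonoidHom =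
      (MulAut.conj (fD ε)).toMonoidHom.comp fT := by
    intro ε
    refine MonoidHom.ext fun v => ?_
    show fT (Multiplicative.ofAdd ((((ε : ℤ) : ZMod p)) • Multiplicative.toAdd v)) = fD ε * fT v * (fD ε)⁻¹
    rw [eq_mul_inv_iff_mul_eq]
    refine Subtype.ext ?_
    show R (transl p m ((((ε : ℤ) : ZMod p)) • Multiplicative.toAdd v)) * R (signMat p m _) =
      R (signMat p m _) * R (transl p m (Multiplicative.toAdd v))
    rw [← map_mul, ← map_mul]
    congr 1
    simp only [transl, signMat, Matrix.fromBlocks_multiply, arrow_smul]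
    have hsq : (((ε : ℤ) : ZMod p)) * (((ε : ℤ) : ZMod p)) = 1 := by
      rw [← Int.cast_mul, ← Units.val_mul, Int.units_mul_self, Units.val_one, Int.cast_one]
    simp [smul_smul, hsq]
  let f : H p →* Matrix.SpecialLinearGroup (Fin (m + (m + 1))) (ZMod p) :=
    SemidirectProduct.lift fT fD hconj
  set π := QuotientGroup.mk' (Subgroup.center (Matrix.SpecialLinearGroup (Fin (m + (m + 1))) (ZMod p)))
  have hval : ∀ (v : Multiplicative (V p)) (ε : ℤˣ), (f ⟨v, ε⟩).1 =
      R (Matrix.fromBlocks (((ε : ℤ) : ZMod p) • 1) 0 (((ε : ℤ) : ZMod p) • arrow p m v.toAdd) 1) := by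
    intro v ε
    show R _ * R _ = _
    rw [← map_mul]
    congr 1
    simp [transl, signMat, Matrix.fromBlocks_multiply]
  refine ⟨π.comp f, (injective_iff_map_eq_one _).2 ?_, ?_⟩
  · rintro ⟨v, ε⟩ h
    obtain ⟨c, -, hc⟩ := Matrix.SpecialLinearGroup.mem_center_iff.1 ((QuotientGroup.eq_one_iff _).1 h)
    rw [hval] at hc
    have hc' := congrArg R.symm hc
    rw [R.symm_apply_apply, show Matrix.scalar (Fin (m + (m + 1))) c = algebraMap _ _ c from rfl,
      AlgEquiv.commutes, Algebra.algebraMap_eq_smul_one, ← Matrix.fromBlocks_one,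
      Matrix.fromBlocks_smul, Matrix.fromBlocks_inj] at hc'
    obtain ⟨h11, -, h21, h22⟩ := hc'
    have hc1 : c = 1 := by simpa using congrFun (congrFun h22 ⟨0, by omega⟩) ⟨0, by omega⟩
    have hε : ((ε : ℤ) : ZMod p) = 1 := by
      have := congrFun (congrFun h11 ⟨0, by omega⟩) ⟨0, by omega⟩
      simp at this
      rw [← this, hc1]
    have hε1 : ε = 1 := by
      rcases Int.units_eq_one_or ε with rfl | rfl
      · rfl
      · simp at hε
        exact absurd (show (2 : ZMod p) = 0 by linear_combination -hε) h2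
    rw [smul_zero, hε, one_smul] at h21
    exact SemidirectProduct.ext (by
      show v = 1
      rw [← ofAdd_toAdd v, arrow_inj p m hm h21.symm]; rfl) hε1
  · rw [Subgroup.eq_bot_iff_forall]
    intro y hy
    obtain ⟨x, rfl⟩ := QuotientGroup.mk'_surjective _ y
    set X := R.symm x.1 with hX
    have hxu : IsUnit X := ((Matrix.isUnit_iff_isUnit_det _).2 (by rw [x.2]; exact isUnit_one)).map R.symm
    have hcomm : ∀ h : H p, ∃ c : ZMod p, X * R.symm (f h).1 = c • (R.symm (f h).1 * X) := by
      intro h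
      have := Subgroup.mem_centralizer_iff.1 hy _ ⟨h, rfl⟩
      rw [MonoidHom.comp_apply, ← map_mul, ← map_mul] at this
      obtain ⟨c, -, hc⟩ := Matrix.SpecialLinearGroup.mem_center_iff.1 (QuotientGroup.eq.1 this)
      refine ⟨c, ?_⟩
      have h1 : x.1 * (f h).1 = c • ((f h).1 * x.1) := by
        have e : x * f h = f h * x * ((f h * x)⁻¹ * (x * f h)) := by rw [mul_inv_cancel_left]
        have e' := congrArg Subtype.val e
        rw [Matrix.SpecialLinearGroup.coe_mul, Matrix.SpecialLinearGroup.coe_mul, ← hc,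
          Matrix.SpecialLinearGroup.coe_mul] at e'
        rw [e', show Matrix.scalar (Fin (m + (m + 1))) c = algebraMap _ _ c from rfl,
          Algebra.algebraMap_eq_smul_one, mul_smul_comm, mul_one]
      rw [hX, ← map_mul, h1, map_smul, map_mul]
    obtain ⟨cw, hw⟩ := hcomm ⟨1, -1⟩
    have hW : R.symm (f ⟨1, -1⟩).1 = Matrix.fromBlocks (-1) 0 0 1 := by
      rw [hval, R.symm_apply_apply]
      have h0 : arrow p m (0 : V p) = 0 := by
        rw [← zero_smul (ZMod p) (0 : V p), arrow_smul, zero_smul]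
      simp [h0]
    rw [hW] at hw
    set W : Matrix (Fin m ⊕ Fin (m + 1)) (Fin m ⊕ Fin (m + 1)) (ZMod p) := Matrix.fromBlocks (-1) 0 0 1
    -- traces force `cw = 1`
    have hWW : W * W = 1 := by simp [W, Matrix.fromBlocks_multiply, Matrix.fromBlocks_one]
    obtain ⟨u, hu⟩ := hxu
    have hcw1 : cw = 1 := by
      have h3 : W = cw • ((u⁻¹ : (Matrix _ _ (ZMod p))ˣ).1 * W * X) := by
        calc W = (u⁻¹ : (Matrix _ _ (ZMod p))ˣ).1 * (X * W) := by
              rw [← hu, ← mul_assoc, Units.inv_mul, one_mul]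
          _ = _ := by rw [hw, mul_smul_comm, mul_assoc]
      have h4 := congrArg Matrix.trace h3
      rw [Matrix.trace_smul, Matrix.trace_mul_cycle, ← hu, Units.mul_inv, one_mul] at h4
      have htr : W.trace = 1 := by
        simp [W, Matrix.trace, Fintype.sum_sum_type, Fintype.card_fin]
      rw [htr, smul_eq_mul, mul_one] at h4
      exact h4.symm
    rw [hcw1, one_smul] at hw
    set A := X.toBlocks₁₁
    set B := X.toBlocks₁₂
    set C := X.toBlocks₂₁
    set D := X.toBlocks₂₂
    rw [← Matrix.fromBlocks_toBlocks X] at hw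
    simp only [W, Matrix.fromBlocks_multiply, Matrix.fromBlocks_inj, mul_neg, neg_mul, mul_one,
      one_mul, mul_zero, zero_mul, add_zero, zero_add] at hw
    obtain ⟨-, hB, hC, -⟩ := hw
    have hneg : ∀ {a b : ℕ} (M : Matrix (Fin a) (Fin b) (ZMod p)), M = -M → M = 0 := by
      intro a b M hM
      have : (2 : ZMod p) • M = 0 := by rw [two_smul]; nth_rw 1 [hM]; exact neg_add_cancel M
      exact (smul_eq_zero.1 this).resolve_left h2
    have hB0 : B = 0 := hneg B (by simpa using hB)
    have hC0 : C = 0 := hneg C (by simpa using hC.symm)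
    have hXeq : X = Matrix.fromBlocks A 0 0 D := by
      rw [← hB0, ← hC0]; exact (Matrix.fromBlocks_toBlocks X).symm
    haveI : Nonempty (Fin m) := ⟨⟨0, by omega⟩⟩
    have hA0 : A ≠ 0 := by
      intro h0
      have hdet : X.det = 0 := by
        rw [hXeq, Matrix.det_fromBlocks_zero₂₁, h0, Matrix.det_zero, zero_mul]
      exact (((Matrix.isUnit_iff_isUnit_det _).1 ⟨u, hu⟩)).ne_zero hdet
    have hbr : ∀ v : V p, D * arrow p m v = arrow p m v * A := by
      intro v
      obtain ⟨c, hc⟩ := hcomm ⟨Multiplicative.ofAdd v, 1⟩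
      rw [hval, R.symm_apply_apply, hXeq] at hc
      simp only [Units.val_one, Int.cast_one, one_smul, toAdd_ofAdd, Matrix.fromBlocks_multiply,
        Matrix.fromBlocks_smul, Matrix.fromBlocks_inj, mul_zero, zero_mul, mul_one, one_mul, add_zero,
        zero_add] at hc
      obtain ⟨h11, -, h21, -⟩ := hc
      have hc1 : c = 1 := by
        by_contra hne
        have : (1 - c) • A = 0 := by rw [sub_smul, one_smul, sub_eq_zero]; simpa using h11
        exact hA0 ((smul_eq_zero.1 this).resolve_left (sub_ne_zero.2 (Ne.symm hne)))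
      rw [hc1] at h21
      simpa using h21
    obtain ⟨hA, hD⟩ := brick hm hbr
    rw [QuotientGroup.mk'_apply, QuotientGroup.eq_one_iff]
    refine Matrix.SpecialLinearGroup.mem_center_iff.2
      ⟨A ⟨0, by omega⟩ ⟨0, by omega⟩, ?_, ?_⟩
    · have hx1 : x.1 = (A ⟨0, by omega⟩ ⟨0, by omega⟩) • 1 := by
        rw [← R.apply_symm_apply x.1, ← hX, hXeq]
        nth_rw 1 [hA, hD]
        rw [← map_one R, ← map_smul, ← Matrix.fromBlocks_one, Matrix.fromBlocks_smul]
        simp
      have := congrArg Matrix.det hx1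
      rw [x.2, Matrix.det_smul, Matrix.det_one, mul_one] at this
      exact this.symm
    · rw [show Matrix.scalar (Fin (m + (m + 1))) (A ⟨0, by omega⟩ ⟨0, by omega⟩) = algebraMap _ _ _ from rfl,
        ← R.apply_symm_apply x.1, ← hX, hXeq, ← AlgEquiv.commutes R]
      congr 1
      nth_rw 2 [hA]
      rw [hD, Algebra.algebraMap_eq_smul_one, ← Matrix.fromBlocks_one, Matrix.fromBlocks_smul]
      simp

end CfsgLib.KnownC.TrivCent
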