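import Mathlib
import Cfsg.Agent.Lib.KnownB.PSL2Elem

set_option autoImplicit false

/-!
A group with non-trivial normal `3`-subgroup whose maximal element orders are
`6`, `9`, `q - 1`, `(q + 1)/2`, `q = 3 ^ α`, `α` odd.
-/

namespace CfsgLib.KnownC.ReeTrunc

open Matrix

variable (F : Type) [Field F] [CharP F 3]

/-- Two-by-two matrices. -/
abbrev M2 := Matrix (Fin 2) (Fin 2) F

/-- The twisting factor. -/
def tw (g : Matrix.SpecialLinearGroup (Fin 2) F) : M2 F := ((g : M2 F).map (frobenius F 3))ᵀ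

theorem tw_mul (g h : Matrix.SpecialLinearGroup (Fin 2) F) : tw F (g * h) = tw F h * tw F g := by
  rw [tw, tw, tw, Matrix.SpecialLinearGroup.coe_mul, Matrix.map_mul, Matrix.transpose_mul]

theorem tw_one : tw F 1 = 1 := by
  simp [tw]

/-- The sign of a pair. -/
def sgn (p : Matrix.SpecialLinearGroup (Fin 2) F × ℤˣ) : F := ((p.2 : ℤ) : F)

theorem sgn_mul (p p' : Matrix.SpecialLinearGroup (Fin 2) F × ℤˣ) :
    sgn F (p * p') = sgn F p * sgn F p' := by
  simp [sgn]

theorem sgn_sq (p : Matrix.SpecialLinearGroup (Fin 2) F × ℤˣ) : sgn F p * sgn F p = 1 := by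
  rw [sgn, ← Int.cast_mul, ← Units.val_mul, Int.units_mul_self, Units.val_one, Int.cast_one]

/-- The underlying map. -/
def mapX (p : Matrix.SpecialLinearGroup (Fin 2) F × ℤˣ) (X : M2 F) : M2 F :=
  sgn F p • ((p.1 : M2 F) * X * tw F p.1)

theorem mapX_mul (p p' : Matrix.SpecialLinearGroup (Fin 2) F × ℤˣ) (X : M2 F) :
    mapX F (p * p') X = mapX F p (mapX F p' X) := by
  simp only [mapX, sgn_mul, Prod.fst_mul, tw_mul, Matrix.SpecialLinearGroup.coe_mul, Matrix.mul_smul,
    Matrix.smul_mul, smul_smul, mul_assoc]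

theorem mapX_one (X : M2 F) : mapX F 1 X = X := by
  simp [mapX, tw_one, sgn]

theorem mapX_add (p : Matrix.SpecialLinearGroup (Fin 2) F × ℤˣ) (X Y : M2 F) :
    mapX F p (X + Y) = mapX F p X + mapX F p Y := by
  simp only [mapX, Matrix.mul_add, Matrix.add_mul, smul_add]

/-- The action. -/
def rho : Matrix.SpecialLinearGroup (Fin 2) F × ℤˣ →* MulAut (Multiplicative (M2 F)) where
  toFun p :=
    { toFun := fun v => Multiplicative.ofAdd (mapX F p v.toAdd)
      invFun := fun v => Multiplicative.ofAdd (mapX F p⁻¹ v.toAdd)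
      left_inv := fun v => by simp [← mapX_mul, mapX_one]
      right_inv := fun v => by simp [← mapX_mul, mapX_one]
      map_mul' := fun v w => by simp [toAdd_mul, mapX_add, ofAdd_add] }
  map_one' := by ext v : 1; simp [mapX_one]
  map_mul' a b := by ext v : 1; simp [mapX_mul]

theorem rho_apply (p : Matrix.SpecialLinearGroup (Fin 2) F × ℤˣ) (X : M2 F) :
    rho F p (Multiplicative.ofAdd X) = Multiplicative.ofAdd (mapX F p X) := rfl

/-- The complement. -/
abbrev K : Subgroup (MulAut (Multiplicative (M2 F))) := (rho F).range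

/-- The group. -/
abbrev H := Multiplicative (M2 F) ⋊[(K F).subtype] ↥(K F)

/-- The element of `K` attached to a pair. -/
def kk (p : Matrix.SpecialLinearGroup (Fin 2) F × ℤˣ) : ↥(K F) := ⟨rho F p, p, rfl⟩

theorem kk_mul (p p' : Matrix.SpecialLinearGroup (Fin 2) F × ℤˣ) :
    kk F (p * p') = kk F p * kk F p' := Subtype.ext (map_mul _ _ _)

theorem kk_pow (p : Matrix.SpecialLinearGroup (Fin 2) F × ℤˣ) (n : ℕ) : kk F p ^ n = kk F (p ^ n) :=
  Subtype.ext (by simp [kk, map_pow])

theorem kk_eq_one_iff (p : Matrix.SpecialLinearGroup (Fin 2) F × ℤˣ) :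
    kk F p = 1 ↔ ∀ X, mapX F p X = X := by
  constructor
  · intro h X
    have := congrArg (fun k : ↥(K F) => (k : MulAut (Multiplicative (M2 F))) (Multiplicative.ofAdd X)) h
    simpa [kk, rho_apply] using this
  · intro h
    refine Subtype.ext (MulEquiv.ext fun v => ?_)
    show Multiplicative.ofAdd (mapX F p v.toAdd) = v
    rw [h, ofAdd_toAdd]

theorem mapX_scalar {p : Matrix.SpecialLinearGroup (Fin 2) F × ℤˣ} {a : F}
    (ha : (p.1 : M2 F) = a • 1) (X : M2 F) : mapX F p X = sgn F p • X := by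
  have h2 := p.1.2
  rw [ha] at h2
  have h4 : a * a ^ 3 = 1 := by
    have : a * a = 1 := by simpa [sq] using h2
    linear_combination (a * a + 1) * this
  have htw : tw F p.1 = (a ^ 3) • 1 := by
    ext i j
    fin_cases i <;> fin_cases j <;> simp [tw, ha, frobenius_def]
  rw [mapX, ha, htw, Matrix.smul_mul, one_mul, Matrix.mul_smul, mul_one, smul_smul, smul_smul,
    mul_assoc, mul_comm (a ^ 3), h4, mul_one]

theorem cube_eq_one (v : Multiplicative (M2 F)) : v ^ 3 = 1 := by
  refine Multiplicative.toAdd.injective (Matrix.ext fun i j => ?_)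
  simp [toAdd_pow, CharP.ofNat_eq_zero F 3]

theorem inl_cube {x : H F} (h : x.right = 1) : x ^ 3 = 1 := by
  have : x = SemidirectProduct.inl x.left := SemidirectProduct.ext rfl h
  rw [this, ← map_pow, cube_eq_one, map_one]

theorem right_pow (x : H F) (n : ℕ) : (x ^ n).right = x.right ^ n :=
  map_pow SemidirectProduct.rightHom x n

theorem pow_eq_one_of_no_fixed {x : H F} {n : ℕ} (hn : x.right ^ n = 1)
    (hfix : ∀ w : Multiplicative (M2 F), (x.right : MulAut (Multiplicative (M2 F))) w = w → w = 1) :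
    x ^ n = 1 := by
  have hr : (x ^ n).right = 1 := by rw [right_pow, hn]
  have hc := congrArg SemidirectProduct.left (Commute.self_pow x n).eq
  rw [SemidirectProduct.mul_left, SemidirectProduct.mul_left, hr, map_one, MulAut.one_apply,
    mul_comm (x ^ n).left] at hc
  exact SemidirectProduct.ext (hfix _ (mul_left_cancel hc)) hr

theorem cayley (g : Matrix.SpecialLinearGroup (Fin 2) F) :
    (g : M2 F) * g = (g : M2 F).trace • (g : M2 F) - 1 := by
  have h := g.2
  rw [Matrix.det_fin_two] at h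
  ext i j
  fin_cases i <;> fin_cases j <;>
    simp [Matrix.mul_apply, Fin.sum_univ_two, Matrix.trace_fin_two] <;>
      first | linear_combination h | linear_combination -h | ring

theorem cayley_tw (g : Matrix.SpecialLinearGroup (Fin 2) F) :
    tw F g * tw F g = ((g : M2 F).trace ^ 3) • tw F g - 1 := by
  have h := congrArg (fun A : M2 F => (A.map (frobenius F 3))ᵀ) (cayley F g)
  simp only [Matrix.map_mul, Matrix.transpose_mul] at h
  rw [tw, h]
  ext i j
  fin_cases i <;> fin_cases j <;> simp [frobenius_def, sub_pow_char, mul_pow]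

theorem trace_of_fixed (hsq : ¬ IsSquare (-1 : F)) {p : Matrix.SpecialLinearGroup (Fin 2) F × ℤˣ}
    {X : M2 F} (hX : X ≠ 0) (h : mapX F p X = X) :
    (p.1 : M2 F).trace = 0 ∨ (p.1 : M2 F).trace ^ 2 = 1 := by
  set G : M2 F := (p.1 : M2 F)
  set W : M2 F := tw F p.1
  set c : F := sgn F p
  set t := G.trace
  have hc : c * c = 1 := sgn_sq F p
  have h0 : G * X * W = c • X := by
    calc G * X * W = c • (c • (G * X * W)) := by rw [smul_smul, hc, one_smul]
      _ = c • X := by rw [show c • (G * X * W) = X from h]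
  have e1 : c • (X * W) + G * X = (t ^ 3 * c) • X := by
    have a : G * X * (W * W) = c • (X * W) := by rw [← mul_assoc, h0, Matrix.smul_mul]
    rw [cayley_tw, Matrix.mul_sub, Matrix.mul_smul, h0, mul_one, smul_smul] at a
    rw [← a]; exact sub_add_cancel _ _
  have e2 : c • (G * X) + X * W = (t * c) • X := by
    have a : G * G * X * W = c • (G * X) := by
      rw [mul_assoc G G X, mul_assoc G (G * X) W, h0, Matrix.mul_smul]
    rw [cayley, Matrix.sub_mul, Matrix.sub_mul, Matrix.smul_mul, Matrix.smul_mul, h0, one_mul,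
      smul_smul] at a
    rw [← a]; exact sub_add_cancel _ _
  have e3 : (t ^ 3 * c - t) • X = 0 := by
    have := congrArg (fun Y : M2 F => c • Y) e2
    simp only [smul_add, smul_smul, hc, one_smul] at this
    rw [show c * (t * c) = t by linear_combination t * hc] at this
    rw [sub_smul, ← e1, ← this, sub_eq_zero, add_comm]
  have e4 : t * (t ^ 2 * c - 1) = 0 := by
    linear_combination (smul_eq_zero.1 e3).resolve_right hX
  rcases mul_eq_zero.1 e4 with h1 | h1
  · exact Or.inl h1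
  · rcases Int.units_eq_one_or p.2 with h2 | h2
    · right
      have : c = 1 := by simp [c, sgn, h2]
      rw [this, mul_one] at h1
      exact sub_eq_zero.1 h1
    · exfalso
      have : c = -1 := by simp [c, sgn, h2]
      rw [this] at h1
      exact hsq ⟨t, by linear_combination h1⟩

theorem pow_three_cases (g : Matrix.SpecialLinearGroup (Fin 2) F) :
    (g : M2 F) * g * g = ((g : M2 F).trace ^ 2 - 1) • (g : M2 F) - (g : M2 F).trace • 1 := by
  rw [cayley, Matrix.sub_mul, Matrix.smul_mul, cayley, one_mul, sub_smul, sq, smul_sub, smul_smul,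
    one_smul]
  abel

theorem special (hsq : ¬ IsSquare (-1 : F)) (x : H F) {p : Matrix.SpecialLinearGroup (Fin 2) F × ℤˣ}
    (hp : kk F p = x.right) (ht : (p.1 : M2 F).trace = 0 ∨ (p.1 : M2 F).trace ^ 2 = 1) :
    orderOf x ∣ 6 ∨ orderOf x ∣ 9 := by
  rcases ht with ht | ht
  · left
    refine orderOf_dvd_of_pow_eq_one ?_
    rw [show (6 : ℕ) = 2 * 3 from rfl, pow_mul]
    refine inl_cube F ?_
    rw [right_pow, ← hp, kk_pow, kk_eq_one_iff]
    intro X
    rw [mapX_scalar F (a := -1) ?_, pow_two, sgn_mul, sgn_sq, one_smul]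
    rw [pow_two, Prod.fst_mul, Matrix.SpecialLinearGroup.coe_mul, cayley, ht, zero_smul, zero_sub,
      neg_smul, one_smul]
  · have h3 : ((p ^ 3).1 : M2 F) = (-(p.1 : M2 F).trace) • 1 := by
      rw [pow_succ, pow_two, Prod.fst_mul, Prod.fst_mul, Matrix.SpecialLinearGroup.coe_mul,
        Matrix.SpecialLinearGroup.coe_mul, pow_three_cases, ht, sub_self, zero_smul, zero_sub, neg_smul]
    have hs : sgn F (p ^ 3) = sgn F p := by
      rw [pow_succ, pow_two, sgn_mul, sgn_mul, sgn_sq, one_mul]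
    have hm : ∀ X, mapX F (p ^ 3) X = sgn F p • X := fun X => by rw [mapX_scalar F h3, hs]
    rcases Int.units_eq_one_or p.2 with h2 | h2
    · right
      refine orderOf_dvd_of_pow_eq_one ?_
      rw [show (9 : ℕ) = 3 * 3 from rfl, pow_mul]
      refine inl_cube F ?_
      rw [right_pow, ← hp, kk_pow, kk_eq_one_iff]
      intro X
      rw [hm, show sgn F p = 1 by simp [sgn, h2], one_smul]
    · left
      refine orderOf_dvd_of_pow_eq_one ?_
      rw [show (6 : ℕ) = 3 * 2 from rfl, pow_mul, pow_two]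
      have hr : (x ^ 3).right = kk F (p ^ 3) := by rw [right_pow, ← hp, kk_pow]
      refine SemidirectProduct.ext ?_ ?_
      · rw [SemidirectProduct.mul_left, SemidirectProduct.one_left, hr]
        have : ((kk F (p ^ 3) : ↥(K F)) : MulAut (Multiplicative (M2 F))) (x ^ 3).left = ((x ^ 3).left)⁻¹ := by
          show Multiplicative.ofAdd (mapX F (p ^ 3) (x ^ 3).left.toAdd) = _
          rw [hm, show sgn F p = -1 by simp [sgn, h2], neg_smul, one_smul, ofAdd_neg, ofAdd_toAdd]
        rw [Subgroup.coe_subtype, this, mul_inv_cancel]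
      · rw [SemidirectProduct.mul_right, SemidirectProduct.one_right, hr, ← kk_mul, kk_eq_one_iff]
        intro X
        rw [mapX_mul, hm, hm, smul_smul, sgn_sq, one_smul]

variable [Fintype F]

open scoped MatrixGroups in
theorem pi_pow_scalar {g : Matrix.SpecialLinearGroup (Fin 2) F} {n : ℕ}
    (h : orderOf (QuotientGroup.mk' (Subgroup.center (Matrix.SpecialLinearGroup (Fin 2) F)) g) ∣ n) :
    ∃ a : F, ((g ^ n : Matrix.SpecialLinearGroup (Fin 2) F) : M2 F) = a • 1 := by
  apply CfsgLib.KnownB.SL2.mk_eq_one_iff.1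
  rw [map_pow]
  exact orderOf_dvd_iff_pow_eq_one.1 h

theorem order_cases {α : ℕ} (hq : Fintype.card F = 3 ^ α) (hodd : Odd α) (x : H F) :
    orderOf x ∣ 6 ∨ orderOf x ∣ 9 ∨ orderOf x ∣ 3 ^ α - 1 ∨ orderOf x ∣ (3 ^ α + 1) / 2 := by
  classical
  obtain ⟨k, rfl⟩ := hodd
  have h4 : 3 ^ (2 * k + 1) % 4 = 3 := by rw [pow_succ, pow_mul, Nat.mul_mod, Nat.pow_mod]; norm_num
  have hsq : ¬ IsSquare (-1 : F) := by
    rw [FiniteField.isSquare_neg_one_iff, hq]; simp [h4]
  have hd : Nat.gcd 2 (Fintype.card F - 1) = 2 := Nat.gcd_eq_left (by rw [hq]; generalize 3 ^ (2 * k + 1) = Q at *; omega)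
  obtain ⟨p, hp0⟩ := x.right.2
  have hp : kk F p = x.right := Subtype.ext hp0
  by_cases ht : (p.1 : M2 F).trace = 0 ∨ (p.1 : M2 F).trace ^ 2 = 1
  · rcases special F hsq x hp ht with h | h
    · exact Or.inl h
    · exact Or.inr (Or.inl h)
  have hfix : ∀ w : Multiplicative (M2 F), (x.right : MulAut (Multiplicative (M2 F))) w = w → w = 1 := by
    intro w hw
    by_contra hne
    refine ht (trace_of_fixed F hsq (X := w.toAdd) (fun h => hne (Multiplicative.toAdd.injective h)) ?_)
    rw [← hp] at hw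
    exact congrArg Multiplicative.toAdd hw
  have good : ∀ n, orderOf (QuotientGroup.mk'
      (Subgroup.center (Matrix.SpecialLinearGroup (Fin 2) F)) p.1) ∣ n → Even n → orderOf x ∣ n := by
    intro n hn he
    refine orderOf_dvd_of_pow_eq_one (pow_eq_one_of_no_fixed F ?_ hfix)
    obtain ⟨a, ha⟩ := pi_pow_scalar F hn
    rw [← hp, kk_pow, kk_eq_one_iff]
    intro X
    obtain ⟨j, rfl⟩ := he
    rw [mapX_scalar F (a := a) (by simpa using ha), pow_add, sgn_mul, sgn_sq, one_smul]
  rcases CfsgLib.KnownB.SL2.orderOf_psl_cases 3 (QuotientGroup.mk'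
      (Subgroup.center (Matrix.SpecialLinearGroup (Fin 2) F)) p.1) with h | h | h
  · exfalso
    obtain ⟨a, ha⟩ := pi_pow_scalar F h
    rw [pow_succ, pow_two, Matrix.SpecialLinearGroup.coe_mul, Matrix.SpecialLinearGroup.coe_mul,
      pow_three_cases] at ha
    have h01 := congrFun (congrFun ha 0) 1
    have h10 := congrFun (congrFun ha 1) 0
    have h00 := congrFun (congrFun ha 0) 0
    have h11 := congrFun (congrFun ha 1) 1
    simp at h01 h10 h00 h11
    have hne : (p.1 : M2 F).trace ^ 2 - 1 ≠ 0 := fun e => ht (Or.inr (sub_eq_zero.1 e))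
    have hb := h01.resolve_left hne
    have hcc := h10.resolve_left hne
    have had : ((p.1 : M2 F) 0 0) = (p.1 : M2 F) 1 1 := by
      refine mul_left_cancel₀ hne ?_
      linear_combination h00 - h11
    have hdet := p.1.2
    rw [Matrix.det_fin_two, hb, ← had] at hdet
    refine ht (Or.inr ?_)
    rw [Matrix.trace_fin_two, ← had]
    linear_combination 4 * hdet + (CharP.cast_eq_zero F 3 : ((3 : ℕ) : F) = 0)
  · rw [hd, hq] at h
    refine Or.inr (Or.inr (Or.inl (good _ (h.trans (Nat.div_dvd_of_dvd (by generalize 3 ^ (2 * k + 1) = Q at *; omega))) ?_)))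
    exact Nat.even_iff.2 (by generalize 3 ^ (2 * k + 1) = Q at *; omega)
  · rw [hd, hq] at h
    refine Or.inr (Or.inr (Or.inr (good _ h ?_)))
    exact Nat.even_iff.2 (by generalize 3 ^ (2 * k + 1) = Q at *; omega)

theorem tw_apply (g : Matrix.SpecialLinearGroup (Fin 2) F) (i j : Fin 2) :
    tw F g i j = (g : M2 F) j i ^ 3 := by
  simp [tw, frobenius_def]

theorem tw_of {g : Matrix.SpecialLinearGroup (Fin 2) F} {a b c d : F}
    (h : (g : M2 F) = !![a, b; c, d]) : tw F g = !![a ^ 3, c ^ 3; b ^ 3, d ^ 3] := by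
  ext i j
  rw [tw_apply, h]
  fin_cases i <;> fin_cases j <;> simp

/-- The standard unipotent element. -/
def uu : Matrix.SpecialLinearGroup (Fin 2) F := ⟨!![1, 1; 0, 1], by simp [Matrix.det_fin_two]⟩

omit [Fintype F] [CharP F 3] in
theorem coe_uu : (uu F : M2 F) = !![1, 1; 0, 1] := rfl

omit [Fintype F] [CharP F 3] in
theorem uu_pow (n : ℕ) : ((uu F ^ n : Matrix.SpecialLinearGroup (Fin 2) F) : M2 F) = !![1, (n : F); 0, 1] := by
  induction n with
  | zero => simp [Matrix.one_fin_two]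
  | succ n ih =>
    rw [pow_succ, Matrix.SpecialLinearGroup.coe_mul, ih, uu]
    simp [Matrix.mul_fin_two, add_comm]

theorem exists_nine : ∃ x : H F, orderOf x = 9 := by
  set p : Matrix.SpecialLinearGroup (Fin 2) F × ℤˣ := (uu F, 1) with hp
  refine ⟨⟨Multiplicative.ofAdd !![0, 0; 0, 1], kk F p⟩, ?_⟩
  haveI : Fact (Nat.Prime 3) := ⟨Nat.prime_three⟩
  rw [show (9 : ℕ) = 3 ^ (1 + 1) from rfl]
  refine orderOf_eq_prime_pow ?_ ?_
  · intro h
    have h2 := congrArg (fun x : H F => x.left.toAdd 0 0) h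
    have h5 : (3 : F) = 0 := CharP.ofNat_eq_zero F 3
    simp [pow_succ, SemidirectProduct.mul_left, SemidirectProduct.mul_right, kk, rho_apply, mapX,
      sgn, p, coe_uu, tw_of F (coe_uu F), Matrix.mul_fin_two] at h2
    exact (one_ne_zero (α := F)) (by linear_combination 2 * h5 - h2)
  · rw [show (3 : ℕ) ^ (1 + 1) = 3 * 3 from rfl, pow_mul]
    refine inl_cube F ?_
    rw [right_pow, kk_pow, kk_eq_one_iff]
    intro X
    rw [mapX_scalar F (a := 1) ?_]
    · simp [sgn, p]
    · have e : ((p ^ 3).1 : M2 F) = !![1, ((3 : ℕ) : F); 0, 1] := uu_pow F 3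
      rw [e, CharP.cast_eq_zero]
      simp [Matrix.one_fin_two]

theorem orderOf_inr (k : ↥(K F)) : orderOf (SemidirectProduct.inr k : H F) = orderOf k :=
  orderOf_injective _ SemidirectProduct.inr_injective k

theorem exists_six : ∃ x : H F, orderOf x = 6 := by
  set p : Matrix.SpecialLinearGroup (Fin 2) F × ℤˣ := (uu F, -1) with hp
  have k1 : ∀ n : ℕ, ((p ^ n).1 : M2 F) = !![1, (n : F); 0, 1] := fun n => uu_pow F n
  have k2 : ∀ n : ℕ, sgn F (p ^ n) = (-1) ^ n := fun n => by simp [sgn, hp]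
  have h5 : (3 : F) = 0 := CharP.ofNat_eq_zero F 3
  refine ⟨SemidirectProduct.inr (kk F p), ?_⟩
  rw [orderOf_inr]
  refine (orderOf_eq_iff (by norm_num)).2 ⟨?_, fun m hm hm0 h => ?_⟩
  · rw [kk_pow, kk_eq_one_iff]
    intro X
    rw [mapX_scalar F (a := 1) ?_, k2, (show Even 6 by decide).neg_one_pow, one_smul]
    rw [k1, show ((6 : ℕ) : F) = 0 by push_cast; linear_combination 2 * h5]
    simp [Matrix.one_fin_two]
  · rw [kk_pow, kk_eq_one_iff] at h
    have e1 := k1 m
    have e2 := k2 m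
    generalize p ^ m = P at h e1 e2
    have h2 := congrFun (congrFun (h 1) 0) 0
    have h4 := congrFun (congrFun (h 1) 0) 1
    simp only [mapX] at h2 h4
    rw [e2, tw_of F e1, e1, mul_one] at h2 h4
    interval_cases m <;> simp [Matrix.mul_fin_two] at h2 h4
    all_goals first
      | exact (one_ne_zero (α := F)) (by linear_combination h4)
      | exact (one_ne_zero (α := F)) (by linear_combination h2 + h5)
      | exact (one_ne_zero (α := F)) (by linear_combination h4 + h5)
      | exact (one_ne_zero (α := F)) (by linear_combination h2)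
      | exact (one_ne_zero (α := F)) (by linear_combination h5 - h4)
      | exact (one_ne_zero (α := F)) (by linear_combination 2 * h5 - h4)
      | exact (one_ne_zero (α := F)) (by linear_combination h2 + 28 * h5)
      | exact (one_ne_zero (α := F)) (by linear_combination h4 - h5)

theorem exists_split {α : ℕ} (hq : Fintype.card F = 3 ^ α) (hodd : Odd α) :
    ∃ x : H F, orderOf x = 3 ^ α - 1 := by
  classical
  obtain ⟨a, ha⟩ := IsCyclic.exists_ofOrder_eq_natCard (α := Fˣ)
  rw [Nat.card_units, Nat.card_eq_fintype_card, hq] at ha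
  set u : Matrix.SpecialLinearGroup (Fin 2) F :=
    ⟨Matrix.diagonal ![(a : F), ((a⁻¹ : Fˣ) : F)], by simp [Fin.prod_univ_two]⟩ with hu
  set p : Matrix.SpecialLinearGroup (Fin 2) F × ℤˣ := (u, -1) with hp
  refine ⟨SemidirectProduct.inr (kk F p), ?_⟩
  rw [orderOf_inr]
  have key : ∀ n, ((p ^ n).1 : M2 F) = Matrix.diagonal ![(a : F) ^ n, ((a⁻¹ : Fˣ) : F) ^ n] := fun n => by
    rw [Prod.pow_fst, Matrix.SpecialLinearGroup.coe_pow, hp, hu]
    show Matrix.diagonal _ ^ n = _
    rw [Matrix.diagonal_pow]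
    congr 1
    funext i
    fin_cases i <;> simp
  have hs : ∀ n, sgn F (p ^ n) = (-1) ^ n := fun n => by simp [sgn, hp]
  obtain ⟨k, rfl⟩ := hodd
  have h4 : 3 ^ (2 * k + 1) % 4 = 3 := by rw [pow_succ, pow_mul, Nat.mul_mod, Nat.pow_mod]; norm_num
  refine Nat.dvd_antisymm (orderOf_dvd_of_pow_eq_one ?_) ?_
  · rw [kk_pow, kk_eq_one_iff]
    intro X
    rw [mapX_scalar F (a := 1) ?_, hs, (Nat.even_iff.2 (by generalize 3 ^ (2 * k + 1) = Q at *; omega)).neg_one_pow, one_smul]
    rw [key, one_smul, ← Units.val_pow_eq_pow_val, ← Units.val_pow_eq_pow_val, inv_pow, ← ha,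
      pow_orderOf_eq_one, inv_one, Units.val_one]
    ext i j
    fin_cases i <;> fin_cases j <;> simp
  · set n := orderOf (kk F p)
    have h : kk F p ^ n = 1 := pow_orderOf_eq_one _
    rw [kk_pow, kk_eq_one_iff] at h
    have e1 := key n
    have e2 := hs n
    generalize p ^ n = P at h e1 e2
    have h00 := congrFun (congrFun (h !![1, 1; 0, 0]) 0) 0
    have h01 := congrFun (congrFun (h !![1, 1; 0, 0]) 0) 1
    simp [mapX, e1, e2, tw_apply, Matrix.mul_apply, Fin.sum_univ_two] at h00 h01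
    have hane : (a : F) ^ n ≠ 0 := pow_ne_zero _ a.ne_zero
    field_simp at h01
    have hm : ((-1 : F) ^ n) = 1 := by
      have h2 : ((-1 : F) ^ n) ^ 2 = 1 := by rw [← pow_mul, mul_comm, pow_mul, neg_one_sq, one_pow]
      have h6 : ((a : F) ^ n) ^ 2 = (-1) ^ n := by linear_combination -h01
      calc ((-1 : F) ^ n) = (-1) ^ n * ((-1) ^ n) ^ 2 := by rw [h2, mul_one]
        _ = (-1) ^ n * (((a : F) ^ n) ^ 2) ^ 2 := by rw [h6]
        _ = _ := by linear_combination h00
    have heven : 2 ∣ n := by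
      rcases Nat.even_or_odd n with he | ho
      · exact he.two_dvd
      · exfalso
        rw [ho.neg_one_pow] at hm
        exact (one_ne_zero (α := F))
          (by linear_combination hm + (CharP.cast_eq_zero F 3 : ((3 : ℕ) : F) = 0))
    have hA : a ^ (2 * n) = 1 := Units.ext (by
      rw [Units.val_pow_eq_pow_val, Units.val_one, mul_comm, pow_mul]; linear_combination hm - h01)
    have hd := orderOf_dvd_of_pow_eq_one hA
    rw [ha] at hd
    obtain ⟨o, ho'⟩ : ∃ o, o = (3 ^ (2 * k + 1) - 1) / 2 := ⟨_, rfl⟩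
    have ho : 3 ^ (2 * k + 1) - 1 = 2 * o := by
      generalize 3 ^ (2 * k + 1) = Q at *
      omega
    rw [ho] at hd ⊢
    exact Nat.Coprime.mul_dvd_of_dvd_of_dvd (Nat.coprime_two_left.2 (Nat.odd_iff.2 (by generalize 3 ^ (2 * k + 1) = Q at *; omega)))
      heven (Nat.dvd_of_mul_dvd_mul_left (by norm_num) hd)

theorem exists_nonsplit {α : ℕ} (hq : Fintype.card F = 3 ^ α) (hodd : Odd α) :
    ∃ x : H F, orderOf x = (3 ^ α + 1) / 2 := by
  classical
  obtain ⟨k, rfl⟩ := hodd
  have h4 : 3 ^ (2 * k + 1) % 4 = 3 := by rw [pow_succ, pow_mul, Nat.mul_mod, Nat.pow_mod]; norm_num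
  have hd : Nat.gcd 2 (Fintype.card F - 1) = 2 := Nat.gcd_eq_left (by rw [hq]; generalize 3 ^ (2 * k + 1) = Q at *; omega)
  obtain ⟨g, hg⟩ := CfsgLib.KnownB.SL2.exists_orderOf_psl (F := F) 3 (Or.inr (Or.inr dvd_rfl))
  rw [hd, hq] at hg
  obtain ⟨s, rfl⟩ := CfsgLib.KnownB.SL2.exists_lift g
  refine ⟨SemidirectProduct.inr (kk F (s, 1)), ?_⟩
  rw [orderOf_inr]
  refine Nat.dvd_antisymm (orderOf_dvd_of_pow_eq_one ?_) ?_
  · obtain ⟨a, ha⟩ := pi_pow_scalar F (g := s) (dvd_of_eq hg)
    rw [kk_pow, kk_eq_one_iff]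
    intro X
    rw [mapX_scalar F (a := a) (by simpa using ha)]
    simp [sgn]
  · have h : kk F (s, 1) ^ orderOf (kk F (s, 1)) = 1 := pow_orderOf_eq_one _
    set n := orderOf (kk F (s, 1))
    rw [kk_pow, kk_eq_one_iff] at h
    rw [← hg]
    refine orderOf_dvd_of_pow_eq_one ?_
    rw [← map_pow]
    apply CfsgLib.KnownB.SL2.mk_eq_one_iff.2
    set G : M2 F := ((s ^ n : Matrix.SpecialLinearGroup (Fin 2) F) : M2 F) with hG
    have hX : ∀ X : M2 F, G * X * tw F (s ^ n) = X := fun X => by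
      simpa [mapX, sgn, hG] using h X
    have h1 : G * tw F (s ^ n) = 1 := by simpa using hX 1
    have hcomm : ∀ X : M2 F, G * X = X * G := fun X => by
      have e := congrArg (fun Y : M2 F => Y * G) (hX X)
      simp only [mul_assoc, mul_eq_one_comm.1 h1, mul_one] at e
      exact e
    have a01 := hcomm !![0, 1; 0, 0]
    have a10 := hcomm !![0, 0; 1, 0]
    refine ⟨G 0 0, ?_⟩
    have b1 := congrFun (congrFun a01 0) 1
    have b2 := congrFun (congrFun a01 1) 1
    have b3 := congrFun (congrFun a10 0) 0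
    simp [Matrix.mul_apply, Fin.sum_univ_two] at b1 b2 b3
    ext i j
    fin_cases i <;> fin_cases j <;> simp [b1, b2, b3]

theorem maximal_set {G : Type*} [Monoid G] {S : Set ℕ} (hdiv : ∀ x : G, ∃ s ∈ S, orderOf x ∣ s)
    (hmem : ∀ s ∈ S, ∃ x : G, orderOf x = s) (hanti : ∀ s ∈ S, ∀ s' ∈ S, s ∣ s' → s = s') :
    {n : ℕ | n ∈ Set.range (orderOf : G → ℕ) ∧
      ∀ m ∈ Set.range (orderOf : G → ℕ), n ∣ m → m = n} = S := by
  ext n
  constructor
  · rintro ⟨⟨x, rfl⟩, h⟩
    obtain ⟨s, hs, hd⟩ := hdiv x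
    rwa [← h s (hmem s hs) hd]
  · intro hn
    refine ⟨hmem n hn, ?_⟩
    rintro m ⟨x, rfl⟩ hnm
    obtain ⟨s, hs, hd⟩ := hdiv x
    have := hanti n hn s hs (hnm.trans hd)
    subst this
    exact Nat.dvd_antisymm hd hnm

theorem normal_three : ∃ P : Subgroup (H F), P.Normal ∧ P ≠ ⊥ ∧ IsPGroup 3 ↥P := by
  refine ⟨(SemidirectProduct.rightHom : H F →* ↥(K F)).ker, inferInstance, ?_, fun g => ⟨1, ?_⟩⟩
  · intro h
    have hm : (SemidirectProduct.inl (Multiplicative.ofAdd (1 : M2 F)) : H F) ∈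
        (SemidirectProduct.rightHom : H F →* ↥(K F)).ker := by simp [MonoidHom.mem_ker]
    rw [h, Subgroup.mem_bot] at hm
    have h2 := congrArg SemidirectProduct.left hm
    rw [SemidirectProduct.left_inl, SemidirectProduct.one_left] at h2
    exact one_ne_zero (show (1 : M2 F) = 0 from congrArg Multiplicative.toAdd h2)
  · exact Subtype.ext (inl_cube F g.2)

end CfsgLib.KnownC.ReeTrunc
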