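import Mathlib
import Cfsg.Agent.Lib.KnownC.JordanTypeRanks
import Cfsg.Prelude.Def_JordanBlocks

set_option autoImplicit false

/-!
The number of invertible matrices commuting with a unipotent matrix of given Jordan type.
-/

namespace CfsgLib.KnownC.JordanComm

open Matrix

variable {F : Type*} [Field F] {t : ℕ} {d : Fin t → ℕ}

/-- Index pairs `(column block, row index)` of the free coordinates. -/
abbrev Idx (d : Fin t → ℕ) :=
  {p : Fin t × ((k : Fin t) × Fin (d k)) // d p.2.1 ≤ (p.2.2 : ℕ) + d p.1}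

/-- The coordinates seen by the reductive quotient. -/
abbrev IsTop (p : Idx d) : Prop := d p.1.2.1 = d p.1.1 ∧ (p.1.2.2 : ℕ) = 0

theorem jordan_sub_one_apply (k l : Fin t) (a : Fin (d k)) (b : Fin (d l)) :
    (Cfsg.jordanTypeMatrix d F - 1) ⟨k, a⟩ ⟨l, b⟩ = if k = l ∧ (a : ℕ) = b + 1 then 1 else 0 := by
  by_cases h : k = l
  · subst h
    rw [Matrix.sub_apply, Cfsg.jordanTypeMatrix, Matrix.blockDiagonal'_apply_eq, Cfsg.jordanBlock,
      Matrix.of_apply, Matrix.one_apply]
    by_cases hab : (a : ℕ) = b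
    · have : a = b := Fin.ext hab
      subst this
      simp
    · rw [if_neg hab, if_neg (show ¬ (⟨k, a⟩ : (k : Fin t) × Fin (d k)) = ⟨k, b⟩ from fun e =>
        hab (congrArg Fin.val (eq_of_heq (Sigma.mk.inj e).2)))]
      simp
  · rw [Matrix.sub_apply, Cfsg.jordanTypeMatrix, Matrix.blockDiagonal'_apply_ne _ _ _ h,
      Matrix.one_apply_ne (fun e => h (congrArg Sigma.fst e)), sub_zero, if_neg (fun e => h e.1)]

/-- The shift relations. -/
def IsShift (A : Matrix ((k : Fin t) × Fin (d k)) ((k : Fin t) × Fin (d k)) F) : Prop :=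
  ∀ (k l : Fin t) (a : Fin (d k)) (b : Fin (d l)),
    (if h : 1 ≤ (a : ℕ) then A ⟨k, ⟨(a : ℕ) - 1, by omega⟩⟩ ⟨l, b⟩ else 0) =
      if h : (b : ℕ) + 1 < d l then A ⟨k, a⟩ ⟨l, ⟨(b : ℕ) + 1, h⟩⟩ else 0

theorem commute_iff_isShift (A : Matrix ((k : Fin t) × Fin (d k)) ((k : Fin t) × Fin (d k)) F) :
    A * Cfsg.jordanTypeMatrix d F = Cfsg.jordanTypeMatrix d F * A ↔ IsShift A := by
  classical
  have hL : ∀ k l (a : Fin (d k)) (b : Fin (d l)),
      ((Cfsg.jordanTypeMatrix d F - 1) * A) ⟨k, a⟩ ⟨l, b⟩ =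
        if h : 1 ≤ (a : ℕ) then A ⟨k, ⟨(a : ℕ) - 1, by omega⟩⟩ ⟨l, b⟩ else 0 := by
    intro k l a b
    rw [Matrix.mul_apply]
    by_cases h : 1 ≤ (a : ℕ)
    · rw [dif_pos h, Finset.sum_eq_single ⟨k, ⟨(a : ℕ) - 1, by omega⟩⟩]
      · rw [jordan_sub_one_apply, if_pos ⟨rfl, by show (a : ℕ) = a - 1 + 1; omega⟩, one_mul]
      · rintro ⟨k', c⟩ _ hne
        rw [jordan_sub_one_apply, if_neg, zero_mul]
        rintro ⟨rfl, hc⟩
        exact hne (by rw [show c = ⟨(a : ℕ) - 1, by omega⟩ from Fin.ext (by show (c : ℕ) = a - 1; omega)])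
      · intro hh; exact absurd (Finset.mem_univ _) hh
    · rw [dif_neg h]
      refine Finset.sum_eq_zero ?_
      rintro ⟨k', c⟩ _
      rw [jordan_sub_one_apply, if_neg (fun e => h (by omega)), zero_mul]
  have hR : ∀ k l (a : Fin (d k)) (b : Fin (d l)),
      (A * (Cfsg.jordanTypeMatrix d F - 1)) ⟨k, a⟩ ⟨l, b⟩ =
        if h : (b : ℕ) + 1 < d l then A ⟨k, a⟩ ⟨l, ⟨(b : ℕ) + 1, h⟩⟩ else 0 := by
    intro k l a b
    rw [Matrix.mul_apply]
    by_cases h : (b : ℕ) + 1 < d l
    · rw [dif_pos h, Finset.sum_eq_single ⟨l, ⟨(b : ℕ) + 1, h⟩⟩]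
      · rw [jordan_sub_one_apply, if_pos ⟨rfl, rfl⟩, mul_one]
      · rintro ⟨k', c⟩ _ hne
        rw [jordan_sub_one_apply, if_neg, mul_zero]
        rintro ⟨rfl, hc⟩
        exact hne (by rw [show c = ⟨(b : ℕ) + 1, h⟩ from Fin.ext hc])
      · intro hh; exact absurd (Finset.mem_univ _) hh
    · rw [dif_neg h]
      refine Finset.sum_eq_zero ?_
      rintro ⟨k', c⟩ _
      rw [jordan_sub_one_apply, if_neg, mul_zero]
      rintro ⟨rfl, hc⟩
      exact h (hc ▸ c.2)
  constructor
  · intro hA k l a b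
    rw [← hL, ← hR, mul_sub, sub_mul, hA, mul_one, one_mul]
  · intro hA
    have h : (Cfsg.jordanTypeMatrix d F - 1) * A = A * (Cfsg.jordanTypeMatrix d F - 1) := by
      ext ⟨k, a⟩ ⟨l, b⟩
      rw [hL, hR]; exact hA k l a b
    rw [mul_sub, sub_mul, mul_one, one_mul, sub_left_inj] at h
    exact h.symm

variable (hd : ∀ k, 1 ≤ d k)

/-- The first-row top entries. -/
def topMat (A : Matrix ((k : Fin t) × Fin (d k)) ((k : Fin t) × Fin (d k)) F) : Matrix (Fin t) (Fin t) F :=
  Matrix.of fun k l => A ⟨k, ⟨0, hd k⟩⟩ ⟨l, ⟨0, hd l⟩⟩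

omit hd in
/-- Extension of coordinates to a shift-invariant matrix. -/
def extend (w : Idx d → F) : Matrix ((k : Fin t) × Fin (d k)) ((k : Fin t) × Fin (d k)) F :=
  Matrix.of fun p r =>
    if h : (r.2 : ℕ) ≤ (p.2 : ℕ) ∧ d p.1 ≤ ((p.2 : ℕ) - r.2) + d r.1 then
      w ⟨(r.1, ⟨p.1, ⟨(p.2 : ℕ) - r.2, by omega⟩⟩), h.2⟩
    else 0

theorem isShift_extend (w : Idx d → F) : IsShift (extend w) := by
  intro k l a b
  simp only [extend, Matrix.of_apply]
  by_cases h1 : 1 ≤ (a : ℕ)
  · rw [dif_pos h1]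
    by_cases h2 : (b : ℕ) + 1 < d l
    · rw [dif_pos h2]
      by_cases h3 : (b : ℕ) ≤ (a : ℕ) - 1 ∧ d k ≤ (a : ℕ) - 1 - b + d l
      · rw [dif_pos h3, dif_pos (by constructor <;> omega)]
        refine congrArg w (Subtype.ext (Prod.ext rfl (Sigma.ext rfl (heq_of_eq (Fin.ext ?_)))))
        show (a : ℕ) - 1 - b = a - (b + 1)
        omega
      · rw [dif_neg h3, dif_neg (by omega)]
    · rw [dif_neg h2, dif_neg]
      omega
  · rw [dif_neg h1]
    by_cases h2 : (b : ℕ) + 1 < d l
    · rw [dif_pos h2, dif_neg (by omega)]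
    · rw [dif_neg h2]

theorem IsShift.apply_eq {A : Matrix ((k : Fin t) × Fin (d k)) ((k : Fin t) × Fin (d k)) F}
    (hA : IsShift A) (k l : Fin t) : ∀ (b : ℕ) (hb : b < d l) (a : Fin (d k)),
    A ⟨k, a⟩ ⟨l, ⟨b, hb⟩⟩ =
      if b ≤ (a : ℕ) then A ⟨k, ⟨(a : ℕ) - b, by omega⟩⟩ ⟨l, ⟨0, by omega⟩⟩ else 0 := by
  intro b
  induction b with
  | zero => intro hb a; simp
  | succ b ih =>
    intro hb a
    have h := hA k l a ⟨b, by omega⟩
    rw [dif_pos (show b + 1 < d l from hb)] at h
    rw [← h]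
    by_cases h1 : 1 ≤ (a : ℕ)
    · rw [dif_pos h1, ih]
      by_cases h2 : b + 1 ≤ (a : ℕ)
      · rw [if_pos (show b ≤ (a : ℕ) - 1 by omega), if_pos h2]
        congr 1
        exact Sigma.ext rfl (heq_of_eq (Fin.ext (by show (a : ℕ) - 1 - b = a - (b + 1); omega)))
      · rw [if_neg (show ¬ b ≤ (a : ℕ) - 1 by omega), if_neg h2]
    · rw [dif_neg h1, if_neg (by omega)]

include hd in
theorem IsShift.vanish {A : Matrix ((k : Fin t) × Fin (d k)) ((k : Fin t) × Fin (d k)) F}
    (hA : IsShift A) (k l : Fin t) (c : Fin (d k)) (h : (c : ℕ) + d l < d k) :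
    A ⟨k, c⟩ ⟨l, ⟨0, hd l⟩⟩ = 0 := by
  have hl := hd l
  have h1 := hA k l ⟨(c : ℕ) + d l, h⟩ ⟨d l - 1, by omega⟩
  rw [dif_pos (show 1 ≤ (c : ℕ) + d l by omega), dif_neg (show ¬ d l - 1 + 1 < d l by omega),
    IsShift.apply_eq hA, if_pos (show d l - 1 ≤ (c : ℕ) + d l - 1 by omega)] at h1
  rw [← h1]
  congr 1
  exact Sigma.ext rfl (heq_of_eq (Fin.ext (by show (c : ℕ) = c + d l - 1 - (d l - 1); omega)))

/-- The coordinates of a matrix. -/
def coords (A : Matrix ((k : Fin t) × Fin (d k)) ((k : Fin t) × Fin (d k)) F) : Idx d → F :=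
  fun p => A p.1.2 ⟨p.1.1, ⟨0, hd p.1.1⟩⟩

include hd in
theorem extend_coords {A : Matrix ((k : Fin t) × Fin (d k)) ((k : Fin t) × Fin (d k)) F}
    (hA : IsShift A) : extend (coords hd A) = A := by
  ext ⟨k, a⟩ ⟨l, ⟨b, hb⟩⟩
  rw [hA.apply_eq k l b hb a]
  simp only [extend, Matrix.of_apply, coords]
  by_cases h1 : b ≤ (a : ℕ)
  · rw [if_pos h1]
    by_cases h2 : d k ≤ (a : ℕ) - b + d l
    · rw [dif_pos ⟨h1, h2⟩]
    · rw [dif_neg (fun h => h2 h.2), hA.vanish hd k l _ (by show (a : ℕ) - b + d l < d k; omega)]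
  · rw [if_neg h1, dif_neg (fun h => h1 h.1)]

include hd in
theorem coords_extend (w : Idx d → F) : coords hd (extend w) = w := by
  funext p
  obtain ⟨⟨l, k, a⟩, hp⟩ := p
  have hp' : d k ≤ (a : ℕ) + d l := hp
  simp only [coords, extend, Matrix.of_apply]
  rw [dif_pos ⟨Nat.zero_le _, by omega⟩]
  congr 1

theorem topMat_one : topMat (F := F) hd 1 = 1 := by
  ext k l
  simp only [topMat, Matrix.of_apply]
  by_cases h : k = l
  · subst h; simp
  · rw [Matrix.one_apply_ne h, Matrix.one_apply_ne (fun e => h (congrArg Sigma.fst e))]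

theorem topMat_mul {A B : Matrix ((k : Fin t) × Fin (d k)) ((k : Fin t) × Fin (d k)) F}
    (hA : IsShift A) : topMat hd (A * B) = topMat hd A * topMat hd B := by
  classical
  ext k l
  simp only [topMat, Matrix.of_apply, Matrix.mul_apply]
  rw [Fintype.sum_sigma]
  refine Finset.sum_congr rfl fun m _ => ?_
  rw [Finset.sum_eq_single ⟨0, hd m⟩]
  · intro c _ hc
    have hc0 : (c : ℕ) ≠ 0 := fun e => hc (Fin.ext e)
    rw [hA.apply_eq k m (c : ℕ) c.2 ⟨0, hd k⟩, if_neg (by show ¬ (c : ℕ) ≤ 0; omega), zero_mul]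
  · intro hh; exact absurd (Finset.mem_univ _) hh

theorem topMat_blockTriangular {A : Matrix ((k : Fin t) × Fin (d k)) ((k : Fin t) × Fin (d k)) F}
    (hA : IsShift A) : (topMat hd A).BlockTriangular d := by
  intro k l h
  exact hA.vanish hd k l ⟨0, hd k⟩ (by show 0 + d l < d k; omega)

theorem IsShift.mul {A B : Matrix ((k : Fin t) × Fin (d k)) ((k : Fin t) × Fin (d k)) F}
    (hA : IsShift A) (hB : IsShift B) : IsShift (A * B) := by
  rw [← commute_iff_isShift] at hA hB ⊢
  rw [mul_assoc, hB, ← mul_assoc, hA, mul_assoc]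

theorem IsShift.pow {A : Matrix ((k : Fin t) × Fin (d k)) ((k : Fin t) × Fin (d k)) F}
    (hA : IsShift A) : ∀ r : ℕ, IsShift (A ^ r)
  | 0 => by rw [pow_zero, ← commute_iff_isShift]; simp
  | r + 1 => by rw [pow_succ]; exact (IsShift.pow hA r).mul hA

theorem topMat_pow {A : Matrix ((k : Fin t) × Fin (d k)) ((k : Fin t) × Fin (d k)) F}
    (hA : IsShift A) (r : ℕ) : topMat hd (A ^ r) = topMat hd A ^ r := by
  induction r with
  | zero => rw [pow_zero, pow_zero, topMat_one]
  | succ r ih => rw [pow_succ', topMat_mul hd hA, ih, ← pow_succ']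

include hd in
/-- A matrix with zero top lowers the level. -/
theorem level_of_top_zero {A : Matrix ((k : Fin t) × Fin (d k)) ((k : Fin t) × Fin (d k)) F}
    (hA : IsShift A) (h0 : topMat hd A = 0) (r : ℕ) :
    ∀ p q, (A ^ r) p q ≠ 0 → (q.2 : ℕ) + r ≤ p.2 := by
  classical
  induction r with
  | zero =>
    intro p q h
    rw [pow_zero] at h
    obtain rfl : p = q := by by_contra hne; exact h (Matrix.one_apply_ne hne)
    simp
  | succ r ih =>
    intro p q h
    rw [pow_succ', Matrix.mul_apply] at h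
    obtain ⟨⟨m, c⟩, -, hm⟩ := Finset.exists_ne_zero_of_sum_ne_zero h
    obtain ⟨k, a⟩ := p
    have h1 := ih _ _ (right_ne_zero_of_mul hm)
    have h2 := left_ne_zero_of_mul hm
    rw [hA.apply_eq k m (c : ℕ) c.2 a] at h2
    show (q.2 : ℕ) + (r + 1) ≤ a
    by_cases h3 : (c : ℕ) ≤ (a : ℕ)
    · rw [if_pos h3] at h2
      by_cases h4 : (a : ℕ) = c
      · refine absurd ?_ h2
        have := congrFun (congrFun h0 k) m
        simp only [topMat, Matrix.of_apply, Matrix.zero_apply] at this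
        rw [← this]
        congr 1
        exact Sigma.ext rfl (heq_of_eq (Fin.ext (by show (a : ℕ) - c = 0; omega)))
      · have h1' : (q.2 : ℕ) + r ≤ c := h1
        omega
    · rw [if_neg h3] at h2
      exact absurd rfl h2

include hd in
theorem isNilpotent_of_top_zero {A : Matrix ((k : Fin t) × Fin (d k)) ((k : Fin t) × Fin (d k)) F}
    (hA : IsShift A) (h0 : topMat hd A = 0) : IsNilpotent A := by
  refine ⟨∑ k, d k + 1, ?_⟩
  ext p q
  by_contra h
  have h1 := level_of_top_zero hd hA h0 _ p q h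
  have h2 := Finset.single_le_sum (fun x _ => Nat.zero_le (d x)) (Finset.mem_univ p.1)
  have h3 := p.2.2
  omega

include hd in
theorem isUnit_iff_top [Finite F] {A : Matrix ((k : Fin t) × Fin (d k)) ((k : Fin t) × Fin (d k)) F}
    (hA : IsShift A) : IsUnit A ↔ IsUnit (topMat hd A) := by
  classical
  constructor
  · intro hu
    obtain ⟨u, rfl⟩ := hu
    have h1 := topMat_mul hd (B := ((u⁻¹ : GL _ F) : Matrix _ _ F)) hA
    rw [Units.mul_inv, topMat_one] at h1
    exact IsUnit.of_mul_eq_one _ h1.symm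
  · intro hu
    obtain ⟨v, hv⟩ := hu
    have ho : topMat hd (A ^ orderOf v) = 1 := by
      rw [topMat_pow hd hA, ← hv, ← Units.val_pow_eq_pow_val, pow_orderOf_eq_one, Units.val_one]
    have hN : IsShift (A ^ orderOf v - 1) := by
      rw [← commute_iff_isShift, sub_mul, mul_sub, one_mul, mul_one]
      rw [(commute_iff_isShift _).2 (hA.pow (orderOf v))]
    have h0 : topMat hd (A ^ orderOf v - 1) = 0 := by
      ext k l
      have := congrFun (congrFun ho k) l
      have h1 := congrFun (congrFun (topMat_one (F := F) hd) k) l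
      simp only [topMat, Matrix.of_apply] at this h1
      simp only [topMat, Matrix.of_apply, Matrix.sub_apply, Matrix.zero_apply, this, h1, sub_self]
    have h2 := (isNilpotent_of_top_zero hd hN h0).isUnit_add_one
    rw [sub_add_cancel] at h2
    exact (isUnit_pow_iff (orderOf_pos v).ne').1 h2

include hd in
/-- Units of the commutant as coordinates. -/
theorem card_commutant_units [Fintype F] {q : ℕ} (hF : Fintype.card F = q) :
    Nat.card {g : GL ((k : Fin t) × Fin (d k)) F //
      (g : Matrix ((k : Fin t) × Fin (d k)) ((k : Fin t) × Fin (d k)) F) * Cfsg.jordanTypeMatrix d F =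
        Cfsg.jordanTypeMatrix d F * (g : Matrix ((k : Fin t) × Fin (d k)) ((k : Fin t) × Fin (d k)) F)} =
      (∏ i ∈ Finset.univ.image d,
        ∏ j : Fin ((Finset.univ.filter (fun k : Fin t => d k = i)).card),
          (q ^ (Finset.univ.filter (fun k : Fin t => d k = i)).card - q ^ (j : ℕ))) *
        q ^ Nat.card {p : Idx d // ¬ IsTop p} := by
  classical
  let T := {p : Idx d // IsTop p}
  let R := {p : Idx d // ¬ IsTop p}
  -- top coordinates are the diagonal blocks
  let blk : (T → F) ≃ ∀ i : {i // i ∈ Finset.univ.image d},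
      Matrix {k : Fin t // d k = i.1} {k : Fin t // d k = i.1} F :=
    { toFun := fun w i k l => w ⟨⟨(l.1, ⟨k.1, ⟨0, hd k.1⟩⟩), by
          show d k.1 ≤ 0 + d l.1; rw [k.2, l.2, zero_add]⟩,
        by show d k.1 = d l.1; rw [k.2, l.2], rfl⟩
      invFun := fun M p => M ⟨d p.1.1.1, Finset.mem_image_of_mem _ (Finset.mem_univ _)⟩
        ⟨p.1.1.2.1, p.2.1⟩ ⟨p.1.1.1, rfl⟩
      left_inv := fun w => funext fun p => by
        obtain ⟨⟨⟨l, k, a⟩, hp⟩, h1, h2⟩ := p
        dsimp only
        congr 1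
        exact Subtype.ext (Subtype.ext (Prod.ext rfl (Sigma.ext rfl (heq_of_eq (Fin.ext h2.symm)))))
      right_inv := fun M => funext fun i => funext fun k => funext fun l => by
        have key : ∀ (i i' : {i // i ∈ Finset.univ.image d}), i = i' →
            ∀ (k : {k : Fin t // d k = i.1}) (l : {k : Fin t // d k = i.1})
              (k' : {k : Fin t // d k = i'.1}) (l' : {k : Fin t // d k = i'.1}),
              k.1 = k'.1 → l.1 = l'.1 → M i k l = M i' k' l' := by
          rintro i _ rfl k l k' l' h1 h2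
          rw [Subtype.ext h1, Subtype.ext h2]
        exact key _ _ (Subtype.ext l.2) _ _ _ _ rfl rfl }
  have hkey : ∀ w : Idx d → F, IsUnit (extend w) ↔
      ∀ i, IsUnit (blk (fun p => w p.1) i) := by
    intro w
    rw [isUnit_iff_top hd (isShift_extend w), Matrix.isUnit_iff_isUnit_det,
      (topMat_blockTriangular hd (isShift_extend w)).det, IsUnit.prod_iff]
    have hblk : ∀ i (hi : i ∈ Finset.univ.image d),
        (topMat hd (extend w)).toSquareBlock d i = blk (fun p => w p.1) ⟨i, hi⟩ := by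
      intro i hi
      ext ⟨k, hk⟩ ⟨l, hl⟩
      simp only [Matrix.toSquareBlock_def, Matrix.of_apply, topMat, extend]
      rw [dif_pos ⟨le_rfl, by show d k ≤ 0 - 0 + d l; rw [hk, hl]; omega⟩]
      rfl
    constructor
    · intro h i
      rw [Matrix.isUnit_iff_isUnit_det, ← hblk i.1 i.2]
      exact h i.1 i.2
    · intro h i hi
      rw [hblk i hi, ← Matrix.isUnit_iff_isUnit_det]
      exact h ⟨i, hi⟩
  let toW : {g : GL ((k : Fin t) × Fin (d k)) F //
      (g : Matrix ((k : Fin t) × Fin (d k)) ((k : Fin t) × Fin (d k)) F) * Cfsg.jordanTypeMatrix d F =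
        Cfsg.jordanTypeMatrix d F * (g : Matrix ((k : Fin t) × Fin (d k)) ((k : Fin t) × Fin (d k)) F)} ≃
      {w : Idx d → F // IsUnit (extend w)} :=
    { toFun := fun g => ⟨coords hd g.1.1, by
        rw [extend_coords hd ((commute_iff_isShift _).1 g.2)]; exact g.1.isUnit⟩
      invFun := fun w => ⟨w.2.unit, (commute_iff_isShift _).2 (isShift_extend w.1)⟩
      left_inv := fun g => Subtype.ext (Units.ext (extend_coords hd ((commute_iff_isShift _).1 g.2)))
      right_inv := fun w => Subtype.ext (coords_extend hd w.1) }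
  let split : {w : Idx d → F // IsUnit (extend w)} ≃
      (∀ i : {i // i ∈ Finset.univ.image d}, GL {k : Fin t // d k = i.1} F) × (R → F) :=
    { toFun := fun w => (fun i => ((hkey w.1).1 w.2 i).unit, fun p => w.1 p.1)
      invFun := fun x => ⟨fun p => if h : IsTop p then blk.symm (fun i => (x.1 i).1) ⟨p, h⟩
          else x.2 ⟨p, h⟩, (hkey _).2 fun i => by
        rw [show (fun p : T => (fun p : Idx d => if h : IsTop p then blk.symm (fun i => (x.1 i).1) ⟨p, h⟩
            else x.2 ⟨p, h⟩) p.1) = blk.symm (fun i => (x.1 i).1) from funext fun p => dif_pos p.2,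
          Equiv.apply_symm_apply]
        exact (x.1 i).isUnit⟩
      left_inv := fun w => Subtype.ext (funext fun p => by
        dsimp only
        by_cases h : IsTop p
        · rw [dif_pos h]
          exact congrFun (blk.symm_apply_apply fun p => w.1 p.1) ⟨p, h⟩
        · rw [dif_neg h])
      right_inv := fun x => by
        refine Prod.ext (funext fun i => Units.ext ?_) (funext fun p => dif_neg p.2)
        show blk _ i = _
        rw [show (fun p : T => (fun p : Idx d => if h : IsTop p then blk.symm (fun i => (x.1 i).1) ⟨p, h⟩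
            else x.2 ⟨p, h⟩) p.1) = blk.symm (fun i => (x.1 i).1) from funext fun p => dif_pos p.2,
          Equiv.apply_symm_apply] }
  rw [Nat.card_congr (toW.trans split), Nat.card_prod, Nat.card_pi, Nat.card_fun,
    Nat.card_eq_fintype_card (α := F), hF]
  refine congrArg (· * _) ?_
  rw [← Finset.prod_coe_sort (Finset.univ.image d)]
  refine Finset.prod_congr rfl fun i _ => ?_
  have hc : Fintype.card {k : Fin t // d k = i.1} =
      (Finset.univ.filter (fun k : Fin t => d k = i.1)).card := Fintype.card_subtype _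
  rw [Nat.card_congr (Units.mapEquiv (Matrix.reindexAlgEquiv F F
      (Fintype.equivFinOfCardEq hc)).toMulEquiv).toEquiv, Matrix.card_GL_field, hF]

end CfsgLib.KnownC.JordanComm

namespace CfsgLib.KnownC.JordanComm

variable {t : ℕ} {d : Fin t → ℕ}

theorem card_rest (hd : ∀ k, 1 ≤ d k) :
    Nat.card {p : Idx d // ¬ IsTop p} =
      ∑ l : Fin t, ∑ k : Fin t, (min (d k) (d l) - if d k = d l then 1 else 0) := by
  classical
  let e : {p : Idx d // ¬ IsTop p} ≃ (l : Fin t) × (k : Fin t) ×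
      {a : Fin (d k) // d k ≤ (a : ℕ) + d l ∧ ¬ (d k = d l ∧ (a : ℕ) = 0)} :=
    { toFun := fun p => ⟨p.1.1.1, p.1.1.2.1, p.1.1.2.2, p.1.2, p.2⟩
      invFun := fun x => ⟨⟨(x.1, ⟨x.2.1, x.2.2.1⟩), x.2.2.2.1⟩, x.2.2.2.2⟩
      left_inv := fun p => rfl
      right_inv := fun x => rfl }
  rw [Nat.card_congr e, Nat.card_sigma]
  refine Finset.sum_congr rfl fun l _ => ?_
  rw [Nat.card_sigma]
  refine Finset.sum_congr rfl fun k _ => ?_
  set c := max (d k - d l) (if d k = d l then 1 else 0) with hc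
  have hk := hd k
  rw [Nat.card_eq_fintype_card, Fintype.card_subtype,
    show Finset.univ.filter (fun a : Fin (d k) => d k ≤ (a : ℕ) + d l ∧ ¬ (d k = d l ∧ (a : ℕ) = 0)) =
      (Finset.univ.filter fun a : Fin (d k) => (a : ℕ) < c)ᶜ by
      ext a
      simp only [Finset.mem_compl, Finset.mem_filter_univ, hc]
      split_ifs with h
      · simp only [h, true_and]; omega
      · simp only [h, false_and, not_false_eq_true, and_true]; omega,
    Finset.card_compl, Fin.card_filter_val_lt, Fintype.card_fin, hc]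
  have hl := hd l
  split_ifs <;> omega

theorem sum_pairs_eq (a : ℕ → ℕ) (f : ℕ → ℕ → ℕ) (hf : ∀ i j, f i j = f j i) (s : Finset ℕ) :
    ∑ i ∈ s, ∑ j ∈ s, a i * a j * f i j =
      2 * (∑ i ∈ s, ∑ j ∈ s, if i < j then a i * a j * f i j else 0) + ∑ i ∈ s, a i * a i * f i i := by
  have h1 : ∑ i ∈ s, ∑ j ∈ s, a i * a j * f i j =
      ∑ i ∈ s, ∑ j ∈ s, ((if i < j then a i * a j * f i j else 0) +
        (if j < i then a i * a j * f i j else 0) + if i = j then a i * a j * f i j else 0) := by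
    refine Finset.sum_congr rfl fun i _ => Finset.sum_congr rfl fun j _ => ?_
    rcases lt_trichotomy i j with h | h | h
    · rw [if_pos h, if_neg h.le.not_gt, if_neg h.ne, add_zero, add_zero]
    · rw [if_neg h.not_lt, if_neg h.not_gt, if_pos h, zero_add, zero_add]
    · rw [if_neg h.le.not_gt, if_pos h, if_neg h.ne', zero_add, add_zero]
  rw [h1]
  simp only [Finset.sum_add_distrib]
  have h2 : ∑ i ∈ s, ∑ j ∈ s, (if j < i then a i * a j * f i j else 0) =
      ∑ i ∈ s, ∑ j ∈ s, if i < j then a i * a j * f i j else 0 := by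
    rw [Finset.sum_comm]
    refine Finset.sum_congr rfl fun i _ => Finset.sum_congr rfl fun j _ => ?_
    split_ifs
    · rw [hf j i]; ring
    · rfl
  rw [h2, two_mul]
  congr 1
  exact Finset.sum_congr rfl fun i hi => by rw [Finset.sum_ite_eq, if_pos hi]

theorem exponent_eq (hd : ∀ k, 1 ≤ d k) :
    Nat.card {p : Idx d // ¬ IsTop p} =
      2 * (∑ i ∈ Finset.range (Finset.univ.sup d + 1), ∑ j ∈ Finset.range (Finset.univ.sup d + 1),
        if i < j then i * (Finset.univ.filter (fun k : Fin t => d k = i)).card *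
          (Finset.univ.filter (fun k : Fin t => d k = j)).card else 0) +
      ∑ i ∈ Finset.range (Finset.univ.sup d + 1),
        (i - 1) * (Finset.univ.filter (fun k : Fin t => d k = i)).card ^ 2 := by
  classical
  set s := Finset.range (Finset.univ.sup d + 1) with hs
  have hmem : ∀ k, d k ∈ s := fun k =>
    Finset.mem_range.2 (Nat.lt_succ_of_le (Finset.le_sup (Finset.mem_univ k)))
  set a : ℕ → ℕ := fun i => (Finset.univ.filter (fun k : Fin t => d k = i)).card with ha
  set f : ℕ → ℕ → ℕ := fun i j => min i j - if i = j then 1 else 0 with hfdef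
  have hsum : ∀ g : ℕ → ℕ, ∑ k : Fin t, g (d k) = ∑ i ∈ s, a i * g i := by
    intro g
    rw [← Finset.sum_fiberwise_of_maps_to (g := d) (t := s) (fun k _ => hmem k)]
    refine Finset.sum_congr rfl fun i _ => ?_
    rw [Finset.sum_congr rfl fun k hk => by rw [(Finset.mem_filter.1 hk).2], Finset.sum_const, smul_eq_mul]
  rw [card_rest hd]
  have h1 : ∑ l : Fin t, ∑ k : Fin t, (min (d k) (d l) - if d k = d l then 1 else 0) =
      ∑ i ∈ s, ∑ j ∈ s, a i * a j * f i j := by
    rw [hsum fun j => ∑ k : Fin t, f (d k) j, Finset.sum_comm]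
    refine Finset.sum_congr rfl fun j _ => ?_
    rw [hsum fun i => f i j, Finset.mul_sum]
    exact Finset.sum_congr rfl fun i _ => by ring
  have hcomm : ∀ i j, f i j = f j i := fun i j => by
    simp only [hfdef, min_comm i j, eq_comm]
  rw [h1, sum_pairs_eq a f hcomm]
  congr 2
  · refine Finset.sum_congr rfl fun i _ => Finset.sum_congr rfl fun j _ => ?_
    split_ifs with h
    · simp only [hfdef]
      rw [if_neg h.ne, min_eq_left h.le, Nat.sub_zero]
      ring
    · rfl
  · refine funext fun i => ?_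
    simp only [hfdef, min_self, if_true]
    ring

end CfsgLib.KnownC.JordanComm
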