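import Mathlib
import Cfsg.Prelude.Def_ClassicalGeometry
import Cfsg.Agent.Lib.Classical.UnitaryGen
import Cfsg.Agent.Lib.Classical.SUOrder
import Cfsg.Agent.Lib.KnownC.TransvectionCentralizer

/-!
Transvections of `SU_n(q)`, `n ≥ 3`, form one conjugacy class.
-/

set_option autoImplicit false

namespace CfsgLib.KnownC

open Matrix CfsgLib.Classical CfsgLib.Geom

variable {F : Type*} [Field F] [Fintype F] {q n : ℕ}

/-- The shape of a transvection preserving a Hermitian form. -/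
theorem transvection_shape (hF : Fintype.card F = q ^ 2) (A : Matrix (Fin n) (Fin n) F)
    (hA : Cfsg.IsTransvection A)
    (hiso : ∀ z w, hermB hF n (A *ᵥ z) (A *ᵥ w) = hermB hF n z w) :
    ∃ (x : Fin n → F) (c : F), x ≠ 0 ∧ hermB hF n x x = 0 ∧ c ≠ 0 ∧ c + qFrob hF c = 0 ∧
      ∀ z, A *ᵥ z = z + (c * hermB hF n x z) • x := by
  obtain ⟨u, φ, hu, hφ, hN⟩ := exists_vecMulVec_of_rank_one hA.1
  have hAz : ∀ z, A *ᵥ z = z + (φ ⬝ᵥ z) • u := fun z => by
    rw [show A = 1 + Matrix.vecMulVec u φ by rw [← hN]; abel, Matrix.add_mulVec, Matrix.one_mulVec]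
    ext i
    simp [Matrix.vecMulVec_mulVec, mul_comm]
  obtain ⟨j, hj⟩ := Function.ne_iff.1 hφ
  have hw0 : φ ⬝ᵥ Pi.single j (φ j)⁻¹ = 1 := by rw [dotProduct_single]; exact mul_inv_cancel₀ hj
  generalize hw : (Pi.single j (φ j)⁻¹ : Fin n → F) = w₀ at hw0
  have hφu : φ ⬝ᵥ u = 0 := by
    have h2 := congrArg (fun M : Matrix (Fin n) (Fin n) F => M *ᵥ w₀) hA.2
    simp only [← Matrix.mulVec_mulVec, Matrix.sub_mulVec, Matrix.one_mulVec, hAz, add_sub_cancel_left,
      hw0, one_smul, Matrix.zero_mulVec] at h2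
    exact (smul_eq_zero.1 h2).resolve_right hu
  obtain ⟨B, hB⟩ : ∃ B, B = hermB hF n := ⟨_, rfl⟩
  have hS : ∀ a b, qFrob hF (B a b) = B b a := by rw [hB]; exact hermB_conj hF
  have hsep : ∀ a, (∀ b, B a b = 0) → a = 0 := by rw [hB]; exact hermB_sep hF
  have h0 : ∀ z w, φ ⬝ᵥ w * B z u + qFrob hF (φ ⬝ᵥ z) * B u w +
      qFrob hF (φ ⬝ᵥ z) * (φ ⬝ᵥ w) * B u u = 0 := by
    intro z w
    have h := hiso z w
    rw [← hB, hAz, hAz] at h
    simp only [map_add, map_smulₛₗ, LinearMap.add_apply, LinearMap.smul_apply, smul_eq_mul,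
      RingHom.id_apply] at h
    linear_combination h
  have huu : B u u = 0 := by
    have h := h0 w₀ u
    rw [hφu, hw0, map_one, zero_mul, one_mul, zero_add, mul_zero, zero_mul, add_zero] at h
    exact h
  have hlin : ∀ w, B u w = -(φ ⬝ᵥ w * B w₀ u) := fun w => by
    have h := h0 w₀ w
    rw [hw0, map_one, one_mul, huu, mul_zero, add_zero] at h
    linear_combination h
  obtain ⟨a, ha⟩ : ∃ a, a = B w₀ u := ⟨_, rfl⟩
  have ha0 : a ≠ 0 := fun h => hu (hsep u fun b => by rw [hlin, ← ha, h, mul_zero, neg_zero])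
  refine ⟨u, -a⁻¹, hu, hB ▸ huu, neg_ne_zero.2 (inv_ne_zero ha0), ?_, fun z => ?_⟩
  · have hconj : qFrob hF a = -a := by rw [ha, hS, hlin, hw0, one_mul]
    rw [map_neg, map_inv₀, hconj, inv_neg]
    ring
  · rw [hAz, ← hB, hlin, ← ha]
    congr 2
    field_simp

theorem det_norm_one (hF : Fintype.card F = q ^ 2) (g : formIsoms (hermB hF n)) :
    qFrob hF (hermDet hF n g : F) * (hermDet hF n g : F) = 1 := by
  obtain ⟨G, hG⟩ : ∃ G : GL (Fin n) F, G = glLin.symm g.1 := ⟨_, rfl⟩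
  have hmem : G ∈ Cfsg.GU n F q := fun u v => by
    show Cfsg.hermForm n F q ((G : Matrix (Fin n) (Fin n) F) *ᵥ u)
      ((G : Matrix (Fin n) (Fin n) F) *ᵥ v) = _
    rw [hG, ← glLin_apply, ← glLin_apply, MulEquiv.apply_symm_apply, ← hermB_apply hF,
      ← hermB_apply hF]
    exact g.2 v u
  have h := congrArg Matrix.det ((mem_gu_iff hF G).1 hmem)
  rw [Matrix.det_mul, Matrix.det_transpose, Matrix.det_one, ← RingHom.mapMatrix_apply,
    ← RingHom.map_det] at h
  have hd : ((G : Matrix (Fin n) (Fin n) F)).det = (hermDet hF n g : F) := by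
    rw [hG]
    show _ = ((LinearEquiv.det g.1 : Fˣ) : F)
    rw [LinearEquiv.coe_det, ← LinearMap.det_toMatrix']
    congr 1
  rw [hd] at h
  rw [mul_comm]; exact h

/-- An isometry of determinant one moving one isotropic vector to another. -/
theorem exists_su_map (hF : Fintype.card F = q ^ 2) (hn : 3 ≤ n) {x y : Fin n → F} (hx : x ≠ 0)
    (hy : y ≠ 0) (hxx : hermB hF n x x = 0) (hyy : hermB hF n y y = 0) :
    ∃ g : formIsoms (hermB hF n), hermDet hF n g = 1 ∧ g.1 x = y := by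
  have H := isHermSpace_hermB (F := F) hF n
  have h3 : 3 ≤ Module.finrank F (Fin n → F) := by simpa using hn
  let φ : Submodule.span F {x} →ₗ[F] (Fin n → F) :=
    (LinearMap.toSpanSingleton F (Fin n → F) y).comp
      (LinearEquiv.toSpanNonzeroSingleton F (Fin n → F) x hx).symm.toLinearMap
  have hφ : ∀ (a : F) (h : a • x ∈ Submodule.span F {x}), φ ⟨a • x, h⟩ = a • y := by
    intro a h
    have e : (LinearEquiv.toSpanNonzeroSingleton F (Fin n → F) x hx).symm ⟨a • x, h⟩ = a := by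
      rw [LinearEquiv.symm_apply_eq]; exact Subtype.ext rfl
    show (LinearEquiv.toSpanNonzeroSingleton F (Fin n → F) x hx).symm ⟨a • x, h⟩ • y = a • y
    rw [e]
  have hinj : Function.Injective φ := (injective_iff_map_eq_zero _).2 fun v hv => by
    obtain ⟨a, ha⟩ := Submodule.mem_span_singleton.1 v.2
    have e : v = ⟨a • x, ha ▸ v.2⟩ := Subtype.ext ha.symm
    rw [e, hφ] at hv
    rw [e]
    refine Subtype.ext ?_
    show a • x = 0
    rw [(smul_eq_zero.1 hv).resolve_right hy, zero_smul]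
  obtain ⟨g₀, hg₀, hgx⟩ := witt_hermitian (qFrob_qFrob hF) (exists_qFrob_trace_one hF) (hermB hF n)
    (hermB_conj hF) (hermB_sep hF) (Submodule.span F {x}) φ hinj (fun v v' => by
      obtain ⟨a, ha⟩ := Submodule.mem_span_singleton.1 v.2
      obtain ⟨b, hb⟩ := Submodule.mem_span_singleton.1 v'.2
      rw [show v = ⟨a • x, ha ▸ v.2⟩ from Subtype.ext ha.symm,
        show v' = ⟨b • x, hb ▸ v'.2⟩ from Subtype.ext hb.symm, hφ, hφ]
      simp [map_smulₛₗ, hxx, hyy])
  have hgxy : g₀ x = y := by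
    have h : g₀ ((1 : F) • x) = φ ⟨(1 : F) • x,
        Submodule.smul_mem _ _ (Submodule.mem_span_singleton_self x)⟩ := hgx ⟨(1 : F) • x,
        Submodule.smul_mem _ _ (Submodule.mem_span_singleton_self x)⟩
    rw [hφ, one_smul, one_smul] at h
    exact h
  obtain ⟨f, hf1, hf2⟩ := H.exists_hyperbolic hy hyy
  obtain ⟨e, he1, -, hee⟩ := H.exists_perp_anisotropic h3 hyy hf2 hf1
  obtain ⟨d, hd⟩ : ∃ d : F, d = ((hermDet hF n ⟨g₀, hg₀⟩ : Fˣ) : F) := ⟨_, rfl⟩
  have hdn : qFrob hF d * d = 1 := hd ▸ det_norm_one hF _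
  have hd0 : d ≠ 0 := fun h => by simp [h] at hdn
  obtain ⟨k, hk⟩ := exists_qrefl hF hee (l := d⁻¹) (by rw [map_inv₀, ← mul_inv, hdn, inv_one])
  refine ⟨k * ⟨g₀, hg₀⟩, ?_, ?_⟩
  · refine Units.ext ?_
    rw [map_mul, Units.val_mul, ← hd,
      hermDet_of_apply hF k (((d⁻¹ - 1) / hermB hF n e e) • hermB hF n e) e fun z => by
        rw [hk z]; simp, LinearMap.smul_apply, smul_eq_mul, div_mul_cancel₀ _ hee,
      add_sub_cancel, inv_mul_cancel₀ hd0, Units.val_one]
  · show k.1 (g₀ x) = y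
    rw [hgxy, hk, H.eq_zero_comm he1]
    simp

theorem isConj_su_transvections (hF : Fintype.card F = q ^ 2) (hn : 3 ≤ n)
    (s t : ↥(Cfsg.SU n F q))
    (hs : Cfsg.IsTransvection ((s.1 : Matrix (Fin n) (Fin n) F)))
    (ht : Cfsg.IsTransvection ((t.1 : Matrix (Fin n) (Fin n) F))) : IsConj s t := by
  have H := isHermSpace_hermB (F := F) hF n
  obtain ⟨x, c, hx, hxx, hc, hcc, hsz⟩ := transvection_shape hF _ hs fun z w => by
    rw [← suHom_apply hF, ← suHom_apply hF]; exact (suHom hF n s).2 z w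
  obtain ⟨y, d, hy, hyy, hd, hdd, htz⟩ := transvection_shape hF _ ht fun z w => by
    rw [← suHom_apply hF, ← suHom_apply hF]; exact (suHom hF n t).2 z w
  obtain ⟨l, hl⟩ := H.norm_surj (d / c) (by
    rw [map_div₀, eq_neg_of_add_eq_zero_right hcc, eq_neg_of_add_eq_zero_right hdd, neg_div_neg_eq])
  have hl0 : l ≠ 0 := fun h => div_ne_zero hd hc (by rw [← hl, h]; simp)
  obtain ⟨g, hgdet, hgx⟩ := exists_su_map hF hn hx (smul_ne_zero hl0 hy) hxx
    (by simp [map_smulₛₗ, hyy])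
  obtain ⟨G, hG⟩ : g ∈ (suHom hF n).range := by rw [range_suHom]; exact hgdet
  refine isConj_iff.2 ⟨G, ?_⟩
  rw [mul_inv_eq_iff_eq_mul]
  apply suHom_injective hF n
  rw [map_mul, map_mul, hG]
  refine herm_ext fun z => ?_
  rw [Subgroup.coe_mul, Subgroup.coe_mul, LinearEquiv.mul_apply, LinearEquiv.mul_apply, suHom_apply,
    suHom_apply, hsz, htz, map_add, map_smul, hgx, smul_smul]
  congr 2
  rw [← g.2 x z, hgx]
  simp only [map_smulₛₗ, LinearMap.smul_apply, smul_eq_mul]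
  rw [eq_div_iff hc] at hl
  linear_combination (hermB hF n y (g.1 z)) * hl

end CfsgLib.KnownC
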